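/-
Sections over the spectrum of a valuation ring from rational points of the generic fibre.
-/
import Mathlib.AlgebraicGeometry.ValuativeCriterion

set_option autoImplicit false
universe u
open CategoryTheory CategoryTheory.Limits AlgebraicGeometry IsLocalRing

namespace Groth.Ega2Proj

/-- If `f : X ⟶ Spec A` is a closed map, every `K`-point of `X` over `A` extends to a section. -/
theorem exists_section_of_isClosedMap (A : Type u) [CommRing A] [IsDomain A]
    [ValuationRing A] (K : Type u) [Field K] [Algebra A K] [IsFractionRing A K] (X : Scheme.{u})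
    (f : X ⟶ Spec (CommRingCat.of A)) (hf : IsClosedMap f.base)
    (x : Spec (CommRingCat.of K) ⟶ X) (hx : x ≫ f = Spec.map (CommRingCat.ofHom (algebraMap A K))) :
    ∃ s : Spec (CommRingCat.of A) ⟶ X, s ≫ f = 𝟙 _ ∧
      Spec.map (CommRingCat.ofHom (algebraMap A K)) ≫ s = x := by
  let x0 := x.base (closedPoint K)
  have hsp : f.base x0 ⤳ closedPoint A := specializes_closedPoint (R := A) _
  obtain ⟨z, hz1, hz2⟩ := hf.specializingMap hsp
  let α : CommRingCat.of A ⟶ X.presheaf.stalk z := Spec.preimage (X.fromSpecStalk z ≫ f)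
  have hα : Spec.map α = X.fromSpecStalk z ≫ f := Spec.map_preimage _
  haveI : IsLocalHom α.hom := by
    refine ((local_hom_TFAE α.hom).out 4 0).mp ?_
    have : (Spec.map α).base (closedPoint (X.presheaf.stalk z)) = closedPoint A := by
      rw [hα, Scheme.Hom.comp_apply, Scheme.fromSpecStalk_closedPoint]; exact hz2
    exact congrArg PrimeSpectrum.asIdeal this
  let β : X.presheaf.stalk z ⟶ CommRingCat.of K :=
    X.presheaf.stalkSpecializes hz1 ≫ Scheme.stalkClosedPointTo x
  have hβ : Spec.map β ≫ X.fromSpecStalk z = x := by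
    rw [Spec.map_comp, Category.assoc, Scheme.SpecMap_stalkSpecializes_fromSpecStalk,
      Scheme.Spec_stalkClosedPointTo_fromSpecStalk]
  have hαβ : α ≫ β = CommRingCat.ofHom (algebraMap A K) := by
    apply Spec.map_injective
    rw [Spec.map_comp, hα, ← Category.assoc, hβ, hx]
  have hbij := bijective_rangeRestrict_comp_of_valuationRing (R := A) (K := K) α.hom β.hom
    (CommRingCat.hom_ext_iff.mp hαβ)
  let φ : X.presheaf.stalk z ⟶ CommRingCat.of A := CommRingCat.ofHom <|
    (RingEquiv.ofBijective _ hbij).symm.toRingHom.comp β.hom.rangeRestrict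
  have hαφ : α ≫ φ = 𝟙 _ := by ext a; exact (RingEquiv.ofBijective _ hbij).symm_apply_apply a
  have hφβ : φ ≫ CommRingCat.ofHom (algebraMap A K) = β :=
    hαβ ▸ CommRingCat.hom_ext (RingHom.ext fun a ↦ congr_arg Subtype.val
      ((RingEquiv.ofBijective _ hbij).apply_symm_apply (β.hom.rangeRestrict a)))
  refine ⟨Spec.map φ ≫ X.fromSpecStalk z, ?_, ?_⟩
  · rw [Category.assoc, ← hα, ← Spec.map_comp, hαφ, Spec.map_id]
  · rw [← Category.assoc, ← Spec.map_comp, hφβ, hβ]

end Groth.Ega2Proj
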