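/-
Extension of morphisms over points whose local rings are valuation rings (EGA II 7.3.6).
-/
import Groth.Agent.Ega2Proj.ValuationSection
import Groth.Agent.Flatmor4.FlatDedekind
import Groth.Agent.Ega4Algebra1.RegularLocal
import Mathlib.AlgebraicGeometry.SpreadingOut
import Mathlib.AlgebraicGeometry.Morphisms.Separated
import Mathlib.AlgebraicGeometry.Morphisms.Proper

set_option autoImplicit false
universe u
open CategoryTheory CategoryTheory.Limits AlgebraicGeometry IsLocalRing TopologicalSpace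

namespace Groth.Ega2Proj

theorem isDomain_and_valuationRing_of_regular (A : Type u) [CommRing A] [IsRegularLocalRing A]
    (h : ringKrullDim A ≤ 1) : ∃ (_ : IsDomain A), ValuationRing A := by
  haveI hd : IsDomain A := Groth.Ega4Algebra1.isDomain_of_isRegularLocalRing A
  haveI := Groth.Flatmor4.isBezout_of_regular_dim_le_one h
  exact ⟨hd, ValuationRing.iff_local_bezout_domain.mpr ⟨inferInstance, inferInstance⟩⟩

theorem exists_section_of_isClosedMap_cat (R : CommRingCat.{u}) [IsDomain R] [ValuationRing R]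
    (K : Type u) [Field K] [Algebra R K] [IsFractionRing R K] (X : Scheme.{u}) (f : X ⟶ Spec R)
    (hf : IsClosedMap f.base) (x : Spec (CommRingCat.of K) ⟶ X)
    (hx : x ≫ f = Spec.map (CommRingCat.ofHom (algebraMap R K))) :
    ∃ s : Spec R ⟶ X, s ≫ f = 𝟙 _ ∧ Spec.map (CommRingCat.ofHom (algebraMap R K)) ≫ s = x :=
  exists_section_of_isClosedMap R K X f hf x hx

/-- Points over a local domain lift through a closed map, as sections over the valuation ring. -/
theorem exists_lift_of_isClosedMap_of_valuationRing {X Y : Scheme.{u}} (f : X ⟶ Y)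
    (hcl : IsClosedMap f.base) (y : Y) [IsDomain (Y.presheaf.stalk y)]
    [ValuationRing (Y.presheaf.stalk y)]
    (x0 : Spec (CommRingCat.of (FractionRing (Y.presheaf.stalk y))) ⟶ X)
    (hx0 : x0 ≫ f = Spec.map (CommRingCat.ofHom (algebraMap (Y.presheaf.stalk y) (FractionRing (Y.presheaf.stalk y)))) ≫
      Y.fromSpecStalk y) :
    ∃ φ : Spec (Y.presheaf.stalk y) ⟶ X, φ ≫ f = Y.fromSpecStalk y ∧
      Spec.map (CommRingCat.ofHom (algebraMap (Y.presheaf.stalk y) (FractionRing (Y.presheaf.stalk y)))) ≫ φ = x0 := by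
  let p := pullback.fst f (Y.fromSpecStalk y)
  let q := pullback.snd f (Y.fromSpecStalk y)
  have hq : IsClosedMap q.base := by
    intro Z hZ
    haveI : IsPreimmersion p := inferInstance
    obtain ⟨Z', hZ', rfl⟩ := p.isEmbedding.isInducing.isClosed_iff.mp hZ
    have hc : ∀ z, f.base (p.base z) = (Y.fromSpecStalk y).base (q.base z) := fun z =>
      congrArg (fun m : pullback f (Y.fromSpecStalk y) ⟶ Y => m.base z) pullback.condition
    have e : q.base '' (p.base ⁻¹' Z') = (Y.fromSpecStalk y).base ⁻¹' (f.base '' Z') := by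
      ext a
      constructor
      · rintro ⟨z, hz, rfl⟩; exact ⟨_, hz, hc z⟩
      · rintro ⟨x, hx, hxa⟩
        obtain ⟨z, hz1, hz2⟩ := Scheme.Pullback.exists_preimage_pullback
          (f := f) (g := Y.fromSpecStalk y) x a hxa
        exact ⟨z, by rw [Set.mem_preimage, show p.base z = x from hz1]; exact hx, hz2⟩
    rw [e]
    exact (hcl Z' hZ').preimage (Y.fromSpecStalk y).base.hom.continuous
  let x1 := pullback.lift x0 (Spec.map (CommRingCat.ofHom (algebraMap (Y.presheaf.stalk y) (FractionRing (Y.presheaf.stalk y))))) hx0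
  obtain ⟨s, hs1, hs2⟩ := exists_section_of_isClosedMap_cat (Y.presheaf.stalk y)
    (FractionRing (Y.presheaf.stalk y)) (pullback f (Y.fromSpecStalk y)) q hq x1 (pullback.lift_snd _ _ _)
  refine ⟨s ≫ p, ?_, ?_⟩
  · rw [Category.assoc, pullback.condition, ← Category.assoc]
    exact (congrArg (· ≫ Y.fromSpecStalk y) hs1).trans (Category.id_comp _)
  · exact (Category.assoc _ _ _).symm.trans ((congrArg (· ≫ p) hs2).trans (pullback.lift_fst _ _ _))

variable {X Y S : Scheme.{u}}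

theorem exists_local_extension [IsReduced Y] [IsLocallyNoetherian Y]
    (p : X ⟶ S) [IsSeparated p] [LocallyOfFiniteType p] (q : Y ⟶ S) (V : Y.Opens) (hV : Dense (V : Set Y))
    (g : (V : Scheme.{u}) ⟶ X) (hg : g ≫ p = V.ι ≫ q) (y : Y) [IsDomain (Y.presheaf.stalk y)]
    (H : ∀ x0 : Spec (CommRingCat.of (FractionRing (Y.presheaf.stalk y))) ⟶ X,
      x0 ≫ p = Spec.map (CommRingCat.ofHom (algebraMap (Y.presheaf.stalk y) (FractionRing (Y.presheaf.stalk y)))) ≫
        Y.fromSpecStalk y ≫ q →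
      ∃ φ : Spec (Y.presheaf.stalk y) ⟶ X, φ ≫ p = Y.fromSpecStalk y ≫ q ∧
        Spec.map (CommRingCat.ofHom (algebraMap (Y.presheaf.stalk y) (FractionRing (Y.presheaf.stalk y)))) ≫ φ = x0) :
    ∃ (W : Y.Opens) (_ : y ∈ W) (s : (W : Scheme.{u}) ⟶ X), s ≫ p = W.ι ≫ q ∧
      Y.homOfLE (inf_le_left : W ⊓ V ≤ W) ≫ s = Y.homOfLE (inf_le_right : W ⊓ V ≤ V) ≫ g := by
  classical
  let K := FractionRing (Y.presheaf.stalk y)
  let k0 : Spec (CommRingCat.of K) ⟶ Y :=
    Spec.map (CommRingCat.ofHom (algebraMap (Y.presheaf.stalk y) K)) ≫ Y.fromSpecStalk y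
  let η := k0.base (closedPoint K)
  have hgen : ∀ z : Y, z ⤳ y → η ⤳ z := by
    intro z hz
    obtain ⟨t, rfl⟩ : z ∈ Set.range (Y.fromSpecStalk y).base := by
      rw [Scheme.range_fromSpecStalk]; exact hz
    have ht : (Spec.map (CommRingCat.ofHom (algebraMap (Y.presheaf.stalk y) K))).base (closedPoint K) ⤳ t := by
      refine (PrimeSpectrum.le_iff_specializes _ _).mp ?_
      intro a ha
      have ha' : algebraMap (Y.presheaf.stalk y) K a ∈ maximalIdeal K := ha
      rw [maximalIdeal_eq_bot, Ideal.mem_bot, map_eq_zero_iff _ (IsFractionRing.injective _ K)] at ha'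
      rw [ha']; exact Ideal.zero_mem _
    exact ht.map (Y.fromSpecStalk y).base.hom.continuous
  obtain ⟨A, hyA, hA, hinj⟩ := Y.exists_germ_injective y
  haveI : IsDomain Γ(Y, A) := hinj.isDomain
  haveI : IsAffine (A : Scheme.{u}) := hA
  haveI : IsIntegral (A : Scheme.{u}) := by
    haveI : IsIntegral (Spec Γ(Y, A)) := inferInstance
    haveI : Nonempty (A : Scheme.{u}) := ⟨⟨y, hyA⟩⟩
    exact isIntegral_of_isOpenImmersion hA.isoSpec.hom
  have hηmem : ∀ O : Y.Opens, O ≤ A → (O : Set Y).Nonempty → η ∈ O := by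
    intro O hO ⟨z, hz⟩
    let ξ := genericPoint (A : Scheme.{u})
    have h1 : (ξ.1 : Y) ⤳ y := ((genericPoint_spec (A : Scheme.{u})).specializes
      (Set.mem_univ (⟨y, hyA⟩ : (A : Scheme.{u})))).map A.ι.base.hom.continuous
    have h2 : (ξ.1 : Y) ⤳ z := ((genericPoint_spec (A : Scheme.{u})).specializes
      (Set.mem_univ (⟨z, hO hz⟩ : (A : Scheme.{u})))).map A.ι.base.hom.continuous
    exact ((hgen _ h1).trans h2).mem_open O.2 hz
  have hηV : η ∈ V := by
    obtain ⟨z, hz⟩ := hV.inter_open_nonempty A A.2 ⟨y, hyA⟩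
    exact (hηmem (A ⊓ V) inf_le_left ⟨z, hz⟩).2
  have hrange : Set.range k0.base ⊆ Set.range V.ι.base := by
    rintro _ ⟨t, rfl⟩
    rw [Subsingleton.elim t (closedPoint K), Scheme.Opens.range_ι]
    exact hηV
  let kV : Spec (CommRingCat.of K) ⟶ V := IsOpenImmersion.lift V.ι k0 hrange
  have hkV : kV ≫ V.ι = k0 := IsOpenImmersion.lift_fac _ _ _
  obtain ⟨φ, hφ1, hφ2⟩ := H (kV ≫ g) (by rw [Category.assoc, hg, reassoc_of% hkV]; exact Category.assoc _ _ _)
  obtain ⟨U, hyU, s, hs1, hs2⟩ := spread_out_of_isGermInjective' (sX := q) (sY := p) φ hφ1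
  let W := U ⊓ A
  refine ⟨W, ⟨hyU, hyA⟩, Y.homOfLE inf_le_left ≫ s, by rw [Category.assoc, hs2, Scheme.homOfLE_ι_assoc], ?_⟩
  -- agreement on `W ⊓ V`
  let T : Y.Opens := W ⊓ V
  haveI : IsReduced (T : Scheme.{u}) := inferInstance
  have hηW : η ∈ W := hηmem W inf_le_right ⟨y, hyU, hyA⟩
  have hrT : Set.range k0.base ⊆ Set.range T.ι.base := by
    rintro _ ⟨t, rfl⟩
    rw [Subsingleton.elim t (closedPoint K), Scheme.Opens.range_ι]
    exact ⟨hηW, hηV⟩
  let kT : Spec (CommRingCat.of K) ⟶ T := IsOpenImmersion.lift T.ι k0 hrT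
  have hkT : kT ≫ T.ι = k0 := IsOpenImmersion.lift_fac _ _ _
  haveI : IsDominant kT := by
    refine ⟨fun z => ?_⟩
    let e := kT.base (closedPoint K)
    have he : (e.1 : Y) = η := congrArg (fun m : Spec (CommRingCat.of K) ⟶ Y => m.base (closedPoint K)) hkT
    have hsp : e ⤳ z := by
      rw [T.ι.isOpenEmbedding.toIsInducing.specializes_iff.symm]
      change (e.1 : Y) ⤳ z.1
      rw [he]
      let ξ := genericPoint (A : Scheme.{u})
      have h1 : (ξ.1 : Y) ⤳ y := ((genericPoint_spec (A : Scheme.{u})).specializes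
        (Set.mem_univ (⟨y, hyA⟩ : (A : Scheme.{u})))).map A.ι.base.hom.continuous
      have h2 : (ξ.1 : Y) ⤳ z.1 := ((genericPoint_spec (A : Scheme.{u})).specializes
        (Set.mem_univ (⟨z.1, z.2.1.2⟩ : (A : Scheme.{u})))).map A.ι.base.hom.continuous
      exact (hgen _ h1).trans h2
    exact closure_mono (Set.singleton_subset_iff.mpr (Set.mem_range_self (closedPoint K))) hsp.mem_closure
  refine ext_of_isDominant_of_isSeparated p ?_ kT ?_
  · simp only [Category.assoc, hg, hs2, Scheme.homOfLE_ι_assoc]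
  · have e1 : kT ≫ Y.homOfLE (inf_le_right : T ≤ V) = kV := by
      rw [← cancel_mono V.ι, Category.assoc, Scheme.homOfLE_ι, hkT, hkV]
    have e2 : kT ≫ Y.homOfLE (inf_le_left : T ≤ W) ≫ Y.homOfLE (inf_le_left : W ≤ U) =
        Spec.map (CommRingCat.ofHom (algebraMap (Y.presheaf.stalk y) K)) ≫ U.fromSpecStalkOfMem y hyU := by
      rw [← cancel_mono U.ι]
      simp only [Category.assoc, Scheme.homOfLE_ι, Scheme.Opens.fromSpecStalkOfMem_ι]
      exact hkT
    have e3 : Spec.map (CommRingCat.ofHom (algebraMap (Y.presheaf.stalk y) K)) ≫ U.fromSpecStalkOfMem y hyU ≫ s =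
        kV ≫ g := by
      rw [← hs1]; exact hφ2
    rw [← Category.assoc kT, ← Category.assoc kT, e1, ← e3, ← Category.assoc (Spec.map _), ← e2]
    simp only [Category.assoc]

theorem exists_extension_of_local [IsReduced Y] (p : X ⟶ S) [IsSeparated p] (q : Y ⟶ S) (V : Y.Opens)
    (hV : Dense (V : Set Y)) (g : (V : Scheme.{u}) ⟶ X) (hg : g ≫ p = V.ι ≫ q) (P : Y → Prop)
    (H : ∀ y, P y → ∃ (W : Y.Opens) (_ : y ∈ W) (s : (W : Scheme.{u}) ⟶ X), s ≫ p = W.ι ≫ q ∧
      Y.homOfLE (inf_le_left : W ⊓ V ≤ W) ≫ s = Y.homOfLE (inf_le_right : W ⊓ V ≤ V) ≫ g) :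
    ∃ (U : Y.Opens) (hVU : V ≤ U) (g' : (U : Scheme.{u}) ⟶ X), g' ≫ p = U.ι ≫ q ∧
      Y.homOfLE hVU ≫ g' = g ∧ ∀ y, P y → y ∈ U := by
  classical
  choose W hyW s hs1 hs2 using H
  let ι' := Option {y : Y // P y}
  let O : ι' → Y.Opens := fun i => i.elim V fun y => W y.1 y.2
  let U : Y.Opens := ⨆ i, O i
  have hle : ∀ i, O i ≤ U := fun i => le_iSup O i
  let m : ∀ i, (O i : Scheme.{u}) ⟶ X := fun i => match i with
    | none => g
    | some y => s y.1 y.2
  have hm : ∀ i, m i ≫ p = (O i).ι ≫ q := fun i => match i with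
    | none => hg
    | some y => hs1 y.1 y.2
  have hagree : ∀ i, Y.homOfLE (inf_le_left : O i ⊓ V ≤ O i) ≫ m i =
      Y.homOfLE (inf_le_right : O i ⊓ V ≤ V) ≫ g := fun i => match i with
    | none => rfl
    | some y => hs2 y.1 y.2
  let 𝒰 : (U : Scheme.{u}).OpenCover := (U : Scheme.{u}).openCoverOfIsOpenCover (fun i => U.ι ⁻¹ᵁ O i) (by
    rw [IsOpenCover, eq_top_iff]
    intro z _
    obtain ⟨i, hi⟩ := Opens.mem_iSup.mp z.2
    exact Opens.mem_iSup.mpr ⟨i, hi⟩)
  let t : ∀ i, ((U.ι ⁻¹ᵁ O i : (U : Scheme.{u}).Opens) : Scheme.{u}) ⟶ X := fun i =>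
    U.ι.resLE (O i) (U.ι ⁻¹ᵁ O i) le_rfl ≫ m i
  have hcomp : ∀ i j, pullback.fst (U.ι ⁻¹ᵁ O i).ι (U.ι ⁻¹ᵁ O j).ι ≫ t i =
      pullback.snd _ _ ≫ t j := by
    intro i j
    let P' := pullback (U.ι ⁻¹ᵁ O i).ι (U.ι ⁻¹ᵁ O j).ι
    let o : P' ⟶ Y := pullback.fst _ _ ≫ (U.ι ⁻¹ᵁ O i).ι ≫ U.ι
    haveI : IsReduced P' := isReduced_of_isOpenImmersion o
    haveI : IsDominant (o ⁻¹ᵁ V).ι := by
      refine ⟨?_⟩
      rw [DenseRange, Scheme.Opens.range_ι]
      exact hV.preimage o.isOpenEmbedding.isOpenMap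
    refine ext_of_isDominant_of_isSeparated p ?_ (o ⁻¹ᵁ V).ι ?_
    · simp only [t, Category.assoc, hm, Scheme.Hom.resLE_comp_ι_assoc]
      exact pullback.condition_assoc _
    · have key : ∀ (l : ι') (a : (o ⁻¹ᵁ V : P'.Opens).toScheme ⟶ O l),
          a ≫ (O l).ι = (o ⁻¹ᵁ V).ι ≫ o → a ≫ m l = o.resLE V (o ⁻¹ᵁ V) le_rfl ≫ g := by
        intro l a ha
        have hr : Set.range a.base ⊆ Set.range (Y.homOfLE (inf_le_left : O l ⊓ V ≤ O l)).base := by
          rintro _ ⟨z, rfl⟩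
          have hzV : ((a.base z).1 : Y) ∈ V := by
            have : (a ≫ (O l).ι).base z ∈ V := by rw [ha]; exact z.2
            exact this
          exact ⟨⟨(a.base z).1, (a.base z).2, hzV⟩, Subtype.ext (Scheme.homOfLE_apply inf_le_left _)⟩
        let b := IsOpenImmersion.lift (Y.homOfLE (inf_le_left : O l ⊓ V ≤ O l)) a hr
        have hb : b ≫ Y.homOfLE inf_le_left = a := IsOpenImmersion.lift_fac _ _ _
        have hbV : b ≫ Y.homOfLE (inf_le_right : O l ⊓ V ≤ V) = o.resLE V (o ⁻¹ᵁ V) le_rfl := by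
          rw [← cancel_mono V.ι, Category.assoc, Scheme.homOfLE_ι, Scheme.Hom.resLE_comp_ι, ← ha, ← hb,
            Category.assoc, Scheme.homOfLE_ι]
        rw [← hb, Category.assoc, hagree, reassoc_of% hbV]
      simp only [t, ← Category.assoc]
      rw [key i _ ?_, key j _ ?_]
      · simp only [Category.assoc, Scheme.Hom.resLE_comp_ι, o]
        rw [pullback.condition_assoc]
      · simp only [Category.assoc, Scheme.Hom.resLE_comp_ι, o]
  let g' := 𝒰.glueMorphisms t hcomp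
  have hg' : ∀ i, (U.ι ⁻¹ᵁ O i).ι ≫ g' = t i := fun i => Scheme.Cover.ι_glueMorphisms 𝒰 t hcomp i
  refine ⟨U, hle none, g', ?_, ?_, fun y hy => hle (some ⟨y, hy⟩) (hyW y hy)⟩
  · refine Scheme.Cover.hom_ext 𝒰 _ _ fun (i : ι') => ?_
    change (U.ι ⁻¹ᵁ O i).ι ≫ g' ≫ p = (U.ι ⁻¹ᵁ O i).ι ≫ U.ι ≫ q
    rw [reassoc_of% (hg' i), Category.assoc, hm, Scheme.Hom.resLE_comp_ι_assoc]
  · have hr : Set.range (Y.homOfLE (hle none)).base ⊆ Set.range (U.ι ⁻¹ᵁ O none).ι.base := by
      rintro _ ⟨z, rfl⟩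
      rw [Scheme.Opens.range_ι]
      change ((Y.homOfLE (hle none)).base z).1 ∈ V
      exact (congrArg (· ∈ V) (Scheme.homOfLE_apply (hle none) z)).mpr z.2
    let b := IsOpenImmersion.lift (U.ι ⁻¹ᵁ O none).ι (Y.homOfLE (hle none)) hr
    have hb : b ≫ (U.ι ⁻¹ᵁ O none).ι = Y.homOfLE (hle none) := IsOpenImmersion.lift_fac _ _ _
    have hb2 : b ≫ U.ι.resLE (O none) (U.ι ⁻¹ᵁ O none) le_rfl = 𝟙 _ := by
      rw [← cancel_mono (O none).ι, Category.assoc, Scheme.Hom.resLE_comp_ι, reassoc_of% hb,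
        Scheme.homOfLE_ι, Category.id_comp]
    change Y.homOfLE (hle none) ≫ g' = g
    rw [← hb, Category.assoc, hg', reassoc_of% hb2]

end Groth.Ega2Proj
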