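/-
Irreducible one-dimensional Jacobson schemes.
-/
import Mathlib.AlgebraicGeometry.Properties
import Mathlib.AlgebraicGeometry.Morphisms.Finite
import Mathlib.Topology.JacobsonSpace

set_option autoImplicit false
universe u
open CategoryTheory AlgebraicGeometry TopologicalSpace

namespace Groth.Ega2Proj

variable {X : Scheme.{u}} [IrreducibleSpace X]

theorem genericPoint_not_isClosed
    (hcurve : ∀ x : X, IsClosed ({x} : Set X) → ringKrullDim (X.presheaf.stalk x) = 1) :
    ¬ IsClosed ({genericPoint X} : Set X) := by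
  intro h
  have h1 := hcurve _ h
  rw [ringKrullDim_stalk_eq_coheight] at h1
  have h2 : Order.coheight (genericPoint X) = 0 := by
    rw [Order.coheight_eq_zero]
    exact fun y _ => (genericPoint_spec X).specializes trivial
  rw [h2] at h1
  exact zero_ne_one (WithBot.coe_inj.mp h1)

theorem eq_genericPoint_of_not_isClosed [JacobsonSpace X]
    (hcurve : ∀ x : X, IsClosed ({x} : Set X) → ringKrullDim (X.presheaf.stalk x) = 1)
    {x : X} (hx : ¬ IsClosed ({x} : Set X)) : x = genericPoint X := by
  by_contra hne
  obtain ⟨x0, hx0, hx0c⟩ := nonempty_inter_closedPoints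
    (Z := closure {x}) ⟨x, subset_closure rfl⟩ isClosed_closure.isLocallyClosed
  have hsp : x ⤳ x0 := specializes_iff_mem_closure.mpr hx0
  have hne0 : x0 ≠ x := fun h => hx (h ▸ hx0c)
  have lt1 : x0 < x := lt_of_le_not_ge hsp fun h => hne0 (Inseparable.eq (Specializes.antisymm (h : x0 ⤳ x) hsp))
  have lt2 : x < genericPoint X := lt_of_le_not_ge ((genericPoint_spec X).specializes trivial)
    fun h => hne (Inseparable.eq (Specializes.antisymm (h : x ⤳ genericPoint X) ((genericPoint_spec X).specializes trivial)))
  have h1 := Order.coheight_add_one_le lt1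
  have h2 := Order.coheight_add_one_le lt2
  have h3 := hcurve x0 hx0c
  rw [ringKrullDim_stalk_eq_coheight] at h3
  have h4 : Order.coheight x0 = 1 := WithBot.coe_inj.mp h3
  have h5 : (2 : ℕ∞) ≤ Order.coheight x0 := by
    calc (2 : ℕ∞) = 0 + 1 + 1 := by norm_num
      _ ≤ Order.coheight (genericPoint X) + 1 + 1 := by gcongr; exact zero_le
      _ ≤ Order.coheight x + 1 := by gcongr
      _ ≤ Order.coheight x0 := h1
  rw [h4] at h5
  exact absurd h5 (by decide)

/-- A closed set of closed points in a Noetherian sober space is finite. -/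
theorem finite_of_forall_isClosed_singleton {α : Type u} [TopologicalSpace α] [NoetherianSpace α]
    [QuasiSober α] [T0Space α] {F : Set α} (hF : IsClosed F) (h : ∀ x ∈ F, IsClosed ({x} : Set α)) :
    F.Finite := by
  obtain ⟨S, hS, hSc, hSi, rfl⟩ := NoetherianSpace.exists_finite_set_isClosed_irreducible hF
  refine hS.sUnion fun t ht => ?_
  obtain ⟨η, hη⟩ := QuasiSober.sober (hSi t ht) (hSc t ht)
  have : t = {η} := by
    rw [← hη.def]
    exact (h η ⟨t, ht, hη.mem⟩).closure_eq
  rw [this]
  exact Set.finite_singleton η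

theorem isClosed_finite_iff [JacobsonSpace X] [NoetherianSpace X]
    (hcurve : ∀ x : X, IsClosed ({x} : Set X) → ringKrullDim (X.presheaf.stalk x) = 1)
    {F : Set X} (hF : IsClosed F) :
    F ≠ Set.univ ↔ (F.Finite ∧ ∀ x ∈ F, IsClosed ({x} : Set X)) := by
  constructor
  · intro hne
    have hpts : ∀ x ∈ F, IsClosed ({x} : Set X) := fun x hx => by
      by_contra hc
      refine hne (Set.eq_univ_of_univ_subset ?_)
      rw [← (genericPoint_spec X).def, ← eq_genericPoint_of_not_isClosed hcurve hc]
      exact hF.closure_subset_iff.mpr (Set.singleton_subset_iff.mpr hx)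
    exact ⟨finite_of_forall_isClosed_singleton hF hpts, hpts⟩
  · rintro ⟨-, hpts⟩ rfl
    exact genericPoint_not_isClosed hcurve (hpts _ trivial)

end Groth.Ega2Proj
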