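/-
Normal curves over a field: local rings are valuation rings; structure maps on stalks.
-/
import Groth.Agent.Ega2Proj.ExtendCodimOne
import Groth.Prelude.Def_CurvBase
import Groth.Prelude.Def_Pi1
import Mathlib.AlgebraicGeometry.Noetherian

set_option autoImplicit false
universe u
open CategoryTheory CategoryTheory.Limits AlgebraicGeometry IsLocalRing TopologicalSpace

namespace Groth.Ega2Proj

theorem SpecMap_stalkMap_over (k : Type u) [Field k] (X : Scheme.{u}) [X.Over (Spec (CommRingCat.of k))]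
    (x : X) : Spec.map (CommRingCat.ofHom (Curv2.stalkMap k X x)) =
      X.fromSpecStalk x ≫ (X ↘ Spec (CommRingCat.of k)) := by
  have h1 : CommRingCat.ofHom (Curv2.stalkMap k X x) = (Scheme.ΓSpecIso (CommRingCat.of k)).inv ≫
      (X ↘ Spec (CommRingCat.of k)).appTop ≫ X.presheaf.germ ⊤ x trivial := rfl
  rw [h1, Spec.map_comp, Spec.map_comp, ← Scheme.fromSpecStalk_toSpecΓ, Category.assoc, Category.assoc,
    ← Scheme.toSpecΓ_naturality_assoc, toSpecΓ_SpecMap_ΓSpecIso_inv, Category.comp_id]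

variable {X : Scheme.{u}}

theorem isReduced_of_isNormalScheme (h : Pi1.IsNormalScheme X) : IsReduced X := by
  haveI : ∀ x : X, _root_.IsReduced (X.presheaf.stalk x) := fun x => by
    haveI := (h x).1; infer_instance
  exact isReduced_of_isReduced_stalk X

theorem ringKrullDim_stalk_le_one [JacobsonSpace X]
    (hcurve : ∀ x : X, IsClosed ({x} : Set X) → ringKrullDim (X.presheaf.stalk x) = 1) (x : X) :
    ringKrullDim (X.presheaf.stalk x) ≤ 1 := by
  obtain ⟨x0, hx0, hx0c⟩ := nonempty_inter_closedPoints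
    (Z := closure {x}) ⟨x, subset_closure rfl⟩ isClosed_closure.isLocallyClosed
  have h0 := hcurve x0 hx0c
  rw [ringKrullDim_stalk_eq_coheight] at h0 ⊢
  rw [← h0]
  exact WithBot.coe_le_coe.mpr (Order.coheight_anti (specializes_iff_mem_closure.mpr hx0))

theorem valuationRing_stalk [JacobsonSpace X] [IsLocallyNoetherian X] (hnorm : Pi1.IsNormalScheme X)
    (hcurve : ∀ x : X, IsClosed ({x} : Set X) → ringKrullDim (X.presheaf.stalk x) = 1) (x : X) :
    ∃ (_ : IsDomain (X.presheaf.stalk x)), ValuationRing (X.presheaf.stalk x) := by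
  haveI hd := (hnorm x).1
  haveI := (hnorm x).2
  haveI : Ring.KrullDimLE 1 (X.presheaf.stalk x) :=
    Ring.krullDimLE_iff.mpr (ringKrullDim_stalk_le_one hcurve x)
  have h4 : IsIntegrallyClosed (X.presheaf.stalk x) ∧
      ∀ P : Ideal (X.presheaf.stalk x), P ≠ ⊥ → P.IsPrime → P = maximalIdeal (X.presheaf.stalk x) :=
    ⟨inferInstance, fun P hP hP' => IsLocalRing.eq_maximalIdeal (hP'.isMaximal_of_ne_bot hP)⟩
  exact ⟨hd, ((tfae_of_isNoetherianRing_of_isLocalRing_of_isDomain (X.presheaf.stalk x)).out 3 1).mp h4⟩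

/-- A morphism defined on a dense open of a normal curve with values in a scheme proper over the
base extends uniquely. -/
theorem existsUnique_extension {S Y : Scheme.{u}} [JacobsonSpace X] [IsLocallyNoetherian X]
    (hnorm : Pi1.IsNormalScheme X)
    (hcurve : ∀ x : X, IsClosed ({x} : Set X) → ringKrullDim (X.presheaf.stalk x) = 1)
    (p : Y ⟶ S) [IsProper p] (q : X ⟶ S) (U : X.Opens) (hU : Dense (U : Set X))
    (g : (U : Scheme.{u}) ⟶ Y) (hg : g ≫ p = U.ι ≫ q) :
    ∃! g' : X ⟶ Y, U.ι ≫ g' = g ∧ g' ≫ p = q := by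
  haveI := isReduced_of_isNormalScheme hnorm
  have huniq : ∀ a b : X ⟶ Y, U.ι ≫ a = g ∧ a ≫ p = q → U.ι ≫ b = g ∧ b ≫ p = q → a = b := by
    rintro a b ⟨ha1, ha2⟩ ⟨hb1, hb2⟩
    haveI : IsDominant U.ι := ⟨by rw [DenseRange, Scheme.Opens.range_ι]; exact hU⟩
    exact ext_of_isDominant_of_isSeparated p (ha2.trans hb2.symm) U.ι (ha1.trans hb1.symm)
  obtain ⟨W, hUW, g', h1, h2, h3⟩ := exists_extension_of_local p q U hU g hg (fun _ => True) fun y _ => by
    obtain ⟨hd, hvr⟩ := valuationRing_stalk hnorm hcurve y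
    refine exists_local_extension p q U hU g hg y fun x0 hx0 => ?_
    haveI : UniversallyClosed (pullback.snd p q) := inferInstance
    obtain ⟨φ, h1, h2⟩ := exists_lift_of_isClosedMap_of_valuationRing (pullback.snd p q)
      (pullback.snd p q).isClosedMap y (pullback.lift x0 (Spec.map (CommRingCat.ofHom
        (algebraMap (X.presheaf.stalk y) (FractionRing (X.presheaf.stalk y)))) ≫ X.fromSpecStalk y)
        (by rw [hx0, Category.assoc])) (pullback.lift_snd _ _ _)
    refine ⟨φ ≫ pullback.fst p q, ?_, ?_⟩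
    · rw [Category.assoc, pullback.condition, ← Category.assoc, h1]
    · exact (Category.assoc _ _ _).symm.trans ((congrArg (· ≫ pullback.fst p q) h2).trans (pullback.lift_fst _ _ _))
  have htop : W = ⊤ := top_le_iff.mp fun y _ => h3 y trivial
  subst htop
  refine ⟨X.topIso.inv ≫ g', ⟨?_, ?_⟩, fun b hb => huniq b _ hb ⟨?_, ?_⟩⟩
  all_goals first
    | (rw [Category.assoc, h1, ← Category.assoc]; simp; done)
    | (have e : X.homOfLE hUW = U.ι ≫ X.topIso.inv := by
          rw [← cancel_mono (⊤ : X.Opens).ι, Scheme.homOfLE_ι]; simp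
       rw [← Category.assoc, ← e, h2])

end Groth.Ega2Proj
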