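/-
Loci of sums of sections; finite sets of points in affine loci (EGA II 4.5.4); powers.
-/
import Groth.Agent.PropsBasic.AmpleBasis

set_option autoImplicit false
universe u
open CategoryTheory AlgebraicGeometry TopologicalSpace Opposite

set_option backward.isDefEq.respectTransparency.types false

namespace Groth.Ega2Proj

open Groth.PicAux Groth.PropsBasic.Ample

variable {X : Scheme.{u}} {L M : X.Modules}

theorem mem_gloc_iff {U : X.Opens} {e : Γ(M, U)} (he : Gen M U e) {t : Γ(M, ⊤)} {c : Γ(X, U)}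
    (hc : Groth.PicAux.res M le_top t = c • e) {y : X} (hy : y ∈ U) :
    y ∈ gloc t ↔ IsUnit (X.presheaf.germ U y hy c) := by
  rw [← X.mem_basicOpen c y hy, ← gloc_inf_eq_basicOpen he hc]
  exact ⟨fun h => ⟨h, hy⟩, fun h => h.1⟩

theorem res_sum {ι : Type*} (s : Finset ι) {U V : X.Opens} (h : V ≤ U) (t : ι → Γ(M, U)) :
    Groth.PicAux.res M h (∑ i ∈ s, t i) = ∑ i ∈ s, Groth.PicAux.res M h (t i) := by
  classical
  induction s using Finset.induction with
  | empty => simpa using res_zero (M := M) h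
  | insert a s ha ih => rw [Finset.sum_insert ha, Finset.sum_insert ha, res_add, ih]

theorem exists_coeffs (hM : PicF.IsInvertible M) {ι : Type*} (t : ι → Γ(M, ⊤)) (y : X) :
    ∃ (U : X.Opens) (hy : y ∈ U) (e : Γ(M, U)) (c : ι → Γ(X, U)), Gen M U e ∧
      ∀ i, Groth.PicAux.res M le_top (t i) = c i • e := by
  obtain ⟨U, e, -, hy, he⟩ := exists_affine_gen_mem hM y
  choose c hc using fun i => he.exists_coeff le_rfl (Groth.PicAux.res M le_top (t i))
  refine ⟨U, hy, e, c, he, fun i => ?_⟩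
  have := hc i
  rwa [res_self] at this

theorem exists_mem_gloc_of_mem_gloc_sum (hM : PicF.IsInvertible M) {ι : Type*} (s : Finset ι)
    (t : ι → Γ(M, ⊤)) {y : X} (h : y ∈ gloc (∑ i ∈ s, t i)) : ∃ i ∈ s, y ∈ gloc (t i) := by
  obtain ⟨U, hy, e, c, he, hc⟩ := exists_coeffs hM t y
  have hsum : Groth.PicAux.res M (le_top : U ≤ ⊤) (∑ i ∈ s, t i) = (∑ i ∈ s, c i) • e := by
    rw [res_sum, Finset.sum_smul]; exact Finset.sum_congr rfl fun i _ => hc i
  rw [mem_gloc_iff he hsum hy, map_sum] at h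
  by_contra hcon
  have hnon : ∀ i ∈ s, X.presheaf.germ U y hy (c i) ∈ IsLocalRing.maximalIdeal (X.presheaf.stalk y) :=
    fun i hi => (IsLocalRing.mem_maximalIdeal _).mpr fun hu =>
      hcon ⟨i, hi, (mem_gloc_iff he (hc i) hy).mpr hu⟩
  exact (IsLocalRing.mem_maximalIdeal _).mp (Ideal.sum_mem _ hnon) h

theorem mem_gloc_sum (hM : PicF.IsInvertible M) {ι : Type*} (s : Finset ι) (t : ι → Γ(M, ⊤))
    {y : X} {j : ι} (hj : j ∈ s) (hjy : y ∈ gloc (t j)) (h : ∀ i ∈ s, i ≠ j → y ∉ gloc (t i)) :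
    y ∈ gloc (∑ i ∈ s, t i) := by
  classical
  obtain ⟨U, hy, e, c, he, hc⟩ := exists_coeffs hM t y
  have hsum : Groth.PicAux.res M (le_top : U ≤ ⊤) (∑ i ∈ s, t i) = (∑ i ∈ s, c i) • e := by
    rw [res_sum, Finset.sum_smul]; exact Finset.sum_congr rfl fun i _ => hc i
  rw [mem_gloc_iff he hsum hy, map_sum, ← Finset.add_sum_erase s _ hj]
  by_contra hn
  have h1 : ∑ i ∈ s.erase j, X.presheaf.germ U y hy (c i) ∈ IsLocalRing.maximalIdeal (X.presheaf.stalk y) :=
    Ideal.sum_mem _ fun i hi => (IsLocalRing.mem_maximalIdeal _).mpr fun hu =>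
      h i (Finset.mem_erase.mp hi).2 (Finset.mem_erase.mp hi).1 ((mem_gloc_iff he (hc i) hy).mpr hu)
  have h2 := Ideal.sub_mem _ ((IsLocalRing.mem_maximalIdeal _).mpr hn) h1
  rw [add_sub_cancel_right] at h2
  exact (IsLocalRing.mem_maximalIdeal _).mp h2 ((mem_gloc_iff he (hc j) hy).mp hjy)

theorem isAffineOpen_gloc_sum (hM : PicF.IsInvertible M) {ι : Type*} [Fintype ι] (t : ι → Γ(M, ⊤))
    (ht : ∀ i, IsAffineOpen (gloc (t i))) : IsAffineOpen (gloc (∑ i, t i)) := by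
  let A := gloc (∑ i, t i)
  have hgen := gen_gloc (∑ i, t i) (le_refl A)
  choose c hc using fun i => hgen.exists_coeff le_rfl (Groth.PicAux.res M le_top (t i))
  have hc' : ∀ i, Groth.PicAux.res M (le_top : A ≤ ⊤) (t i) =
      c i • Groth.PicAux.res M (le_top : A ≤ ⊤) (∑ i, t i) := fun i => by
    have := hc i
    rwa [res_self] at this
  have hsum : ∑ i, c i = 1 := by
    refine hgen.smul_inj le_rfl ?_
    simp only [res_self, one_smul, Finset.sum_smul]
    rw [← Finset.sum_congr rfl fun i _ => hc' i, ← res_sum]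
  have haff : ∀ i, IsAffineOpen (X.basicOpen (c i)) := fun i => by
    rw [← gloc_inf_eq_basicOpen hgen (hc' i), inf_comm]
    exact isAffineOpen_gloc_inf hM (homOfSection (∑ i, t i)) (ht i)
  have : IsAffine (A : Scheme.{u}) := by
    refine isAffine_of_isAffineOpen_basicOpen (Set.range fun i => A.topIso.inv.hom (c i)) ?_ ?_
    · rw [Ideal.eq_top_iff_one]
      have : (1 : Γ((A : Scheme.{u}), ⊤)) = ∑ i, A.topIso.inv.hom (c i) := by
        rw [← map_sum, hsum, map_one]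
      rw [this]
      exact Ideal.sum_mem _ fun i _ => Ideal.subset_span ⟨i, rfl⟩
    · rintro _ ⟨i, rfl⟩
      rw [← A.ι.isAffineOpen_iff_of_isOpenImmersion, Scheme.image_basicOpen]
      have : X.basicOpen ((A.ι.appIso ⊤).inv.hom (A.topIso.inv.hom (c i))) = X.basicOpen (c i) := by
        simp only [Scheme.Opens.ι_appIso, Iso.refl_inv, CommRingCat.hom_id, RingHom.id_apply]
        simp only [Scheme.Opens.topIso, Functor.mapIso_inv, eqToIso.inv, Iso.op_inv]
        refine (X.basicOpen_res _ _).trans (inf_eq_right.mpr ?_)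
        exact (X.basicOpen_le _).trans A.ι_image_top.ge
      rw [this]; exact haff i
  exact this

theorem exists_gloc_pow (hL : PicF.IsInvertible L) {n : ℕ} (s : Γ(CohB1.tensorPow L (n + 1), ⊤))
    {m : ℕ} (hm : 0 < m) {N : ℕ} (hN : (n + 1) * m = N) :
    ∃ t : Γ(CohB1.tensorPow L N, ⊤), gloc t = gloc s := by
  obtain ⟨t, ht⟩ := exists_gloc_transport (n + 1) m (powSec s m)
  rw [gloc_powSec (isInvertible_tensorPow hL _) _ hm] at ht
  subst hN
  exact ⟨t, ht⟩

theorem exists_affine_gloc_between_of_isAmple (hA : CohB1.IsAmple L) (W : X.Opens)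
    (E : Finset X) (hE : ∀ x ∈ E, x ∈ W) :
    ∃ (N : ℕ) (s : Γ(CohB1.tensorPow L (N + 1), ⊤)),
      IsAffineOpen (gloc s) ∧ (∀ x ∈ E, x ∈ gloc s) ∧ gloc s ≤ W := by
  classical
  have hB := isBasis_of_isAmple hA
  have hL := hA.1
  -- the most special points
  let E' := E.filter fun z => ∀ z' ∈ E, z ⤳ z' → z' ⤳ z
  have hdown : ∀ z ∈ E, ∃ z' ∈ E', z ⤳ z' := by
    intro z hz
    obtain ⟨z', hz', hmin⟩ := Set.Finite.exists_minimalFor (id : X → X)
      {w | w ∈ E ∧ z ⤳ w} (E.finite_toSet.subset fun w hw => hw.1) ⟨z, hz, specializes_rfl⟩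
    exact ⟨z', Finset.mem_filter.mpr ⟨hz'.1, fun w hw h => hmin ⟨hw, hz'.2.trans h⟩ h⟩, hz'.2⟩
  have hex : ∀ z : E', ∃ (n : ℕ) (s : Γ(CohB1.tensorPow L (n + 1), ⊤)),
      z.1 ∈ gloc s ∧ IsAffineOpen (gloc s) ∧ gloc s ≤ W ∧
      ∀ z' : E', z' ≠ z → z'.1 ∉ gloc s := by
    intro z
    obtain ⟨hzE, hzmax⟩ := Finset.mem_filter.mp z.2
    obtain ⟨V, hV, hzV, hVW⟩ := exists_isAffineOpen_mem_and_subset (x := z.1) (U := W) (hE _ hzE)
    let O : X.Opens := ⟨(V : Set X) ∩ ⋂ z' ∈ {w : X | w ∈ E' ∧ w ≠ z.1}, (closure {z'})ᶜ,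
      V.2.inter (((E'.finite_toSet).subset fun w (hw : w ∈ E' ∧ w ≠ z.1) => hw.1).isOpen_biInter
        fun _ _ => isClosed_closure.isOpen_compl)⟩
    have hzO : z.1 ∈ O := by
      refine ⟨hzV, Set.mem_iInter₂.mpr fun w hw hcl => ?_⟩
      obtain ⟨hwE, hwmax⟩ := Finset.mem_filter.mp hw.1
      have h1 : w ⤳ z.1 := specializes_iff_mem_closure.mpr hcl
      exact hw.2 (Inseparable.eq (Specializes.antisymm h1 (hwmax _ hzE h1)))
    obtain ⟨_, ⟨n, s, rfl⟩, hzs, hsO⟩ := Opens.isBasis_iff_nbhd.1 hB hzO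
    rw [genLocus_eq_gloc] at hzs hsO
    refine ⟨n, gsec s, hzs, ?_, fun x hx => hVW (hsO hx).1, fun z' hne hz' => ?_⟩
    · have h := isAffineOpen_gloc_inf (isInvertible_tensorPow hL (n + 1)) (homOfSection (gsec s)) hV
      rwa [inf_eq_left.2 fun x hx => (hsO hx).1] at h
    · exact Set.mem_iInter₂.mp (hsO hz').2 z'.1 ⟨z'.2, fun h => hne (Subtype.ext h)⟩ (subset_closure rfl)
  choose n s hzs haff hsW hsep using hex
  let P := ∏ z, (n z + 1)
  have hP : 0 < P := Finset.prod_pos fun z _ => Nat.succ_pos _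
  have hdiv : ∀ z, ∃ t : Γ(CohB1.tensorPow L (P - 1 + 1), ⊤), gloc t = gloc (s z) := by
    intro z
    have hd : n z + 1 ∣ P := Finset.dvd_prod_of_mem _ (Finset.mem_univ z)
    obtain ⟨m, hm⟩ := hd
    refine exists_gloc_pow hL (s z) (m := m) ?_ (by omega)
    rcases Nat.eq_zero_or_pos m with h0 | h0
    · rw [h0, Nat.mul_zero] at hm; omega
    · exact h0
  choose t ht using hdiv
  have hM := isInvertible_tensorPow hL (P - 1 + 1)
  refine ⟨P - 1, ∑ z, t z, isAffineOpen_gloc_sum hM t fun z => ht z ▸ haff z, fun x hx => ?_, fun x hx => ?_⟩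
  · obtain ⟨z, hz, hxz⟩ := hdown x hx
    refine hxz.mem_open (gloc (∑ z, t z)).2 (mem_gloc_sum hM _ t (Finset.mem_univ ⟨z, hz⟩) ?_ fun i _ hi hzi => ?_)
    · rw [ht]; exact hzs ⟨z, hz⟩
    · rw [ht] at hzi
      exact hsep i ⟨z, hz⟩ (Ne.symm hi) hzi
  · obtain ⟨z, -, hz⟩ := exists_mem_gloc_of_mem_gloc_sum hM _ t hx
    rw [ht] at hz
    exact hsW z hz

theorem isAmple_tensorPow_iff [CompactSpace X] (hL : PicF.IsInvertible L) (n : ℕ) (hn : 0 < n) :
    CohB1.IsAmple L ↔ CohB1.IsAmple (CohB1.tensorPow L n) := by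
  constructor
  · intro hA
    refine ⟨isInvertible_tensorPow hL n, inferInstance, fun x => ?_⟩
    obtain ⟨m, s, hxs, hs⟩ := hA.2.2 x
    rw [genLocus_eq_gloc] at hxs hs
    obtain ⟨t, ht⟩ := exists_gloc_pow hL (gsec s) hn (N := n * (m + 1)) (mul_comm _ _)
    obtain ⟨e⟩ := tensorPow_mul L n (m + 1)
    exact ⟨m, homOfSection (e.hom.app ⊤ t), by rwa [← gloc, gloc_map, ht], by rwa [← gloc, gloc_map, ht]⟩
  · intro hA
    refine ⟨hL, inferInstance, fun x => ?_⟩
    obtain ⟨m, s, hxs, hs⟩ := hA.2.2 x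
    rw [genLocus_eq_gloc] at hxs hs
    obtain ⟨t, ht⟩ := exists_gloc_transport n (m + 1) (gsec s)
    have key : ∀ N : ℕ, N = n * (m + 1) → ∃ t' : Γ(CohB1.tensorPow L N, ⊤), gloc t' = gloc t := by
      rintro _ rfl; exact ⟨t, rfl⟩
    have hpos : 0 < n * (m + 1) := Nat.mul_pos hn (Nat.succ_pos m)
    obtain ⟨t', ht'⟩ := key (n * (m + 1) - 1 + 1) (by omega)
    exact ⟨_, homOfSection t', by rwa [← gloc, ht', ht], by rwa [← gloc, ht', ht]⟩

end Groth.Ega2Proj
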