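/-
Relatively ample modules: invariance, locality on the base (EGA II 4.6).
-/
import Groth.Agent.Ega2Proj.AmpleBasic
import Groth.Agent.PicAux.QCoh
import Groth.Agent.QCohMod.QCQS
import Groth.Prelude.Def_LCI2

set_option autoImplicit false
universe u
open CategoryTheory AlgebraicGeometry TopologicalSpace Opposite

set_option backward.isDefEq.respectTransparency.types false

namespace Groth.Ega2Proj

open Groth.PicAux Groth.PropsBasic.Ample

variable {X Y : Scheme.{u}} {L M : X.Modules}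

theorem isAmple_of_iso (e : L ≅ M) (hA : CohB1.IsAmple L) : CohB1.IsAmple M := by
  refine ⟨isInvertible_of_iso hA.1 e, hA.2.1, fun x => ?_⟩
  obtain ⟨n, s, hx, hs⟩ := hA.2.2 x
  rw [genLocus_eq_gloc] at hx hs
  obtain ⟨φ⟩ := nonempty_tensorPow_iso e (n + 1)
  refine ⟨n, homOfSection (φ.hom.app ⊤ (gsec s)), ?_, ?_⟩
  · change x ∈ gloc _
    rwa [gloc_map]
  · change IsAffineOpen (gloc _)
    rwa [gloc_map]

theorem isAmple_pullback {X' : Scheme.{u}} (i : X' ⟶ X) [CompactSpace X']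
    (hi : Topology.IsInducing i) (hA : CohB1.IsAmple L) :
    CohB1.IsAmple ((Scheme.Modules.pullback i).obj L) :=
  isAmple_of_isBasis (isInvertible_pullback i hA.1) (isBasis_pullback i hi hA.1 (isBasis_of_isAmple hA))

/-- Restriction along an open immersion versus pullback. -/
noncomputable def restrictIsoPullback {A : Scheme.{u}} (j : A ⟶ X) [IsOpenImmersion j]
    (M : X.Modules) : M.restrict j ≅ (Scheme.Modules.pullback j).obj M :=
  (Scheme.Modules.restrictFunctorIsoPullback j).app M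

noncomputable def restrictRestrictIso {A B : Scheme.{u}} (a : A ⟶ B) (b : B ⟶ X)
    [IsOpenImmersion a] [IsOpenImmersion b] (M : X.Modules) :
    M.restrict (a ≫ b) ≅ (M.restrict b).restrict a :=
  (Scheme.Modules.restrictFunctorComp a b).app M

theorem isInvertible_restrict {A : Scheme.{u}} (j : A ⟶ X) [IsOpenImmersion j]
    (hM : PicF.IsInvertible M) : PicF.IsInvertible (M.restrict j) :=
  isInvertible_of_iso (isInvertible_pullback j hM) (restrictIsoPullback j M).symm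

theorem exists_tensorPow_restrict {A : Scheme.{u}} (j : A ⟶ X) [IsOpenImmersion j] (n : ℕ) :
    Nonempty ((CohB1.tensorPow L n).restrict j ≅ CohB1.tensorPow (L.restrict j) n) :=
  ⟨restrictIsoPullback j _ ≪≫ (pullback_tensorPow j L n).some ≪≫
    (nonempty_tensorPow_iso (restrictIsoPullback j L).symm n).some⟩

theorem exists_tensorMod_restrict {A : Scheme.{u}} (j : A ⟶ X) [IsOpenImmersion j] :
    Nonempty ((CohB1.tensorMod L M).restrict j ≅ CohB1.tensorMod (L.restrict j) (M.restrict j)) :=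
  ⟨restrictIsoPullback j _ ≪≫ (exists_pullback_tensorMod j L M).choose ≪≫
    PicGrp.tensorModIso (restrictIsoPullback j L).symm (restrictIsoPullback j M).symm⟩

theorem isAmple_restrict_of_range_le {A B : Scheme.{u}} (j : A ⟶ X) (j' : B ⟶ X)
    [IsOpenImmersion j] [IsOpenImmersion j'] [CompactSpace A]
    (h : Set.range j ⊆ Set.range j') (hA : CohB1.IsAmple (L.restrict j')) :
    CohB1.IsAmple (L.restrict j) := by
  let e := IsOpenImmersion.lift j' j h
  have he : e ≫ j' = j := IsOpenImmersion.lift_fac j' j h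
  exact isAmple_of_iso ((restrictIsoPullback e _).symm ≪≫ (restrictRestrictIso e j' L).symm ≪≫
      (Scheme.Modules.restrictFunctorCongr he).app L)
    (isAmple_pullback e e.isOpenEmbedding.isInducing hA)

theorem isInvertible_of_cover (h : ∀ x : X, ∃ W : X.Opens, x ∈ W ∧ PicF.IsInvertible (M.restrict W.ι)) :
    PicF.IsInvertible M := by
  rw [isInvertible_iff_exists_gen]
  intro x
  obtain ⟨W, hx, hW⟩ := h x
  obtain ⟨U, e, hxU, he⟩ := (isInvertible_iff_exists_gen _).1 hW ⟨x, hx⟩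
  refine ⟨W.ι ''ᵁ U, (e : Γ(M, W.ι ''ᵁ U)), ⟨⟨x, hx⟩, hxU, rfl⟩, fun V hV => ?_⟩
  obtain ⟨V', rfl⟩ : ∃ V' : W.toScheme.Opens, W.ι ''ᵁ V' = V :=
    ⟨W.ι ⁻¹ᵁ V, by
      rw [Scheme.Hom.image_preimage_eq_opensRange_inf, Scheme.Opens.opensRange_ι]
      exact inf_eq_right.2 (hV.trans (W.ι_image_le U))⟩
  have hV' : V' ≤ U := by
    intro y hy
    obtain ⟨z, hz, hzy⟩ := hV ⟨y, hy, rfl⟩
    exact W.ι.isOpenEmbedding.injective hzy ▸ hz
  have hb := he V' hV'
  have e1 : (fun r : Γ(X, W.ι ''ᵁ V') => r • Groth.PicAux.res M hV (e : Γ(M, W.ι ''ᵁ U))) =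
      fun r : Γ(W.toScheme, V') => r • Groth.PicAux.res (M.restrict W.ι) hV' e :=
    funext fun r => (restrict_smul W V' r _).symm
  exact (congrArg Function.Bijective e1).mpr hb

theorem gloc_smul (hM : PicF.IsInvertible M) (r : Γ(X, ⊤)) (t : Γ(M, ⊤)) :
    gloc (r • t) = X.basicOpen r ⊓ gloc t := by
  obtain ⟨U, e, -, -, he, hcov⟩ := Groth.PropsBasic.Ample.exists_gen_cover hM
  refine opens_ext_cover hcov fun x => ?_
  obtain ⟨c, hc⟩ := (he x).exists_coeff le_rfl (Groth.PicAux.res M le_top t)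
  rw [res_self] at hc
  rw [gloc_inf_eq_basicOpen (he x) (c := resX X le_top r * c) (by rw [res_smul, hc, mul_smul]),
    Scheme.basicOpen_mul, ← gloc_inf_eq_basicOpen (he x) hc,
    show X.basicOpen (resX X (le_top : U x ≤ ⊤) r) = U x ⊓ X.basicOpen r from
      X.basicOpen_res r (homOfLE le_top).op]
  ac_rfl

theorem gloc_restrict {A : Scheme.{u}} (j : A ⟶ X) [IsOpenImmersion j] (hM : PicF.IsInvertible M)
    (t : Γ(M, ⊤)) :
    gloc (L := M.restrict j) (Groth.PicAux.res M (le_top : j ''ᵁ ⊤ ≤ ⊤) t) = j ⁻¹ᵁ gloc t := by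
  have h := gloc_pullSec j hM t
  rw [← h, ← gloc_map (restrictIsoPullback j M).hom]
  congr 1
  exact restrictIso_pullSec j M t

/-- Ampleness can be checked on a cover by basic opens of global functions. -/
theorem isAmple_of_basicOpen_cover [CompactSpace X]
    (h : ∀ x : X, ∃ g : Γ(X, ⊤), x ∈ X.basicOpen g ∧ CohB1.IsAmple (M.restrict (X.basicOpen g).ι)) :
    CohB1.IsAmple M := by
  choose g hg hA using h
  have hM : PicF.IsInvertible M := isInvertible_of_cover fun x => ⟨_, hg x, (hA x).1⟩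
  have : QuasiSeparatedSpace X := by
    refine .of_isOpenCover (U := fun x => X.basicOpen (g x))
      (eq_top_iff.mpr fun x _ => Opens.mem_iSup.mpr ⟨x, hg x⟩)
      (fun x => isRetrocompact_basicOpen (g x)) (fun x => ?_)
    have := isSeparated_of_cover (hA x).1 (hA x).2.2
    exact (isQuasiSeparated_iff_quasiSeparatedSpace _ (X.basicOpen (g x)).2).mpr
      (inferInstanceAs (QuasiSeparatedSpace (X.basicOpen (g x) : Scheme.{u})))
  refine ⟨hM, inferInstance, fun x => ?_⟩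
  let D := X.basicOpen (g x)
  obtain ⟨n, s, hxs, hs⟩ := (hA x).2.2 ⟨x, hg x⟩
  rw [genLocus_eq_gloc] at hxs hs
  obtain ⟨φ⟩ := exists_tensorPow_restrict (L := M) D.ι (n + 1)
  let s' : Γ((CohB1.tensorPow M (n + 1)).restrict D.ι, ⊤) := φ.inv.app ⊤ (gsec s)
  have hs' : gloc (L := (CohB1.tensorPow M (n + 1)).restrict D.ι) s' = gloc (gsec s) := gloc_map φ.inv _
  have hN := isInvertible_tensorPow hM (n + 1)
  have : (CohB1.tensorPow M (n + 1)).IsQuasicoherent := isQCoh_of_isInvertible hN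
  obtain ⟨k, t, ht⟩ := Groth.QCohMod.exists_pow_smul_eq_res_of_qcqs (CohB1.tensorPow M (n + 1))
    (W := ⊤) isCompact_univ isQuasiSeparated_univ (g x)
    (Groth.PicAux.res (CohB1.tensorPow M (n + 1)) D.ι_image_top.ge (s' : Γ(CohB1.tensorPow M (n + 1), D.ι ''ᵁ ⊤)))
  have hD : D.ι ''ᵁ ⊤ ≤ D := D.ι_image_top.le
  let r : Γ((D : Scheme.{u}), ⊤) := resX X hD (resX X (X.basicOpen_le (g x)) (g x))
  have hr : IsUnit r := (RingedSpace.isUnit_res_basicOpen _ (g x)).map (resX X hD)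
  have hres : Groth.PicAux.res _ (le_top : D.ι ''ᵁ ⊤ ≤ ⊤) t = r ^ k • s' := by
    have h1 := congrArg (Groth.PicAux.res (CohB1.tensorPow M (n + 1)) hD) ht
    refine Eq.trans ?_ ((h1.trans ?_).trans (restrict_smul D ⊤ _ _).symm)
    · exact (res_res (M := CohB1.tensorPow M (n + 1)) _ hD t).symm
    · rw [res_smul, map_pow, res_res, res_self]
      rfl
  have hl : D.ι ⁻¹ᵁ gloc t = gloc (gsec s) := by
    rw [← gloc_restrict D.ι hN t, hres, gloc_smul (isInvertible_restrict D.ι hN),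
      Scheme.basicOpen_of_isUnit _ (hr.pow k), top_inf_eq, hs']
  have hb : gloc ((g x) • t) = D.ι ''ᵁ gloc (gsec s) := by
    rw [gloc_smul hN, ← hl, Scheme.Hom.image_preimage_eq_opensRange_inf, Scheme.Opens.opensRange_ι]
  refine ⟨n, homOfSection ((g x) • t), ?_, ?_⟩
  · change x ∈ gloc _
    rw [hb]; exact ⟨⟨x, hg x⟩, hxs, rfl⟩
  · change IsAffineOpen (gloc _)
    rw [hb]; exact hs.image_of_isOpenImmersion _

/-- Relative ampleness can be checked locally on the base. -/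
theorem isRelAmple_of_local (f : X ⟶ Y) [QuasiCompact f]
    (h : ∀ x : X, ∃ (V : Y.Opens) (A : Scheme.{u}) (j : A ⟶ X) (_ : IsOpenImmersion j),
      f x ∈ V ∧ (f ⁻¹ᵁ V : Set X) ⊆ Set.range j ∧ CohB1.IsAmple (L.restrict j)) :
    RelAmple.IsRelAmple f L := by
  refine ⟨inferInstance, fun W => ?_⟩
  let Z : X.Opens := f ⁻¹ᵁ W.1
  have : CompactSpace (Z : Scheme.{u}) :=
    isCompact_iff_compactSpace.mp (QuasiCompact.isCompact_preimage _ W.1.2 W.2.isCompact)
  refine isAmple_of_basicOpen_cover (X := (Z : Scheme.{u})) (M := L.restrict Z.ι) fun z => ?_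
  obtain ⟨V, A, j, _, hzV, hVj, hA⟩ := h z.1
  obtain ⟨a, haV, hza⟩ := W.2.exists_basicOpen_le (V := V) ⟨f z.1, hzV⟩ z.2
  have hle : (⊤ : (Z : Scheme.{u}).Opens) ≤ (Z.ι ≫ f) ⁻¹ᵁ W.1 := fun w _ => w.2
  let g : Γ((Z : Scheme.{u}), ⊤) := (Z.ι ≫ f).appLE W.1 ⊤ hle a
  have hg : (Z : Scheme.{u}).basicOpen g = Z.ι ⁻¹ᵁ (f ⁻¹ᵁ Y.basicOpen a) :=
    (Scheme.basicOpen_appLE _ _ _ _ _).trans (top_inf_eq _)
  refine ⟨g, ?_, ?_⟩
  · rw [hg]; exact hza
  · have : CompactSpace ((Z : Scheme.{u}).basicOpen g : Scheme.{u}) :=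
      isCompact_iff_compactSpace.mp (isRetrocompact_basicOpen g).isCompact
    refine isAmple_of_iso (restrictRestrictIso _ Z.ι L) (isAmple_restrict_of_range_le _ j ?_ hA)
    rintro _ ⟨⟨w, hw⟩, rfl⟩
    rw [hg] at hw
    exact hVj (haV hw)

theorem isAmple_of_isRelAmple {f : X ⟶ Y} (hL : RelAmple.IsRelAmple f L) (V : Y.affineOpens)
    {A : Scheme.{u}} (j : A ⟶ X) [IsOpenImmersion j] [CompactSpace A]
    (h : Set.range j ⊆ f ⁻¹ᵁ V.1) : CohB1.IsAmple (L.restrict j) :=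
  isAmple_restrict_of_range_le j (f ⁻¹ᵁ V.1).ι (by simpa using h) (hL.2 V)

theorem isInvertible_of_isRelAmple {f : X ⟶ Y} (hL : RelAmple.IsRelAmple f L) :
    PicF.IsInvertible L := isInvertible_of_cover fun x => by
  obtain ⟨V, hV, hxV, -⟩ := exists_isAffineOpen_mem_and_subset (x := f x) (U := (⊤ : Y.Opens)) trivial
  exact ⟨f ⁻¹ᵁ V, hxV, (hL.2 ⟨V, hV⟩).1⟩

end Groth.Ega2Proj
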