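/-
Ample modules and quasi-affine schemes and morphisms (EGA II 4.5, 4.6).
-/
import Groth.Agent.Ega2Proj.RelAmple
import Groth.Agent.PropsBasic.QuasiAffineSection
import Groth.Prelude.Def_Mor2

set_option autoImplicit false
universe u
open CategoryTheory CategoryTheory.Limits AlgebraicGeometry TopologicalSpace Opposite

set_option backward.isDefEq.respectTransparency.types false

namespace Groth.Ega2Proj

open Groth.PicAux Groth.PropsBasic.Ample

variable {X X' Y : Scheme.{u}} {L : X.Modules}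

theorem isInvertible_structure (X : Scheme.{u}) : PicF.IsInvertible (Coh.structureModule X) :=
  (isInvertible_iff_exists_gen _).2 fun _ => ⟨⊤, oneSec X ⊤, trivial, gen_oneSec ⊤⟩

theorem isAmple_of_isQuasiAffine [X.IsQuasiAffine] (hL : PicF.IsInvertible L) : CohB1.IsAmple L := by
  refine ⟨hL, inferInstance, fun x => ?_⟩
  obtain ⟨s, hs, hxs, -⟩ := exists_affine_gloc_between (isInvertible_tensorPow hL (0 + 1))
    (⊤ : X.Opens) {x} (fun _ _ => trivial)
  exact ⟨0, homOfSection s, hxs x (Finset.mem_singleton_self x), hs⟩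

theorem gloc_structure (t : Γ(Coh.structureModule X, ⊤)) : gloc t = X.basicOpen (toFun t) := by
  rw [← gloc_inf_eq_basicOpen (gen_oneSec (⊤ : X.Opens)) (c := toFun t)
    ((res_self (M := Coh.structureModule X) le_top t).trans (eq_toFun_smul_oneSec t)), inf_top_eq]

theorem isQuasiAffine_of_isAmple_structure (h : CohB1.IsAmple (Coh.structureModule X)) :
    X.IsQuasiAffine := by
  have := h.2.1
  refine Scheme.IsQuasiAffine.of_forall_exists_mem_basicOpen X fun x => ?_
  obtain ⟨n, s, hxs, hs⟩ := h.2.2 x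
  rw [genLocus_eq_gloc] at hxs hs
  obtain ⟨e⟩ := tensorPow_structure (X := X) (n + 1)
  refine ⟨toFun (e.hom.app ⊤ (gsec s)), ?_, ?_⟩ <;> rw [← gloc_structure, gloc_map] <;> assumption

theorem isQuasiAffine_of_isInverseOf {L' : X.Modules} (hinv : ClSub.IsInverseOf L L')
    (hL : CohB1.IsAmple L) (hL' : CohB1.IsAmple L') : X.IsQuasiAffine := by
  have := hL.2.1
  refine Scheme.IsQuasiAffine.of_forall_exists_mem_basicOpen X fun x => ?_
  obtain ⟨n, s, hxs, -⟩ := hL.2.2 x
  obtain ⟨m, s', hxs', hs'⟩ := hL'.2.2 x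
  rw [genLocus_eq_gloc] at hxs hxs' hs'
  obtain ⟨a, ha⟩ := exists_gloc_pow hL.1 (gsec s) (Nat.succ_pos m) (N := (n + 1) * (m + 1)) rfl
  obtain ⟨b, hb⟩ := exists_gloc_pow hL'.1 (gsec s') (Nat.succ_pos n) (N := (n + 1) * (m + 1))
    (mul_comm _ _)
  obtain ⟨e⟩ := isInverseOf_tensorPow hinv ((n + 1) * (m + 1))
  have h1 : gloc (e.hom.app ⊤ (tmulSec a b)) = gloc (gsec s) ⊓ gloc (gsec s') := by
    rw [gloc_map, gloc_tmulSec (isInvertible_tensorPow hL.1 _) (isInvertible_tensorPow hL'.1 _), ha, hb]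
  refine ⟨toFun (e.hom.app ⊤ (tmulSec a b)), ?_, ?_⟩
  · rw [← gloc_structure, h1]
    exact isAffineOpen_gloc_inf (isInvertible_tensorPow hL.1 _) (homOfSection (gsec s)) hs'
  · rw [← gloc_structure, h1]
    exact ⟨hxs, hxs'⟩

theorem isSeparated_of_forall_quasiAffine (g : X' ⟶ X)
    (hg : ∀ V : X.Opens, IsAffineOpen V → Scheme.IsQuasiAffine (g ⁻¹ᵁ V : Scheme.{u})) :
    IsSeparated g := by
  refine (IsZariskiLocalAtTarget.iff_of_iSup_eq_top (P := @IsSeparated)
    (fun V : X.affineOpens => V.1) (iSup_affineOpens_eq_top X)).mpr fun V => ?_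
  have := hg V.1 V.2
  have : IsSeparated ((g ∣_ V.1) ≫ Limits.terminal.from _) := by
    rw [Limits.terminal.comp_from]
    infer_instance
  exact IsSeparated.of_comp (g ∣_ V.1) (Limits.terminal.from _)

/-- Ampleness pulls back along quasi-affine morphisms. -/
theorem isAmple_pullback_of_quasiAffine (g : X' ⟶ X) [QuasiCompact g]
    (hg : ∀ V : X.Opens, IsAffineOpen V → Scheme.IsQuasiAffine (g ⁻¹ᵁ V : Scheme.{u}))
    (hA : CohB1.IsAmple L) : CohB1.IsAmple ((Scheme.Modules.pullback g).obj L) := by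
  have := hA.2.1
  have := QuasiCompact.compactSpace_of_compactSpace g
  have := isSeparated_of_cover hA.1 hA.2.2
  have := isSeparated_of_forall_quasiAffine g hg
  have : X'.IsSeparated := ⟨by rw [← terminal.comp_from g]; infer_instance⟩
  have hM := isInvertible_pullback g hA.1
  refine ⟨hM, inferInstance, fun x => ?_⟩
  obtain ⟨n, s, hxs, hs⟩ := hA.2.2 (g x)
  rw [genLocus_eq_gloc] at hxs hs
  obtain ⟨φ⟩ := pullback_tensorPow g L (n + 1)
  have hσ : gloc (φ.hom.app ⊤ (pullSec g _ (gsec s))) = g ⁻¹ᵁ gloc (gsec s) :=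
    (gloc_map φ.hom _).trans (gloc_pullSec g (isInvertible_tensorPow hA.1 _) _)
  generalize φ.hom.app ⊤ (pullSec g _ (gsec s)) = σ at hσ
  have : Scheme.IsQuasiAffine (gloc σ : Scheme.{u}) := by
    rw [hσ]; exact hg _ hs
  have hxσ : x ∈ gloc σ := hσ.ge hxs
  obtain ⟨a, ha, hxa, -⟩ := exists_affine_basicOpen_of_finite (⊤ : (gloc σ).toScheme.Opens)
    {⟨x, hxσ⟩} (fun _ _ => trivial)
  obtain ⟨N, t, ht⟩ := exists_gloc_eq_basicOpen hM σ ((gloc σ).topIso.hom a)
  have hb : X'.basicOpen ((gloc σ).topIso.hom a) = (gloc σ).ι ''ᵁ (gloc σ).toScheme.basicOpen a := by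
    rw [Scheme.image_basicOpen]
    simp only [Scheme.Opens.ι_appIso, Iso.refl_inv, CommRingCat.hom_id, RingHom.id_apply]
    simp only [Scheme.Opens.topIso, Functor.mapIso_hom, eqToIso.hom, Iso.op_hom]
    refine (X'.basicOpen_res _ _).trans (inf_eq_right.mpr ?_)
    exact (X'.basicOpen_le _).trans (gloc σ).ι_image_top.le
  refine ⟨N, homOfSection t, ?_, ?_⟩
  · change x ∈ gloc t
    rw [ht, hb]
    exact ⟨⟨x, hxσ⟩, hxa _ (Finset.mem_singleton_self _), rfl⟩
  · change IsAffineOpen (gloc t)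
    rw [ht, hb]
    exact ha.image_of_isOpenImmersion _

/-- Pullback of a restriction along a commutative square. -/
noncomputable def restrictPullbackSquare {A A' : Scheme.{u}} (g : X' ⟶ X) (j : A ⟶ X) (j' : A' ⟶ X')
    (h : A' ⟶ A) [IsOpenImmersion j] [IsOpenImmersion j'] (w : h ≫ j = j' ≫ g) (L : X.Modules) :
    (Scheme.Modules.pullback h).obj (L.restrict j) ≅ ((Scheme.Modules.pullback g).obj L).restrict j' :=
  (Scheme.Modules.pullback h).mapIso (restrictIsoPullback j L) ≪≫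
    (Scheme.Modules.pullbackComp h j).app L ≪≫ (Scheme.Modules.pullbackCongr w).app L ≪≫
    ((Scheme.Modules.pullbackComp j' g).app L).symm ≪≫ (restrictIsoPullback j' _).symm

end Groth.Ega2Proj
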