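import Groth.Agent.Ega2Proj.TwistPow
import Groth.Agent.PicAux.GenLocus
import Groth.Prelude.Def_FlatMod2

/-!
# Generation and ampleness of the twisting sheaves; `M(n)~ ≅ M~ ⊗ O(n)`
-/

universe u

open CategoryTheory AlgebraicGeometry Opposite TopologicalSpace DirectSum Limits
open Groth.PicAux

namespace Groth.Ega2Proj

variable {R A : Type u} [CommRing R] [CommRing A] [Algebra R A] {𝒜 : ℕ → Submodule R A}
  [GradedAlgebra 𝒜]

theorem mem_basicOpen_iff_isUnit_val {U : (Proj 𝒜).Opens} (φ : Γ(Proj 𝒜, U))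
    {x : ProjectiveSpectrum 𝒜} (hx : x ∈ U) :
    x ∈ (Proj 𝒜).basicOpen φ ↔ IsUnit (φ.1 ⟨x, hx⟩).val := by
  refine ((Proj 𝒜).mem_basicOpen φ x hx).trans ?_
  refine (isUnit_map_iff (Proj.stalkIso' 𝒜 x) _).symm.trans ?_
  refine (Iff.of_eq (congrArg IsUnit (Proj.stalkIso'_germ 𝒜 U x hx φ))).trans ?_
  rw [← HomogeneousLocalization.isUnit_iff_isUnit_val]

theorem one_notMem (x : ProjectiveSpectrum 𝒜) : (1 : A) ∉ x.asHomogeneousIdeal :=
  fun h => x.isPrime.ne_top ((Ideal.eq_top_iff_one _).mpr h)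

/-- The global section `a / 1` of `O(n)`. -/
noncomputable def globalSec {n : ℕ} {a : A} (ha : a ∈ 𝒜 n) : Γ(Twist.twist 𝒜 (n : ℤ), ⊤) :=
  fracGen ha SetLike.GradedOne.one_mem (by simp) ⊤ fun x _ => one_notMem x

theorem wval_globalSec {n : ℕ} {a : A} (ha : a ∈ 𝒜 n) (x : ProjectiveSpectrum 𝒜)
    (hx : x ∈ (⊤ : (Proj 𝒜).Opens)) :
    wval (globalSec ha) x hx = algebraMap A (Twist.Loc 𝒜 x) a := by
  rw [globalSec, wval_fracGen]
  exact Localization.mk_one_eq_algebraMap a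

theorem wval_res_globalSec_pow {f : A} (hf : f ∈ 𝒜 1) (n : ℕ) {U : (Proj 𝒜).Opens}
    (hU : ∀ x : ProjectiveSpectrum 𝒜, x ∈ U → f ∉ x.asHomogeneousIdeal) :
    res (Twist.twist 𝒜 (n : ℤ)) (le_top : U ≤ ⊤)
      (globalSec (n := n) (by simpa using pow_mem_deg hf n : f ^ n ∈ 𝒜 n)) =
      pwSec (N := (n : ℤ)) hf n (by simp) hU := by
  refine wval_ext fun x hx => ?_
  rw [wval_res, wval_globalSec, wval_pwSec, zpow_natCast, Units.val_pow_eq_pow_val, coe_funit,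
    map_pow]

/-- When `S₊` is generated by finitely many degree-one elements, `O(n)`, `n ≥ 0`, is a quotient of
a free module. -/
theorem exists_epi_freeMod (s : Finset A) (hs1 : ∀ f ∈ s, f ∈ 𝒜 1)
    (hs : (HomogeneousIdeal.irrelevant 𝒜).toIdeal ≤ Ideal.span (s : Set A)) (n : ℕ) :
    ∃ (k : ℕ) (p : FlatMod.freeMod (Proj 𝒜) k ⟶ Twist.twist 𝒜 (n : ℤ)), Epi p := by
  let g : Fin s.card → A := fun i => (s.equivFin.symm i : A)
  have hg : ∀ i, g i ∈ 𝒜 1 := fun i => hs1 _ (s.equivFin.symm i).2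
  have hcov : ⨆ i, Proj.basicOpen 𝒜 (g i) = ⊤ := Proj.iSup_basicOpen_eq_top 𝒜 _ (hs.trans
    (Ideal.span_mono fun a ha => ⟨s.equivFin ⟨a, ha⟩, by simp [g]⟩))
  let t : Fin s.card → Γ(Twist.twist 𝒜 (n : ℤ), ⊤) := fun i =>
    globalSec (n := n) (by simpa using pow_mem_deg (hg i) n : g i ^ n ∈ 𝒜 n)
  refine ⟨s.card, Sigma.desc fun i => homOfSection (t i), ⟨fun ψ ψ' h => ?_⟩⟩
  refine hom_ext_gen hcov (fun i => res _ le_top (t i)) (fun i => ?_) fun i => ?_
  · rw [wval_res_globalSec_pow (hg i) n (U := Proj.basicOpen 𝒜 (g i)) fun _ hx => hx]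
    exact gen_pwSec _ _ _ _
  · have h1 : homOfSection (t i) ≫ ψ = homOfSection (t i) ≫ ψ' := by
      have := congrArg (Sigma.ι (fun _ : Fin s.card => Coh.structureModule (Proj 𝒜)) i ≫ ·) h
      simpa only [← Category.assoc, Sigma.ι_desc] using this
    have h2 := congr(($h1).app ⊤ (oneSec (Proj 𝒜) ⊤))
    simp only [Scheme.Modules.Hom.comp_app, ConcreteCategory.comp_apply, homOfSection_one] at h2
    rw [app_res, app_res, h2]

/-- The global section `a / 1` of `O(1)`. -/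
noncomputable def oneGlobal {a : A} (ha : a ∈ 𝒜 1) : Γ(Twist.twist 𝒜 1, ⊤) :=
  fracGen ha SetLike.GradedOne.one_mem (by simp) ⊤ fun x _ => one_notMem x

theorem wval_oneGlobal {a : A} (ha : a ∈ 𝒜 1) (x : ProjectiveSpectrum 𝒜)
    (hx : x ∈ (⊤ : (Proj 𝒜).Opens)) :
    wval (oneGlobal ha) x hx = algebraMap A (Twist.Loc 𝒜 x) a := by
  rw [oneGlobal, wval_fracGen]
  exact Localization.mk_one_eq_algebraMap a

/-- The generating locus of `f` as a section of `O(1)^⊗1` is `D₊(f)`. -/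
theorem genLocus_powSec_eq {S : Set A} (hS1 : ∀ f ∈ S, f ∈ 𝒜 1)
    (hS : (HomogeneousIdeal.irrelevant 𝒜).toIdeal ≤ Ideal.span S) {f : A} (hf : f ∈ 𝒜 1) :
    CohB1.genLocus (CohB1.tensorPow (Twist.twist 𝒜 1) 1)
      (homOfSection (powSec (oneGlobal hf) 1)) =
      Proj.basicOpen 𝒜 f := by
  refine opens_ext_cover (iSup_basicOpen_eq_top_of_span hS) fun g => ?_
  have hU : ∀ x : ProjectiveSpectrum 𝒜, x ∈ Proj.basicOpen 𝒜 (g : A) →
      (g : A) ∉ x.asHomogeneousIdeal := fun _ hx => hx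
  have he := gen_pwSec (N := 1) (hS1 _ g.2) 1 (by simp) hU
  obtain ⟨c, hc⟩ := he.exists_coeff le_rfl
    (res (Twist.twist 𝒜 1) (le_top : Proj.basicOpen 𝒜 (g : A) ≤ ⊤) (oneGlobal hf))
  rw [res_self] at hc
  have hc' : res _ (le_top : Proj.basicOpen 𝒜 (g : A) ≤ ⊤)
      (gsec (homOfSection (powSec (oneGlobal hf) 1))) =
        c • powSec (pwSec (N := 1) (hS1 _ g.2) 1 (by simp) hU) 1 := by
    rw [gsec, homOfSection_one, res_powSec, hc, powSec_smul, pow_one]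
  have hval : ∀ (x : ProjectiveSpectrum 𝒜) (hx : x ∈ Proj.basicOpen 𝒜 (g : A)),
      algebraMap A (Twist.Loc 𝒜 x) f = (c.1 ⟨x, hx⟩).val *
        ((funit x (hU x hx) ^ (1 : ℤ) : (Twist.Loc 𝒜 x)ˣ) : Twist.Loc 𝒜 x) := fun x hx =>
    (wval_oneGlobal hf x trivial).symm.trans ((congrArg (fun s => wval s x hx) hc).trans
      ((wval_smul _ _ x hx).trans (congrArg _ (wval_pwSec _ _ _ _ x hx))))
  rw [genLocus_inf_eq_basicOpen (he.pow 1) hc']
  ext x
  constructor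
  · intro hx
    have hxg : x ∈ Proj.basicOpen 𝒜 (g : A) := (Proj 𝒜).basicOpen_le c hx
    refine ⟨?_, hxg⟩
    have hu := (mem_basicOpen_iff_isUnit_val c hxg).mp hx
    have h := hval x hxg
    have : IsUnit (algebraMap A (Twist.Loc 𝒜 x) f) := h ▸ hu.mul (Units.isUnit _)
    haveI hprime : x.asHomogeneousIdeal.toIdeal.IsPrime := x.isPrime
    exact (IsLocalization.AtPrime.isUnit_to_map_iff _ x.asHomogeneousIdeal.toIdeal f).mp this
  · rintro ⟨hxf, hxg⟩
    refine (mem_basicOpen_iff_isUnit_val c hxg).mpr ?_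
    have h := hval x hxg
    haveI hprime : x.asHomogeneousIdeal.toIdeal.IsPrime := x.isPrime
    have : IsUnit (algebraMap A (Twist.Loc 𝒜 x) f) :=
      (IsLocalization.AtPrime.isUnit_to_map_iff _ x.asHomogeneousIdeal.toIdeal f).mpr hxf
    rw [h] at this
    exact isUnit_of_mul_isUnit_left this

/-- `O(1)` is ample when `S₊` is generated by finitely many degree-one elements. -/
theorem isAmple_twist_one (s : Finset A) (hs1 : ∀ f ∈ s, f ∈ 𝒜 1)
    (hs : (HomogeneousIdeal.irrelevant 𝒜).toIdeal ≤ Ideal.span (s : Set A)) :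
    CohB1.IsAmple (Twist.twist 𝒜 1) := by
  have hcov := iSup_basicOpen_eq_top_of_span (S := (s : Set A)) hs
  refine ⟨isInvertible_twist (hs.trans (Ideal.span_mono hs1)) 1, ⟨?_⟩, fun x => ?_⟩
  · rw [← Opens.coe_top, ← hcov, Opens.coe_iSup]
    exact isCompact_iUnion fun f => (Proj.isAffineOpen_basicOpen 𝒜 (f : A) (hs1 _ f.2) one_pos).isCompact
  · obtain ⟨f, hxf⟩ := Opens.mem_iSup.1 (hcov.ge (Set.mem_univ x) :
      x ∈ ⨆ f : (s : Set A), Proj.basicOpen 𝒜 (f : A))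
    refine ⟨0, homOfSection (powSec (oneGlobal (hs1 _ f.2)) 1), ?_⟩
    rw [genLocus_powSec_eq (S := (s : Set A)) hs1 hs (hs1 _ f.2)]
    exact ⟨hxf, Proj.isAffineOpen_basicOpen 𝒜 (f : A) (hs1 _ f.2) one_pos⟩

variable {M : Type u} [AddCommGroup M] [Module R M] [Module A M]
  {ℳ : ℕ → Submodule R M} [SetLike.GradedSMul 𝒜 ℳ]

/-- Division by `f ^ n`. -/
noncomputable def shiftDown {f : A} (hf : f ∈ 𝒜 1) (n : ℤ) {V : (Proj 𝒜).Opens}
    (hV : ∀ x : ProjectiveSpectrum 𝒜, x ∈ V → f ∉ x.asHomogeneousIdeal)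
    (s : Γ(GrTilde.tilde 𝒜 ℳ n, V)) : Γ(GrTilde.tilde 𝒜 ℳ 0, V) :=
  Tilde.mulFrac (pow_mem_deg hf (-n).toNat) (pow_mem_deg hf n.toNat) (by push_cast; omega)
    (fun x hx => notMem_pow x (hV x hx) _) s

theorem tval_shiftDown {f : A} (hf : f ∈ 𝒜 1) (n : ℤ) {V : (Proj 𝒜).Opens}
    (hV : ∀ x : ProjectiveSpectrum 𝒜, x ∈ V → f ∉ x.asHomogeneousIdeal)
    (s : Γ(GrTilde.tilde 𝒜 ℳ n, V)) (x : ProjectiveSpectrum 𝒜) (hx : x ∈ V) :
    Tilde.tval (shiftDown hf n hV s) x hx =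
      ((funit x (hV x hx) ^ (-n) : (Twist.Loc 𝒜 x)ˣ) : Twist.Loc 𝒜 x) • Tilde.tval s x hx := by
  rw [shiftDown, Tilde.tval_mulFrac, lfrac_pow_eq x (hV x hx)]
  congr 3
  omega

/-- `M(n)~ ≅ M~ ⊗ O(n)` when `S₊` is generated in degree one. -/
theorem nonempty_tilde_iso_twistBy
    (hgen : (HomogeneousIdeal.irrelevant 𝒜).toIdeal ≤ Ideal.span (𝒜 1 : Set A)) (n : ℤ) :
    Nonempty (GrTilde.tilde 𝒜 ℳ n ≅ Twist.twistBy 𝒜 (GrTilde.tilde 𝒜 ℳ 0) n) := by
  have hcov := iSup_basicOpen_eq_top_of_span (S := (𝒜 1 : Set A)) hgen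
  have hV : ∀ (f : (𝒜 1 : Set A)) (V : (Proj 𝒜).Opens), V ≤ Proj.basicOpen 𝒜 (f : A) →
      ∀ x : ProjectiveSpectrum 𝒜, x ∈ V → (f : A) ∉ x.asHomogeneousIdeal :=
    fun f V h x hx => h hx
  obtain ⟨φ, hφ⟩ := exists_hom_of_cover (L := GrTilde.tilde 𝒜 ℳ n)
    (M := CohB1.tensorMod (GrTilde.tilde 𝒜 ℳ 0) (Twist.twist 𝒜 n)) hcov
    (fun f V h x => tmulSec (shiftDown f.2 n (hV f V h) x)
      (pwSec (N := n) f.2 n (by simp) (hV f V h)))
    (fun f V h x y => by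
      have : shiftDown f.2 n (hV f V h) (x + y) =
          shiftDown f.2 n (hV f V h) x + shiftDown f.2 n (hV f V h) y :=
        Tilde.tval_ext fun z hz => by simp [tval_shiftDown, smul_add]
      simp only [this, tmulSec, TensorProduct.add_tmul, map_add])
    (fun f V h r x => by
      have : shiftDown f.2 n (hV f V h) (r • x) = r • shiftDown f.2 n (hV f V h) x :=
        Tilde.tval_ext fun z hz => by
          rw [tval_shiftDown, Tilde.tval_smul, Tilde.tval_smul, tval_shiftDown, smul_comm]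
      simp only [this, tmulSec_smul_left])
    (fun f V W h h' x => by rw [res_tmulSec]; rfl)
    (fun f g V hf hg x => by
      obtain ⟨a, ha⟩ := exists_coeff_pwSec f.2 g.2 n (U := V) (hV f V hf) (hV g V hg)
      have : a • shiftDown f.2 n (hV f V hf) x = shiftDown g.2 n (hV g V hg) x :=
        Tilde.tval_ext fun z hz => by
          rw [Tilde.tval_smul, tval_shiftDown, tval_shiftDown, coeff_val _ _ _ _ _ _ ha, smul_smul,
            ← Units.val_mul]
          congr 2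
          rw [mul_comm (funit z (hV f V hf z hz) ^ n), mul_assoc, ← zpow_add, add_neg_cancel,
            zpow_zero, mul_one]
      rw [ha, tmulSec_smul_right, ← tmulSec_smul_left, this])
  have : IsIso φ := isIso_of_cover hcov φ fun f V h => by
    have e : (φ.app V : Γ(GrTilde.tilde 𝒜 ℳ n, V) → _) =
        (fun y : Γ(GrTilde.tilde 𝒜 ℳ 0, V) => tmulSec y
          (res _ h (pwSec (N := n) f.2 n (by simp) fun x hx => hx))) ∘
          fun x => shiftDown f.2 n (hV f V h) x := funext fun x => hφ f V h x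
    rw [e]
    exact (tmulSec_bijective h (gen_pwSec _ _ _ _)).comp
      (Tilde.mulFrac_bijective _ _ _ _ fun x hx => notMem_pow x (hV f V h x hx) _)
  exact ⟨@asIso _ _ _ _ φ this⟩

end Groth.Ega2Proj
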