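/-
The graded symmetric algebra is generated in degree one; its degree-one part.
-/
import Groth.Agent.SymAlg.Degree

set_option autoImplicit false
universe u
open CategoryTheory CategoryTheory.Limits AlgebraicGeometry Opposite TopologicalSpace Polynomial

set_option backward.isDefEq.respectTransparency.types false

noncomputable section

namespace Groth.Ega2Proj

open Groth.SymAlg
open Groth.QCohMod (BSec bstr toB)

variable {S : Scheme.{u}} {E : S.Modules} [E.IsQuasicoherent] {𝒮 : RelProj.QCGrAlg S} {j : E ⟶ 𝒮.toModule}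
  (h : RelProj.IsGrSymAlg E 𝒮 j)

include h in
theorem isGenDegOne_sym : 𝒮.IsGenDegOne := by
  intro U hU
  refine eq_top_iff.2 fun x _ => ?_
  obtain ⟨q, rfl⟩ := (bijective_liftSec h.1 hU).2 x
  induction q using SymmetricAlgebra.induction with
  | algebraMap r => rw [liftSec_algebraMap]; exact Subring.subset_closure (Or.inl (𝒮.str_mem U hU r))
  | ι e => rw [liftSec_ι]; exact Subring.subset_closure (Or.inr (h.2 U hU e))
  | mul a b ha hb => rw [map_mul]; exact mul_mem (ha trivial) (hb trivial)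
  | add a b ha hb => rw [map_add]; exact add_mem (ha trivial) (hb trivial)

include h in
/-- Degree one of the symmetric algebra consists of the images of the sections of the module. -/
theorem exists_eq_of_deg_one {U : S.Opens} (hU : IsAffineOpen U) {x : 𝒮.presheaf.obj (op U)}
    (hx : x ∈ 𝒮.deg U hU 1) : ∃ e : Γ(E, U), toB 𝒮.toQCAlg (j.app U e) = x := by
  obtain ⟨q, hq, rfl⟩ := exists_eq_liftSec h hU hx
  have key : ∀ q : SymmetricAlgebra Γ(S, U) Γ(E, U),
      (∃ r : Γ(S, U), liftSec 𝒮.toQCAlg j U ((symCo Γ(S, U) Γ(E, U) q).coeff 0) = bstr 𝒮.toQCAlg U r) ∧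
      ∃ e : Γ(E, U), liftSec 𝒮.toQCAlg j U ((symCo Γ(S, U) Γ(E, U) q).coeff 1) = toB 𝒮.toQCAlg (j.app U e) := by
    intro q
    induction q using SymmetricAlgebra.induction with
    | algebraMap r =>
      refine ⟨⟨r, by rw [symCo_algebraMap, coeff_C, if_pos rfl, liftSec_algebraMap]⟩, ⟨0, ?_⟩⟩
      rw [symCo_algebraMap, coeff_C, if_neg one_ne_zero, map_zero, map_zero]
      rfl
    | ι e =>
      refine ⟨⟨0, ?_⟩, ⟨e, by rw [symCo_ι, coeff_monomial, if_pos rfl, liftSec_ι]⟩⟩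
      rw [symCo_ι, coeff_monomial, if_neg one_ne_zero, map_zero, map_zero]
    | mul a b ha hb =>
      obtain ⟨⟨ra, hra⟩, ⟨ea, hea⟩⟩ := ha
      obtain ⟨⟨rb, hrb⟩, ⟨eb, heb⟩⟩ := hb
      refine ⟨⟨ra * rb, by rw [map_mul, mul_coeff_zero, map_mul, hra, hrb, map_mul]⟩, ⟨ra • eb + rb • ea, ?_⟩⟩
      rw [map_mul, mul_coeff_one, map_add, map_mul, map_mul, hra, hrb, hea, heb, map_add,
        Scheme.Modules.Hom.app_smul, Scheme.Modules.Hom.app_smul]
      change _ = bstr 𝒮.toQCAlg U ra * toB 𝒮.toQCAlg (j.app U eb) + bstr 𝒮.toQCAlg U rb * toB 𝒮.toQCAlg (j.app U ea)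
      rw [mul_comm (toB 𝒮.toQCAlg (j.app U ea))]
    | add a b ha hb =>
      obtain ⟨⟨ra, hra⟩, ⟨ea, hea⟩⟩ := ha
      obtain ⟨⟨rb, hrb⟩, ⟨eb, heb⟩⟩ := hb
      exact ⟨⟨ra + rb, by rw [map_add, coeff_add, map_add, hra, hrb, map_add]⟩,
        ⟨ea + eb, by rw [map_add, coeff_add, map_add, hea, heb, map_add]; rfl⟩⟩
  obtain ⟨-, e, he⟩ := key q
  refine ⟨e, ?_⟩
  rw [← he, (mem_wt _).1 hq, coeff_monomial, if_pos rfl]

include h in
theorem isFTDeg_one_sym (hE : ∀ (U : S.Opens), IsAffineOpen U → Module.Finite Γ(S, U) Γ(E, U)) :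
    𝒮.IsFTDeg 1 := by
  classical
  intro U hU
  obtain ⟨G, hG⟩ := (hE U hU).fg_top
  letI : Algebra Γ(S, U) (𝒮.presheaf.obj (op U)) := (bstr 𝒮.toQCAlg U).toAlgebra
  let T : Finset (𝒮.presheaf.obj (op U)) := G.image fun e => toB 𝒮.toQCAlg (j.app U e)
  refine ⟨T, ?_, fun x hx => ?_⟩
  · intro y hy
    obtain ⟨e, -, rfl⟩ := Finset.mem_image.mp hy
    exact h.2 U hU e
  obtain ⟨e, rfl⟩ := exists_eq_of_deg_one h hU hx
  have he : e ∈ Submodule.span Γ(S, U) (G : Set Γ(E, U)) := hG ▸ Submodule.mem_top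
  have key : toB 𝒮.toQCAlg (j.app U e) ∈ Submodule.span Γ(S, U) (T : Set (𝒮.presheaf.obj (op U))) := by
    clear hx
    induction he using Submodule.span_induction with
    | mem g hg => exact Submodule.subset_span (Finset.mem_image.mpr ⟨g, hg, rfl⟩)
    | zero => rw [map_zero]; exact zero_mem _
    | add a b _ _ ha hb => rw [map_add]; exact add_mem ha hb
    | smul r a _ ha =>
      rw [Scheme.Modules.Hom.app_smul]
      exact Submodule.smul_mem _ r ha
  obtain ⟨c, -, hc⟩ := Submodule.mem_span_finset.mp key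
  exact ⟨c, hc.symm.trans (Finset.sum_congr rfl fun t _ => Algebra.smul_def (c t) t)⟩

end Groth.Ega2Proj
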