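import Groth.Agent.QCohMod.Sections
import Groth.Agent.PicAux.Sections

/-!
# A morphism of quasi-coherent modules bijective on an affine cover is an isomorphism
-/

universe u

open CategoryTheory AlgebraicGeometry Opposite TopologicalSpace
open Groth.PicAux

namespace Groth.Ega2Proj

variable {X : Scheme.{u}} {M N : X.Modules} (φ : M ⟶ N)

theorem app_bijective_of_le [M.IsQuasicoherent] [N.IsQuasicoherent] {U : X.Opens}
    (hU : IsAffineOpen U) (h : Function.Bijective (φ.app U)) {V : X.Opens} (hVU : V ≤ U) :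
    Function.Bijective (φ.app V) := by
  have hbasic : ∀ f : Γ(X, U), Function.Bijective (φ.app (X.basicOpen f)) := fun f => by
    have hu : IsUnit (resX X (X.basicOpen_le f) f) := RingedSpace.isUnit_res_basicOpen _ f
    constructor
    · refine (injective_iff_map_eq_zero _).mpr fun s hs => ?_
      obtain ⟨n, t, ht⟩ := QCohMod.exists_pow_smul_eq_res M hU f s
      have h1 : res N (X.basicOpen_le f) (φ.app U t) = 0 := by
        refine ((app_res φ _ t).symm.trans (congrArg _ ht)).trans ?_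
        rw [Scheme.Modules.Hom.app_smul, hs, smul_zero]
      obtain ⟨m, hm⟩ := QCohMod.exists_pow_smul_eq_zero N hU f (φ.app U t) h1
      rw [← Scheme.Modules.Hom.app_smul, ← map_zero (φ.app U).hom] at hm
      have h2 := congrArg (res M (X.basicOpen_le f)) (h.1 hm)
      rw [res_smul, res_zero, map_pow] at h2
      have h3 : resX X (X.basicOpen_le f) f ^ n • s = 0 := by
        refine Eq.trans ?_ ((hu.pow m).smul_eq_zero.mp h2)
        exact ht.symm
      exact (hu.pow n).smul_eq_zero.mp h3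
    · intro s
      obtain ⟨n, t, ht⟩ := QCohMod.exists_pow_smul_eq_res N hU f s
      obtain ⟨z, rfl⟩ := h.2 t
      refine ⟨(↑(hu.pow n).unit⁻¹ : Γ(X, X.basicOpen f)) • res M (X.basicOpen_le f) z, ?_⟩
      rw [Scheme.Modules.Hom.app_smul, app_res, show res N _ (φ.app U z) =
        resX X (X.basicOpen_le f) f ^ n • s from ht, ← mul_smul, IsUnit.val_inv_mul, one_smul]
  have hcov : ∀ W : X.Opens, W ≤ U → ∃ (ι : Type u) (f : ι → Γ(X, U)),
      (∀ i, X.basicOpen (f i) ≤ W) ∧ W ≤ ⨆ i, X.basicOpen (f i) := fun W hW => by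
    refine ⟨{f : Γ(X, U) // X.basicOpen f ≤ W}, Subtype.val, fun i => i.2, fun x hx => ?_⟩
    obtain ⟨f, hf, hxf⟩ := hU.exists_basicOpen_le (⟨x, hx⟩ : W) (hW hx)
    exact Opens.mem_iSup.mpr ⟨⟨f, hf⟩, hxf⟩
  have hinj : ∀ W : X.Opens, W ≤ U → Function.Injective (φ.app W) := fun W hW x y hxy => by
    obtain ⟨ι, f, hle, hc⟩ := hcov W hW
    refine res_ext _ hle hc fun i => (hbasic (f i)).1 ?_
    rw [app_res, app_res, hxy]
  refine ⟨hinj V hVU, fun y => ?_⟩
  obtain ⟨ι, f, hle, hc⟩ := hcov V hVU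
  choose x hx using fun i => (hbasic (f i)).2 (res N (hle i) y)
  obtain ⟨z, hz, -⟩ := res_glue _ hle hc x fun i j => hinj _
    ((inf_le_left.trans (hle i)).trans hVU) (by rw [app_res, app_res, hx, hx, res_res, res_res])
  exact ⟨z, res_ext _ hle hc fun i => by rw [← app_res, hz, hx]⟩

theorem isIso_of_affine_cover [M.IsQuasicoherent] [N.IsQuasicoherent] {ι : Type*}
    (U : ι → X.Opens) (hU : ∀ i, IsAffineOpen (U i)) (hcov : iSup U = ⊤)
    (h : ∀ i, Function.Bijective (φ.app (U i))) : IsIso φ :=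
  isIso_of_cover hcov φ fun i _ hV => app_bijective_of_le φ (hU i) (h i) hV

end Groth.Ega2Proj
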