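/-
Quasi-projective morphisms over a quasi-compact quasi-separated base embed in a projective bundle
of a quasi-coherent module of finite type.
-/
import Groth.Agent.Chow.VeryAmplePn
import Groth.Agent.Chow.AmpleComp
import Groth.Agent.Ega2Proj.SymGen
import Groth.Agent.Ega2Proj2.RelProjBasic
import Groth.Agent.RelTwist.Exist
import Groth.Agent.RelTwist.Taut
import Groth.Agent.RelTwist.ProjUnivC
import Groth.Agent.SymAlg.Univ
import Groth.Agent.QCohMod.QCAlgGen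
import Groth.Agent.QCohMod.ExtendFP
import Groth.Agent.S9691
import Groth.Agent.PicAux.QCoh

set_option autoImplicit false

universe u

open CategoryTheory CategoryTheory.Limits AlgebraicGeometry Opposite TopologicalSpace

noncomputable section

namespace Groth.Ega2Proj.QEmb

section ftSub

open Groth.QCohMod

variable {X : Scheme.{u}} [CompactSpace X] [QuasiSeparatedSpace X] {F : X.Modules} [F.IsQuasicoherent]

theorem exists_ftSub_one {U : X.Opens} (hU : IsAffineOpen U) (T : Set Γ(F, U)) (hT : T.Finite) :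
    ∃ (E : X.Modules) (j : E ⟶ F), Mono j ∧ Coh.IsCoh E ∧ ∀ t ∈ T, ∃ e : Γ(E, U), j.app U e = t := by
  obtain ⟨n, V, hV, hcov, hW, hUV⟩ := exists_finite_cover (X := X)
  let P₀ : SubMod F := SubMod.locSpan U T
  have hP₀ : P₀.GoodOn U := fun x hx => ⟨U, le_rfl, hx, SubMod.locSpan_goodAt hU T hT⟩
  obtain ⟨P, hag, hP⟩ := SubMod.exists_extension V hV hcov hW U (hUV U hU.isCompact) P₀ hP₀
  refine ⟨P.toMod, P.ι, inferInstance, SubMod.isQCoh_toMod hP, fun t ht => ?_⟩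
  refine P.exists_ι_app_eq t ?_
  rw [hag U le_rfl]
  intro x hx
  exact ⟨U, le_rfl, le_rfl, hx.1, Submodule.subset_span ⟨t, ht, rfl⟩⟩

theorem exists_ftSub {κ : Type u} [Finite κ] (U : κ → X.Opens) (hU : ∀ i, IsAffineOpen (U i))
    (t : ∀ i, Γ(F, U i)) :
    ∃ (G : X.Modules) (k : G ⟶ F), G.IsQuasicoherent ∧
      (∀ V : X.Opens, IsAffineOpen V → Module.Finite Γ(X, V) Γ(G, V)) ∧
      ∀ i, ∃ e : Γ(G, U i), k.app (U i) e = t i := by
  classical
  have := Fintype.ofFinite κ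
  choose E j hj hE e he using fun i => exists_ftSub_one (hU i) {t i} (Set.finite_singleton _)
  obtain ⟨E₀, j₀, hj₀, h₀, -⟩ := exists_ftSub_one (F := F) (isAffineOpen_bot X) ∅ Set.finite_empty
  obtain ⟨G, k, -, hG, ha⟩ := exists_finiteType_containing_family Finset.univ E j hE E₀ j₀ h₀
  refine ⟨G, k, hG.1, ((isCoh_iff G).1 hG).2, fun i => ?_⟩
  obtain ⟨a, hak⟩ := ha i (Finset.mem_univ i)
  exact ⟨a.app (U i) (e i (t i) rfl), (congr(($hak).app (U i) _)).trans (he i (t i) rfl)⟩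

end ftSub

open Groth.PicAux Groth.RelTw Groth.Chow Groth.PropsBasic.Ample

theorem isClosedImmersion_restrict {X P : Scheme.{u}} (r : X ⟶ P) {V : P.Opens} (hV : IsAffineOpen V)
    {W : X.Opens} (hW : IsAffineOpen W) (e : r ⁻¹ᵁ V = W)
    (hs : Function.Surjective (r.appLE V W e.ge)) : IsClosedImmersion (r ∣_ V) := by
  subst e
  have : IsAffine (V : Scheme.{u}) := hV
  have : IsAffine ((r ⁻¹ᵁ V : X.Opens) : Scheme.{u}) := hW
  rw [← Scheme.Hom.resLE_eq_morphismRestrict]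
  refine IsClosedImmersion.of_surjective_of_isAffine _ fun z => ?_
  obtain ⟨w, hw⟩ := hs ((r ⁻¹ᵁ V).topIso.hom z)
  refine ⟨V.topIso.inv w, ?_⟩
  rw [Scheme.Hom.appTop, Scheme.Hom.resLE_app_top]
  simp only [CommRingCat.comp_apply]
  rw [Iso.inv_hom_id_apply, hw]
  exact Iso.hom_inv_id_apply _ z

/-- A quasi-projective morphism over a quasi-compact quasi-separated base is an immersion into the
relative `Proj` of a graded algebra generated by a degree-one part of finite type. -/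
theorem exists_immersion_proj {X Y : Scheme.{u}} [CompactSpace Y] [QuasiSeparatedSpace Y] (f : X ⟶ Y)
    [LocallyOfFiniteType f] [QuasiCompact f] {L : X.Modules} (hL : RelAmple.IsRelAmple f L) :
    ∃ (𝒮 : RelProj.QCGrAlg Y) (P : Scheme.{u}) (p : P ⟶ Y)
      (chart : ∀ (U : Y.Opens) (hU : IsAffineOpen U), ((p ⁻¹ᵁ U : P.Opens) : Scheme.{u}) ≅ Proj (𝒮.deg U hU))
      (r : X ⟶ P), 𝒮.IsGenDegOne ∧ 𝒮.IsFTDeg 1 ∧ RelProj.IsRelProj 𝒮 p chart ∧ IsImmersion r ∧ r ≫ p = f := by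
  classical
  have hLi := Groth.Ega2Proj.isInvertible_of_isRelAmple hL
  have : IsSeparated f := Groth.Agent.S9691.result f L hL
  have : CompactSpace X := QuasiCompact.compactSpace_of_compactSpace f
  choose B hB hxB _ using fun x : X =>
    exists_isAffineOpen_mem_and_subset (x := f x) (U := (⊤ : Y.Opens)) trivial
  choose W' hW'aff hxW' _ hW'sec using fun x : X =>
    exists_uniform_sections_le (hL.2 ⟨B x, hB x⟩) ⟨x, hxB x⟩ ⊤ trivial
  let W : X → X.Opens := fun x => (f ⁻¹ᵁ B x).ι ''ᵁ W' x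
  have hWaff : ∀ x, IsAffineOpen (W x) := fun x => (hW'aff x).image_of_isOpenImmersion _
  have hWB : ∀ x, W x ≤ f ⁻¹ᵁ B x := fun x => Scheme.Opens.ι_image_le _ _
  have hxW : ∀ x, x ∈ W x := fun x => ⟨⟨x, hxB x⟩, hxW' x, rfl⟩
  obtain ⟨t, ht⟩ := isCompact_univ.elim_finite_subcover (fun x => (W x : Set X))
    (fun x => (W x).isOpen) (fun x _ => Set.mem_iUnion.2 ⟨x, hxW x⟩)
  have hft : ∀ x : X, ∃ G : Finset Γ(((f ⁻¹ᵁ B x : X.Opens) : Scheme.{u}), W' x),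
      Subring.closure (Set.range (f.appLE (B x) (W x) (hWB x)) ∪
        ((fun g => (g : Γ(X, W x))) '' (G : Set Γ(((f ⁻¹ᵁ B x : X.Opens) : Scheme.{u}), W' x)))) = ⊤ := by
    intro x
    have hft := f.finiteType_appLE (hB x) (hWaff x) (hWB x)
    letI : Algebra Γ(Y, B x) Γ(X, W x) := (f.appLE (B x) (W x) (hWB x)).hom.toAlgebra
    haveI : Algebra.FiniteType Γ(Y, B x) Γ(X, W x) := hft
    obtain ⟨G, hG⟩ := Algebra.FiniteType.out (R := Γ(Y, B x)) (A := Γ(X, W x))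
    refine ⟨G, ?_⟩
    have h2 := congrArg Subalgebra.toSubring hG
    rw [Algebra.adjoin_eq_ring_closure, Algebra.top_toSubring] at h2
    refine Eq.trans ?_ h2
    congr 2
    exact Set.image_id _
  choose G hG using hft
  choose n₀ hn₀ using fun x => hW'sec x (G x)
  let n := t.sup n₀
  choose σ' hσ' b' hb' using fun x : t => hn₀ x n (Finset.le_sup x.2)
  let L' := CohB1.tensorPow L n
  have hL' : PicF.IsInvertible L' := isInvertible_tensorPow hLi n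
  let φ : ∀ x : X, L'.restrict (f ⁻¹ᵁ B x).ι ≅ CohB1.tensorPow (L.restrict (f ⁻¹ᵁ B x).ι) n :=
    fun x => (Groth.Ega2Proj.exists_tensorPow_restrict (L := L) (f ⁻¹ᵁ B x).ι n).some
  have htop : ∀ x : X, f ⁻¹ᵁ B x ≤ (f ⁻¹ᵁ B x).ι ''ᵁ ⊤ := fun x => (Scheme.Opens.ι_image_top _).ge
  let tr : ∀ (x : X), Γ(CohB1.tensorPow (L.restrict (f ⁻¹ᵁ B x).ι) n, ⊤) → Γ(L', f ⁻¹ᵁ B x) :=
    fun x s => res L' (htop x) ((φ x).inv.app ⊤ s : Γ(L', (f ⁻¹ᵁ B x).ι ''ᵁ ⊤))
  -- the finite type submodule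
  let F := (Scheme.Modules.pushforward f).obj L'
  have : L'.IsQuasicoherent := Groth.PicAux.isQCoh_of_isInvertible hL'
  have : F.IsQuasicoherent := Groth.QCohMod.isQCoh_pushforward (M := L') f
  let κ := (t : Type u) ⊕ (Σ x : t, (G x : Type u))
  let idx : κ → X := Sum.elim (fun x => (x : X)) fun p => (p.1 : X)
  let sec : ∀ c : κ, Γ(F, B (idx c)) := fun c => match c with
    | .inl x => tr x (σ' x)
    | .inr ⟨x, g⟩ => tr x (b' x g g.2)
  obtain ⟨E, k, hEq, hEfin, hek⟩ := exists_ftSub (fun c => B (idx c)) (fun c => hB _) sec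
  choose e he using hek
  let σ : LinData f E L' :=
    { app := fun U => AddMonoidHom.mk' (fun e => (k.app U e : Γ(L', f ⁻¹ᵁ U))) fun a b => map_add (k.app U).hom a b
      app_smul := fun U a e => k.app_smul a e
      app_res := fun U V h e => Groth.QCohMod.res_app k h e }
  let 𝒮 := Groth.SymAlg.symGr E
  have hj := Groth.SymAlg.isGrSymAlg_symGr (E := E)
  obtain ⟨P, p, chart, hP⟩ := Groth.Ega2P2.exists_isRelProj 𝒮
  have hO1 := Groth.RelTw.isRelTwist_relTwist hP 1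
  obtain ⟨φ₁, hφ₁⟩ := exists_phi hj hP hO1
  -- the loci
  have hgs : ∀ x : t, gloc (L := L'.restrict (f ⁻¹ᵁ B x).ι) ((φ x).inv.app ⊤ (σ' x)) = W' x := fun x =>
    (gloc_map (φ x).inv _).trans (hσ' x)
  have hloc : ∀ x : t, σ.genLoc (B x) (e (.inl x)) = W x := by
    intro x
    have hs : ∀ (O : X.Opens) (hO : O ≤ f ⁻¹ᵁ B x), res L' hO (σ.app (B x) (e (.inl x))) =
        res L' (hO.trans (htop x)) ((φ x).inv.app ⊤ (σ' x) : Γ(L', (f ⁻¹ᵁ B x).ι ''ᵁ ⊤)) := fun O hO => by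
      have h1 : σ.app (B x) (e (.inl x)) = tr x (σ' x) := he (.inl x)
      rw [h1]
      exact Groth.PicAux.res_res (M := L') _ _ _
    refine le_antisymm ?_ (σ.le_genLoc (hWB x) ?_)
    · have h := (congrArg (Gen L' _) (hs _ (σ.genLoc_le _ _))).mp (σ.gen_genLoc (B x) (e (.inl x)))
      exact ((le_image_gloc_restrict _ (σ.genLoc_le _ _) ((σ.genLoc_le _ _).trans (htop x))).2 h).trans
        ((f ⁻¹ᵁ B x).ι.image_mono (hgs x).le)
    · exact (congrArg (Gen L' _) (hs _ (hWB x))).mpr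
        ((le_image_gloc_restrict _ (hWB x) ((hWB x).trans (htop x))).1
          ((f ⁻¹ᵁ B x).ι.image_mono (hgs x).ge))
  have hcov : ∀ z : X, ∃ x : t, z ∈ W x := fun z => by
    obtain ⟨x, hx⟩ := Set.mem_iUnion₂.1 (ht (Set.mem_univ z))
    exact ⟨⟨x, hx.1⟩, hx.2⟩
  obtain ⟨r, hr⟩ := exists_fits σ hj hP hO1 hφ₁ fun z => by
    obtain ⟨x, hx⟩ := hcov z
    exact ⟨B x, hB x, e (.inl x), (hloc x).ge hx⟩
  refine ⟨𝒮, P, p, chart, r, isGenDegOne_sym hj, isFTDeg_one_sym hj hEfin, hP, ?_, hr.comp⟩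
  refine isImmersion_of_pieces r (fun x : t => dPlus p chart (Groth.SymAlg.jSym E) (B x) (hB x) (e (.inl x)))
    (fun z => ?_) fun x => ?_
  · obtain ⟨x, hx⟩ := hcov z
    exact ⟨x, (hr.pre (B x) (hB x) (e (.inl x))).ge ((hloc x).ge hx)⟩
  refine isClosedImmersion_restrict r (isAffineOpen_dPlus hj (B x) (hB x) _)
    (hloc x ▸ hWaff x) (hr.pre _ _ _) ?_
  refine (congrArg (fun m => Function.Surjective (CommRingCat.Hom.hom m))
    (hr.fn (B x) (hB x) (e (.inl x)) (hr.pre _ _ _).ge)).mpr ?_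
  -- surjectivity
  set ex := e (.inl x)
  suffices h : Function.Surjective (σ.fracHom hj (hB x) ex) from
    h.comp (ConcreteCategory.bijective_of_isIso (coord hj chart (B x) (hB x) ex).inv).2
  let R := (σ.fracHom hj (hB x) ex).range
  suffices hR : R = ⊤ from fun z => hR.ge (Subring.mem_top z)
  have hbase : ∀ a, (f.appLE (B x) (σ.genLoc (B x) ex) (σ.genLoc_le _ _)).hom a ∈ R := fun a =>
    ⟨jfrac hj (B x) (hB x) ex 0 (𝒮.str_mem (B x) (hB x) a), (σ.fracHom_jfrac hj (hB x) ex 0 (𝒮.str_mem (B x) (hB x) a)).trans (σ.algHom_str hj (hB x) ex a)⟩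
  have hrat : ∀ e', σ.ratio (B x) ex e' ∈ R := fun e' =>
    ⟨jfrac hj (B x) (hB x) ex 1 (hj.2 (B x) (hB x) e'), (σ.fracHom_jfrac hj (hB x) ex 1 (hj.2 (B x) (hB x) e')).trans (σ.algHom_j hj (hB x) ex e')⟩
  have key : ∀ (Z : X.Opens) (eZ : Z = W x) (hZ : Z ≤ f ⁻¹ᵁ B x) (S : Subring Γ(X, Z)),
      (∀ a, (f.appLE (B x) Z hZ).hom a ∈ S) →
      (∀ g ∈ G x, ∃ e' : Γ(E, B x), ∀ c : Γ(X, Z),
        c • res L' hZ (σ.app (B x) ex) = res L' hZ (σ.app (B x) e') → c ∈ S → resX X eZ.ge c = g) →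
      (∀ e' : Γ(E, B x), ∃ c : Γ(X, Z), c • res L' hZ (σ.app (B x) ex) = res L' hZ (σ.app (B x) e') ∧ c ∈ S) →
      S = ⊤ := by
    rintro Z rfl hZ S h1 h2 h3
    refine top_le_iff.1 ((hG x).ge.trans (Subring.closure_le.2 ?_))
    rintro g (⟨a, rfl⟩ | ⟨g, hg, rfl⟩)
    · exact h1 a
    · obtain ⟨e', he'⟩ := h2 g hg
      obtain ⟨c, hc, hcS⟩ := h3 e'
      have := he' c hc hcS
      rw [resX_self] at this
      exact this ▸ hcS
  refine key _ (hloc x) (σ.genLoc_le _ _) R hbase (fun g hg => ⟨e (.inr ⟨x, ⟨g, hg⟩⟩), fun c hc _ => ?_⟩)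
    fun e' => ⟨_, σ.ratio_smul _ _ e', hrat e'⟩
  -- the ratio of `b'` by `σ'`
  have hWx : W x ≤ (f ⁻¹ᵁ B x).ι ''ᵁ ⊤ := (hWB x).trans (htop x)
  have h1 := ((app_res (φ x).inv (le_top : W' x ≤ ⊤) (b' x g hg)).symm.trans
    (congrArg ((φ x).inv.app (W' x)) (hb' x g hg))).trans
      (((φ x).inv.app_smul g _).trans (congrArg (g • ·) (app_res (φ x).inv (le_top : W' x ≤ ⊤) (σ' x))))
  have h1' : res L' hWx ((φ x).inv.app ⊤ (b' x g hg) : Γ(L', (f ⁻¹ᵁ B x).ι ''ᵁ ⊤)) =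
      (show Γ(X, W x) from g) • res L' hWx ((φ x).inv.app ⊤ (σ' x) : Γ(L', (f ⁻¹ᵁ B x).ι ''ᵁ ⊤)) :=
    h1.trans (restrict_smul _ _ _ _)
  have h2 := congrArg (res L' (hloc x).ge) hc
  rw [res_smul, res_res, res_res] at h2
  have hex : σ.app (B x) ex = tr x (σ' x) := he (.inl x)
  have heg : σ.app (B x) (e (.inr ⟨x, ⟨g, hg⟩⟩)) = tr x (b' x g hg) := he (.inr ⟨x, ⟨g, hg⟩⟩)
  rw [hex, heg] at h2
  have e1 : res L' (hWB x) (tr x (σ' x)) =
      res L' hWx ((φ x).inv.app ⊤ (σ' x) : Γ(L', (f ⁻¹ᵁ B x).ι ''ᵁ ⊤)) := Groth.PicAux.res_res (M := L') _ _ _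
  have e2 : res L' (hWB x) (tr x (b' x g hg)) =
      res L' hWx ((φ x).inv.app ⊤ (b' x g hg) : Γ(L', (f ⁻¹ᵁ B x).ι ''ᵁ ⊤)) := Groth.PicAux.res_res (M := L') _ _ _
  rw [e1, e2, h1'] at h2
  have hgen := (σ.gen_genLoc (B x) ex).res (hloc x).ge
  rw [res_res, hex, e1] at hgen
  exact hgen.smul_inj le_rfl (by rw [res_self]; exact h2)

end Groth.Ega2Proj.QEmb
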