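/-
Normal completion of a normal curve.
-/
import Groth.Agent.Ega2Proj.NormalCurve
import Groth.Agent.Ega2Proj.QProjEmb
import Groth.Agent.Ega2Proj.QuasiAffineAmple
import Groth.Agent.Chow.DenseAffine
import Groth.Agent.Chow.Projective
import Groth.Agent.S9673
import Groth.Agent.S9675
import Groth.Agent.S4442
import Groth.Agent.S4454
import Groth.Agent.Variety2.DimTrdeg
import Groth.Agent.Ega2Proj.Curve
import Mathlib.AlgebraicGeometry.ZariskisMainTheorem

set_option autoImplicit false

universe u

open CategoryTheory CategoryTheory.Limits AlgebraicGeometry TopologicalSpace Opposite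

set_option backward.isDefEq.respectTransparency.types false

noncomputable section

namespace Groth.Ega2Proj.CurveCompl

variable {X Y : Scheme.{u}}

theorem isMax_of_mem_components {η : X} (h : closure ({η} : Set X) ∈ irreducibleComponents X) : IsMax η := by
  intro b hb
  have h1 : closure ({b} : Set X) ⊆ closure {η} :=
    h.2 isIrreducible_singleton.closure (specializes_iff_closure_subset.1 (hb : b ⤳ η))
  exact (specializes_iff_closure_subset.2 h1 : η ⤳ b)

theorem mem_components_of_isMax {η : X} (h : IsMax η) : closure ({η} : Set X) ∈ irreducibleComponents X := by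
  refine ⟨isIrreducible_singleton.closure, fun t ht hxt => ?_⟩
  obtain ⟨z, hz⟩ := QuasiSober.sober ht.closure isClosed_closure
  have hzx : z ⤳ η := hz.specializes (subset_closure (hxt (subset_closure rfl)))
  have hxz : η ⤳ z := h (hzx : η ≤ z)
  exact subset_closure.trans (hz.def.symm.subset.trans (specializes_iff_closure_subset.1 hxz))

/-- A maximal point lies in every dense open. -/
theorem mem_of_isMax [IsNoetherian X] {η : X} (h : IsMax η) {U : X.Opens} (hU : Dense (U : Set X)) :
    η ∈ U := by
  let O : Set X := (⋃ C ∈ (irreducibleComponents X \ {closure ({η} : Set X)}), C)ᶜ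
  have hfin : (irreducibleComponents X \ {closure ({η} : Set X)}).Finite :=
    NoetherianSpace.finite_irreducibleComponents.subset Set.diff_subset
  have hOo : IsOpen O :=
    (hfin.isClosed_biUnion fun C hC => isClosed_of_mem_irreducibleComponents C hC.1).isOpen_compl
  have hηO : η ∈ O := by
    simp only [O, Set.mem_compl_iff, Set.mem_iUnion, not_exists]
    rintro C ⟨hC, hne⟩ hηC
    exact hne (((mem_components_of_isMax h).eq_of_le hC.1
      ((isClosed_of_mem_irreducibleComponents C hC).closure_subset_iff.2 (Set.singleton_subset_iff.2 hηC))).symm)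
  obtain ⟨z, hzO, hzU⟩ := hU.inter_open_nonempty O hOo ⟨η, hηO⟩
  have hzη : irreducibleComponent z = closure ({η} : Set X) := by
    by_contra hne
    exact hzO (Set.mem_biUnion ⟨irreducibleComponent_mem_irreducibleComponents z, hne⟩ mem_irreducibleComponent)
  exact (specializes_iff_mem_closure.2 (hzη ▸ mem_irreducibleComponent) : η ⤳ z).mem_open U.2 hzU

/-- On a curve a point which is not closed is maximal. -/
theorem isMax_of_not_isClosed [JacobsonSpace X]
    (hcurve : ∀ x : X, IsClosed ({x} : Set X) → ringKrullDim (X.presheaf.stalk x) = 1)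
    {x : X} (hx : ¬ IsClosed ({x} : Set X)) : IsMax x := by
  obtain ⟨x0, hx0, hx0c⟩ := nonempty_inter_closedPoints
    (Z := closure {x}) ⟨x, subset_closure rfl⟩ isClosed_closure.isLocallyClosed
  have hsp : x ⤳ x0 := specializes_iff_mem_closure.mpr hx0
  have hne0 : x0 ≠ x := fun h => hx (h ▸ hx0c)
  have lt1 : x0 < x := lt_of_le_not_ge hsp
    fun h => hne0 (Inseparable.eq (Specializes.antisymm (h : x0 ⤳ x) hsp))
  have h3 := hcurve x0 hx0c
  rw [ringKrullDim_stalk_eq_coheight] at h3
  have h4 : Order.coheight x + 1 ≤ 1 := (WithBot.coe_inj.mp h3 : Order.coheight x0 = 1) ▸ Order.coheight_add_one_le lt1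
  refine Order.coheight_eq_zero.1 (nonpos_iff_eq_zero.1 ?_)
  exact (ENat.add_le_add_iff_right ENat.one_ne_top).1 (h4.trans (zero_add (1 : ℕ∞)).ge)

theorem not_isClosed_of_isMax
    (hcurve : ∀ x : X, IsClosed ({x} : Set X) → ringKrullDim (X.presheaf.stalk x) = 1)
    {η : X} (h : IsMax η) : ¬ IsClosed ({η} : Set X) := fun hc => by
  have h1 := hcurve η hc
  rw [ringKrullDim_stalk_eq_coheight, Order.coheight_eq_zero.2 h] at h1
  exact zero_ne_one (WithBot.coe_inj.mp h1)

/-- The structure sheaf is ample relative to an affine morphism. -/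
theorem isRelAmple_structure (f : X ⟶ Y) [IsAffineHom f] :
    RelAmple.IsRelAmple f (Coh.structureModule X) := by
  refine ⟨inferInstance, fun V => ?_⟩
  haveI : IsAffine ((f ⁻¹ᵁ V.1 : X.Opens) : Scheme.{u}) := V.2.preimage f
  exact Groth.Ega2Proj.isAmple_of_isQuasiAffine
    (Groth.Ega2Proj.isInvertible_restrict (f ⁻¹ᵁ V.1).ι (Groth.Ega2Proj.isInvertible_structure X))

/-- An open immersion does not change the transcendence degree of residue fields. -/
theorem trdegAt_openImmersion {k : Type u} [Field k] (j : X ⟶ Y) [IsOpenImmersion j]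
    (fX : X ⟶ Spec (CommRingCat.of k)) [LocallyOfFiniteType fX] (fY : Y ⟶ Spec (CommRingCat.of k))
    [LocallyOfFiniteType fY] (h : j ≫ fY = fX) (x : X) :
    Groth.Variety2.Dim.trdegAt fX x = Groth.Variety2.Dim.trdegAt fY (j x) := by
  rw [Groth.Variety2.Dim.trdegAt_eq_add fX fY j h x]
  letI := (j.residueFieldMap x).hom.toAlgebra
  haveI : Algebra.IsAlgebraic (Y.residueField (j x)) (X.residueField x) := by
    refine ⟨fun z => ?_⟩
    obtain ⟨w, rfl⟩ := (ConcreteCategory.bijective_of_isIso (j.residueFieldMap x)).2 z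
    exact isAlgebraic_algebraMap w
  rw [show Groth.Variety2.Dim.relTrdeg j x = 0 from trdeg_eq_zero (R := Y.residueField (j x)), add_zero]

/-- A morphism over a field maps closed points to closed points. -/
theorem isClosed_image {k : Type u} [Field k] (g : X ⟶ Y) (fX : X ⟶ Spec (CommRingCat.of k))
    (fY : Y ⟶ Spec (CommRingCat.of k)) [LocallyOfFiniteType fX] [LocallyOfFiniteType fY] (h : g ≫ fY = fX)
    {x : X} (hx : IsClosed ({x} : Set X)) : IsClosed ({g x} : Set Y) := by
  have hmin : ∀ {Z : Scheme.{u}} (z : Z), IsClosed ({z} : Set Z) ↔ IsMin z := fun z => by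
    refine ⟨fun hz b hb => ?_, fun hz => isClosed_of_closure_subset fun b hb => ?_⟩
    · exact le_of_eq (Set.mem_singleton_iff.1 (hz.closure_eq ▸ specializes_iff_mem_closure.1 (hb : z ⤳ b))).symm
    · exact Inseparable.eq (Specializes.antisymm (hz (specializes_iff_mem_closure.2 hb : z ⤳ b) : b ⤳ z)
        (specializes_iff_mem_closure.2 hb))
  obtain ⟨n, hn, hn'⟩ := Groth.Variety2.Dim.exists_trdegAt_eq_height fX x
  obtain ⟨m, hm, hm'⟩ := Groth.Variety2.Dim.exists_trdegAt_eq_height fY (g x)
  have h0 : n = 0 := by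
    rw [Order.height_eq_zero.2 ((hmin x).1 hx)] at hn'
    exact_mod_cast hn'.symm
  rw [Groth.Variety2.Dim.trdegAt_eq_add fX fY g h x, hm, h0, Nat.cast_zero] at hn
  refine (hmin _).2 (Order.height_eq_zero.1 ?_)
  rw [hm']
  have : (m : Cardinal.{u}) = 0 := (add_eq_zero.1 hn).1
  exact_mod_cast this

open scoped Algebra in
attribute [local instance] Curv2.resAlgebra in
/-- The transcendence degree of the residue field, in the two notations. -/
theorem trdeg_eq_trdegAt (k : Type u) [Field k] (X : Scheme.{u}) [X.Over (Spec (CommRingCat.of k))] (x : X) :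
    Algebra.trdeg k (X.residueField x) = Groth.Variety2.Dim.trdegAt (X ↘ Spec (CommRingCat.of k)) x := by
  have hres : Curv2.resMap k X x = Groth.Variety2.Dim.resHom (X ↘ Spec (CommRingCat.of k)) x := by
    refine congrArg CommRingCat.Hom.hom (Spec.map_injective (?_ :
      Spec.map (CommRingCat.ofHom (Curv2.resMap k X x)) =
        Spec.map (CommRingCat.ofHom (Groth.Variety2.Dim.resHom (X ↘ Spec (CommRingCat.of k)) x))))
    rw [Groth.Variety2.Dim.resHom_spec, show CommRingCat.ofHom (Curv2.resMap k X x) =
      CommRingCat.ofHom (Curv2.stalkMap k X x) ≫ X.residue x from rfl, Spec.map_comp,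
      Groth.Ega2Proj.SpecMap_stalkMap_over]
    exact (Category.assoc _ _ _).symm
  show @Algebra.trdeg k (X.residueField x) _ _ (Curv2.resMap k X x).toAlgebra = _
  rw [hres]
  rfl

/-- The completion. -/
theorem exists_completion (k : Type u) [Field k] (X : Scheme.{u})
    [X.Over (Spec (CommRingCat.of k))] [LocallyOfFiniteType (X ↘ (Spec (CommRingCat.of k)))]
    [QuasiCompact (X ↘ (Spec (CommRingCat.of k)))] [IsSeparated (X ↘ (Spec (CommRingCat.of k)))] [Nonempty X]
    (hcurve : ∀ x : X, IsClosed ({x} : Set X) → ringKrullDim (X.presheaf.stalk x) = 1) (hnorm : Pi1.IsNormalScheme X) :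
    ∃ (Xc : Scheme.{u}) (sc : Xc ⟶ Spec (CommRingCat.of k)) (j : X ⟶ Xc), IsOpenImmersion j ∧ Dense (Set.range j.base) ∧
      j ≫ sc = X ↘ (Spec (CommRingCat.of k)) ∧ IsProper sc ∧ Pi1.IsNormalScheme Xc ∧
      ∀ x : Xc, IsClosed ({x} : Set Xc) → ringKrullDim (Xc.presheaf.stalk x) = 1 := by
  classical
  let str := X ↘ Spec (CommRingCat.of k)
  haveI : JacobsonSpace X := LocallyOfFiniteType.jacobsonSpace str
  haveI : IsLocallyNoetherian X := LocallyOfFiniteType.isLocallyNoetherian str
  haveI : CompactSpace X := QuasiCompact.compactSpace_of_compactSpace str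
  haveI : IsNoetherian X := {}
  haveI := Groth.Ega2Proj.isReduced_of_isNormalScheme hnorm
  obtain ⟨x0⟩ := ‹Nonempty X›
  obtain ⟨U, hU, -, hUd⟩ := Groth.Chow.exists_dense_affine
    (X := X) NoetherianSpace.finite_irreducibleComponents x0
  haveI : IsAffine (U : Scheme.{u}) := hU
  let u : (U : Scheme.{u}) ⟶ Spec (CommRingCat.of k) := U.ι ≫ str
  obtain ⟨𝒮, P, p, chart, r, hgen, hft, hP, hr, hrp⟩ :=
    QEmb.exists_immersion_proj u (isRelAmple_structure u)
  haveI := hr
  haveI : IsProper p := Groth.Chow.isProper_of_isProjective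
    ⟨𝒮, P, p, chart, Iso.refl P, hgen, hft, hP, Category.id_comp p⟩
  obtain ⟨g, ⟨hg1, hg2⟩, -⟩ := existsUnique_extension hnorm hcurve p str U hUd r hrp
  haveI : JacobsonSpace P := LocallyOfFiniteType.jacobsonSpace p
  haveI : LocallyOfFiniteType (g ≫ p) := hg2.symm ▸ ‹LocallyOfFiniteType str›
  haveI : LocallyOfFiniteType g := locallyOfFiniteType_of_comp g p
  haveI : QuasiCompact (g ≫ p) := hg2.symm ▸ ‹QuasiCompact str›
  haveI : QuasiCompact g := QuasiCompact.of_comp g p
  haveI : IsSeparated (g ≫ p) := hg2.symm ▸ ‹IsSeparated str›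
  haveI : IsSeparated g := IsSeparated.of_comp g p
  have hclosedU : ∀ y : (U : Scheme.{u}), IsClosed ({r y} : Set P) → IsClosed ({U.ι y} : Set X) := by
    intro y hy
    have h1 : y ∈ closedPoints (U : Scheme.{u}) := by
      have := hy.preimage r.continuous
      rwa [show r ⁻¹' ({r y} : Set P) = {y} from
        Set.ext fun z => ⟨fun hz => r.isEmbedding.injective hz, fun hz => congrArg r (Set.mem_singleton_iff.1 hz)⟩] at this
    exact (Set.ext_iff.1 U.ι.isOpenEmbedding.preimage_closedPoints y).2 h1
  have hgU : ∀ y : (U : Scheme.{u}), g (U.ι y) = r y := fun y => by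
    rw [← Scheme.Hom.comp_apply, hg1]
  have hgclosed : ∀ x : X, IsClosed ({x} : Set X) → IsClosed ({g x} : Set P) := fun x hx =>
    isClosed_image g str p hg2 hx
  have hgmax : ∀ η : X, IsMax η → ¬ IsClosed ({g η} : Set P) := by
    intro η hη hc
    have hηU := mem_of_isMax hη hUd
    exact not_isClosed_of_isMax hcurve hη (hclosedU ⟨η, hηU⟩ (hgU ⟨η, hηU⟩ ▸ hc))
  haveI : LocallyQuasiFinite g := by
    refine (locallyQuasiFinite_iff_finite_preimage_singleton).2 fun y => ?_
    by_cases hy : IsClosed ({y} : Set P)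
    · refine finite_of_forall_isClosed_singleton (hy.preimage g.continuous) fun x hx => ?_
      by_contra hxc
      exact hgmax x (isMax_of_not_isClosed hcurve hxc) ((Set.mem_singleton_iff.1 hx).symm ▸ hy)
    · have hmaxfin : {η : X | IsMax η}.Finite := by
        refine Set.Finite.of_finite_image (f := fun η : X => closure ({η} : Set X))
          (NoetherianSpace.finite_irreducibleComponents.subset ?_) fun a _ b _ hab => ?_
        · rintro _ ⟨η, hη, rfl⟩
          exact mem_components_of_isMax hη
        · exact Inseparable.eq (inseparable_iff_closure_eq.2 hab)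
      refine hmaxfin.subset fun x hx => isMax_of_not_isClosed hcurve fun hxc => hy ?_
      exact Set.mem_singleton_iff.1 hx ▸ hgclosed x hxc
  have hnag : ∀ V : P.affineOpens, CAlg.IsNagata Γ(P, V) :=
    fun V => Groth.Agent.S4454.isNagata_section k P p V.1 V.2
  haveI : IsFinite g.fromNormalization := Groth.Agent.S9675.result g hnag
  obtain ⟨V, hV, hVset⟩ := g.exists_isIso_morphismRestrict_toNormalization
  have htop : g.toNormalization ⁻¹ᵁ V = ⊤ := top_le_iff.1 fun x _ => by
    change x ∈ (g.toNormalization ⁻¹ᵁ V).1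
    rw [hVset]
    exact g.quasiFiniteAt x
  haveI := hV
  haveI : IsOpenImmersion g.toNormalization := by
    have e : (g.toNormalization ⁻¹ᵁ V).ι ≫ g.toNormalization = (g.toNormalization ∣_ V) ≫ V.ι :=
      (morphismRestrict_ι _ _).symm
    haveI : Surjective (g.toNormalization ⁻¹ᵁ V).ι := ⟨fun x => ⟨⟨x, htop.ge (Opens.mem_top x)⟩, rfl⟩⟩
    haveI : IsIso (g.toNormalization ⁻¹ᵁ V).ι := IsOpenImmersion.isIso _
    rw [show g.toNormalization = inv (g.toNormalization ⁻¹ᵁ V).ι ≫ (g.toNormalization ∣_ V) ≫ V.ι by
      rw [← e, IsIso.inv_hom_id_assoc]]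
    infer_instance
  obtain ⟨hN, -, -, -⟩ := Groth.Agent.S9673.result g hnorm
    (haveI := (NoetherianSpace.finite_irreducibleComponents (α := X)).to_subtype; locallyFinite_of_finite _)
  let sc : g.normalization ⟶ Spec (CommRingCat.of k) := g.fromNormalization ≫ p
  have hjsc : g.toNormalization ≫ sc = str := by
    rw [g.toNormalization_fromNormalization_assoc, hg2]
  haveI : IsProper sc := inferInstance
  letI : g.normalization.Over (Spec (CommRingCat.of k)) := ⟨sc⟩
  haveI : LocallyOfFiniteType (g.normalization ↘ Spec (CommRingCat.of k)) := inferInstanceAs (LocallyOfFiniteType sc)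
  haveI : QuasiCompact (g.normalization ↘ Spec (CommRingCat.of k)) := inferInstanceAs (QuasiCompact sc)
  have hdense : Dense (Set.range g.toNormalization) := g.toNormalization.denseRange
  refine ⟨g.normalization, sc, g.toNormalization, inferInstance, hdense, hjsc, inferInstance, hN, ?_⟩
  haveI : IsLocallyNoetherian g.normalization := LocallyOfFiniteType.isLocallyNoetherian sc
  haveI : CompactSpace g.normalization := QuasiCompact.compactSpace_of_compactSpace sc
  haveI : IsNoetherian g.normalization := {}
  have htr := (Groth.Agent.S4442.result k X).2 hcurve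
  refine (Groth.Agent.S4442.result k g.normalization).1 fun y hy => ?_
  obtain ⟨x, rfl⟩ : y ∈ g.toNormalization.opensRange :=
    mem_of_isMax (isMax_of_mem_components hy) hdense
  have hxm : IsMax x := fun b hb => by
    have := isMax_of_mem_components hy
      (((hb : b ⤳ x).map g.toNormalization.continuous) : g.toNormalization b ⤳ g.toNormalization x)
    exact (g.toNormalization.isEmbedding.isInducing.specializes_iff.1
      (this : g.toNormalization x ⤳ g.toNormalization b))
  obtain h := htr x (mem_components_of_isMax hxm)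
  rw [trdeg_eq_trdegAt] at h
  rw [trdeg_eq_trdegAt]
  exact (trdegAt_openImmersion g.toNormalization str sc hjsc x).symm.trans h

end Groth.Ega2Proj.CurveCompl
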