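import Groth.Agent.PicAux.Tensor

/-!
# Tensoring with a module that has a basis
-/

universe u

open CategoryTheory AlgebraicGeometry Opposite TopologicalSpace
open Groth.PicAux

namespace Groth.Ega2Proj

variable {X : Scheme.{u}} {L M : X.Modules}

theorem pten_eq_tmul {U W : X.Opens} (h : W ≤ U) {e : Γ(L, U)} (he : Gen L U e)
    (p : PTen M L W) : ∃ y : Γ(M, W), p = y ⊗ₜ res L h e := by
  induction p using TensorProduct.induction_on with
  | zero => exact ⟨0, (TensorProduct.zero_tmul _ _).symm⟩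
  | add p q hp hq =>
    obtain ⟨a, ha⟩ := hp
    obtain ⟨b, hb⟩ := hq
    exact ⟨a + b, by rw [TensorProduct.add_tmul, ← ha, ← hb]⟩
  | tmul s t =>
    obtain ⟨c, hc⟩ := he.exists_coeff h t
    exact ⟨c • s, by rw [hc, TensorProduct.smul_tmul]⟩

theorem pten_tmul_inj {U W : X.Opens} (h : W ≤ U) {e : Γ(L, U)} (he : Gen L U e)
    {y y' : Γ(M, W)} (hy : y ⊗ₜ[Γ(X, W)] res L h e = y' ⊗ₜ[Γ(X, W)] res L h e) : y = y' := by
  choose φ hφ using fun x => he.exists_coeff h x
  let φ' : Γ(L, W) →ₗ[Γ(X, W)] Γ(X, W) :=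
    { toFun := φ
      map_add' := fun x y => he.smul_inj h (by rw [← hφ, add_smul, ← hφ, ← hφ])
      map_smul' := fun r x => he.smul_inj h (by
        rw [← hφ, RingHom.id_apply, smul_eq_mul, mul_smul, ← hφ]) }
  have h1 : φ' (res L h e) = 1 := he.smul_inj h (by
    rw [one_smul]; exact (hφ _).symm)
  have := congrArg (TensorProduct.lift ((LinearMap.lsmul Γ(X, W) Γ(M, W)).comp φ').flip) hy
  simpa [h1] using this

/-- Tensoring with a basis is bijective on sections. -/
theorem tmulSec_bijective {U V : X.Opens} (hV : V ≤ U) {e : Γ(L, U)} (he : Gen L U e) :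
    Function.Bijective fun y : Γ(M, V) => tmulSec y (res L hV e) := by
  have hinj : ∀ (W : X.Opens) (hW : W ≤ U) (y y' : Γ(M, W)),
      tmulSec y (res L hW e) = tmulSec y' (res L hW e) → y = y' := by
    intro W hW y y' h
    choose W' hW' hxW' hres using fun x : (W : Type u) =>
      ptenUnit_locally_injective M L W _ _ h x.1 x.2
    refine res_ext W' hW' (fun x hx => Opens.mem_iSup.2 ⟨⟨x, hx⟩, hxW' ⟨x, hx⟩⟩) fun x => ?_
    refine pten_tmul_inj ((hW' x).trans hW) he ?_
    rw [← res_res (M := L) hW (hW' x)]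
    simpa only [ptenRes_tmul] using hres x
  refine ⟨fun y y' => hinj V hV y y', fun t => ?_⟩
  choose W hW p hxW hp using fun x : (V : Type u) => ptenUnit_locally_surjective M L V t x.1 x.2
  choose y hy using fun x => pten_eq_tmul ((hW x).trans hV) he (p x)
  have key : ∀ x, res _ (hW x) t = tmulSec (y x) (res L ((hW x).trans hV) e) := fun x => by
    rw [← hp, hy]; rfl
  obtain ⟨r, hr, -⟩ := res_glue W hW (fun x hx => Opens.mem_iSup.2 ⟨⟨x, hx⟩, hxW ⟨x, hx⟩⟩) y
    (fun x x' => by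
      refine hinj _ ((inf_le_left.trans (hW x)).trans hV) _ _ ?_
      have h1 := congrArg (res _ (inf_le_left : W x ⊓ W x' ≤ W x)) (key x)
      have h2 := congrArg (res _ (inf_le_right : W x ⊓ W x' ≤ W x')) (key x')
      simp only [res_tmulSec, res_res] at h1 h2 ⊢
      rw [← h1, ← h2])
  refine ⟨r, res_ext W hW (fun x hx => Opens.mem_iSup.2 ⟨⟨x, hx⟩, hxW ⟨x, hx⟩⟩) fun x => ?_⟩
  rw [key x]
  simp only [res_tmulSec, res_res, hr x]

end Groth.Ega2Proj
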