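/-
Extending sections over `X_s` after twisting; global generation of twists (EGA I 9.3.1, II 4.5.5).
-/
import Groth.Agent.Ega2Proj.AmpleBasic
import Groth.Agent.Ega2Proj.TensorGen
import Groth.Agent.PicAux.QCoh
import Groth.Agent.PicAux.TensorLift
import Groth.Agent.QCohMod.QCQS
import Groth.Agent.QCohMod.Tensor
import Groth.Agent.QCohMod.FTCriterion
import Groth.Prelude.Def_Curv2

set_option autoImplicit false
universe u
open CategoryTheory CategoryTheory.Limits AlgebraicGeometry TopologicalSpace Opposite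

set_option backward.isDefEq.respectTransparency.types false

namespace Groth.Ega2Proj

open Groth.PicAux Groth.PropsBasic.Ample

variable {X : Scheme.{u}}

/-- A section of a quasi-coherent `F` over `X_s` extends, after tensoring with a high power of `s`. -/
theorem exists_twist_extend [CompactSpace X] [QuasiSeparatedSpace X] (F : X.Modules)
    [F.IsQuasicoherent] {M : X.Modules} (hM : PicF.IsInvertible M) (s : Γ(M, ⊤))
    (σ : Γ(F, gloc s)) :
    ∃ k₀ : ℕ, ∀ k, k₀ ≤ k → ∃ t : Γ(CohB1.tensorMod F (CohB1.tensorPow M k), ⊤),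
      Groth.PicAux.res _ le_top t =
        tmulSec σ (powSec (Groth.PicAux.res M (le_top : gloc s ≤ ⊤) s) k) := by
  classical
  obtain ⟨U₀, e₀, hU₀, -, he₀, hcov₀⟩ := Groth.PropsBasic.Ample.exists_gen_cover hM
  obtain ⟨fin, hfin⟩ := isCompact_univ.elim_finite_subcover (fun x => (U₀ x : Set X))
    (fun x => (U₀ x).isOpen) (fun x _ => by
      simpa using Opens.mem_iSup.1 (hcov₀.ge (trivial : x ∈ (⊤ : X.Opens))))
  let U : fin → X.Opens := fun i => U₀ i
  have hU : ∀ i, IsAffineOpen (U i) := fun i => hU₀ i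
  let e : ∀ i, Γ(M, U i) := fun i => e₀ i
  have he : ∀ i, Gen M (U i) (e i) := fun i => he₀ i
  have hcov : (⊤ : X.Opens) ≤ iSup U := fun x _ => by
    obtain ⟨i, hi⟩ := Set.mem_iUnion₂.1 (hfin (Set.mem_univ x))
    exact Opens.mem_iSup.2 ⟨⟨i, hi.1⟩, hi.2⟩
  choose c hc using fun i => (he i).exists_coeff le_rfl (Groth.PicAux.res M le_top s)
  replace hc : ∀ i, Groth.PicAux.res M (le_top : U i ≤ ⊤) s = c i • e i := fun i => by simpa using hc i
  have hD : ∀ i, gloc s ⊓ U i = X.basicOpen (c i) := fun i => gloc_inf_eq_basicOpen (he i) (hc i)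
  have hDs : ∀ i, X.basicOpen (c i) ≤ gloc s := fun i => (hD i).ge.trans inf_le_left
  -- on each chart
  have hloc : ∀ i, ∃ (n : ℕ) (a : Γ(F, U i)), Groth.PicAux.res F (X.basicOpen_le (c i)) a =
      resX X (X.basicOpen_le (c i)) (c i) ^ n • Groth.PicAux.res F (hDs i) σ := fun i =>
    Groth.QCohMod.exists_pow_smul_eq_res F (hU i) (c i) (Groth.PicAux.res F (hDs i) σ)
  choose n a ha using hloc
  obtain ⟨N, hN⟩ : ∃ N, ∀ i, n i ≤ N :=
    ⟨Finset.univ.sup n, fun i => Finset.le_sup (Finset.mem_univ i)⟩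
  let a' : ∀ i, Γ(F, U i) := fun i => c i ^ (N - n i) • a i
  have ha' : ∀ i, Groth.PicAux.res F (X.basicOpen_le (c i)) (a' i) =
      resX X (X.basicOpen_le (c i)) (c i) ^ N • Groth.PicAux.res F (hDs i) σ := by
    intro i
    rw [Groth.PicAux.res_smul, map_pow, ha, ← mul_smul, ← pow_add, Nat.sub_add_cancel (hN i)]
  -- comparison on overlaps
  have hu : ∀ i j, ∃ u : Γ(X, U i ⊓ U j),
      Groth.PicAux.res M (inf_le_right : U i ⊓ U j ≤ U j) (e j) =
        u • Groth.PicAux.res M (inf_le_left : U i ⊓ U j ≤ U i) (e i) :=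
    fun i j => (he i).exists_coeff inf_le_left _
  choose u hu using hu
  have hcu : ∀ i j, resX X (inf_le_left : U i ⊓ U j ≤ U i) (c i) =
      resX X (inf_le_right : U i ⊓ U j ≤ U j) (c j) * u i j := by
    intro i j
    refine (he i).smul_inj inf_le_left ?_
    have h1 := congrArg (Groth.PicAux.res M (inf_le_left : U i ⊓ U j ≤ U i)) (hc i)
    have h2 := congrArg (Groth.PicAux.res M (inf_le_right : U i ⊓ U j ≤ U j)) (hc j)
    simp only [Groth.PicAux.res_smul, Groth.PicAux.res_res] at h1 h2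
    rw [mul_smul, ← hu, ← h1, ← h2]
  let d : ∀ i j, Γ(F, U i ⊓ U j) := fun i j =>
    Groth.PicAux.res F (inf_le_left : U i ⊓ U j ≤ U i) (a' i) -
      u i j ^ N • Groth.PicAux.res F (inf_le_right : U i ⊓ U j ≤ U j) (a' j)
  have hm : ∀ i j, ∃ m : ℕ, resX X (inf_le_left : U i ⊓ U j ≤ U i) (c i) ^ m • d i j = 0 := by
    intro i j
    have hle1 : X.basicOpen (resX X (inf_le_left : U i ⊓ U j ≤ U i) (c i)) ≤ X.basicOpen (c i) :=
      (X.basicOpen_res (c i) (homOfLE (inf_le_left : U i ⊓ U j ≤ U i)).op).le.trans inf_le_right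
    have hle2 : X.basicOpen (resX X (inf_le_left : U i ⊓ U j ≤ U i) (c i)) ≤ X.basicOpen (c j) := by
      rw [← hD j]
      exact le_inf (hle1.trans (hDs i)) ((X.basicOpen_le _).trans inf_le_right)
    refine Groth.QCohMod.exists_pow_smul_eq_zero_of_isCompact F
      (QuasiSeparatedSpace.inter_isCompact _ _ (U i).isOpen (hU i).isCompact (U j).isOpen
        (hU j).isCompact) _ _ ?_
    change Groth.PicAux.res F (X.basicOpen_le _) (d i j) = 0
    have h1 := congrArg (Groth.PicAux.res F hle1) (ha' i)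
    have h2 := congrArg (Groth.PicAux.res F hle2) (ha' j)
    simp only [Groth.PicAux.res_smul, map_pow, Groth.PicAux.res_res, resX_resX] at h1 h2
    have h3 := congrArg (resX X (X.basicOpen_le (resX X (inf_le_left : U i ⊓ U j ≤ U i) (c i))))
      (hcu i j)
    simp only [map_mul, resX_resX] at h3
    simp only [d, Groth.PicAux.res, map_sub]
    simp only [← Groth.PicAux.res_def, ← res.eq_def]
    change Groth.PicAux.res F _ _ - Groth.PicAux.res F _ _ = 0
    simp only [Groth.PicAux.res_smul, map_pow, Groth.PicAux.res_res]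
    rw [h1, h2, h3, ← mul_smul, mul_pow, mul_comm, sub_self]
  choose m hm using hm
  obtain ⟨K, hK⟩ : ∃ K, ∀ i j, m i j ≤ K :=
    ⟨Finset.univ.sup fun p : fin × fin => m p.1 p.2, fun i j =>
      Finset.le_sup (f := fun p : fin × fin => m p.1 p.2) (Finset.mem_univ (i, j))⟩
  refine ⟨N + K, fun k hk => ?_⟩
  obtain ⟨L, rfl⟩ : ∃ L, N + L = k := ⟨k - N, by omega⟩
  have hL : ∀ i j, m i j ≤ L := fun i j => (hK i j).trans (by omega)
  -- gluing
  obtain ⟨b, hb, -⟩ := res_glue (M := CohB1.tensorMod F (CohB1.tensorPow M (N + L))) U (fun _ => le_top) hcov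
    (fun i => tmulSec (c i ^ L • a' i) (powSec (e i) (N + L))) (fun i j => by
      simp only [res_tmulSec, res_powSec, Groth.PicAux.res_smul, hu, powSec_smul, tmulSec_smul_right,
        ← tmulSec_smul_left, map_pow]
      congr 1
      have h1 := hm i j
      have h2 : resX X (inf_le_left : U i ⊓ U j ≤ U i) (c i) ^ L • d i j = 0 := by
        rw [← Nat.sub_add_cancel (hL i j), pow_add, mul_smul, h1, smul_zero]
      simp only [d, smul_sub, sub_eq_zero, ← mul_smul] at h2
      rw [h2, ← mul_smul]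
      congr 1
      rw [hcu, mul_pow]
      ring)
  refine ⟨b, res_ext (fun i => X.basicOpen (c i)) hDs (fun x hx => ?_) fun i => ?_⟩
  · obtain ⟨i, hi⟩ := Opens.mem_iSup.1 (hcov (trivial : x ∈ (⊤ : X.Opens)))
    exact Opens.mem_iSup.2 ⟨i, (hD i).le ⟨hx, hi⟩⟩
  · have h1 := congrArg (Groth.PicAux.res _ (X.basicOpen_le (c i))) (hb i)
    have h2 := congrArg (Groth.PicAux.res M (X.basicOpen_le (c i))) (hc i)
    simp only [Groth.PicAux.res_smul, Groth.PicAux.res_res] at h2
    simp only [res_tmulSec, res_powSec, Groth.PicAux.res_res, Groth.PicAux.res_smul, map_pow] at h1 ⊢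
    rw [h1, h2, powSec_smul, tmulSec_smul_right, ← tmulSec_smul_left, ha', ← mul_smul]
    congr 2
    ring

/-- Global sections span every stalk. -/
def SpansStalks (G : X.Modules) : Prop :=
  ∀ x : X, Submodule.span (X.presheaf.stalk x)
    (Set.range fun t : Γ(G, (⊤ : X.Opens)) =>
      Groth.QCohMod.germ G x (Set.mem_univ x : x ∈ (⊤ : X.Opens)) t) = ⊤

theorem SpansStalks.isGloballyGenerated {G : X.Modules} (h : SpansStalks G) :
    Curv2.IsGloballyGenerated G :=
  ⟨_, Groth.QCohMod.freeHom G id, Groth.QCohMod.epi_freeHom G id h⟩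

theorem SpansStalks.of_iso {G G' : X.Modules} (e : G ≅ G') (h : SpansStalks G) : SpansStalks G' := by
  intro x
  rw [eq_top_iff]
  intro t _
  obtain ⟨W, hW, y, rfl⟩ := Groth.QCohMod.exists_germ G' x t
  have key : ∀ s : G.presheaf.stalk x, ∀ (W : X.Opens) (hW : x ∈ W) (z : Γ(G, W)),
      Groth.QCohMod.germ G x hW z = s → Groth.QCohMod.germ G' x hW (e.hom.app W z) ∈
        Submodule.span (X.presheaf.stalk x) (Set.range fun t : Γ(G', (⊤ : X.Opens)) =>
          Groth.QCohMod.germ G' x (Set.mem_univ x : x ∈ (⊤ : X.Opens)) t) := by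
    intro s
    have hs : s ∈ Submodule.span (X.presheaf.stalk x) _ := (h x).ge trivial
    have heq : ∀ (W : X.Opens) (hW : x ∈ W) (z : Γ(G, W)),
        ((TopCat.Presheaf.stalkFunctor Ab x).map e.hom.mapPresheaf) (Groth.QCohMod.germ G x hW z) =
          Groth.QCohMod.germ G' x hW (e.hom.app W z) :=
      fun W hW z => Groth.QCohMod.stalk_map_germ e.hom x hW z
    intro W hW z hz
    rw [← heq, hz]
    clear hz z hW W
    induction hs using Submodule.span_induction with
    | mem s hs =>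
      obtain ⟨t, rfl⟩ := hs
      rw [heq]
      exact Submodule.subset_span ⟨_, rfl⟩
    | zero => erw [map_zero]; exact Submodule.zero_mem _
    | add a b _ _ ha hb => erw [map_add]; exact Submodule.add_mem _ ha hb
    | smul r a _ ha =>
      obtain ⟨V, hV, r, rfl⟩ := TopCat.Presheaf.exists_germ_eq X.presheaf r
      obtain ⟨V', hV', a, rfl⟩ := Groth.QCohMod.exists_germ G x a
      have hW : x ∈ V ⊓ V' := ⟨hV, hV'⟩
      rw [← Groth.QCohMod.germ_res G (inf_le_right : V ⊓ V' ≤ V') x hW a] at ha ⊢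
      rw [← TopCat.Presheaf.germ_res_apply X.presheaf (homOfLE (inf_le_left : V ⊓ V' ≤ V)) x hW r,
        ← Groth.QCohMod.germ_smul, heq, Scheme.Modules.Hom.app_smul, Groth.QCohMod.germ_smul,
        ← heq]
      exact Submodule.smul_mem _ _ ha
  have hy : e.hom.app W (e.inv.app W y) = y := congr(($(e.inv_hom_id)).app W y)
  rw [← hy]
  exact key _ W hW _ rfl

theorem span_stalkMul {F N : X.Modules} {U : X.Opens} {e : Γ(N, U)} (he : Gen N U e) {x : X}
    (hx : x ∈ U) {S : Set (F.presheaf.stalk x)} (hS : Submodule.span (X.presheaf.stalk x) S = ⊤) :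
    Submodule.span (X.presheaf.stalk x)
      ((fun s => Groth.QCohMod.stalkMul x s (Groth.QCohMod.germ N x hx e)) '' S) = ⊤ := by
  rw [eq_top_iff]
  intro g _
  obtain ⟨W, hW, z, rfl⟩ := Groth.QCohMod.exists_germ (CohB1.tensorMod F N) x g
  have hWU : x ∈ W ⊓ U := ⟨hW, hx⟩
  obtain ⟨y, hy⟩ := (tmulSec_bijective (M := F) (inf_le_right : W ⊓ U ≤ U) he).2
    (Groth.PicAux.res _ (inf_le_left : W ⊓ U ≤ W) z)
  have : Groth.QCohMod.germ (CohB1.tensorMod F N) x hW z =
      Groth.QCohMod.stalkMul x (Groth.QCohMod.germ F x hWU y) (Groth.QCohMod.germ N x hx e) := by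
    rw [← Groth.QCohMod.germ_res (CohB1.tensorMod F N) (inf_le_left : W ⊓ U ≤ W) x hWU z,
      ← Groth.QCohMod.germ_res N (inf_le_right : W ⊓ U ≤ U) x hWU e, Groth.QCohMod.stalkMul_germ]
    exact congrArg _ hy.symm
  rw [this]
  have hmem : Groth.QCohMod.germ F x hWU y ∈ Submodule.span (X.presheaf.stalk x) S := hS.ge trivial
  generalize Groth.QCohMod.germ F x hWU y = q at hmem ⊢
  induction hmem using Submodule.span_induction with
  | mem s hs => exact Submodule.subset_span ⟨s, hs, rfl⟩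
  | zero =>
    have h0 := Groth.QCohMod.stalkMul_smul_left x (0 : X.presheaf.stalk x) (0 : F.presheaf.stalk x)
      (Groth.QCohMod.germ N x hx e)
    rw [zero_smul, zero_smul] at h0
    rw [h0]; exact Submodule.zero_mem _
  | add a b _ _ ha hb => rw [Groth.QCohMod.stalkMul_add_left]; exact Submodule.add_mem _ ha hb
  | smul r a _ ha => rw [Groth.QCohMod.stalkMul_smul_left]; exact Submodule.smul_mem _ _ ha

theorem span_germ_of_affine {F : X.Modules} [F.IsQuasicoherent] {U : X.Opens} (hU : IsAffineOpen U)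
    {S : Set Γ(F, U)} (hS : Submodule.span Γ(X, U) S = ⊤) {x : X} (hx : x ∈ U) :
    Submodule.span (X.presheaf.stalk x) (Groth.QCohMod.germ F x hx '' S) = ⊤ := by
  rw [eq_top_iff]
  intro t _
  obtain ⟨a, s, ha, hs⟩ := Groth.QCohMod.exists_smul_germ_eq F hU x hx t
  rw [← Submodule.smul_mem_iff_of_isUnit _ ((Scheme.mem_basicOpen X a x hx).mp ha), hs]
  have hm : s ∈ Submodule.span Γ(X, U) S := hS.ge trivial
  clear hs
  induction hm using Submodule.span_induction with
  | mem s hs => exact Submodule.subset_span ⟨s, hs, rfl⟩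
  | zero => rw [map_zero]; exact Submodule.zero_mem _
  | add y z _ _ h₁ h₂ => rw [map_add]; exact Submodule.add_mem _ h₁ h₂
  | smul r y _ h => rw [Groth.QCohMod.germ_smul]; exact Submodule.smul_mem _ _ h

theorem nonempty_twist_iso (F L : X.Modules) (r P k N : ℕ) (h : N = r + P * k) :
    Nonempty (CohB1.tensorMod (CohB1.tensorMod F (CohB1.tensorPow L r))
      (CohB1.tensorPow (CohB1.tensorPow L P) k) ≅ CohB1.tensorMod F (CohB1.tensorPow L N)) := by
  subst h
  obtain ⟨i₁⟩ := tensorPow_add L r (P * k)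
  obtain ⟨i₂⟩ := tensorPow_mul L P k
  obtain ⟨a, -⟩ := exists_associator F (CohB1.tensorPow L r) (CohB1.tensorPow (CohB1.tensorPow L P) k)
  exact ⟨a ≪≫ PicGrp.tensorModIso (Iso.refl F)
    (PicGrp.tensorModIso (Iso.refl _) i₂.symm ≪≫ i₁.symm)⟩

theorem exists_extend_finset [CompactSpace X] [QuasiSeparatedSpace X] {L : X.Modules}
    (hL : PicF.IsInvertible L) (F : X.Modules) [F.IsQuasicoherent] (r : ℕ) {P : ℕ}
    (p : Γ(CohB1.tensorPow L P, ⊤)) (e : Γ(L, gloc p)) (S : Finset Γ(F, gloc p)) :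
    ∃ k₀ : ℕ, ∀ k, k₀ ≤ k → ∀ y ∈ S,
      ∃ t : Γ(CohB1.tensorMod (CohB1.tensorMod F (CohB1.tensorPow L r))
          (CohB1.tensorPow (CohB1.tensorPow L P) k), ⊤),
        Groth.PicAux.res _ le_top t = tmulSec (tmulSec y (powSec e r))
          (powSec (Groth.PicAux.res _ (le_top : gloc p ≤ ⊤) p) k) := by
  classical
  have : (CohB1.tensorPow L r).IsQuasicoherent := isQCoh_of_isInvertible (isInvertible_tensorPow hL r)
  have : (CohB1.tensorMod F (CohB1.tensorPow L r)).IsQuasicoherent := Groth.QCohMod.isQCoh_tensorMod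
  choose k₀ hk₀ using fun y : S => exists_twist_extend (CohB1.tensorMod F (CohB1.tensorPow L r))
    (isInvertible_tensorPow hL P) p (tmulSec y.1 (powSec e r))
  exact ⟨Finset.univ.sup k₀, fun k hk y hy => hk₀ ⟨y, hy⟩ k
    ((Finset.le_sup (f := k₀) (Finset.mem_univ (⟨y, hy⟩ : S))).trans hk)⟩

theorem span_twist_at {L F : X.Modules} {P r k : ℕ} {p : Γ(CohB1.tensorPow L P, ⊤)} {x : X}
    (hx : x ∈ gloc p) {S : Set Γ(F, gloc p)}
    (hS : Submodule.span (X.presheaf.stalk x) (Groth.QCohMod.germ F x hx '' S) = ⊤)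
    {e : Γ(L, gloc p)} (he : Gen L (gloc p) e)
    (hext : ∀ y ∈ S, ∃ t : Γ(CohB1.tensorMod (CohB1.tensorMod F (CohB1.tensorPow L r))
          (CohB1.tensorPow (CohB1.tensorPow L P) k), ⊤),
        Groth.PicAux.res _ le_top t = tmulSec (tmulSec y (powSec e r))
          (powSec (Groth.PicAux.res _ (le_top : gloc p ≤ ⊤) p) k)) :
    Submodule.span (X.presheaf.stalk x)
      (Set.range fun t : Γ(CohB1.tensorMod (CohB1.tensorMod F (CohB1.tensorPow L r))
          (CohB1.tensorPow (CohB1.tensorPow L P) k), (⊤ : X.Opens)) =>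
        Groth.QCohMod.germ _ x (Set.mem_univ x : x ∈ (⊤ : X.Opens)) t) = ⊤ := by
  rw [eq_top_iff, ← span_stalkMul ((gen_gloc p le_rfl).pow k) hx (span_stalkMul (he.pow r) hx hS),
    Submodule.span_le]
  rintro _ ⟨_, ⟨_, ⟨y, hy, rfl⟩, rfl⟩, rfl⟩
  obtain ⟨t, ht⟩ := hext y hy
  refine Submodule.subset_span ⟨t, ?_⟩
  dsimp only
  rw [Groth.QCohMod.stalkMul_germ, Groth.QCohMod.stalkMul_germ,
    ← Groth.QCohMod.germ_res _ (le_top : gloc p ≤ ⊤) x hx t]
  exact congrArg _ ht

/-- High twists of a quasi-coherent module of finite type by an ample module are generated by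
their global sections. -/
theorem exists_spans_twist {L : X.Modules} (hL : CohB1.IsAmple L) (F : X.Modules)
    [F.IsQuasicoherent] (hF : CohB1.IsFT F) :
    ∃ n₀ : ℕ, ∀ n, n₀ ≤ n → SpansStalks (CohB1.tensorMod F (CohB1.tensorPow L n)) := by
  classical
  have := hL.2.1
  have := isSeparated_of_cover hL.1 hL.2.2
  -- small affine loci
  have hloc : ∀ x : X, ∃ (n : ℕ) (s : Γ(CohB1.tensorPow L (n + 1), ⊤)) (e : Γ(L, gloc s)),
      x ∈ gloc s ∧ IsAffineOpen (gloc s) ∧ Gen L (gloc s) e := by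
    intro x
    obtain ⟨U, e, hU, hxU, he⟩ := exists_affine_gen_mem hL.1 x
    obtain ⟨_, ⟨n, s, rfl⟩, hxs, hsU⟩ := Opens.isBasis_iff_nbhd.1 (isBasis_of_isAmple hL) hxU
    rw [genLocus_eq_gloc] at hxs hsU
    refine ⟨n, gsec s, Groth.PicAux.res L hsU e, hxs, ?_, he.res hsU⟩
    have h := isAffineOpen_gloc_inf (isInvertible_tensorPow hL.1 (n + 1)) (homOfSection (gsec s)) hU
    rwa [inf_eq_left.2 hsU] at h
  choose n s e hxs haff he using hloc
  obtain ⟨fin, hfin⟩ := isCompact_univ.elim_finite_subcover (fun x => (gloc (s x) : Set X))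
    (fun x => (gloc (s x)).isOpen) (fun x _ => Set.mem_iUnion.2 ⟨x, hxs x⟩)
  obtain ⟨P, hP, hdiv⟩ : ∃ P : ℕ, 0 < P ∧
      ∀ z : fin, ∃ t : Γ(CohB1.tensorPow L P, ⊤), gloc t = gloc (s z) := by
    refine ⟨∏ z ∈ fin, (n z + 1), Finset.prod_pos fun z _ => Nat.succ_pos _, fun z => ?_⟩
    obtain ⟨m, hm⟩ : n z + 1 ∣ ∏ z ∈ fin, (n z + 1) := Finset.dvd_prod_of_mem _ z.2
    refine exists_gloc_pow hL.1 (s z) (m := m) ?_ hm.symm
    rcases Nat.eq_zero_or_pos m with h0 | h0
    · have : 0 < ∏ z ∈ fin, (n z + 1) := Finset.prod_pos fun z _ => Nat.succ_pos _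
      rw [h0, Nat.mul_zero] at hm; omega
    · exact h0
  choose p hp using hdiv
  have hfg : ∀ z : fin, ∃ S : Finset Γ(F, gloc (p z)),
      Submodule.span Γ(X, gloc (p z)) (S : Set Γ(F, gloc (p z))) = ⊤ := by
    intro z
    have : Module.Finite Γ(X, gloc (p z)) Γ(F, gloc (p z)) :=
      (Groth.QCohMod.isFT_iff F).1 hF _ (by rw [hp]; exact haff _)
    exact this.fg_top
  choose S hS using hfg
  have hext : ∀ (r : Fin P) (z : fin), ∃ k₀ : ℕ, ∀ k, k₀ ≤ k → ∀ y ∈ S z,
      ∃ t : Γ(CohB1.tensorMod (CohB1.tensorMod F (CohB1.tensorPow L r))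
          (CohB1.tensorPow (CohB1.tensorPow L P) k), ⊤),
        Groth.PicAux.res _ le_top t = tmulSec
          (tmulSec y (powSec (Groth.PicAux.res L (hp z).le (e z)) r))
          (powSec (Groth.PicAux.res _ (le_top : gloc (p z) ≤ ⊤) (p z)) k) := by
    intro r z
    exact exists_extend_finset hL.1 F (r : ℕ) (p z) (Groth.PicAux.res L (hp z).le (e z)) (S z)
  choose k₀ hk₀ using hext
  obtain ⟨K, hK⟩ : ∃ K, ∀ q : Fin P × fin, k₀ q.1 q.2 ≤ K :=
    ⟨Finset.univ.sup fun q : Fin P × fin => k₀ q.1 q.2, fun q =>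
      Finset.le_sup (f := fun q : Fin P × fin => k₀ q.1 q.2) (Finset.mem_univ q)⟩
  refine ⟨P * K, fun N hN => ?_⟩
  obtain ⟨i⟩ := nonempty_twist_iso F L (N % P) P (N / P) N (Nat.mod_add_div N P).symm
  refine SpansStalks.of_iso i fun x => ?_
  obtain ⟨z, hz, hxz⟩ := Set.mem_iUnion₂.1 (hfin (Set.mem_univ x))
  have hx : x ∈ gloc (p ⟨z, hz⟩) := (hp ⟨z, hz⟩).ge hxz
  have h1 := span_germ_of_affine (by rw [hp]; exact haff _) (hS ⟨z, hz⟩) hx
  refine span_twist_at hx h1 ((he z).res (hp ⟨z, hz⟩).le) fun y hy =>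
    hk₀ ⟨N % P, Nat.mod_lt _ hP⟩ ⟨z, hz⟩ (N / P) ?_ y hy
  exact (hK (_, _)).trans ((Nat.le_div_iff_mul_le hP).2 (by rwa [mul_comm]))

theorem isFT_of_isInvertible {M : X.Modules} (hM : PicF.IsInvertible M) : CohB1.IsFT M := by
  have := isQCoh_of_isInvertible hM
  refine Groth.QCohMod.isFT_of_affine_cover M fun x => ?_
  obtain ⟨U, e, hU, hxU, he⟩ := exists_affine_gen_mem hM x
  refine ⟨U, hU, hxU, ⟨⟨{e}, eq_top_iff.2 fun y _ => ?_⟩⟩⟩
  obtain ⟨c, hc⟩ := he.exists_coeff le_rfl y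
  rw [Groth.PicAux.res_self] at hc
  rw [hc]
  exact Submodule.smul_mem _ _ (Submodule.subset_span (by simp))

theorem SpansStalks.exists_mem_gloc {M : X.Modules} (hM : PicF.IsInvertible M) (h : SpansStalks M)
    (x : X) : ∃ t : Γ(M, ⊤), x ∈ gloc t := by
  by_contra hcon
  push Not at hcon
  obtain ⟨U, e, -, hx, he⟩ := exists_affine_gen_mem hM x
  have hle : ∀ v ∈ Submodule.span (X.presheaf.stalk x) (Set.range fun t : Γ(M, (⊤ : X.Opens)) =>
      Groth.QCohMod.germ M x (Set.mem_univ x : x ∈ (⊤ : X.Opens)) t),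
      ∃ r ∈ IsLocalRing.maximalIdeal (X.presheaf.stalk x), v = r • Groth.QCohMod.germ M x hx e := by
    intro v hv
    induction hv using Submodule.span_induction with
    | mem v hv =>
      obtain ⟨t, rfl⟩ := hv
      obtain ⟨c, hc⟩ := he.exists_coeff le_rfl (Groth.PicAux.res M le_top t)
      rw [Groth.PicAux.res_self] at hc
      refine ⟨_, (IsLocalRing.mem_maximalIdeal _).2 fun hu => hcon t ((mem_gloc_iff he hc hx).2 hu), ?_⟩
      dsimp only
      rw [← Groth.QCohMod.germ_smul, ← hc]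
      exact (Groth.QCohMod.germ_res M le_top x hx t).symm
    | zero => exact ⟨0, Ideal.zero_mem _, (zero_smul _ _).symm⟩
    | add a b _ _ ha hb =>
      obtain ⟨r, hr, rfl⟩ := ha
      obtain ⟨r', hr', rfl⟩ := hb
      exact ⟨r + r', Ideal.add_mem _ hr hr', (add_smul _ _ _).symm⟩
    | smul q a _ ha =>
      obtain ⟨r, hr, rfl⟩ := ha
      exact ⟨q * r, Ideal.mul_mem_left _ q hr, (mul_smul _ _ _).symm⟩
  obtain ⟨r, hr, heq⟩ := hle _ (Submodule.eq_top_iff'.1 (h x) (Groth.QCohMod.germ M x hx e))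
  have h0 : Groth.QCohMod.germ M x hx e = 0 := by
    have h1 : (1 - r) • Groth.QCohMod.germ M x hx e = 0 := by
      rw [sub_smul, one_smul, ← heq, sub_self]
    refine ((IsLocalRing.isUnit_or_isUnit_one_sub_self r).resolve_left
      ((IsLocalRing.mem_maximalIdeal _).1 hr)).smul_eq_zero.1 h1
  obtain ⟨W, hW, i, i', hres⟩ := TopCat.Presheaf.germ_eq M.presheaf x hx hx e 0
    (h0.trans (map_zero (Groth.QCohMod.germ M x hx)).symm)
  have h10 : (1 : Γ(X, W)) = 0 := by
    refine he.smul_inj i.le ?_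
    rw [one_smul, zero_smul]
    exact hres.trans (map_zero _)
  have := congrArg (X.presheaf.germ W x hW) h10
  rw [map_one, map_zero] at this
  exact one_ne_zero this

end Groth.Ega2Proj
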