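import Groth.Agent.Ega2Proj.TwistMap
import Groth.Agent.Ega2Proj.IsoAffine
import Groth.Agent.QCohMod.PullbackSections
import Mathlib.RingTheory.IsTensorProduct

/-!
# The twisting sheaves commute with base change
-/

universe u

open CategoryTheory AlgebraicGeometry Opposite TopologicalSpace DirectSum TensorProduct
open Groth.PicAux

namespace Groth.Ega2Proj

section Helpers

variable {R A : Type u} [CommRing R] [CommRing A] [Algebra R A] {𝒜 : ℕ → Submodule R A}
  [GradedAlgebra 𝒜] {d : ℕ} {g : A}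

theorem lfrac_add (x : ProjectiveSpectrum 𝒜) (a b : A) {h : A} (hx : h ∉ x.asHomogeneousIdeal) :
    lfrac 𝒜 x (a + b) hx = lfrac 𝒜 x a hx + lfrac 𝒜 x b hx :=
  (Localization.add_mk_self _ _ _).symm

theorem lfrac_congr (x : ProjectiveSpectrum 𝒜) {a a' h h' : A} (hx : h ∉ x.asHomogeneousIdeal)
    (hx' : h' ∉ x.asHomogeneousIdeal) (e : h' * a = h * a') :
    lfrac 𝒜 x a hx = lfrac 𝒜 x a' hx' :=
  Localization.mk_eq_mk_iff.mpr (Localization.r_iff_exists.mpr ⟨1, by simp [e]⟩)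

/-- The function `a / g ^ l` on `D₊(g)`. -/
noncomputable def funFrac (hg : g ∈ 𝒜 d) (l : ℕ) (a : A) (ha : a ∈ 𝒜 (l * d)) :
    Γ(Proj 𝒜, Proj.basicOpen 𝒜 g) :=
  (exists_fun_eq_wval (fracGen (n := 0) ha (h := g ^ l) (e' := l * d)
    (by simpa using SetLike.pow_mem_graded l hg) (by simp) (Proj.basicOpen 𝒜 g)
    fun x hx h => hx (x.isPrime.mem_of_pow_mem l h))).choose

theorem funFrac_val (hg : g ∈ 𝒜 d) (l : ℕ) (a : A) (ha : a ∈ 𝒜 (l * d))
    (x : ProjectiveSpectrum 𝒜) (hx : x ∈ Proj.basicOpen 𝒜 g) :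
    ((funFrac hg l a ha).1 ⟨x, hx⟩).val =
      lfrac 𝒜 x a (h := g ^ l) (fun h => hx (x.isPrime.mem_of_pow_mem l h)) :=
  (exists_fun_eq_wval (fracGen (n := 0) ha (h := g ^ l) (e' := l * d)
    (by simpa using SetLike.pow_mem_graded l hg) (by simp) (Proj.basicOpen 𝒜 g)
    fun x hx h => hx (x.isPrime.mem_of_pow_mem l h))).choose_spec x hx

/-- The section `a_i / g ^ k` of `O(n)` on `D₊(g)`. -/
noncomputable def compFrac (hg : g ∈ 𝒜 d) {n : ℤ} (k i : ℕ) (hik : (i : ℤ) = k * d + n) :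
    A →+ Γ(Twist.twist 𝒜 n, Proj.basicOpen 𝒜 g) :=
  AddMonoidHom.mk'
    (fun a => fracGen (g := (decompose 𝒜 a i : A)) (h := g ^ k) (e := i) (e' := k * d)
      (SetLike.coe_mem _) (by simpa using SetLike.pow_mem_graded k hg) (by push_cast; exact hik) _
      fun x hx h => hx (x.isPrime.mem_of_pow_mem k h))
    fun a b => wval_ext fun x hx => by
      refine Eq.trans ?_ (lfrac_add x _ _ _)
      rw [wval_fracGen, decompose_add, DirectSum.add_apply, Submodule.coe_add]

@[simp] theorem wval_compFrac (hg : g ∈ 𝒜 d) {n : ℤ} (k i : ℕ) (hik : (i : ℤ) = k * d + n) (a : A)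
    (x : ProjectiveSpectrum 𝒜) (hx : x ∈ Proj.basicOpen 𝒜 g) :
    wval (compFrac hg k i hik a) x hx =
      lfrac 𝒜 x (decompose 𝒜 a i : A) (h := g ^ k) (fun h => hx (x.isPrime.mem_of_pow_mem k h)) :=
  rfl

end Helpers

variable {R R' A B : Type u} [CommRing R] [CommRing A] [Algebra R A] {𝒜 : ℕ → Submodule R A}
  [GradedAlgebra 𝒜] [CommRing R'] [CommRing B] [Algebra R' B] {ℬ : ℕ → Submodule R' B}
  [GradedAlgebra ℬ] (ψ : 𝒜 →+*ᵍ ℬ)
  (hψ : HomogeneousIdeal.irrelevant ℬ ≤ (HomogeneousIdeal.irrelevant 𝒜).map ψ)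

theorem map_appLE_val {U : (Proj 𝒜).Opens} (r : Γ(Proj 𝒜, U)) (y : ProjectiveSpectrum ℬ)
    (hy : y ∈ Proj.map ψ hψ ⁻¹ᵁ U) :
    (((Proj.map ψ hψ).appLE U (Proj.map ψ hψ ⁻¹ᵁ U) le_rfl r).1 ⟨y, hy⟩).val =
      locMap ψ (x := imgPt ψ hψ y) rfl (r.1 ⟨imgPt ψ hψ y, hy⟩).val := by
  rw [← map_app_val ψ hψ r y hy]
  rw [Scheme.Hom.appLE_eq_app]

theorem funFrac_val' {d : ℕ} {g : A} (hg : ψ g ∈ ℬ d) (l : ℕ) (b : B) (hb : b ∈ ℬ (l * d))
    (y : ProjectiveSpectrum ℬ) (hy : y ∈ Proj.map ψ hψ ⁻¹ᵁ Proj.basicOpen 𝒜 g) :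
    ((funFrac hg l b hb).1 ⟨y, hy⟩).val =
      lfrac ℬ y b (h := ψ g ^ l) (fun h => hy (y.isPrime.mem_of_pow_mem l h)) :=
  funFrac_val hg l b hb y hy

theorem wval_compFrac' {d : ℕ} {g : A} (hg : ψ g ∈ ℬ d) {n : ℤ} (k i : ℕ)
    (hik : (i : ℤ) = k * d + n) (b : B) (y : ProjectiveSpectrum ℬ)
    (hy : y ∈ Proj.map ψ hψ ⁻¹ᵁ Proj.basicOpen 𝒜 g) :
    wval (compFrac hg k i hik b : Γ(Twist.twist ℬ n, Proj.map ψ hψ ⁻¹ᵁ Proj.basicOpen 𝒜 g)) y hy =
      lfrac ℬ y (decompose ℬ b i : B) (h := ψ g ^ k) (fun h => hy (y.isPrime.mem_of_pow_mem k h)) :=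
  rfl

theorem map_funFrac {d : ℕ} {g : A} (hg : g ∈ 𝒜 d) (l : ℕ) (a : A) (ha : a ∈ 𝒜 (l * d)) :
    (Proj.map ψ hψ).appLE _ (Proj.map ψ hψ ⁻¹ᵁ Proj.basicOpen 𝒜 g) le_rfl (funFrac hg l a ha) =
      funFrac (ψ.2 hg) l (ψ a) (ψ.2 ha) := fun_ext fun y hy => by
  refine (map_appLE_val ψ hψ _ y hy).trans ?_
  refine (congrArg _ (funFrac_val hg l a ha (imgPt ψ hψ y) hy)).trans ?_
  refine (locMap_lfrac ψ _ a _).trans (Eq.trans ?_ (funFrac_val (ψ.2 hg) l _ _ y hy).symm)
  exact lfrac_congr y _ _ (by simp)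

variable [Algebra R R'] [Algebra A B] [Algebra R B] [IsScalarTower R R' B] [IsScalarTower R A B]
  [Algebra.IsPushout R R' A B] (hψA : ∀ a, ψ a = algebraMap A B a)

include hψA in
theorem equiv_tmul_eq (r : R') (a : A) :
    Algebra.IsPushout.equiv R R' A B (r ⊗ₜ a) = algebraMap R' B r * ψ a := by
  rw [Algebra.IsPushout.equiv_tmul, hψA]

include hψA in
/-- `ν` is bijective on the sections over `D₊(g)`. -/
theorem mu_app_bijective {d : ℕ} (hd : 0 < d) {g : A} (hg : g ∈ 𝒜 d) (n : ℤ) :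
    Function.Bijective ((mu ψ hψ n).app (Proj.map ψ hψ ⁻¹ᵁ Proj.basicOpen 𝒜 g)) := by
  haveI := isQuasicoherent_twist 𝒜 n
  letI := QCohMod.sectionsAlg (Proj.map ψ hψ) (le_refl (Proj.map ψ hψ ⁻¹ᵁ Proj.basicOpen 𝒜 g))
  have hb := QCohMod.pullSecTensor_bijective (Proj.map ψ hψ) (Twist.twist 𝒜 n)
    (le_refl (Proj.map ψ hψ ⁻¹ᵁ Proj.basicOpen 𝒜 g)) (Proj.isAffineOpen_basicOpen 𝒜 g hg hd)
    (Proj.isAffineOpen_basicOpen ℬ (ψ g) (ψ.2 hg) hd)
  let T := Γ(Proj ℬ, Proj.map ψ hψ ⁻¹ᵁ Proj.basicOpen 𝒜 g) ⊗[Γ(Proj 𝒜, Proj.basicOpen 𝒜 g)]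
    Γ(Twist.twist 𝒜 n, Proj.basicOpen 𝒜 g)
  let L : T →+ Γ(Twist.twist ℬ n, Proj.map ψ hψ ⁻¹ᵁ Proj.basicOpen 𝒜 g) :=
    ((mu ψ hψ n).app (Proj.map ψ hψ ⁻¹ᵁ Proj.basicOpen 𝒜 g)).hom.comp
      (QCohMod.pullSecTensor (Proj.map ψ hψ) (Twist.twist 𝒜 n)
        (le_refl (Proj.map ψ hψ ⁻¹ᵁ Proj.basicOpen 𝒜 g))).toAddMonoidHom
  suffices hL : Function.Bijective L from (Function.Bijective.of_comp_iff _ hb).mp hL
  have hLtmul : ∀ c s, L (c ⊗ₜ s) = c • nuFun ψ hψ n _ s := fun c s => by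
    change (mu ψ hψ n).app _ (c • QCohMod.res _ le_rfl (pullSec (Proj.map ψ hψ) _ s)) = _
    rw [Scheme.Modules.Hom.app_smul, QCohMod.res_self, mu_pullSec]
  -- constants
  have hg' : ψ g ∈ ℬ d := ψ.2 hg
  have halgR : ∀ r : R', algebraMap R' B r ∈ ℬ (0 * d) := fun r => by
    simpa using SetLike.algebraMap_mem_graded ℬ r
  have halgA : ∀ r : R, algebraMap R A r ∈ 𝒜 (0 * d) := fun r => by
    simpa using SetLike.algebraMap_mem_graded 𝒜 r
  let c : R' →+ Γ(Proj ℬ, Proj.map ψ hψ ⁻¹ᵁ Proj.basicOpen 𝒜 g) :=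
    AddMonoidHom.mk' (fun r => funFrac hg' 0 (algebraMap R' B r) (halgR r)) fun r r' =>
      fun_ext fun y hy => by
        change ((funFrac hg' 0 (algebraMap R' B (r + r')) _).1 ⟨y, hy⟩).val =
          ((funFrac hg' 0 _ (halgR r)).1 ⟨y, hy⟩ + (funFrac hg' 0 _ (halgR r')).1 ⟨y, hy⟩).val
        erw [HomogeneousLocalization.val_add, funFrac_val' ψ hψ, funFrac_val' ψ hψ, funFrac_val' ψ hψ, ← lfrac_add]
        simp only [map_add]
  have hbal : ∀ (k i : ℕ) (hik : (i : ℤ) = k * d + n) (r₀ : R) (r : R') (a : A),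
      (c (r₀ • r) ⊗ₜ[Γ(Proj 𝒜, Proj.basicOpen 𝒜 g)] compFrac hg k i hik a : T) =
        c r ⊗ₜ compFrac hg k i hik (r₀ • a) := fun k i hik r₀ r a => by
    have h1 : c (r₀ • r) = funFrac hg 0 (algebraMap R A r₀) (halgA r₀) • c r := by
      rw [Algebra.smul_def (funFrac hg 0 (algebraMap R A r₀) (halgA r₀))]
      change _ = (Proj.map ψ hψ).appLE _ _ le_rfl (funFrac hg 0 _ (halgA r₀)) * c r
      rw [map_funFrac ψ hψ hg]
      refine fun_ext fun y hy => ?_
      change ((funFrac hg' 0 _ (halgR (r₀ • r))).1 ⟨y, hy⟩).val = ((funFrac hg' 0 _ _).1 ⟨y, hy⟩ * (funFrac hg' 0 _ (halgR r)).1 ⟨y, hy⟩).val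
      erw [HomogeneousLocalization.val_mul, funFrac_val' ψ hψ, funFrac_val' ψ hψ, funFrac_val' ψ hψ, lfrac_mul_lfrac]
      swap
      · simpa using one_notMem' y
      refine lfrac_congr y _ _ ?_
      simp only [hψA, pow_zero, one_mul, Algebra.smul_def, map_mul,
        ← IsScalarTower.algebraMap_apply]
    rw [h1, TensorProduct.smul_tmul]
    congr 1
    refine wval_ext fun x hx => ?_
    refine (wval_smul _ _ x hx).trans ?_
    rw [funFrac_val, wval_compFrac, wval_compFrac, lfrac_mul_lfrac]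
    swap
    · simpa using fun h => hx (x.isPrime.mem_of_pow_mem k h)
    refine lfrac_congr x _ _ ?_
    rw [decompose_smul, DirectSum.smul_apply, Submodule.coe_smul, Algebra.smul_def]
    simp
  let P : ∀ (k i : ℕ), (i : ℤ) = k * d + n → R' ⊗[R] A →+ T := fun k i hik =>
    TensorProduct.liftAddHom
      (AddMonoidHom.mk' (fun r => AddMonoidHom.mk'
        (fun a => c r ⊗ₜ[Γ(Proj 𝒜, Proj.basicOpen 𝒜 g)] compFrac hg k i hik a)
        fun a b => by rw [map_add, TensorProduct.tmul_add])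
        fun r r' => by ext a; exact (congrArg (· ⊗ₜ _) (map_add c r r')).trans (TensorProduct.add_tmul _ _ _))
      (fun r₀ r a => hbal k i hik r₀ r a)
  have hPt : ∀ k i hik r a, P k i hik (r ⊗ₜ a) = c r ⊗ₜ compFrac hg k i hik a :=
    fun k i hik r a => TensorProduct.liftAddHom_tmul _ _ _ _
  have hEcomp : ∀ (r : R') (a : A) (i : ℕ),
      (decompose ℬ (Algebra.IsPushout.equiv R R' A B (r ⊗ₜ a)) i : B) =
        algebraMap R' B r * ψ (decompose 𝒜 a i : A) := fun r a i => by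
    rw [equiv_tmul_eq ψ hψA, DirectSum.coe_decompose_mul_of_left_mem_zero ℬ
      (SetLike.algebraMap_mem_graded ℬ r), GradedRingHom.map_directSumDecompose]
  let Cb : ∀ (k i : ℕ), (i : ℤ) = k * d + n →
      B →+ Γ(Twist.twist ℬ n, Proj.map ψ hψ ⁻¹ᵁ Proj.basicOpen 𝒜 g) :=
    fun k i hik => compFrac hg' k i hik
  have hLP : ∀ k i hik w, L (P k i hik w) =
      Cb k i hik (Algebra.IsPushout.equiv R R' A B w) := fun k i hik w => by
    induction w using TensorProduct.induction_on with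
    | zero => simp only [map_zero]
    | add x y hx hy => simp only [map_add, hx, hy]
    | tmul r a =>
      rw [hPt, hLtmul]
      refine wval_ext fun y hy => ?_
      refine (wval_smul _ _ y hy).trans ?_
      simp only [Cb]
      erw [wval_nuFun, wval_compFrac, wval_compFrac' ψ hψ, hEcomp, locMap_lfrac]
      change ((funFrac hg' 0 _ (halgR r)).1 ⟨y, hy⟩).val * _ = _
      erw [funFrac_val' ψ hψ, lfrac_mul_lfrac]
      swap
      · simpa using fun h => hy (y.isPrime.mem_of_pow_mem k h)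
      exact lfrac_congr y _ _ (by simp)
  -- shifting
  have hshift : ∀ (k i l : ℕ) (hik : (i : ℤ) = k * d + n)
      (hik' : ((i + l * d : ℕ) : ℤ) = ((k + l : ℕ) : ℤ) * d + n) (w : R' ⊗[R] A),
      P (k + l) (i + l * d) hik' (w * (1 ⊗ₜ (g ^ l))) = P k i hik w := fun k i l hik hik' w => by
    induction w using TensorProduct.induction_on with
    | zero => simp
    | add x y hx hy => rw [add_mul, map_add, map_add, hx, hy]
    | tmul r a =>
      rw [Algebra.TensorProduct.tmul_mul_tmul]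
      rw [mul_one, hPt, hPt]
      congr 1
      refine wval_ext fun x hx => ?_
      rw [wval_compFrac, wval_compFrac]
      refine lfrac_congr x _ _ ?_
      rw [mul_comm a, show i + l * d = l * d + i from add_comm _ _,
        show g ^ l * a = g ^ l • a from rfl,
        Tilde.decompose_smul_of_mem_left 𝒜 𝒜 (by simpa using SetLike.pow_mem_graded l hg) a i,
        smul_eq_mul, pow_add]
      ring
  have hproj : ∀ k i hik w, P k i hik (LinearMap.lTensor R' (GradedAlgebra.proj 𝒜 i) w) = P k i hik w :=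
    fun k i hik w => by
    induction w using TensorProduct.induction_on with
    | zero => simp
    | add x y hx hy => simp [hx, hy]
    | tmul r a =>
      rw [LinearMap.lTensor_tmul, hPt, hPt]
      congr 1
      refine wval_ext fun x hx => ?_
      rw [wval_compFrac, wval_compFrac, GradedAlgebra.proj_apply,
        decompose_of_mem_same 𝒜 (SetLike.coe_mem _)]
  have hEproj : ∀ i w, Algebra.IsPushout.equiv R R' A B (LinearMap.lTensor R' (GradedAlgebra.proj 𝒜 i) w) =
      (decompose ℬ (Algebra.IsPushout.equiv R R' A B w) i : B) := fun i w => by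
    induction w using TensorProduct.induction_on with
    | zero => simp
    | add x y hx hy => simp [hx, hy]
    | tmul r a => rw [LinearMap.lTensor_tmul, hEcomp, equiv_tmul_eq ψ hψA, GradedAlgebra.proj_apply]
  have hge : ∀ k : ℕ, n.natAbs ≤ k → ∃ i : ℕ, (i : ℤ) = k * d + n := fun k hk => by
    refine ⟨((k : ℤ) * d + n).toNat, Int.toNat_of_nonneg ?_⟩
    have h1 : k ≤ k * d := Nat.le_mul_of_pos_right _ hd
    have : (k : ℤ) ≤ (k : ℤ) * d := by exact_mod_cast h1
    omega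
  have hall : ∀ z : T, ∃ k i hik w, P k i hik w = z := fun z => by
    induction z using TensorProduct.induction_on with
    | zero =>
      obtain ⟨i, hi⟩ := hge n.natAbs le_rfl
      exact ⟨_, i, hi, 0, map_zero _⟩
    | add x y hx hy =>
      obtain ⟨k, i, hik, w, rfl⟩ := hx
      obtain ⟨k', i', hik', w', rfl⟩ := hy
      have hi : i + k' * d = i' + k * d := by zify; linarith
      refine ⟨k + k', i + k' * d, by push_cast; rw [hik]; ring, w * (1 ⊗ₜ (g ^ k')) + w' * (1 ⊗ₜ (g ^ k)), ?_⟩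
      rw [map_add, hshift k i k' hik]
      congr 1
      rw [← hshift k' i' k hik' (by push_cast; rw [hik']; ring) w']
      congr 2 <;> omega
    | tmul φ s =>
      obtain ⟨l, a, ha, hφ⟩ := exists_fun_eq_frac ℬ hd hg' φ
      obtain ⟨k, i, b, hi, hb'⟩ := Tilde.exists_frac 𝒜 𝒜 n hd hg s
      obtain ⟨w, hw⟩ := (Algebra.IsPushout.equiv R R' A B).surjective a
      have hs : s = compFrac hg k i hi b := wval_ext fun x hx => by
        rw [wval_compFrac, decompose_of_mem_same 𝒜 b.2]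
        exact hb' ⟨x, hx⟩
      have hik2 : ((l * d + i : ℕ) : ℤ) = ((l + k : ℕ) : ℤ) * d + n := by push_cast; rw [hi]; ring
      have claim : ∀ w : R' ⊗[R] A,
          (funFrac hg' l (decompose ℬ (Algebra.IsPushout.equiv R R' A B w) (l * d) : B)
            (SetLike.coe_mem _) ⊗ₜ[Γ(Proj 𝒜, Proj.basicOpen 𝒜 g)] compFrac hg k i hi b : T) =
            P (l + k) (l * d + i) hik2 (w * (1 ⊗ₜ (b : A))) := fun w => by
        induction w using TensorProduct.induction_on with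
        | zero =>
          rw [zero_mul, map_zero]
          refine (congrArg (· ⊗ₜ _) (fun_ext (r' := 0) fun y hy => ?_)).trans (TensorProduct.zero_tmul _ _)
          erw [funFrac_val' ψ hψ]
          simp only [map_zero, decompose_zero, DirectSum.zero_apply, ZeroMemClass.coe_zero]
          exact (Localization.mk_zero _).trans HomogeneousLocalization.val_zero.symm
        | add x y hx hy =>
          rw [add_mul]
          refine Eq.trans ?_ ((congrArg₂ (· + ·) hx hy).trans (map_add _ _ _).symm)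
          refine (congrArg (· ⊗ₜ _) (fun_ext fun z hz => ?_)).trans (TensorProduct.add_tmul _ _ _)
          change _ = ((funFrac hg' l _ _).1 ⟨z, hz⟩ + (funFrac hg' l _ _).1 ⟨z, hz⟩).val
          erw [HomogeneousLocalization.val_add, funFrac_val' ψ hψ, funFrac_val' ψ hψ, funFrac_val' ψ hψ, ← lfrac_add]
          simp only [map_add, decompose_add, DirectSum.add_apply, Submodule.coe_add]
        | tmul r a₀ =>
          rw [Algebra.TensorProduct.tmul_mul_tmul, mul_one, hPt]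
          have h1 : funFrac hg' l (decompose ℬ (Algebra.IsPushout.equiv R R' A B (r ⊗ₜ a₀)) (l * d) : B)
              (SetLike.coe_mem _) = funFrac hg l (decompose 𝒜 a₀ (l * d) : A) (SetLike.coe_mem _) • c r := by
            rw [Algebra.smul_def (funFrac hg l _ _)]
            change _ = (Proj.map ψ hψ).appLE _ _ le_rfl (funFrac hg l _ _) * c r
            rw [map_funFrac ψ hψ hg]
            refine fun_ext fun y hy => ?_
            change _ = ((funFrac hg' l _ _).1 ⟨y, hy⟩ * (funFrac hg' 0 _ (halgR r)).1 ⟨y, hy⟩).val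
            erw [HomogeneousLocalization.val_mul, funFrac_val' ψ hψ, funFrac_val' ψ hψ, funFrac_val' ψ hψ, lfrac_mul_lfrac]
            swap
            · simpa using fun h => hy (y.isPrime.mem_of_pow_mem l h)
            refine lfrac_congr y _ _ ?_
            rw [hEcomp]
            simp only [pow_zero, mul_one]
            ring
          rw [h1, TensorProduct.smul_tmul]
          congr 1
          refine wval_ext fun x hx => ?_
          refine (wval_smul _ _ x hx).trans ?_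
          rw [funFrac_val, wval_compFrac, wval_compFrac, decompose_of_mem_same 𝒜 b.2, lfrac_mul_lfrac]
          swap
          · exact x.asHomogeneousIdeal.toIdeal.primeCompl.mul_mem
              (fun h => hx (x.isPrime.mem_of_pow_mem l h)) (fun h => hx (x.isPrime.mem_of_pow_mem k h))
          refine lfrac_congr x _ _ ?_
          rw [show a₀ * (b : A) = a₀ • (b : A) from rfl,
            Tilde.decompose_smul_of_mem_right 𝒜 𝒜 b.2 a₀ (l * d), smul_eq_mul, pow_add]
      refine ⟨_, _, _, w * (1 ⊗ₜ (b : A)), (claim w).symm.trans ?_⟩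
      rw [hs]
      congr 1
      refine fun_ext fun y hy => ?_
      erw [funFrac_val' ψ hψ, hw, decompose_of_mem_same ℬ ha]
      exact (hφ y hy).symm
  constructor
  · refine (injective_iff_map_eq_zero L).mpr fun z hz => ?_
    obtain ⟨k, i, hik, w, rfl⟩ := hall z
    rw [hLP] at hz
    obtain ⟨N, hN⟩ := Tilde.exists_pow_smul_eq_zero ℬ ℬ hd hg'
      (SetLike.coe_mem (decompose ℬ (Algebra.IsPushout.equiv R R' A B w) i)) fun y hy => by
        refine (Tilde.mk_eq_zero_iff ℬ (M := B) (s := ⟨ψ g ^ k, fun h => hy (y.isPrime.mem_of_pow_mem k h)⟩)).mp ?_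
        exact congrArg (fun t => wval t y hy) hz
    rw [← hshift k i N hik (by push_cast; rw [hik]; ring), ← hproj]
    refine (congrArg _ ((Algebra.IsPushout.equiv R R' A B).injective ?_)).trans (map_zero _)
    rw [hEproj, map_zero, map_mul, equiv_tmul_eq ψ hψA, map_one, one_mul, map_pow, mul_comm (Algebra.IsPushout.equiv R R' A B w),
      show i + N * d = N * d + i from add_comm _ _,
      show ψ g ^ N * Algebra.IsPushout.equiv R R' A B w = ψ g ^ N • Algebra.IsPushout.equiv R R' A B w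
        from rfl,
      Tilde.decompose_smul_of_mem_left ℬ ℬ (by simpa using SetLike.pow_mem_graded N hg'), hN]
  · intro s
    obtain ⟨k, i, m, hi, hm⟩ := Tilde.exists_frac ℬ ℬ n hd hg' s
    obtain ⟨w, hw⟩ := (Algebra.IsPushout.equiv R R' A B).surjective (m : B)
    refine ⟨P k i hi w, (hLP k i hi w).trans (wval_ext fun y hy => ?_)⟩
    simp only [Cb]
    erw [wval_compFrac' ψ hψ, hw, decompose_of_mem_same ℬ m.2]
    exact (hm ⟨y, hy⟩).symm
where
  one_notMem' (y : ProjectiveSpectrum ℬ) : (1 : B) ∉ y.asHomogeneousIdeal :=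
    fun h => y.isPrime.ne_top ((Ideal.eq_top_iff_one _).mpr h)

include hψA in
/-- `Φ^* O(n) ≅ O(n)` for a base change. -/
theorem nonempty_pullback_twist_iso (n : ℤ) :
    Nonempty ((Scheme.Modules.pullback (Proj.map ψ hψ)).obj (Twist.twist 𝒜 n) ≅ Twist.twist ℬ n) := by
  haveI := isQuasicoherent_twist 𝒜 n
  haveI := isQuasicoherent_twist ℬ n
  haveI := QCohMod.isQCoh_pullback_obj (Proj.map ψ hψ) (Twist.twist 𝒜 n)
  have : IsIso (mu ψ hψ n) := by
    refine isIso_of_affine_cover (mu ψ hψ n)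
      (fun s : Σ i : PNat, 𝒜 i => Proj.map ψ hψ ⁻¹ᵁ Proj.basicOpen 𝒜 (s.2 : A))
      (fun s => Proj.isAffineOpen_basicOpen ℬ (ψ s.2) (ψ.2 s.2.2) s.1.pos) ?_
      fun s => mu_app_bijective ψ hψ hψA s.1.pos s.2.2 n
    refine eq_top_iff.mpr fun y _ => ?_
    obtain ⟨d, g, hd, hg, hgx⟩ := exists_pos_notMem 𝒜 (imgPt ψ hψ y)
    exact Opens.mem_iSup.mpr ⟨⟨⟨d, hd⟩, ⟨g, hg⟩⟩, hgx⟩
  exact ⟨asIso (mu ψ hψ n)⟩

end Groth.Ega2Proj
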