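/-
Relative ampleness and disjoint unions (EGA II 4.6.13 (iv)).
-/
import Groth.Agent.Ega2Proj.QuasiAffineAmple

set_option autoImplicit false
universe u
open CategoryTheory CategoryTheory.Limits AlgebraicGeometry TopologicalSpace Opposite

set_option backward.isDefEq.respectTransparency.types false

namespace Groth.Ega2Proj

open Groth.PicAux Groth.PropsBasic.Ample

variable {W A B Y : Scheme.{u}}

theorem quasiCompact_of_clopen_cover (f : W ⟶ Y) (a : A ⟶ W) (b : B ⟶ W)
    (hab : IsCompl (Set.range a) (Set.range b)) [QuasiCompact (a ≫ f)] [QuasiCompact (b ≫ f)] :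
    QuasiCompact f := by
  refine ⟨fun U hU hUc => ?_⟩
  have : f ⁻¹' U = a '' ((a ≫ f) ⁻¹' U) ∪ b '' ((b ≫ f) ⁻¹' U) := by
    ext w
    constructor
    · intro hw
      rcases (hab.sup_eq_top.ge (Set.mem_univ w) : w ∈ Set.range a ⊔ Set.range b) with ⟨x, rfl⟩ | ⟨x, rfl⟩
      · exact Or.inl ⟨x, hw, rfl⟩
      · exact Or.inr ⟨x, hw, rfl⟩
    · rintro (⟨x, hx, rfl⟩ | ⟨x, hx, rfl⟩) <;> exact hx
  rw [this]
  exact ((QuasiCompact.isCompact_preimage U hU hUc).image a.continuous).union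
    ((QuasiCompact.isCompact_preimage U hU hUc).image b.continuous)

theorem exists_idempotent {Z : Scheme.{u}} (P Q : Z.Opens) (h : IsCompl (P : Set Z) Q) :
    ∃ g : Γ(Z, ⊤), Z.basicOpen g = P := by
  have hbot : P ⊓ Q = ⊥ := Opens.ext h.inf_eq_bot
  have hsub : ∀ {V : Z.Opens}, V = ⊥ → Subsingleton Γ(Z, V) := by
    rintro _ rfl
    exact ⟨fun r r' => resX_ext (fun j : Empty => j.elim) (fun j => j.elim) bot_le (fun j => j.elim)⟩
  let V : Bool → Z.Opens := fun i => bif i then P else Q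
  let c : ∀ i, Γ(Z, V i) := fun i => match i with
    | true => (1 : Γ(Z, P))
    | false => (0 : Γ(Z, Q))
  obtain ⟨g, hg, -⟩ := resX_glue V (fun _ => (le_top : _ ≤ (⊤ : Z.Opens)))
    (fun z _ => by
      rcases (h.sup_eq_top.ge (Set.mem_univ z) : z ∈ (P : Set Z) ⊔ Q) with hz | hz
      · exact Opens.mem_iSup.2 ⟨true, hz⟩
      · exact Opens.mem_iSup.2 ⟨false, hz⟩) c
    (by
      rintro (_ | _) (_ | _)
      · rfl
      · exact (hsub (by rw [inf_comm]; exact hbot)).elim _ _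
      · exact (hsub hbot).elim _ _
      · rfl)
  have hP : resX Z (le_top : P ≤ ⊤) g = 1 := hg true
  have hQ : resX Z (le_top : Q ≤ ⊤) g = 0 := hg false
  refine ⟨g, le_antisymm (fun z hz => ?_) ?_⟩
  · rcases (h.sup_eq_top.ge (Set.mem_univ z) : z ∈ (P : Set Z) ⊔ Q) with hzP | hzQ
    · exact hzP
    · have := (Z.basicOpen_res g (homOfLE (le_top : Q ≤ ⊤)).op).ge ⟨hzQ, hz⟩
      change z ∈ Z.basicOpen (resX Z (le_top : Q ≤ ⊤) g) at this
      rw [hQ, Scheme.basicOpen_zero] at this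
      exact this.elim
  · have := Z.basicOpen_res g (homOfLE (le_top : P ≤ ⊤)).op
    change Z.basicOpen (resX Z (le_top : P ≤ ⊤) g) = _ at this
    rw [hP, Scheme.basicOpen_of_isUnit _ isUnit_one] at this
    exact this.le.trans inf_le_right

theorem isRelAmple_of_clopen_cover (f : W ⟶ Y) (L : W.Modules) (a : A ⟶ W) (b : B ⟶ W)
    [IsOpenImmersion a] [IsOpenImmersion b] (hab : IsCompl (Set.range a) (Set.range b))
    (ha : RelAmple.IsRelAmple (a ≫ f) (L.restrict a)) (hb : RelAmple.IsRelAmple (b ≫ f) (L.restrict b)) :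
    RelAmple.IsRelAmple f L := by
  have := ha.1
  have := hb.1
  have hqc := quasiCompact_of_clopen_cover f a b hab
  refine ⟨hqc, fun V => ?_⟩
  let Z : W.Opens := f ⁻¹ᵁ V.1
  have : CompactSpace (Z : Scheme.{u}) :=
    isCompact_iff_compactSpace.mp (QuasiCompact.isCompact_preimage _ V.1.2 V.2.isCompact)
  let P : Z.toScheme.Opens := Z.ι ⁻¹ᵁ a.opensRange
  let Q : Z.toScheme.Opens := Z.ι ⁻¹ᵁ b.opensRange
  have hPQ : IsCompl (P : Set Z.toScheme) Q := hab.map (CompleteLatticeHom.setPreimage Z.ι)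
  have side : ∀ {C : Scheme.{u}} (c : C ⟶ W) [IsOpenImmersion c],
      CohB1.IsAmple ((L.restrict c).restrict ((c ≫ f) ⁻¹ᵁ V.1).ι) →
      ∀ g : Γ((Z : Scheme.{u}), ⊤), (Z : Scheme.{u}).basicOpen g = Z.ι ⁻¹ᵁ c.opensRange →
        CohB1.IsAmple ((L.restrict Z.ι).restrict ((Z : Scheme.{u}).basicOpen g).ι) := by
    intro C c _ hA g hg
    have : CompactSpace ((Z : Scheme.{u}).basicOpen g : Scheme.{u}) :=
      isCompact_iff_compactSpace.mp (isRetrocompact_basicOpen g).isCompact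
    refine isAmple_of_iso (restrictRestrictIso _ Z.ι L) (isAmple_restrict_of_range_le _
      (((c ≫ f) ⁻¹ᵁ V.1).ι ≫ c) ?_ (isAmple_of_iso (restrictRestrictIso _ c L).symm hA))
    rintro _ ⟨⟨w, hw⟩, rfl⟩
    rw [hg] at hw
    obtain ⟨x, hx⟩ := hw
    exact ⟨⟨x, by
      change f (c x) ∈ V.1
      rw [show c x = Z.ι w from hx]; exact w.2⟩, hx⟩
  refine isAmple_of_basicOpen_cover (X := (Z : Scheme.{u})) (M := L.restrict Z.ι) fun z => ?_
  rcases (hPQ.sup_eq_top.ge (Set.mem_univ z) : z ∈ (P : Set Z.toScheme) ⊔ Q) with hz | hz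
  · obtain ⟨g, hg⟩ := exists_idempotent P Q hPQ
    exact ⟨g, hg.ge hz, side a (ha.2 V) g hg⟩
  · obtain ⟨g, hg⟩ := exists_idempotent Q P hPQ.symm
    exact ⟨g, hg.ge hz, side b (hb.2 V) g hg⟩

theorem quasiCompact_of_isClosed_range {X Y : Scheme.{u}} (j : X ⟶ Y) [IsOpenImmersion j]
    (h : IsClosed (Set.range j)) : QuasiCompact j := by
  have := IsClosedImmersion.of_isPreimmersion j h
  infer_instance

theorem isRelAmple_of_iso {X Y : Scheme.{u}} {f : X ⟶ Y} {L M : X.Modules} (e : L ≅ M)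
    (h : RelAmple.IsRelAmple f L) : RelAmple.IsRelAmple f M :=
  ⟨h.1, fun V => isAmple_of_iso ((Scheme.Modules.restrictFunctor (f ⁻¹ᵁ V.1).ι).mapIso e) (h.2 V)⟩

/-- A module pushed forward from an open disjoint from the range of `a` restricts to zero. -/
theorem isZero_restrict_pushforward (a : A ⟶ W) (b : B ⟶ W) [IsOpenImmersion a]
    (hab : Disjoint (Set.range a) (Set.range b)) (M : B.Modules) :
    IsZero (((Scheme.Modules.pushforward b).obj M).restrict a) := by
  rw [IsZero.iff_id_eq_zero]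
  ext U s
  have : b ⁻¹ᵁ (a ''ᵁ U) = ⊥ := by
    refine eq_bot_iff.2 fun x hx => ?_
    obtain ⟨y, -, hy⟩ := hx
    exact (Set.disjoint_iff.1 hab ⟨⟨y, hy⟩, ⟨x, rfl⟩⟩).elim
  have hs : ∀ {V : B.Opens}, V = ⊥ → Subsingleton Γ(M, V) := by
    rintro _ rfl
    exact ⟨fun r r' => res_ext (fun j : Empty => j.elim) (fun j => j.elim) bot_le (fun j => j.elim)⟩
  exact (hs this).elim _ _

/-- Modules on the two pieces of a clopen decomposition glue. -/
theorem exists_restrict_iso_of_clopen (a : A ⟶ W) (b : B ⟶ W) [IsOpenImmersion a] [IsOpenImmersion b]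
    (hab : Disjoint (Set.range a) (Set.range b)) (L : A.Modules) (L' : B.Modules) :
    ∃ M : W.Modules, Nonempty (M.restrict a ≅ L) ∧ Nonempty (M.restrict b ≅ L') := by
  have : (Scheme.Modules.restrictFunctor a).Additive :=
    Functor.additive_of_iso (Scheme.Modules.restrictFunctorIsoPullback a).symm
  have : (Scheme.Modules.restrictFunctor b).Additive :=
    Functor.additive_of_iso (Scheme.Modules.restrictFunctorIsoPullback b).symm
  have := preservesBinaryBiproducts_of_preservesBiproducts (Scheme.Modules.restrictFunctor a)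
  have := preservesBinaryBiproducts_of_preservesBiproducts (Scheme.Modules.restrictFunctor b)
  refine ⟨(Scheme.Modules.pushforward a).obj L ⊞ (Scheme.Modules.pushforward b).obj L', ⟨?_⟩, ⟨?_⟩⟩
  · exact (Scheme.Modules.restrictFunctor a).mapBiprod _ _ ≪≫
      (isoBiprodZero (isZero_restrict_pushforward a b hab L')).symm ≪≫
      (Scheme.Modules.restrictFunctorAdjCounitIso a).app L
  · exact (Scheme.Modules.restrictFunctor b).mapBiprod _ _ ≪≫ biprod.braiding _ _ ≪≫
      (isoBiprodZero (isZero_restrict_pushforward b a hab.symm L)).symm ≪≫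
      (Scheme.Modules.restrictFunctorAdjCounitIso b).app L'

end Groth.Ega2Proj
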