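import Groth.Agent.Ega2Proj.TwistSheaf
import Groth.Agent.PicAux.PicLaw

/-!
# Integral powers of a homogeneous element as bases of the twisting sheaves
-/

universe u

open CategoryTheory AlgebraicGeometry Opposite TopologicalSpace DirectSum
open Groth.PicAux

namespace Groth.Ega2Proj

variable {R A : Type u} [CommRing R] [CommRing A] [Algebra R A] {𝒜 : ℕ → Submodule R A}
  [GradedAlgebra 𝒜]

/-- `f / 1` as a unit of the local ring at a point where `f` does not vanish. -/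
noncomputable def funit (x : ProjectiveSpectrum 𝒜) {f : A} (hfx : f ∉ x.asHomogeneousIdeal) :
    (Twist.Loc 𝒜 x)ˣ :=
  (IsLocalization.map_units (Twist.Loc 𝒜 x) (⟨f, hfx⟩ : x.asHomogeneousIdeal.toIdeal.primeCompl)).unit

theorem coe_funit (x : ProjectiveSpectrum 𝒜) {f : A} (hfx : f ∉ x.asHomogeneousIdeal) :
    (funit x hfx : Twist.Loc 𝒜 x) = algebraMap A _ f := rfl

theorem funit_zpow_mul (x : ProjectiveSpectrum 𝒜) {f : A} (hfx : f ∉ x.asHomogeneousIdeal)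
    (a b : ℕ) : ((funit x hfx ^ ((a : ℤ) - b) : (Twist.Loc 𝒜 x)ˣ) : Twist.Loc 𝒜 x) *
      algebraMap A _ (f ^ b) = algebraMap A _ (f ^ a) := by
  rw [map_pow, map_pow, ← coe_funit x hfx, ← Units.val_pow_eq_pow_val, ← Units.val_pow_eq_pow_val,
    ← Units.val_mul, ← zpow_natCast, ← zpow_natCast (funit x hfx) a, ← zpow_add, sub_add_cancel]

theorem lfrac_pow_eq (x : ProjectiveSpectrum 𝒜) {f : A} (hfx : f ∉ x.asHomogeneousIdeal)
    (a b : ℕ) (hb : f ^ b ∉ x.asHomogeneousIdeal) :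
    lfrac 𝒜 x (f ^ a) hb = ((funit x hfx ^ ((a : ℤ) - b) : (Twist.Loc 𝒜 x)ˣ) : Twist.Loc 𝒜 x) := by
  rw [lfrac, Localization.mk_eq_mk', IsLocalization.mk'_eq_iff_eq_mul]
  exact (funit_zpow_mul x hfx a b).symm

theorem notMem_pow (x : ProjectiveSpectrum 𝒜) {f : A} (hfx : f ∉ x.asHomogeneousIdeal) (a : ℕ) :
    f ^ a ∉ x.asHomogeneousIdeal := fun h => hfx (x.isPrime.mem_of_pow_mem a h)

theorem pow_mem_deg {d : ℕ} {f : A} (hf : f ∈ 𝒜 d) (a : ℕ) : f ^ a ∈ 𝒜 (a * d) := by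
  simpa using SetLike.pow_mem_graded a hf

theorem pwSec_deg {d : ℕ} {n N : ℤ} (hN : N = n * d) :
    ((n.toNat * d : ℕ) : ℤ) = ((-n).toNat * d : ℕ) + N := by
  push_cast
  rw [hN, ← add_mul]
  congr 1
  omega

/-- The section `f ^ n` of `O(n d)` over an open where `f` does not vanish. -/
noncomputable def pwSec {d : ℕ} {f : A} (hf : f ∈ 𝒜 d) (n : ℤ) {N : ℤ} (hN : N = n * d)
    {U : (Proj 𝒜).Opens} (hU : ∀ x : ProjectiveSpectrum 𝒜, x ∈ U → f ∉ x.asHomogeneousIdeal) :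
    Γ(Twist.twist 𝒜 N, U) :=
  fracGen (pow_mem_deg hf n.toNat) (pow_mem_deg hf (-n).toNat) (pwSec_deg hN) U
    fun x hx => notMem_pow x (hU x hx) _

theorem wval_pwSec {d : ℕ} {f : A} (hf : f ∈ 𝒜 d) (n : ℤ) {N : ℤ} (hN : N = n * d)
    {U : (Proj 𝒜).Opens} (hU : ∀ x : ProjectiveSpectrum 𝒜, x ∈ U → f ∉ x.asHomogeneousIdeal)
    (x : ProjectiveSpectrum 𝒜) (hx : x ∈ U) :
    wval (pwSec hf n hN hU) x hx = ((funit x (hU x hx) ^ n : (Twist.Loc 𝒜 x)ˣ) : Twist.Loc 𝒜 x) := by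
  rw [pwSec, wval_fracGen, lfrac_pow_eq x (hU x hx)]
  congr 2
  omega

theorem gen_pwSec {d : ℕ} {f : A} (hf : f ∈ 𝒜 d) (n : ℤ) {N : ℤ} (hN : N = n * d)
    {U : (Proj 𝒜).Opens} (hU : ∀ x : ProjectiveSpectrum 𝒜, x ∈ U → f ∉ x.asHomogeneousIdeal) :
    Gen (Twist.twist 𝒜 N) U (pwSec hf n hN hU) :=
  gen_fracGen _ _ _ U _ fun x hx => notMem_pow x (hU x hx) _

theorem res_pwSec {d : ℕ} {f : A} (hf : f ∈ 𝒜 d) (n : ℤ) {N : ℤ} (hN : N = n * d)
    {U V : (Proj 𝒜).Opens} (hU : ∀ x : ProjectiveSpectrum 𝒜, x ∈ U → f ∉ x.asHomogeneousIdeal)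
    (h : V ≤ U) : res _ h (pwSec hf n hN hU) = pwSec hf n hN (fun x hx => hU x (h hx)) := rfl

/-- The value of a coefficient between two powers. -/
theorem coeff_val {d d' : ℕ} {f g : A} (hf : f ∈ 𝒜 d) (hg : g ∈ 𝒜 d') {n n' N : ℤ}
    (hN : N = n * d) (hN' : N = n' * d') {U : (Proj 𝒜).Opens}
    (hUf : ∀ x : ProjectiveSpectrum 𝒜, x ∈ U → f ∉ x.asHomogeneousIdeal)
    (hUg : ∀ x : ProjectiveSpectrum 𝒜, x ∈ U → g ∉ x.asHomogeneousIdeal) {r : Γ(Proj 𝒜, U)}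
    (hr : pwSec hf n hN hUf = r • pwSec hg n' hN' hUg) (x : ProjectiveSpectrum 𝒜) (hx : x ∈ U) :
    (r.1 ⟨x, hx⟩).val =
      ((funit x (hUf x hx) ^ n * funit x (hUg x hx) ^ (-n') : (Twist.Loc 𝒜 x)ˣ) : Twist.Loc 𝒜 x) := by
  have h := congrArg (fun s => wval s x hx) hr
  simp only [wval_smul, wval_pwSec] at h
  rw [Units.val_mul, h, mul_assoc, ← Units.val_mul, ← zpow_add, add_neg_cancel, zpow_zero,
    Units.val_one, mul_one]

theorem exists_coeff_pwSec {f g : A} (hf : f ∈ 𝒜 1) (hg : g ∈ 𝒜 1) (n : ℤ) {U : (Proj 𝒜).Opens}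
    (hUf : ∀ x : ProjectiveSpectrum 𝒜, x ∈ U → f ∉ x.asHomogeneousIdeal)
    (hUg : ∀ x : ProjectiveSpectrum 𝒜, x ∈ U → g ∉ x.asHomogeneousIdeal) :
    ∃ r : Γ(Proj 𝒜, U),
      pwSec (N := n) hf n (by simp) hUf = r • pwSec (N := n) hg n (by simp) hUg := by
  obtain ⟨r, hr⟩ := (gen_pwSec (N := n) hg n (by simp) hUg).exists_coeff le_rfl
    (pwSec (N := n) hf n (by simp) hUf)
  exact ⟨r, by rwa [res_self] at hr⟩

/-- The cover by the non-vanishing loci of a family of homogeneous elements. -/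
theorem iSup_basicOpen_eq_top_of_span {S : Set A}
    (hS : (HomogeneousIdeal.irrelevant 𝒜).toIdeal ≤ Ideal.span S) :
    ⨆ f : S, Proj.basicOpen 𝒜 (f : A) = ⊤ :=
  Proj.iSup_basicOpen_eq_top 𝒜 _ (by rwa [Subtype.range_coe])

/-- `O(n)` is invertible when `S₊` is generated in degree one. -/
theorem isInvertible_twist
    (hgen : (HomogeneousIdeal.irrelevant 𝒜).toIdeal ≤ Ideal.span (𝒜 1 : Set A)) (n : ℤ) :
    PicF.IsInvertible (Twist.twist 𝒜 n) :=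
  isInvertible_of_gen_cover _ (iSup_basicOpen_eq_top_of_span hgen)
    (fun f => pwSec (N := n) f.2 n (by simp) fun _ hx => hx) fun f => gen_pwSec _ _ _ _

/-- `O(m) ⊗ O(n) ≅ O(m + n)` when `S₊` is generated in degree one. -/
theorem nonempty_tensor_iso
    (hgen : (HomogeneousIdeal.irrelevant 𝒜).toIdeal ≤ Ideal.span (𝒜 1 : Set A)) (m n : ℤ) :
    Nonempty (CohB1.tensorMod (Twist.twist 𝒜 m) (Twist.twist 𝒜 n) ≅ Twist.twist 𝒜 (m + n)) := by
  obtain ⟨e, -⟩ := exists_iso_of_gen (iSup_basicOpen_eq_top_of_span hgen)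
    (fun f => pwSec (N := m + n) f.2 (m + n) (by simp) fun _ hx => hx)
    (fun f => gen_pwSec _ _ _ _)
    (fun f => tmulSec (pwSec (N := m) f.2 m (by simp) fun _ hx => hx)
      (pwSec (N := n) f.2 n (by simp) fun _ hx => hx))
    (fun f => (gen_pwSec _ _ _ _).tensor (gen_pwSec _ _ _ _)) fun f g r hr => by
      have hWf : ∀ x : ProjectiveSpectrum 𝒜, x ∈ Proj.basicOpen 𝒜 (f : A) ⊓ Proj.basicOpen 𝒜 (g : A) →
          (f : A) ∉ x.asHomogeneousIdeal := fun _ hx => hx.1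
      have hWg : ∀ x : ProjectiveSpectrum 𝒜, x ∈ Proj.basicOpen 𝒜 (f : A) ⊓ Proj.basicOpen 𝒜 (g : A) →
          (g : A) ∉ x.asHomogeneousIdeal := fun _ hx => hx.2
      replace hr : pwSec (N := m + n) f.2 (m + n) (by simp) hWf =
          r • pwSec (N := m + n) g.2 (m + n) (by simp) hWg := hr
      rw [res_tmulSec, res_tmulSec]
      change tmulSec (pwSec (N := m) f.2 m (by simp) hWf) (pwSec (N := n) f.2 n (by simp) hWf) =
        r • tmulSec (pwSec (N := m) g.2 m (by simp) hWg) (pwSec (N := n) g.2 n (by simp) hWg)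
      obtain ⟨a, ha⟩ := exists_coeff_pwSec f.2 g.2 m (U := Proj.basicOpen 𝒜 (f : A) ⊓ Proj.basicOpen 𝒜 (g : A))
        hWf hWg
      obtain ⟨b, hb⟩ := exists_coeff_pwSec f.2 g.2 n (U := Proj.basicOpen 𝒜 (f : A) ⊓ Proj.basicOpen 𝒜 (g : A))
        hWf hWg
      rw [ha, hb, tmulSec_smul_left, tmulSec_smul_right, ← mul_smul]
      congr 1
      refine fun_ext fun x hx => ?_
      change ((a.1 ⟨x, hx⟩) * (b.1 ⟨x, hx⟩)).val = _
      rw [HomogeneousLocalization.val_mul, coeff_val _ _ _ _ _ _ ha, coeff_val _ _ _ _ _ _ hb,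
        coeff_val _ _ _ _ _ _ hr, ← Units.val_mul]
      congr 1
      rw [neg_add, zpow_add, zpow_add]
      simp only [mul_assoc, mul_left_comm]
  exact ⟨e.symm⟩

/-- `O(n) ≅ O(1) ^ ⊗ n` when `S₊` is generated in degree one. -/
theorem nonempty_pow_iso
    (hgen : (HomogeneousIdeal.irrelevant 𝒜).toIdeal ≤ Ideal.span (𝒜 1 : Set A)) (n : ℕ) :
    Nonempty (Twist.twist 𝒜 (n : ℤ) ≅ CohB1.tensorPow (Twist.twist 𝒜 1) n) := by
  obtain ⟨e, -⟩ := exists_iso_of_gen (iSup_basicOpen_eq_top_of_span hgen)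
    (fun f => pwSec (N := (n : ℤ)) f.2 n (by simp) fun _ hx => hx)
    (fun f => gen_pwSec _ _ _ _)
    (fun f => powSec (pwSec (N := 1) f.2 1 (by simp) fun _ hx => hx) n)
    (fun f => (gen_pwSec _ _ _ _).pow n) fun f g r hr => by
      have hWf : ∀ x : ProjectiveSpectrum 𝒜, x ∈ Proj.basicOpen 𝒜 (f : A) ⊓ Proj.basicOpen 𝒜 (g : A) →
          (f : A) ∉ x.asHomogeneousIdeal := fun _ hx => hx.1
      have hWg : ∀ x : ProjectiveSpectrum 𝒜, x ∈ Proj.basicOpen 𝒜 (f : A) ⊓ Proj.basicOpen 𝒜 (g : A) →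
          (g : A) ∉ x.asHomogeneousIdeal := fun _ hx => hx.2
      replace hr : pwSec (N := (n : ℤ)) f.2 n (by simp) hWf =
          r • pwSec (N := (n : ℤ)) g.2 n (by simp) hWg := hr
      rw [res_powSec, res_powSec]
      change powSec (pwSec (N := 1) f.2 1 (by simp) hWf) n =
        r • powSec (pwSec (N := 1) g.2 1 (by simp) hWg) n
      obtain ⟨a, ha⟩ := exists_coeff_pwSec f.2 g.2 1 (U := Proj.basicOpen 𝒜 (f : A) ⊓ Proj.basicOpen 𝒜 (g : A))
        hWf hWg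
      rw [ha, powSec_smul]
      congr 1
      refine fun_ext fun x hx => ?_
      change ((a.1 ⟨x, hx⟩) ^ n).val = _
      rw [HomogeneousLocalization.val_pow, coeff_val _ _ _ _ _ _ ha, coeff_val _ _ _ _ _ _ hr,
        ← Units.val_pow_eq_pow_val]
      congr 1
      rw [mul_pow, zpow_one, zpow_neg_one, zpow_natCast, zpow_neg, zpow_natCast, inv_pow]
  exact ⟨e⟩

/-- A basis over `V` gives a basis of the restriction to a larger open. -/
theorem gen_restrict {X : Scheme.{u}} {M : X.Modules} (U : X.Opens) {V : X.Opens} {s : Γ(M, V)}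
    (hs : Gen M V s) :
    Gen (M.restrict U.ι) (U.ι ⁻¹ᵁ V) (res M (U.ι.image_preimage_le V) s : Γ(M, U.ι ''ᵁ U.ι ⁻¹ᵁ V)) := by
  intro W hW
  have hWV : U.ι ''ᵁ W ≤ V := (U.ι.image_mono hW).trans (U.ι.image_preimage_le V)
  have h1 := hs _ hWV
  have e : res (M.restrict U.ι) hW (res M (U.ι.image_preimage_le V) s : Γ(M, U.ι ''ᵁ U.ι ⁻¹ᵁ V)) =
      res M hWV s := res_res (M := M) _ (U.ι.image_mono hW) s
  rw [e]
  exact (congrArg Function.Bijective (funext fun r => restrict_smul U W r _)).mpr h1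

/-- `O(n d)` is invertible on the union of the `D₊(f)`, `deg f = d`. -/
theorem isInvertible_twist_restrict (d : ℕ) (n : ℤ) :
    PicF.IsInvertible
      ((Twist.twist 𝒜 (n * d)).restrict (⨆ f : 𝒜 d, Proj.basicOpen 𝒜 (f : A)).ι) := by
  set U : (Proj 𝒜).Opens := ⨆ f : 𝒜 d, Proj.basicOpen 𝒜 (f : A)
  rw [isInvertible_iff_exists_gen]
  intro x
  obtain ⟨f, hf⟩ := Opens.mem_iSup.1 x.2
  exact ⟨U.ι ⁻¹ᵁ Proj.basicOpen 𝒜 (f : A), _, hf,
    gen_restrict U (gen_pwSec f.2 n rfl fun _ hx => hx)⟩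

end Groth.Ega2Proj
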