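import Groth.Agent.Ega2Proj.GradedBasic

/-!
# Homogeneous generators of the irrelevant ideal of an ℕ-graded ring
-/

universe u

open DirectSum

namespace Groth.Ega2Proj

variable {σ A : Type*} [CommRing A] [SetLike σ A] [AddSubgroupClass σ A]
  (𝒜 : ℕ → σ) [GradedRing 𝒜]

/-- A homogeneous component of an element of an ideal spanned by homogeneous elements lies in every additive
submonoid containing the corresponding products. -/
theorem decompose_mem_of_mem_span {E : Set A} {deg : A → ℕ} (hE : ∀ e ∈ E, e ∈ 𝒜 (deg e)) {n : ℕ}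
    (S : AddSubmonoid A) (hS : ∀ e ∈ E, deg e ≤ n → ∀ c ∈ 𝒜 (n - deg e), c * e ∈ S)
    {x : A} (hx : x ∈ Ideal.span E) : (decompose 𝒜 x n : A) ∈ S := by
  classical
  suffices h : ∀ x ∈ Ideal.span E, ∀ r : A, (decompose 𝒜 (r * x) n : A) ∈ S by
    simpa using h x hx 1
  intro x hx
  induction hx using Submodule.span_induction with
  | mem e he =>
    intro r
    rw [DirectSum.coe_decompose_mul_of_right_mem 𝒜 n (hE e he)]
    split
    · next h => exact hS e he h _ (SetLike.coe_mem _)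
    · exact zero_mem _
  | zero => intro r; simp
  | add a b _ _ ha hb =>
    intro r
    rw [mul_add, decompose_add, DirectSum.add_apply, AddMemClass.coe_add]
    exact add_mem (ha r) (hb r)
  | smul c a _ ha =>
    intro r
    rw [smul_eq_mul, ← mul_assoc]
    exact ha _

/-- Homogeneous elements of positive degree spanning the irrelevant ideal generate the ring over degree zero. -/
theorem adjoin_eq_top_of_irrelevant_eq_span {E : Set A} (hE : ∀ e ∈ E, ∃ d : ℕ, 0 < d ∧ e ∈ 𝒜 d)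
    (h : (HomogeneousIdeal.irrelevant 𝒜).toIdeal ≤ Ideal.span E) : Algebra.adjoin (𝒜 0) E = ⊤ := by
  classical
  choose! deg hpos hdeg using hE
  have key : ∀ n, ∀ a ∈ 𝒜 n, a ∈ Algebra.adjoin (𝒜 0) E := by
    intro n
    induction n using Nat.strong_induction_on with
    | _ n ih =>
      intro a ha
      rcases n.eq_zero_or_pos with rfl | hn
      · exact Subalgebra.algebraMap_mem (Algebra.adjoin (𝒜 0) E) ⟨a, ha⟩
      · rw [← decompose_of_mem_same 𝒜 ha]
        refine decompose_mem_of_mem_span 𝒜 hdeg (Algebra.adjoin (𝒜 0) E).toSubring.toAddSubgroup.toAddSubmonoid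
          (fun e he hle c hc => ?_) (h (HomogeneousIdeal.mem_irrelevant_of_mem 𝒜 hn ha))
        change c * e ∈ Algebra.adjoin (𝒜 0) E
        exact mul_mem (ih _ (by have := hpos e he; omega) c hc) (Algebra.subset_adjoin he)
  refine top_le_iff.mp fun a _ => ?_
  rw [← DirectSum.sum_support_decompose 𝒜 a]
  exact sum_mem fun n _ => key n _ (SetLike.coe_mem _)

theorem irrelevant_eq_span_of_adjoin_eq_top {E : Set A} (hE : ∀ e ∈ E, ∃ d : ℕ, 0 < d ∧ e ∈ 𝒜 d)
    (h : Algebra.adjoin (𝒜 0) E = ⊤) : (HomogeneousIdeal.irrelevant 𝒜).toIdeal = Ideal.span E := by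
  classical
  have hle : Ideal.span E ≤ (HomogeneousIdeal.irrelevant 𝒜).toIdeal := Ideal.span_le.mpr fun e he => by
    obtain ⟨d, hd, hed⟩ := hE e he
    exact HomogeneousIdeal.mem_irrelevant_of_mem 𝒜 hd hed
  refine le_antisymm ?_ hle
  have key : ∀ x : A, ∃ r : 𝒜 0, x - algebraMap (𝒜 0) A r ∈ Ideal.span E := by
    intro x
    have hx : x ∈ Algebra.adjoin (𝒜 0) E := h ▸ Algebra.mem_top
    induction hx using Algebra.adjoin_induction with
    | mem x hx => exact ⟨0, by simpa using Ideal.subset_span hx⟩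
    | algebraMap r => exact ⟨r, by simp⟩
    | add x y _ _ hx hy =>
      obtain ⟨r, hr⟩ := hx
      obtain ⟨s, hs⟩ := hy
      exact ⟨r + s, by rw [map_add, add_sub_add_comm]; exact add_mem hr hs⟩
    | mul x y _ _ hx hy =>
      obtain ⟨r, hr⟩ := hx
      obtain ⟨s, hs⟩ := hy
      refine ⟨r * s, ?_⟩
      have e : x * y - algebraMap (𝒜 0) A (r * s) =
          x * (y - algebraMap (𝒜 0) A s) + (x - algebraMap (𝒜 0) A r) * algebraMap (𝒜 0) A s := by
        rw [map_mul]; ring
      rw [e]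
      exact add_mem (Ideal.mul_mem_left _ _ hs) (Ideal.mul_mem_right _ _ hr)
  intro x hx
  obtain ⟨r, hr⟩ := key x
  have h0 : algebraMap (𝒜 0) A r ∈ (HomogeneousIdeal.irrelevant 𝒜).toIdeal := by
    simpa using sub_mem hx (hle hr)
  rw [mem_irrelevant_iff_decompose_zero] at h0
  change ((decompose 𝒜 (r : A) 0 : 𝒜 0) : A) = 0 at h0
  rw [decompose_of_mem_same 𝒜 r.2] at h0
  have hr0 : algebraMap (𝒜 0) A r = 0 := h0
  simpa [hr0] using hr

theorem exists_homogeneous_generators_of_fg (hfg : (HomogeneousIdeal.irrelevant 𝒜).toIdeal.FG) :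
    ∃ E : Finset A, (∀ e ∈ E, ∃ d : ℕ, 0 < d ∧ e ∈ 𝒜 d) ∧
      (HomogeneousIdeal.irrelevant 𝒜).toIdeal = Ideal.span (E : Set A) := by
  classical
  obtain ⟨F, hF⟩ := hfg
  refine ⟨F.biUnion fun x => ((decompose 𝒜 x).support.erase 0).image fun i => (decompose 𝒜 x i : A), ?_, ?_⟩
  · intro e he
    simp only [Finset.mem_biUnion, Finset.mem_image, Finset.mem_erase] at he
    obtain ⟨x, -, i, ⟨hi, -⟩, rfl⟩ := he
    exact ⟨i, Nat.pos_of_ne_zero hi, SetLike.coe_mem _⟩
  · refine le_antisymm ?_ (Ideal.span_le.mpr fun e he => ?_)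
    · rw [← hF]
      refine Submodule.span_le.mpr fun x hx => ?_
      refine mem_of_forall_homogeneous_pos 𝒜 (hF ▸ Ideal.subset_span hx) fun i hi => ?_
      by_cases hsup : i ∈ (decompose 𝒜 x).support
      · refine Ideal.subset_span (Finset.mem_biUnion.mpr ⟨x, hx, Finset.mem_image.mpr ⟨i, ?_, rfl⟩⟩)
        exact Finset.mem_erase.mpr ⟨hi.ne', hsup⟩
      · rw [DFinsupp.notMem_support_iff.mp hsup]
        exact zero_mem _
    · simp only [SetLike.mem_coe, Finset.mem_biUnion, Finset.mem_image, Finset.mem_erase] at he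
      obtain ⟨x, -, i, ⟨hi, -⟩, rfl⟩ := he
      exact HomogeneousIdeal.mem_irrelevant_of_mem 𝒜 (Nat.pos_of_ne_zero hi) (SetLike.coe_mem _)

theorem irrelevant_fg_iff_finiteType :
    (HomogeneousIdeal.irrelevant 𝒜).toIdeal.FG ↔ Algebra.FiniteType (𝒜 0) A := by
  classical
  constructor
  · intro h
    obtain ⟨E, hE, hspan⟩ := exists_homogeneous_generators_of_fg 𝒜 h
    exact ⟨⟨E, adjoin_eq_top_of_irrelevant_eq_span 𝒜 hE hspan.le⟩⟩
  · intro _
    obtain ⟨s, hs, hs'⟩ := GradedAlgebra.exists_finset_adjoin_eq_top_and_homogeneous_ne_zero 𝒜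
    refine ⟨s, (irrelevant_eq_span_of_adjoin_eq_top 𝒜 (fun e he => ?_) hs).symm⟩
    obtain ⟨n, hn, hen⟩ := hs' e he
    exact ⟨n, Nat.pos_of_ne_zero hn, hen⟩

theorem isNoetherianRing_zero [IsNoetherianRing A] : IsNoetherianRing (𝒜 0) := by
  classical
  exact isNoetherianRing_of_surjective A (𝒜 0)
    (GradedRing.projZeroRingHom' 𝒜) (GradedRing.projZeroRingHom'_surjective 𝒜)

/-- Elements of large degree lie in high powers of a finitely generated irrelevant ideal. -/
theorem exists_bound_mem_irrelevant_pow (hfg : (HomogeneousIdeal.irrelevant 𝒜).toIdeal.FG) :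
    ∃ D : ℕ, 0 < D ∧ ∀ N k : ℕ, N * D ≤ k → ∀ a ∈ 𝒜 k,
      a ∈ (HomogeneousIdeal.irrelevant 𝒜).toIdeal ^ N := by
  classical
  obtain ⟨E, hE, hspan⟩ := exists_homogeneous_generators_of_fg 𝒜 hfg
  choose! deg hpos hdeg using hE
  refine ⟨E.sup deg + 1, Nat.succ_pos _, fun N => ?_⟩
  induction N with
  | zero => intro k _ a _; simp
  | succ N ih =>
    intro k hk a ha
    rw [Nat.succ_mul] at hk
    have hk0 : 0 < k := by omega
    rw [← decompose_of_mem_same 𝒜 ha]
    refine decompose_mem_of_mem_span 𝒜 hdeg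
      ((HomogeneousIdeal.irrelevant 𝒜).toIdeal ^ (N + 1)).toAddSubmonoid (fun e he hle c hc => ?_)
      (hspan ▸ HomogeneousIdeal.mem_irrelevant_of_mem 𝒜 hk0 ha)
    have hb : deg e ≤ E.sup deg := Finset.le_sup he
    change c * e ∈ (HomogeneousIdeal.irrelevant 𝒜).toIdeal ^ (N + 1)
    rw [pow_succ]
    exact Ideal.mul_mem_mul (ih _ (by omega) c hc)
      (HomogeneousIdeal.mem_irrelevant_of_mem 𝒜 (hpos e he) (hdeg e he))

end Groth.Ega2Proj
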