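/-
Modules whose global sections span the stalks; the ideal sheaf criterion of ampleness (EGA II 4.5.5).
-/
import Groth.Agent.Ega2Proj.TwistExtend
import Groth.Agent.Ega2Proj.RelAmple
import Groth.Agent.FlatMorOne.FTIdeal
import Groth.Agent.OmegaSheaf.IdealMod
import Groth.Prelude.Def_FlatMod2

set_option autoImplicit false
universe u w
open CategoryTheory CategoryTheory.Limits AlgebraicGeometry TopologicalSpace Opposite

set_option backward.isDefEq.respectTransparency.types false

namespace Groth.Ega2Proj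

open Groth.PicAux Groth.PropsBasic.Ample

variable {X : Scheme.{u}}

/-- Morphisms send spans of germs into spans of germs. -/
theorem mem_span_germ_map {G G' : X.Modules} (φ : G ⟶ G') (x : X) (S : Set Γ(G, (⊤ : X.Opens)))
    {W : X.Opens} (hW : x ∈ W) (z : Γ(G, W))
    (hz : Groth.QCohMod.germ G x hW z ∈ Submodule.span (X.presheaf.stalk x)
      (Groth.QCohMod.germ G x (Set.mem_univ x : x ∈ (⊤ : X.Opens)) '' S)) :
    Groth.QCohMod.germ G' x hW (φ.app W z) ∈ Submodule.span (X.presheaf.stalk x)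
      (Groth.QCohMod.germ G' x (Set.mem_univ x : x ∈ (⊤ : X.Opens)) '' (φ.app ⊤ '' S)) := by
  have heq : ∀ (W : X.Opens) (hW : x ∈ W) (z : Γ(G, W)),
      ((TopCat.Presheaf.stalkFunctor Ab x).map φ.mapPresheaf) (Groth.QCohMod.germ G x hW z) =
        Groth.QCohMod.germ G' x hW (φ.app W z) :=
    fun W hW z => Groth.QCohMod.stalk_map_germ φ x hW z
  rw [← heq]
  generalize Groth.QCohMod.germ G x hW z = s at hz ⊢
  clear z hW W
  induction hz using Submodule.span_induction with
  | mem s hs =>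
    obtain ⟨t, ht, rfl⟩ := hs
    rw [heq]
    exact Submodule.subset_span ⟨_, ⟨t, ht, rfl⟩, rfl⟩
  | zero => erw [map_zero]; exact Submodule.zero_mem _
  | add a b _ _ ha hb => erw [map_add]; exact Submodule.add_mem _ ha hb
  | smul r a _ ha =>
    obtain ⟨V, hV, r, rfl⟩ := TopCat.Presheaf.exists_germ_eq X.presheaf r
    obtain ⟨V', hV', a, rfl⟩ := Groth.QCohMod.exists_germ G x a
    have hW : x ∈ V ⊓ V' := ⟨hV, hV'⟩
    rw [← Groth.QCohMod.germ_res G (inf_le_right : V ⊓ V' ≤ V') x hW a] at ha ⊢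
    rw [← TopCat.Presheaf.germ_res_apply X.presheaf (homOfLE (inf_le_left : V ⊓ V' ≤ V)) x hW r,
      ← Groth.QCohMod.germ_smul, heq, Scheme.Modules.Hom.app_smul, Groth.QCohMod.germ_smul,
      ← heq]
    exact Submodule.smul_mem _ _ ha

/-- A quotient of a free module has stalks spanned by global sections. -/
theorem spansStalks_of_epi_free {ι : Type w} [HasCoproduct fun _ : ι => Coh.structureModule X]
    [∀ x : X, PreservesColimit (Discrete.functor fun _ : ι => Coh.structureModule X)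
      (Groth.QCohMod.stalk x)]
    {G : X.Modules} (p : (∐ fun _ : ι => Coh.structureModule X) ⟶ G) [hp : Epi p] :
    SpansStalks G := by
  intro x
  rw [eq_top_iff]
  intro g _
  obtain ⟨a, rfl⟩ := (Groth.QCohMod.epi_iff_stalk p).1 hp x g
  let S := Submodule.span (X.presheaf.stalk x) (Set.range fun t : Γ(G, (⊤ : X.Opens)) =>
      Groth.QCohMod.germ G x (Set.mem_univ x : x ∈ (⊤ : X.Opens)) t)
  let q : (Groth.QCohMod.stalk x).obj G ⟶ AddCommGrpCat.of (G.presheaf.stalk x ⧸ S.toAddSubgroup) :=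
    AddCommGrpCat.ofHom (QuotientAddGroup.mk' S.toAddSubgroup)
  have h0 : (Groth.QCohMod.stalk x).map p ≫ q = 0 := by
    refine (isColimitOfPreserves (Groth.QCohMod.stalk x)
      (coproductIsCoproduct fun _ : ι => Coh.structureModule X)).hom_ext fun i => ?_
    rw [comp_zero]
    ext a
    obtain ⟨W, hW, r, rfl⟩ := Groth.QCohMod.exists_germ (Coh.structureModule X) x a
    refine (QuotientAddGroup.eq_zero_iff _).2 ?_
    have key : ((Sigma.ι (fun _ : ι => Coh.structureModule X) i.as) ≫ p).app W r ∈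
        {y : Γ(G, W) | Groth.QCohMod.germ G x hW y ∈ S} := by
      set φ : Coh.structureModule X ⟶ G := Sigma.ι (fun _ : ι => Coh.structureModule X) i.as ≫ p
      have e1 : φ.app W r = toFun r • Groth.PicAux.res G (le_top : W ≤ ⊤) (φ.app ⊤ (oneSec X ⊤)) := by
        rw [← app_res, res_oneSec, ← Scheme.Modules.Hom.app_smul, ← eq_toFun_smul_oneSec]
      change Groth.QCohMod.germ G x hW (φ.app W r) ∈ S
      rw [e1, Groth.QCohMod.germ_smul]
      refine Submodule.smul_mem _ _ (Submodule.subset_span ⟨φ.app ⊤ (oneSec X ⊤), ?_⟩)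
      exact (Groth.QCohMod.germ_res G le_top x hW _).symm
    have e2 := Groth.QCohMod.stalk_map_germ ((Sigma.ι (fun _ : ι => Coh.structureModule X) i.as) ≫ p) x hW r
    have key' : Groth.QCohMod.germ G x hW _ ∈ S := key
    rw [← e2] at key'
    convert key' using 1
    simp only [Functor.map_comp, Functor.mapCocone_ι_app, Cofan.mk_ι_app]
    rfl
  have := ConcreteCategory.congr_hom h0 a
  exact (QuotientAddGroup.eq_zero_iff _).1 this

/-- If the germ of a basis lies in the span of global sections, one of them generates at the point. -/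
theorem exists_mem_gloc_of_mem_span {M : X.Modules} {U : X.Opens} {e : Γ(M, U)} (he : Gen M U e)
    {x : X} (hx : x ∈ U) (S : Set Γ(M, (⊤ : X.Opens))) {c : Γ(X, U)} (hc : x ∈ X.basicOpen c)
    (h : Groth.QCohMod.germ M x hx (c • e) ∈ Submodule.span (X.presheaf.stalk x)
      (Groth.QCohMod.germ M x (Set.mem_univ x : x ∈ (⊤ : X.Opens)) '' S)) :
    ∃ t ∈ S, x ∈ gloc t := by
  by_contra hcon
  have hle : ∀ v ∈ Submodule.span (X.presheaf.stalk x)
      (Groth.QCohMod.germ M x (Set.mem_univ x : x ∈ (⊤ : X.Opens)) '' S),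
      ∃ r ∈ IsLocalRing.maximalIdeal (X.presheaf.stalk x), v = r • Groth.QCohMod.germ M x hx e := by
    intro v hv
    induction hv using Submodule.span_induction with
    | mem v hv =>
      obtain ⟨t, ht, rfl⟩ := hv
      obtain ⟨d, hd⟩ := he.exists_coeff le_rfl (Groth.PicAux.res M le_top t)
      rw [Groth.PicAux.res_self] at hd
      refine ⟨_, (IsLocalRing.mem_maximalIdeal _).2 fun hu => hcon ⟨t, ht, (mem_gloc_iff he hd hx).2 hu⟩, ?_⟩
      rw [← Groth.QCohMod.germ_smul, ← hd]
      exact (Groth.QCohMod.germ_res M le_top x hx t).symm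
    | zero => exact ⟨0, Ideal.zero_mem _, (zero_smul _ _).symm⟩
    | add a b _ _ ha hb =>
      obtain ⟨r, hr, rfl⟩ := ha
      obtain ⟨r', hr', rfl⟩ := hb
      exact ⟨r + r', Ideal.add_mem _ hr hr', (add_smul _ _ _).symm⟩
    | smul q a _ ha =>
      obtain ⟨r, hr, rfl⟩ := ha
      exact ⟨q * r, Ideal.mul_mem_left _ q hr, (mul_smul _ _ _).symm⟩
  obtain ⟨r, hr, heq⟩ := hle _ h
  rw [Groth.QCohMod.germ_smul] at heq
  have hcu := (Scheme.mem_basicOpen X c x hx).1 hc
  have hu : IsUnit (X.presheaf.germ U x hx c - r) := by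
    by_contra hn
    have := Ideal.add_mem _ ((IsLocalRing.mem_maximalIdeal _).2 hn) hr
    rw [sub_add_cancel] at this
    exact (IsLocalRing.mem_maximalIdeal _).1 this hcu
  have h0 : Groth.QCohMod.germ M x hx e = 0 :=
    hu.smul_eq_zero.1 (by rw [sub_smul, heq, sub_self])
  obtain ⟨W, hW, i, i', hres⟩ := TopCat.Presheaf.germ_eq M.presheaf x hx hx e 0
    (h0.trans (map_zero (Groth.QCohMod.germ M x hx)).symm)
  have h10 : (1 : Γ(X, W)) = 0 := by
    refine he.smul_inj i.le ?_
    rw [one_smul, zero_smul]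
    exact hres.trans (map_zero _)
  have := congrArg (X.presheaf.germ W x hW) h10
  rw [map_one, map_zero] at this
  exact one_ne_zero this

/-- Ampleness from generation of `K ⊗ L^{n+1}` for ideal sheaves `K` of finite type. -/
theorem isAmple_of_spans_idealMod [CompactSpace X] [QuasiSeparatedSpace X] {L : X.Modules}
    (hL : PicF.IsInvertible L)
    (h : ∀ I : X.IdealSheafData, (∀ U : X.affineOpens, (I.ideal U).FG) → ∃ n : ℕ,
      SpansStalks (CohB1.tensorMod (ClSub.idealMod I) (CohB1.tensorPow L (n + 1)))) :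
    CohB1.IsAmple L := by
  refine ⟨hL, inferInstance, fun x => ?_⟩
  obtain ⟨O, hO, hxO, -⟩ := exists_isAffineOpen_mem_and_subset (x := x) (U := (⊤ : X.Opens)) trivial
  obtain ⟨K, hK, hKs⟩ := Groth.FlatMorOne.exists_ftIdeal_support_eq
    (⟨(O : Set X)ᶜ, O.2.isClosed_compl⟩ : Closeds X) (by simpa using hO.isCompact)
  obtain ⟨n, hn⟩ := h K hK
  have hN := isInvertible_tensorPow hL (n + 1)
  obtain ⟨ψ, hψ⟩ := exists_tensor_lift (L := ClSub.idealMod K) (M := CohB1.tensorPow L (n + 1))
    (P := CohB1.tensorPow L (n + 1))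
    (fun W => LinearMap.mk₂ Γ(X, W) (fun a b => OmegaSh.idealSect K W a • b)
      (fun a a' b => by rw [map_add, add_smul])
      (fun r a b => by rw [Groth.OmegaSheaf.idealSect_smul, mul_smul])
      (fun a b b' => smul_add _ b b') (fun r a b => smul_comm _ r b))
    (fun W W' hW a b => by
      simp only [LinearMap.mk₂_apply]
      rw [Groth.PicAux.res_smul]
      congr 1
      exact (Groth.OmegaSheaf.idealSect_res K hW a).symm)
  simp only [LinearMap.mk₂_apply] at hψ
  let S : Set Γ(CohB1.tensorPow L (n + 1), (⊤ : X.Opens)) := ψ.app ⊤ '' Set.univ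
  -- all these sections have loci inside `O`
  have hsub : ∀ t ∈ S, gloc t ≤ O := by
    rintro _ ⟨t, -, rfl⟩ y hy
    by_contra hyO
    obtain ⟨U, e, hU, hyU, he⟩ := exists_affine_gen_mem hN y
    obtain ⟨a, ha⟩ := (tmulSec_bijective (M := ClSub.idealMod K) le_rfl he).2
      (Groth.PicAux.res _ (le_top : U ≤ ⊤) t)
    have hres : Groth.PicAux.res _ (le_top : U ≤ ⊤) (ψ.app ⊤ t) = OmegaSh.idealSect K U a • e := by
      rw [← app_res, ← ha]
      simp only [Groth.PicAux.res_self]
      exact hψ U a e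
    have hys : y ∈ (K.support : Set X) := by rw [hKs]; exact hyO
    have h1 := (K.mem_support_iff_of_mem (U := ⟨U, hU⟩) hyU).1 hys
    rw [Scheme.mem_zeroLocus_iff] at h1
    exact h1 _ (Groth.OmegaSheaf.idealSect_mem K ⟨U, hU⟩ a)
      ((gloc_inf_eq_basicOpen he hres).le ⟨hy, hyU⟩)
  -- one of them generates at `x`
  obtain ⟨U, e, hU, hxU, he⟩ := exists_affine_gen_mem hN x
  have hxs : x ∉ (K.support : Set X) := by rw [hKs]; exact fun h => h hxO
  have h2 := fun h' => hxs ((K.mem_support_iff_of_mem (U := ⟨U, hU⟩) hxU).2 h')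
  obtain ⟨f, hf, hxf⟩ : ∃ f ∈ K.ideal ⟨U, hU⟩, x ∈ X.basicOpen f := by
    by_contra hno
    exact h2 ((Scheme.mem_zeroLocus_iff _ _ _).2 fun f hf hxf => hno ⟨f, hf, hxf⟩)
  obtain ⟨a, ha⟩ := Groth.OmegaSheaf.exists_idealSect K ⟨U, hU⟩ hf
  have hmem : Groth.QCohMod.germ _ x hxU (ψ.app U (tmulSec a e)) ∈ Submodule.span (X.presheaf.stalk x)
      (Groth.QCohMod.germ _ x (Set.mem_univ x : x ∈ (⊤ : X.Opens)) '' S) := by
    refine mem_span_germ_map ψ x Set.univ hxU _ ?_
    rw [Set.image_univ]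
    exact Submodule.eq_top_iff'.1 (hn x) _
  rw [hψ, ha] at hmem
  obtain ⟨t, ht, hxt⟩ := exists_mem_gloc_of_mem_span he hxU S hxf hmem
  refine ⟨n, homOfSection t, hxt, ?_⟩
  have h3 := isAffineOpen_gloc_inf hN (homOfSection t) hO
  rwa [inf_eq_left.2 (hsub t ht)] at h3

end Groth.Ega2Proj
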