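/-
Finitely many global sections generating a module of finite type (EGA II 2.7.9, 4.5.5).
-/
import Groth.Agent.Ega2Proj.Spans
import Groth.Agent.Ega2Proj.TwistGen

set_option autoImplicit false
universe u w
open CategoryTheory CategoryTheory.Limits AlgebraicGeometry TopologicalSpace Opposite

set_option backward.isDefEq.respectTransparency.types false

namespace Groth.Ega2Proj

open Groth.PicAux Groth.PropsBasic.Ample

variable {X : Scheme.{u}}

/-- The span in `G_x` of a set of global sections. -/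
noncomputable def spanSet (G : X.Modules) (S : Set Γ(G, (⊤ : X.Opens))) (x : X) :
    Submodule (X.presheaf.stalk x) (G.presheaf.stalk x) :=
  Submodule.span (X.presheaf.stalk x) (Groth.QCohMod.germ G x (Set.mem_univ x : x ∈ (⊤ : X.Opens)) '' S)

theorem spanSet_mono {G : X.Modules} {S T : Set Γ(G, (⊤ : X.Opens))} (h : S ⊆ T) (x : X) :
    spanSet G S x ≤ spanSet G T x := Submodule.span_mono (Set.image_mono h)

/-- Lying in the span of given global sections is an open condition. -/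
theorem exists_nhd_mem_spanSet (G : X.Modules) (S : Set Γ(G, (⊤ : X.Opens))) (x : X) {V : X.Opens}
    (hV : x ∈ V) (y : Γ(G, V)) (h : Groth.QCohMod.germ G x hV y ∈ spanSet G S x) :
    ∃ W : X.Opens, x ∈ W ∧ ∀ (w : X) (hw : w ∈ V), w ∈ W →
      Groth.QCohMod.germ G w hw y ∈ spanSet G S w := by
  -- two representatives of a germ agree nearby
  have same : ∀ {V V' : X.Opens} (hV : x ∈ V) (hV' : x ∈ V') (y : Γ(G, V)) (y' : Γ(G, V')),
      Groth.QCohMod.germ G x hV y = Groth.QCohMod.germ G x hV' y' →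
      ∃ W : X.Opens, x ∈ W ∧ W ≤ V' ∧ ∀ (w : X) (hw : w ∈ V) (hw' : w ∈ V'), w ∈ W →
        Groth.QCohMod.germ G w hw y = Groth.QCohMod.germ G w hw' y' := by
    intro V V' hV hV' y y' e
    obtain ⟨W, hW, i, i', hres⟩ := TopCat.Presheaf.germ_eq G.presheaf x hV hV' y y' e
    refine ⟨W, hW, i'.le, fun w hw hw' hwW => ?_⟩
    exact ((TopCat.Presheaf.germ_res_apply G.presheaf i w hwW y).symm.trans
      (congrArg _ hres)).trans (TopCat.Presheaf.germ_res_apply G.presheaf i' w hwW y')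
  generalize hv : Groth.QCohMod.germ G x hV y = v at h
  revert V y
  induction h using Submodule.span_induction with
  | mem v hv =>
    obtain ⟨t, ht, rfl⟩ := hv
    intro V hV y e
    obtain ⟨W, hW, -, heq⟩ := same hV (Set.mem_univ x : x ∈ (⊤ : X.Opens)) y t e
    refine ⟨W, hW, fun w hw hwW => ?_⟩
    rw [heq w hw (Set.mem_univ w) hwW]
    exact Submodule.subset_span ⟨t, ht, rfl⟩
  | zero =>
    intro V hV y e
    obtain ⟨W, hW, -, heq⟩ := same hV hV y 0 (e.trans (map_zero _).symm)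
    exact ⟨W, hW, fun w hw hwW => by rw [heq w hw hw hwW, map_zero]; exact Submodule.zero_mem _⟩
  | add a b _ _ ha hb =>
    intro V hV y e
    obtain ⟨U, hU, a, rfl⟩ := Groth.QCohMod.exists_germ G x a
    obtain ⟨U', hU', b, rfl⟩ := Groth.QCohMod.exists_germ G x b
    obtain ⟨W₁, hW₁, h₁⟩ := ha hU a rfl
    obtain ⟨W₂, hW₂, h₂⟩ := hb hU' b rfl
    have hUU : x ∈ U ⊓ U' := ⟨hU, hU'⟩
    obtain ⟨W, hW, hWle, heq⟩ := same hV hUU y
      (Groth.QCohMod.res G inf_le_left a + Groth.QCohMod.res G inf_le_right b)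
      (by rw [e, map_add, Groth.QCohMod.germ_res, Groth.QCohMod.germ_res])
    refine ⟨W ⊓ (W₁ ⊓ W₂), ⟨hW, hW₁, hW₂⟩, fun w hw hwW => ?_⟩
    have hw' := hWle hwW.1
    rw [heq w hw hw' hwW.1, map_add, Groth.QCohMod.germ_res, Groth.QCohMod.germ_res]
    exact Submodule.add_mem _ (h₁ w hw'.1 hwW.2.1) (h₂ w hw'.2 hwW.2.2)
  | smul r a _ ha =>
    intro V hV y e
    obtain ⟨U, hU, r, rfl⟩ := TopCat.Presheaf.exists_germ_eq X.presheaf r
    obtain ⟨U', hU', a, rfl⟩ := Groth.QCohMod.exists_germ G x a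
    obtain ⟨W₂, hW₂, h₂⟩ := ha hU' a rfl
    have hUU : x ∈ U ⊓ U' := ⟨hU, hU'⟩
    obtain ⟨W, hW, hWle, heq⟩ := same hV hUU y
      (Groth.QCohMod.resFun X inf_le_left r • Groth.QCohMod.res G inf_le_right a)
      (by rw [e, Groth.QCohMod.germ_smul, Groth.QCohMod.germ_res]
          congr 1
          exact (TopCat.Presheaf.germ_res_apply X.presheaf (homOfLE inf_le_left) x hUU r).symm)
    refine ⟨W ⊓ W₂, ⟨hW, hW₂⟩, fun w hw hwW => ?_⟩
    have hw' := hWle hwW.1
    rw [heq w hw hw' hwW.1, Groth.QCohMod.germ_smul, Groth.QCohMod.germ_res]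
    exact Submodule.smul_mem _ _ (h₂ w hw'.2 hwW.2)

/-- Finitely many global sections suffice. -/
theorem exists_finset_spans [CompactSpace X] (G : X.Modules) [G.IsQuasicoherent] (hG : CohB1.IsFT G)
    (h : SpansStalks G) :
    ∃ S : Finset Γ(G, (⊤ : X.Opens)), ∀ x, spanSet G (S : Set Γ(G, (⊤ : X.Opens))) x = ⊤ := by
  classical
  have hpt : ∀ x : X, ∃ (W : X.Opens) (S : Finset Γ(G, (⊤ : X.Opens))), x ∈ W ∧
      ∀ w ∈ W, spanSet G (S : Set Γ(G, (⊤ : X.Opens))) w = ⊤ := by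
    intro x
    obtain ⟨U, hU, hxU, -⟩ := exists_isAffineOpen_mem_and_subset (x := x) (U := (⊤ : X.Opens)) trivial
    obtain ⟨gens, hgens⟩ := ((Groth.QCohMod.isFT_iff G).1 hG U hU).fg_top
    have hone : ∀ y : Γ(G, U), ∃ S : Finset Γ(G, (⊤ : X.Opens)),
        Groth.QCohMod.germ G x hxU y ∈ spanSet G (S : Set Γ(G, (⊤ : X.Opens))) x := by
      intro y
      obtain ⟨T, hT, hy⟩ := Submodule.mem_span_finite_of_mem_span
        (Submodule.eq_top_iff'.1 (h x) (Groth.QCohMod.germ G x hxU y))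
      choose pre hpre using fun t : T => hT t.2
      refine ⟨T.attach.image pre, Submodule.span_mono ?_ hy⟩
      intro t ht
      exact ⟨pre ⟨t, ht⟩, Finset.mem_coe.2 (Finset.mem_image.2 ⟨⟨t, ht⟩, Finset.mem_attach _ _, rfl⟩),
        hpre ⟨t, ht⟩⟩
    choose S₀ hS₀ using hone
    have hnear : ∀ y : gens, ∃ W : X.Opens, x ∈ W ∧ ∀ (w : X) (hw : w ∈ U), w ∈ W →
        Groth.QCohMod.germ G w hw y.1 ∈ spanSet G ((gens.biUnion S₀ : Finset _) : Set Γ(G, (⊤ : X.Opens))) w :=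
      fun y => exists_nhd_mem_spanSet G _ x hxU y.1 (spanSet_mono
        (Finset.coe_subset.2 (Finset.subset_biUnion_of_mem S₀ y.2)) x (hS₀ y.1))
    choose Wn hxWn hWn using hnear
    refine ⟨⟨(U : Set X) ∩ ⋂ y, (Wn y : Set X), U.2.inter (isOpen_iInter_of_finite fun y => (Wn y).2)⟩,
      gens.biUnion S₀, ⟨hxU, Set.mem_iInter.2 hxWn⟩, fun w hw => ?_⟩
    rw [eq_top_iff, ← span_germ_of_affine hU hgens hw.1]
    refine Submodule.span_le.2 ?_
    rintro _ ⟨y, hy, rfl⟩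
    exact hWn ⟨y, hy⟩ w hw.1 (Set.mem_iInter.1 hw.2 ⟨y, hy⟩)
  choose W S hxW hW using hpt
  obtain ⟨fin, hfin⟩ := isCompact_univ.elim_finite_subcover (fun x => (W x : Set X))
    (fun x => (W x).isOpen) (fun x _ => Set.mem_iUnion.2 ⟨x, hxW x⟩)
  refine ⟨fin.biUnion S, fun x => ?_⟩
  obtain ⟨z, hz, hxz⟩ := Set.mem_iUnion₂.1 (hfin (Set.mem_univ x))
  rw [eq_top_iff, ← hW z x hxz]
  exact spanSet_mono (Finset.coe_subset.2 (Finset.subset_biUnion_of_mem S hz)) x

/-- A module of finite type spanned by global sections is a quotient of a finite free module. -/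
theorem exists_epi_freeMod_of_spans [CompactSpace X] (G : X.Modules) [G.IsQuasicoherent]
    (hG : CohB1.IsFT G) (h : SpansStalks G) :
    ∃ (k : ℕ) (p : FlatMod.freeMod X k ⟶ G), Epi p := by
  obtain ⟨S, hS⟩ := exists_finset_spans G hG h
  let v := S.equivFin.symm
  refine ⟨S.card, Sigma.desc fun i => Groth.QCohMod.secHom G (v i).1, ?_⟩
  let m : ULift.{u} (Fin S.card) → Γ(G, (⊤ : X.Opens)) := fun i => (v i.down).1
  have hm : Epi (Groth.QCohMod.freeHom G m) := Groth.QCohMod.epi_freeHom G m fun x => by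
    rw [eq_top_iff, ← hS x]
    refine Submodule.span_le.2 ?_
    rintro _ ⟨t, ht, rfl⟩
    refine Submodule.subset_span ⟨⟨v.symm ⟨t, ht⟩⟩, ?_⟩
    change Groth.QCohMod.germ G x _ (v (v.symm ⟨t, ht⟩)).1 = _
    rw [Equiv.apply_symm_apply]
  let q : (∐ fun _ : ULift.{u} (Fin S.card) => Coh.structureModule X) ⟶ FlatMod.freeMod X S.card :=
    Sigma.desc fun j => Sigma.ι (fun _ : Fin S.card => Coh.structureModule X) j.down
  have hq : q ≫ Sigma.desc (fun i => Groth.QCohMod.secHom G (v i).1) = Groth.QCohMod.freeHom G m := by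
    refine Sigma.hom_ext _ _ fun j => ?_
    simp [q, m]
  rw [← hq] at hm
  exact epi_of_epi q _

variable {R A : Type u} [CommRing R] [CommRing A] [Algebra R A] {𝒜 : ℕ → Submodule R A}
  [GradedAlgebra 𝒜]

/-- High twists `F(n)` on `Proj` are quotients of finite free modules. -/
theorem exists_epi_twistBy (s : Finset A) (hs1 : ∀ f ∈ s, f ∈ 𝒜 1)
    (hs : (HomogeneousIdeal.irrelevant 𝒜).toIdeal ≤ Ideal.span (s : Set A))
    (F : (Proj 𝒜).Modules) [F.IsQuasicoherent] (hFT : CohB1.IsFT F) :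
    ∃ n₀ : ℕ, ∀ n : ℕ, n₀ ≤ n →
      ∃ (k : ℕ) (p : FlatMod.freeMod (Proj 𝒜) k ⟶ Twist.twistBy 𝒜 F (n : ℤ)), Epi p := by
  have hgen := hs.trans (Ideal.span_mono fun f hf => hs1 f hf)
  have hA := isAmple_twist_one s hs1 hs
  have := hA.2.1
  obtain ⟨n₀, hn₀⟩ := exists_spans_twist hA F hFT
  refine ⟨n₀, fun n hn => ?_⟩
  obtain ⟨e⟩ := nonempty_pow_iso (𝒜 := 𝒜) hgen n
  have hinv := isInvertible_twist (𝒜 := 𝒜) hgen (n : ℤ)
  have := isQCoh_of_isInvertible hinv
  have hq : (Twist.twistBy 𝒜 F (n : ℤ)).IsQuasicoherent := Groth.QCohMod.isQCoh_tensorMod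
  exact exists_epi_freeMod_of_spans (Twist.twistBy 𝒜 F (n : ℤ))
    (Groth.QCohMod.isFT_tensorMod hFT (isFT_of_isInvertible hinv))
    ((hn₀ n hn).of_iso (PicGrp.tensorModIso (Iso.refl F) e.symm))

end Groth.Ega2Proj
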