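/-
The normalization of an integral scheme in a field extension of its function field (EGA II 6.3.7).
-/
import Groth.Prelude.Def_Pi1
import Mathlib.AlgebraicGeometry.Normalization
import Mathlib.AlgebraicGeometry.FunctionField
import Mathlib.RingTheory.Ideal.GoingUp
import Mathlib.RingTheory.IntegralClosure.IntegrallyClosed

set_option autoImplicit false
universe u
open CategoryTheory CategoryTheory.Limits AlgebraicGeometry IsLocalRing TopologicalSpace

namespace Groth.Ega2Proj

theorem germ_comp_eq_of_SpecMap_eq {X : Scheme.{u}} {R : CommRingCat.{u}} {y z : X} (h : y = z)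
    (a : X.presheaf.stalk y ⟶ R) (b : X.presheaf.stalk z ⟶ R)
    (e : Spec.map a ≫ X.fromSpecStalk y = Spec.map b ≫ X.fromSpecStalk z)
    (U : X.Opens) (hy : y ∈ U) (hz : z ∈ U) :
    X.presheaf.germ U y hy ≫ a = X.presheaf.germ U z hz ≫ b := by
  subst h
  rw [Spec.map_injective ((cancel_mono _).mp e)]

variable (X : Scheme.{u}) [IsIntegral X] (K : Type u) [Field K] (φ : X.functionField →+* K)
  (g : Spec (CommRingCat.of K) ⟶ X)
  (hg : g = Spec.map (CommRingCat.ofHom φ) ≫ X.fromSpecStalk (genericPoint X))
  [QuasiCompact g] [QuasiSeparated g]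

theorem toNormalization_closedPoint :
    g.toNormalization.base (closedPoint K) = genericPoint g.normalization := by
  apply ((genericPoint_spec g.normalization).eq _).symm
  have hd : DenseRange g.toNormalization.base := g.toNormalization.denseRange
  have hr : Set.range g.toNormalization.base = {g.toNormalization.base (closedPoint K)} := by
    ext z
    constructor
    · rintro ⟨t, rfl⟩; rw [Subsingleton.elim t (closedPoint K)]; rfl
    · rintro rfl; exact ⟨_, rfl⟩
  rw [DenseRange, hr] at hd
  exact hd.closure_eq

theorem stalkClosedPointTo_toNormalization_injective :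
    Function.Injective (Scheme.stalkClosedPointTo g.toNormalization).hom := by
  have hf : IsField (g.normalization.presheaf.stalk (g.toNormalization.base (closedPoint K))) := by
    rw [toNormalization_closedPoint X K g]
    exact Field.toIsField g.normalization.functionField
  letI := hf.toField
  exact (Scheme.stalkClosedPointTo g.toNormalization).hom.injective

include hg

theorem fromNormalization_toNormalization_closedPoint :
    g.fromNormalization.base (g.toNormalization.base (closedPoint K)) = genericPoint X := by
  have h1 : g.fromNormalization.base (g.toNormalization.base (closedPoint K)) = g.base (closedPoint K) :=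
    congrArg (fun m : Spec (CommRingCat.of K) ⟶ X => m.base (closedPoint K)) g.toNormalization_fromNormalization
  rw [h1, hg]
  haveI : IsLocalHom (CommRingCat.ofHom φ).hom := ⟨fun a ha => by
    refine isUnit_iff_ne_zero.mpr fun h0 => ?_
    rw [h0, map_zero] at ha
    exact not_isUnit_zero ha⟩
  exact (congrArg (fun z => (X.fromSpecStalk (genericPoint X)).base z)
    (IsLocalRing.comap_closedPoint (CommRingCat.ofHom φ).hom)).trans Scheme.fromSpecStalk_closedPoint

theorem fromNormalization_genericPoint :
    g.fromNormalization.base (genericPoint g.normalization) = genericPoint X := by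
  rw [← toNormalization_closedPoint X K g]
  exact fromNormalization_toNormalization_closedPoint X K φ g hg

theorem mem_preimage {U : X.Opens} (hξ : genericPoint X ∈ U) :
    g.toNormalization.base (closedPoint K) ∈ g.fromNormalization ⁻¹ᵁ U := by
  change g.fromNormalization.base (g.toNormalization.base (closedPoint K)) ∈ U
  rw [fromNormalization_toNormalization_closedPoint X K φ g hg]; exact hξ

/-- Sections of the normalization over an affine open, inside `K`. -/
theorem exists_sections_equiv {U : X.Opens} (hU : IsAffineOpen U) (hξ : genericPoint X ∈ U) :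
    ∀ (y : K), (y ∈ Set.range (g.normalization.presheaf.germ (g.fromNormalization ⁻¹ᵁ U)
          (g.toNormalization.base (closedPoint K)) (mem_preimage X K φ g hg hξ) ≫
          Scheme.stalkClosedPointTo g.toNormalization).hom ↔
      (φ.comp (X.presheaf.germ U (genericPoint X) hξ).hom).IsIntegralElem y) := by
  intro y
  let k := g.normalization.presheaf.germ (g.fromNormalization ⁻¹ᵁ U)
    (g.toNormalization.base (closedPoint K)) (mem_preimage X K φ g hg hξ) ≫
    Scheme.stalkClosedPointTo g.toNormalization
  have hcomp : g.fromNormalization.app U ≫ k = X.presheaf.germ U (genericPoint X) hξ ≫ CommRingCat.ofHom φ := by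
    refine (Scheme.Hom.germ_stalkMap_assoc g.fromNormalization U (g.toNormalization.base (closedPoint K))
      (mem_preimage X K φ g hg hξ) (Scheme.stalkClosedPointTo g.toNormalization)).symm.trans ?_
    refine germ_comp_eq_of_SpecMap_eq (fromNormalization_toNormalization_closedPoint X K φ g hg) _ _ ?_ U _ hξ
    rw [Spec.map_comp, Category.assoc, Scheme.SpecMap_stalkMap_fromSpecStalk,
      Scheme.Spec_stalkClosedPointTo_fromSpecStalk_assoc, g.toNormalization_fromNormalization]
    exact hg
  constructor
  · rintro ⟨b, rfl⟩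
    obtain ⟨p, hp, hpb⟩ := IsIntegralHom.isIntegral_app (f := g.fromNormalization) U hU b
    refine ⟨p, hp, ?_⟩
    have e : φ.comp (X.presheaf.germ U (genericPoint X) hξ).hom = k.hom.comp (g.fromNormalization.app U).hom :=
      (congrArg CommRingCat.Hom.hom hcomp).symm
    rw [e]
    exact (Polynomial.hom_eval₂ p (g.fromNormalization.app U).hom k.hom b).symm.trans
      ((congrArg _ hpb).trans (map_zero _))
  · intro hy
    have hgξ : g.base (closedPoint K) = genericPoint X :=
      (congrArg (fun m : Spec (CommRingCat.of K) ⟶ X => m.base (closedPoint K))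
        g.toNormalization_fromNormalization).symm.trans (fromNormalization_toNormalization_closedPoint X K φ g hg)
    have hgU : g.base (closedPoint K) ∈ U := hgξ ▸ hξ
    let m := (Spec (CommRingCat.of K)).presheaf.mapIso
      (eqToIso (Scheme.preimage_eq_top_of_closedPoint_mem g hgU).symm).op ≪≫ Scheme.ΓSpecIso (CommRingCat.of K)
    have hgm : X.presheaf.germ U (genericPoint X) hξ ≫ CommRingCat.ofHom φ = g.app U ≫ m.hom := by
      rw [← Scheme.germ_stalkClosedPointTo g U hgU]
      refine germ_comp_eq_of_SpecMap_eq ?_ _ _ ?_ U hξ hgU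
      · exact hgξ.symm
      · rw [Scheme.Spec_stalkClosedPointTo_fromSpecStalk]; exact hg.symm
    letI := (g.app U).hom.toAlgebra
    have hc : IsIntegral Γ(X, U) (m.inv.hom y) := by
      obtain ⟨p, hp, hpy⟩ := hy
      refine ⟨p, hp, ?_⟩
      have e : (g.app U).hom = m.inv.hom.comp (φ.comp (X.presheaf.germ U (genericPoint X) hξ).hom) := by
        have : g.app U = (X.presheaf.germ U (genericPoint X) hξ ≫ CommRingCat.ofHom φ) ≫ m.inv := by
          rw [hgm, Category.assoc, Iso.hom_inv_id, Category.comp_id]
        exact congrArg CommRingCat.Hom.hom this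
      change Polynomial.eval₂ (g.app U).hom _ p = 0
      rw [e]
      exact (Polynomial.hom_eval₂ p _ m.inv.hom y).symm.trans ((congrArg _ hpy).trans (map_zero _))
    let b := (g.normalizationObjIso hU).inv.hom ⟨m.inv.hom y, hc⟩
    refine ⟨b, ?_⟩
    have e1 : (g.toNormalization.appLE (g.fromNormalization ⁻¹ᵁ U) (g ⁻¹ᵁ U)
        (by simp [← Scheme.Hom.comp_preimage])).hom b = m.inv.hom y := by
      rw [← g.normalizationObjIso_hom_val hU]
      change Subalgebra.val _ ((g.normalizationObjIso hU).hom.hom b) = m.inv.hom y
      have h := congrArg (fun r => CommRingCat.Hom.hom r (⟨m.inv.hom y, hc⟩ : integralClosure Γ(X, U) Γ(Spec (CommRingCat.of K), g ⁻¹ᵁ U)))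
        (g.normalizationObjIso hU).inv_hom_id
      exact congrArg Subtype.val h
    have e2 : k = g.toNormalization.appLE (g.fromNormalization ⁻¹ᵁ U) (g ⁻¹ᵁ U)
        (by simp [← Scheme.Hom.comp_preimage]) ≫ m.hom := by
      change g.normalization.presheaf.germ _ _ _ ≫ Scheme.stalkClosedPointTo g.toNormalization = _
      rw [Scheme.germ_stalkClosedPointTo]
      simp only [m, Iso.trans_hom, Scheme.Hom.appLE, Category.assoc, Functor.mapIso_hom]
      congr 1
    rw [show k.hom b = m.hom.hom ((g.toNormalization.appLE _ _ _).hom b) from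
      congrArg (fun r => CommRingCat.Hom.hom r b) e2, e1]
    exact congrArg (fun r => CommRingCat.Hom.hom r y) m.inv_hom_id

theorem isNormalScheme_normalization : Pi1.IsNormalScheme g.normalization := by
  intro x
  obtain ⟨U, hU, hxU, -⟩ := exists_isAffineOpen_mem_and_subset (x := g.fromNormalization.base x)
    (U := (⊤ : X.Opens)) trivial
  have hξ : genericPoint X ∈ U := ((genericPoint_spec X).specializes trivial).mem_open U.2 hxU
  have hV : IsAffineOpen (g.fromNormalization ⁻¹ᵁ U) := hU.preimage _
  haveI : Nonempty ((g.fromNormalization ⁻¹ᵁ U : g.normalization.Opens) : Scheme.{u}) := ⟨⟨x, hxU⟩⟩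
  let k := (g.normalization.presheaf.germ (g.fromNormalization ⁻¹ᵁ U)
    (g.toNormalization.base (closedPoint K)) (mem_preimage X K φ g hg hξ) ≫
    Scheme.stalkClosedPointTo g.toNormalization).hom
  have hinj : Function.Injective k :=
    (stalkClosedPointTo_toNormalization_injective X K g).comp
      (germ_injective_of_isIntegral g.normalization _ _)
  letI : Algebra Γ(X, U) K := (φ.comp (X.presheaf.germ U (genericPoint X) hξ).hom).toAlgebra
  have hrange : ∀ z, k z ∈ (integralClosure Γ(X, U) K).toSubring := fun z =>
    (exists_sections_equiv X K φ g hg hU hξ (k z)).mp ⟨z, rfl⟩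
  let e : Γ(g.normalization, g.fromNormalization ⁻¹ᵁ U) ≃+* integralClosure Γ(X, U) K :=
    RingEquiv.ofBijective (k.codRestrict (integralClosure Γ(X, U) K) hrange)
      ⟨fun a b hab => hinj (congrArg Subtype.val hab), fun z => by
        obtain ⟨b, hb⟩ := (exists_sections_equiv X K φ g hg hU hξ z.1).mpr z.2
        exact ⟨b, Subtype.ext hb⟩⟩
  haveI : IsIntegrallyClosed (integralClosure Γ(X, U) K) :=
    IsIntegrallyClosed.of_isIntegrallyClosedIn (integralClosure Γ(X, U) K) K
  haveI : IsIntegrallyClosed Γ(g.normalization, g.fromNormalization ⁻¹ᵁ U) :=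
    IsIntegrallyClosed.of_equiv e.symm
  letI := TopCat.Presheaf.algebra_section_stalk g.normalization.presheaf
    (⟨x, hxU⟩ : (g.fromNormalization ⁻¹ᵁ U : g.normalization.Opens))
  haveI := hV.isLocalization_stalk ⟨x, hxU⟩
  exact ⟨inferInstance, isIntegrallyClosed_of_isLocalization
    (R := Γ(g.normalization, g.fromNormalization ⁻¹ᵁ U)) _
    (hV.primeIdealOf ⟨x, hxU⟩).asIdeal.primeCompl
    (fun a ha => mem_nonZeroDivisors_of_ne_zero fun h => ha (h ▸ Ideal.zero_mem _))⟩

theorem preimage_genericPoint :
    g.fromNormalization.base ⁻¹' {genericPoint X} = {genericPoint g.normalization} := by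
  refine Set.eq_singleton_iff_unique_mem.mpr ⟨fromNormalization_genericPoint X K φ g hg, fun z hz => ?_⟩
  have hz' : g.fromNormalization.base z = genericPoint X := hz
  obtain ⟨U, hU, hξ, -⟩ := exists_isAffineOpen_mem_and_subset (x := genericPoint X) (U := (⊤ : X.Opens)) trivial
  have hV : IsAffineOpen (g.fromNormalization ⁻¹ᵁ U) := hU.preimage _
  have hzV : z ∈ g.fromNormalization ⁻¹ᵁ U := by
    change g.fromNormalization.base z ∈ U; rw [hz']; exact hξ
  have hξV : genericPoint g.normalization ∈ g.fromNormalization ⁻¹ᵁ U :=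
    ((genericPoint_spec g.normalization).specializes trivial).mem_open (g.fromNormalization ⁻¹ᵁ U).2 hzV
  letI := (g.fromNormalization.app U).hom.toAlgebra
  haveI : Algebra.IsIntegral Γ(X, U) Γ(g.normalization, g.fromNormalization ⁻¹ᵁ U) :=
    ⟨IsIntegralHom.isIntegral_app (f := g.fromNormalization) U hU⟩
  haveI : Nonempty ((g.fromNormalization ⁻¹ᵁ U : g.normalization.Opens) : Scheme.{u}) := ⟨⟨z, hzV⟩⟩
  haveI : Nonempty (U : Scheme.{u}) := ⟨⟨_, hξ⟩⟩
  haveI : IsAffine (U : Scheme.{u}) := hU
  have key : ∀ (w : g.normalization) (hw : w ∈ g.fromNormalization ⁻¹ᵁ U),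
      g.fromNormalization.base w = genericPoint X → (hV.primeIdealOf ⟨w, hw⟩).asIdeal = ⊥ := by
    intro w hw hwξ
    refine Ideal.eq_bot_of_comap_eq_bot (R := Γ(X, U)) ?_
    have h1 := congrArg PrimeSpectrum.asIdeal
      (IsAffineOpen.comap_primeIdealOf_appLE (f := g.fromNormalization) U hU _ hV le_rfl hw)
    rw [← Scheme.Hom.app_eq_appLE] at h1
    refine h1.trans ?_
    have h2 : hU.primeIdealOf ⟨g.fromNormalization.base w, hw⟩ = hU.primeIdealOf ⟨genericPoint X, hξ⟩ := by
      congr 1; exact Subtype.ext hwξ
    rw [h2, hU.primeIdealOf_genericPoint, genericPoint_eq_bot_of_affine]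
    rfl
  have h3 : hV.primeIdealOf ⟨z, hzV⟩ = hV.primeIdealOf ⟨_, hξV⟩ := PrimeSpectrum.ext
    ((key z hzV hz').trans (key _ hξV (fromNormalization_genericPoint X K φ g hg)).symm)
  have h4 := congrArg (fun p => hV.fromSpec.base p) h3
  simpa [IsAffineOpen.fromSpec_primeIdealOf] using h4

theorem range_stalkClosedPointTo :
    Set.range (Scheme.stalkClosedPointTo g.toNormalization).hom =
      {y : K | ∃ q : Polynomial X.functionField, q.Monic ∧ Polynomial.eval₂ φ y q = 0} := by
  obtain ⟨U, hU, hξ, -⟩ := exists_isAffineOpen_mem_and_subset (x := genericPoint X) (U := (⊤ : X.Opens)) trivial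
  haveI : Nonempty (U : Scheme.{u}) := ⟨⟨_, hξ⟩⟩
  haveI := functionField_isFractionRing_of_isAffineOpen X U hU
  letI aF : Algebra X.functionField K := φ.toAlgebra
  letI aA : Algebra Γ(X, U) K := (φ.comp (X.presheaf.germ U (genericPoint X) hξ).hom).toAlgebra
  haveI : IsScalarTower Γ(X, U) X.functionField K := IsScalarTower.of_algebraMap_eq fun _ => rfl
  have hηV := mem_preimage X K φ g hg hξ
  let j := (Scheme.stalkClosedPointTo g.toNormalization).hom
  let η := g.toNormalization.base (closedPoint K)
  have hloc : IsField (g.normalization.presheaf.stalk η) := by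
    rw [show η = genericPoint g.normalization from toNormalization_closedPoint X K g]
    exact Field.toIsField g.normalization.functionField
  letI := hloc.toField
  have hV : IsAffineOpen (g.fromNormalization ⁻¹ᵁ U) := hU.preimage _
  letI := TopCat.Presheaf.algebra_section_stalk g.normalization.presheaf
    (⟨η, hηV⟩ : (g.fromNormalization ⁻¹ᵁ U : g.normalization.Opens))
  haveI := hV.isLocalization_stalk ⟨η, hηV⟩
  ext y
  constructor
  · rintro ⟨a, rfl⟩
    obtain ⟨⟨b, s⟩, hbs⟩ := IsLocalization.surj (hV.primeIdealOf ⟨η, hηV⟩).asIdeal.primeCompl a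
    have hb := (exists_sections_equiv X K φ g hg hU hξ _).mp ⟨b, rfl⟩
    have hs := (exists_sections_equiv X K φ g hg hU hξ _).mp ⟨s.1, rfl⟩
    have hb' : IsIntegral X.functionField (j (algebraMap _ (g.normalization.presheaf.stalk η) b)) :=
      IsIntegral.tower_top (R := Γ(X, U)) hb
    have hs' : IsIntegral X.functionField (j (algebraMap _ (g.normalization.presheaf.stalk η) s.1)) :=
      IsIntegral.tower_top (R := Γ(X, U)) hs
    have hs0 : j (algebraMap _ (g.normalization.presheaf.stalk η) s.1) ≠ 0 :=
      ((IsLocalization.map_units (g.normalization.presheaf.stalk η) s).map j).ne_zero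
    have : j a = j (algebraMap _ (g.normalization.presheaf.stalk η) b) *
        (j (algebraMap _ (g.normalization.presheaf.stalk η) s.1))⁻¹ := by
      rw [← hbs, map_mul, mul_assoc, mul_inv_cancel₀ hs0, mul_one]
    change IsIntegral X.functionField (j a)
    rw [this]
    exact hb'.mul hs'.inv
  · intro hy
    have hy' : IsIntegral X.functionField y := hy
    obtain ⟨s, hs⟩ := hy'.exists_multiple_integral_of_isLocalization (nonZeroDivisors Γ(X, U)) y
    obtain ⟨b, hb⟩ := (exists_sections_equiv X K φ g hg hU hξ _).mpr hs
    obtain ⟨c, hc⟩ := (exists_sections_equiv X K φ g hg hU hξ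
      (algebraMap Γ(X, U) K s.1)).mpr ⟨Polynomial.X - Polynomial.C s.1, Polynomial.monic_X_sub_C _, by
        simp; exact sub_self _⟩
    have hs0 : algebraMap Γ(X, U) K s.1 ≠ 0 := by
      intro h0
      have h1 : (X.presheaf.germ U (genericPoint X) hξ).hom s.1 = 0 := φ.injective (h0.trans (map_zero φ).symm)
      exact nonZeroDivisors.ne_zero s.2 (IsFractionRing.injective Γ(X, U) X.functionField (h1.trans (map_zero _).symm))
    refine ⟨(g.normalization.presheaf.germ _ η hηV).hom b * ((g.normalization.presheaf.germ _ η hηV).hom c)⁻¹, ?_⟩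
    change j _ = y
    rw [map_mul, map_inv₀]
    change (j ((g.normalization.presheaf.germ _ η hηV).hom b)) * (j ((g.normalization.presheaf.germ _ η hηV).hom c))⁻¹ = y
    erw [hb, hc]
    rw [Submonoid.smul_def, Algebra.smul_def, mul_comm, ← mul_assoc, inv_mul_cancel₀ hs0, one_mul]

end Groth.Ega2Proj
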