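/-
`h ↦ A(h)` is bijective for affine morphisms.
-/
import Groth.Prelude.Def_AffAlg
import Mathlib.AlgebraicGeometry.Gluing
import Mathlib.Topology.Sheaves.SheafCondition.Sites

set_option autoImplicit false
universe u
open CategoryTheory CategoryTheory.Limits AlgebraicGeometry TopologicalSpace Opposite

namespace Groth.Ega2Proj

variable {X Y S : Scheme.{u}} (f : X ⟶ S) (g : Y ⟶ S)

theorem ι_comp_eq_toSpecΓ (h : Y ⟶ X) {U : X.Opens} (hU : IsAffineOpen U) (W : Y.Opens)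
    (e : W ≤ h ⁻¹ᵁ U) :
    W.ι ≫ h = W.toSpecΓ ≫ Spec.map (h.appLE U W e) ≫ hU.fromSpec := by
  rw [← Category.assoc, Scheme.Opens.toSpecΓ_SpecMap_appLE, Category.assoc,
    IsAffineOpen.toSpecΓ_fromSpec, Scheme.Hom.resLE_comp_ι]

theorem eq_of_toSpecΓ_comp_eq (W : Y.Opens) {R : CommRingCat.{u}} (a b : R ⟶ Γ(Y, W))
    (e : W.toSpecΓ ≫ Spec.map a = W.toSpecΓ ≫ Spec.map b) : a = b := by
  have h1 := congrArg (fun m : (W : Scheme) ⟶ Spec R => (Scheme.ΓSpecIso R).inv ≫ m.appTop) e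
  simp only [Scheme.Hom.comp_appTop, Scheme.ΓSpecIso_naturality_assoc] at h1
  have key : ∀ c : R ⟶ Γ(Y, W), (Scheme.ΓSpecIso R).inv ≫ (Spec.map c).appTop ≫ W.toSpecΓ.appTop =
      c ≫ W.topIso.inv := fun c => by
    rw [Scheme.Opens.toSpecΓ_appTop, Scheme.ΓSpecIso_naturality_assoc, Iso.inv_hom_id_assoc]
  erw [key, key] at h1
  exact (cancel_mono _).mp h1

theorem algHom_app (h : Y ⟶ X) (w : h ≫ f = g) (V : S.Opens)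
    (e : g ⁻¹ᵁ V ≤ h ⁻¹ᵁ (f ⁻¹ᵁ V)) :
    (AffAlg.algHom f g h w).app (op V) = h.appLE (f ⁻¹ᵁ V) (g ⁻¹ᵁ V) e := by
  subst w
  simp only [AffAlg.algHom, eqToHom_refl, Category.comp_id]
  change h.app (f ⁻¹ᵁ V) = _
  rw [Scheme.Hom.app_eq_appLE]
  rfl

theorem preimage_le_of_over (h : Y ⟶ X) (w : h ≫ f = g) (V : S.Opens) :
    g ⁻¹ᵁ V ≤ h ⁻¹ᵁ (f ⁻¹ᵁ V) := by
  rw [← w]; rfl

variable [IsAffineHom f]

theorem algOf_injective : Function.Injective (AffAlg.algOf f g) := by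
  rintro ⟨h₁, w₁⟩ ⟨h₂, w₂⟩ e
  have e' : AffAlg.algHom f g h₁ w₁ = AffAlg.algHom f g h₂ w₂ := congrArg Subtype.val e
  apply Subtype.ext
  refine Scheme.hom_ext_of_forall _ _ fun y => ?_
  obtain ⟨V, hV, hyV, -⟩ := exists_isAffineOpen_mem_and_subset (x := g.base y) (U := (⊤ : S.Opens)) trivial
  refine ⟨g ⁻¹ᵁ V, hyV, ?_⟩
  rw [ι_comp_eq_toSpecΓ h₁ (hV.preimage f) _ (preimage_le_of_over f g h₁ w₁ V),
    ι_comp_eq_toSpecΓ h₂ (hV.preimage f) _ (preimage_le_of_over f g h₂ w₂ V),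
    ← algHom_app f g h₁ w₁ V, ← algHom_app f g h₂ w₂ V, e']

theorem algOf_surjective : Function.Surjective (AffAlg.algOf f g) := by
  rintro ⟨ω, hω⟩
  let T := {V : S.Opens // IsAffineOpen V}
  let l : ∀ V : T, ((g ⁻¹ᵁ V.1 : Y.Opens) : Scheme.{u}) ⟶ X := fun V =>
    (g ⁻¹ᵁ V.1).toSpecΓ ≫ Spec.map (ω.app (op V.1)) ≫ (V.2.preimage f).fromSpec
  have hl : ∀ (V V' : T) (i : V'.1 ≤ V.1),
      Y.homOfLE (show g ⁻¹ᵁ V'.1 ≤ g ⁻¹ᵁ V.1 from fun _ hy => i hy) ≫ l V = l V' := by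
    intro V V' i
    have nat := ω.naturality (homOfLE i).op
    change Y.homOfLE _ ≫ (g ⁻¹ᵁ V.1).toSpecΓ ≫ _ = (g ⁻¹ᵁ V'.1).toSpecΓ ≫ _
    rw [← Scheme.Opens.toSpecΓ_SpecMap_presheaf_map_assoc, ← Spec.map_comp_assoc,
      ← IsAffineOpen.map_fromSpec (V.2.preimage f) (V'.2.preimage f)
        (homOfLE (show f ⁻¹ᵁ V'.1 ≤ f ⁻¹ᵁ V.1 from fun _ hy => i hy)).op,
      ← Spec.map_comp_assoc]
    congr 3
    exact nat.symm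
  have hcov : (⨆ V : T, g ⁻¹ᵁ V.1) = ⊤ := by
    rw [eq_top_iff]
    intro y _
    obtain ⟨V, hV, hyV, -⟩ := exists_isAffineOpen_mem_and_subset (x := g.base y) (U := (⊤ : S.Opens)) trivial
    exact Opens.mem_iSup.mpr ⟨⟨V, hV⟩, hyV⟩
  let 𝒰 : Y.OpenCover := Y.openCoverOfIsOpenCover (fun V : T => g ⁻¹ᵁ V.1) hcov
  have hcomp : ∀ V V' : T, pullback.fst (g ⁻¹ᵁ V.1).ι (g ⁻¹ᵁ V'.1).ι ≫ l V =
      pullback.snd _ _ ≫ l V' := by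
    intro V V'
    let p := pullback.fst (g ⁻¹ᵁ V.1).ι (g ⁻¹ᵁ V'.1).ι
    let q := pullback.snd (g ⁻¹ᵁ V.1).ι (g ⁻¹ᵁ V'.1).ι
    refine Scheme.hom_ext_of_forall _ _ fun z => ?_
    let y := (p ≫ (g ⁻¹ᵁ V.1).ι).base z
    have hy1 : g.base y ∈ V.1 := (p.base z).2
    have hy2 : g.base y ∈ V'.1 := by
      have : y = (q ≫ (g ⁻¹ᵁ V'.1).ι).base z := congrArg (fun m : _ ⟶ Y => m.base z) pullback.condition
      rw [this]; exact (q.base z).2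
    obtain ⟨W, hW, hyW, hWV⟩ := exists_isAffineOpen_mem_and_subset (x := g.base y) (U := V.1 ⊓ V'.1) ⟨hy1, hy2⟩
    refine ⟨(p ≫ (g ⁻¹ᵁ V.1).ι) ⁻¹ᵁ (g ⁻¹ᵁ W), hyW, ?_⟩
    let O := (p ≫ (g ⁻¹ᵁ V.1).ι) ⁻¹ᵁ (g ⁻¹ᵁ W)
    let a : (O : Scheme.{u}) ⟶ (g ⁻¹ᵁ W : Y.Opens) := (p ≫ (g ⁻¹ᵁ V.1).ι).resLE (g ⁻¹ᵁ W) O le_rfl
    have ha : a ≫ (g ⁻¹ᵁ W).ι = O.ι ≫ p ≫ (g ⁻¹ᵁ V.1).ι := Scheme.Hom.resLE_comp_ι _ _
    have h1 : O.ι ≫ p = a ≫ Y.homOfLE (show g ⁻¹ᵁ W ≤ g ⁻¹ᵁ V.1 from fun _ h => (hWV h).1) := by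
      rw [← cancel_mono (g ⁻¹ᵁ V.1).ι, Category.assoc, Category.assoc, Scheme.homOfLE_ι, ha]
    have h2 : O.ι ≫ q = a ≫ Y.homOfLE (show g ⁻¹ᵁ W ≤ g ⁻¹ᵁ V'.1 from fun _ h => (hWV h).2) := by
      rw [← cancel_mono (g ⁻¹ᵁ V'.1).ι, Category.assoc, Category.assoc, Scheme.homOfLE_ι, ha]
      rw [pullback.condition]
    change O.ι ≫ p ≫ l V = O.ι ≫ q ≫ l V'
    rw [← Category.assoc O.ι p, ← Category.assoc O.ι q, h1, h2, Category.assoc, Category.assoc,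
      hl V ⟨W, hW⟩ (fun _ h => (hWV h).1), hl V' ⟨W, hW⟩ (fun _ h => (hWV h).2)]
  let h : Y ⟶ X := 𝒰.glueMorphisms l hcomp
  have hh : ∀ V : T, (g ⁻¹ᵁ V.1).ι ≫ h = l V := fun V => Scheme.Cover.ι_glueMorphisms 𝒰 l hcomp V
  have w : h ≫ f = g := by
    refine Scheme.Cover.hom_ext 𝒰 _ _ fun (V : T) => ?_
    change (g ⁻¹ᵁ V.1).ι ≫ h ≫ f = (g ⁻¹ᵁ V.1).ι ≫ g
    rw [← Category.assoc, hh, ι_comp_eq_toSpecΓ g V.2 (g ⁻¹ᵁ V.1) le_rfl]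
    have e1 := IsAffineOpen.SpecMap_appLE_fromSpec f V.2 (V.2.preimage f) le_rfl
    change ((g ⁻¹ᵁ V.1).toSpecΓ ≫ Spec.map (ω.app (op V.1)) ≫ (V.2.preimage f).fromSpec) ≫ f = _
    rw [Category.assoc, Category.assoc, ← e1, ← Spec.map_comp_assoc]
    congr 3
    rw [← Scheme.Hom.app_eq_appLE, ← Scheme.Hom.app_eq_appLE]
    exact congrArg (fun m : S.presheaf ⟶ AffAlg.alg g => m.app (op V.1)) hω
  refine ⟨⟨h, w⟩, Subtype.ext ?_⟩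
  change AffAlg.algHom f g h w = ω
  refine TopCat.Sheaf.hom_ext (F := AffAlg.alg f)
    (F' := (TopCat.Sheaf.pushforward _ g.base).obj Y.sheaf) (B := fun V : T => V.1) ?_ ?_
  · have e : Set.range (fun V : T => V.1) = S.affineOpens := Subtype.range_coe
    rw [e]; exact S.isBasis_affineOpens
  · intro V
    rw [algHom_app f g h w V.1 (preimage_le_of_over f g h w V.1)]
    apply eq_of_toSpecΓ_comp_eq
    rw [← cancel_mono (V.2.preimage f).fromSpec, Category.assoc, Category.assoc,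
      ← ι_comp_eq_toSpecΓ h (V.2.preimage f), hh]

theorem algOf_bijective : Function.Bijective (AffAlg.algOf f g) :=
  ⟨algOf_injective f g, algOf_surjective f g⟩

end Groth.Ega2Proj
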