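/-
A morphism to an integral scheme over `X` defined on a dense open of a normal integral scheme extends.
-/
import Groth.Agent.Ega2Proj.AlgOf
import Groth.Prelude.Def_Pi1
import Mathlib.AlgebraicGeometry.FunctionField
import Mathlib.AlgebraicGeometry.Morphisms.Integral

set_option autoImplicit false
universe u
open CategoryTheory CategoryTheory.Limits AlgebraicGeometry TopologicalSpace Opposite

namespace Groth.Ega2Proj

variable {Y : Scheme.{u}} [IsIntegral Y]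

theorem ι_app_injective {U : Y.Opens} (hU : Dense (U : Set Y)) (W : Y.Opens) :
    Function.Injective (U.ι.app W).hom := by
  by_cases hW : (W : Set Y).Nonempty
  · obtain ⟨z, hz⟩ := hU.inter_open_nonempty W W.2 hW
    haveI : Nonempty ((U.ι ''ᵁ (U.ι ⁻¹ᵁ W) : Y.Opens) : Scheme.{u}) := ⟨⟨z, ⟨⟨z, hz.2⟩, hz.1, rfl⟩⟩⟩
    rw [Scheme.Opens.ι_app]
    exact map_injective_of_isIntegral Y _
  · intro a b _
    have : W = ⊥ := Opens.ext (Set.not_nonempty_iff_eq_empty.mp hW)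
    subst this
    exact Subsingleton.elim _ _

theorem exists_section_of_locally_integral (hY : Pi1.IsNormalScheme Y) {U : Y.Opens}
    (hU : Dense (U : Set Y)) (W : Y.Opens) (s : Γ((U : Scheme.{u}), U.ι ⁻¹ᵁ W))
    (hs : ∀ y ∈ W, ∃ (W' : Y.Opens) (i : W' ≤ W) (_ : y ∈ W') (p : Polynomial Γ(Y, W')), p.Monic ∧
      p.eval₂ (U.ι.app W').hom
        (((U : Scheme.{u}).presheaf.map (homOfLE (show U.ι ⁻¹ᵁ W' ≤ U.ι ⁻¹ᵁ W from fun _ h => i h)).op).hom s) = 0) :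
    ∃ c : Γ(Y, W), (U.ι.app W).hom c = s := by
  classical
  have hloc : ∀ y : W, ∃ (O : Y.Opens) (i : O ≤ W) (_ : (y : Y) ∈ O) (c : Γ(Y, O)), (U.ι.app O).hom c =
      ((U : Scheme.{u}).presheaf.map (homOfLE (show U.ι ⁻¹ᵁ O ≤ U.ι ⁻¹ᵁ W from fun _ h => i h)).op).hom s := by
    rintro ⟨y, hy⟩
    obtain ⟨W', i, hyW', p, hp, hps⟩ := hs y hy
    haveI := (hY y).1
    haveI := (hY y).2
    have hξU : genericPoint Y ∈ U := by
      obtain ⟨z, hz⟩ := hU.inter_open_nonempty (⊤ : Y.Opens) isOpen_univ ⟨y, trivial⟩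
      exact ((genericPoint_spec Y).mem_open_set_iff U.2).mpr ⟨z, trivial, hz.2⟩
    have hξW : genericPoint Y ∈ W' :=
      ((genericPoint_spec Y).mem_open_set_iff W'.2).mpr ⟨y, trivial, hyW'⟩
    -- the section `s` on `U ∩ W'`, seen in the function field
    let P := U.ι ''ᵁ (U.ι ⁻¹ᵁ W')
    have hξP : genericPoint Y ∈ P := ⟨⟨_, hξU⟩, hξW, rfl⟩
    let s' : Γ(Y, P) := ((U : Scheme.{u}).presheaf.map
      (homOfLE (show U.ι ⁻¹ᵁ W' ≤ U.ι ⁻¹ᵁ W from fun _ h => i h)).op).hom s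
    let q : Y.functionField := (Y.presheaf.germ P _ hξP).hom s'
    have hq : _root_.IsIntegral (Y.presheaf.stalk y) q := by
      refine ⟨p.map (Y.presheaf.germ W' y hyW').hom, hp.map _, ?_⟩
      have hcomp : (algebraMap (Y.presheaf.stalk y) Y.functionField).comp (Y.presheaf.germ W' y hyW').hom =
          (Y.presheaf.germ P _ hξP).hom.comp (U.ι.app W').hom := by
        rw [Scheme.Opens.ι_app]
        refine (congrArg CommRingCat.Hom.hom (TopCat.Presheaf.germ_stalkSpecializes Y.presheaf hyW'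
          ((genericPoint_spec Y).specializes trivial))).trans ?_
        exact (congrArg CommRingCat.Hom.hom (TopCat.Presheaf.germ_res Y.presheaf _ _ hξP)).symm
      rw [Polynomial.eval₂_map, hcomp]
      refine (Polynomial.hom_eval₂ p (U.ι.app W').hom (Y.presheaf.germ P _ hξP).hom s').symm.trans ?_
      exact (congrArg _ hps).trans (map_zero _)
    obtain ⟨a, ha⟩ := IsIntegrallyClosed.isIntegral_iff.mp hq
    obtain ⟨O₁, hyO₁, c₁, hc₁⟩ := Y.presheaf.germ_exist a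
    let O := O₁ ⊓ W'
    have hyO : y ∈ O := ⟨hyO₁, hyW'⟩
    let c : Γ(Y, O) := (Y.presheaf.map (homOfLE (inf_le_left : O ≤ O₁)).op).hom c₁
    refine ⟨O, inf_le_right.trans i, hyO, c, ?_⟩
    have hξO : genericPoint Y ∈ O := ((genericPoint_spec Y).mem_open_set_iff O.2).mpr ⟨y, trivial, hyO⟩
    have hξPO : genericPoint Y ∈ U.ι ''ᵁ (U.ι ⁻¹ᵁ O) := ⟨⟨_, hξU⟩, hξO, rfl⟩
    haveI : Nonempty ((U.ι ''ᵁ (U.ι ⁻¹ᵁ O) : Y.Opens) : Scheme.{u}) := ⟨⟨_, hξPO⟩⟩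
    apply germ_injective_of_isIntegral Y (genericPoint Y) hξPO
    have hR : ∀ (t : Γ((U : Scheme.{u}), U.ι ⁻¹ᵁ W')),
        (Y.presheaf.germ (U.ι ''ᵁ (U.ι ⁻¹ᵁ O)) _ hξPO).hom
          (((U : Scheme.{u}).presheaf.map (homOfLE (show U.ι ⁻¹ᵁ O ≤ U.ι ⁻¹ᵁ W' from fun _ h => h.2)).op).hom t) =
        (Y.presheaf.germ P _ hξP).hom t := fun t => by
      exact TopCat.Presheaf.germ_res_apply Y.presheaf _ _ hξPO t
    refine Eq.trans ?_ (Eq.trans ((hR s').symm) ?_)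
    · rw [Scheme.Opens.ι_app]
      refine (TopCat.Presheaf.germ_res_apply Y.presheaf _ _ hξPO c).trans ?_
      refine (TopCat.Presheaf.germ_res_apply Y.presheaf _ _ hξO c₁).trans ?_
      change _ = q
      rw [← ha, ← hc₁]
      exact (TopCat.Presheaf.germ_stalkSpecializes_apply Y.presheaf hyO₁
        ((genericPoint_spec Y).specializes trivial) c₁).symm
    · refine congrArg _ ?_
      change (((U : Scheme.{u}).presheaf.map _) ≫ ((U : Scheme.{u}).presheaf.map _)).hom s = _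
      rw [← Functor.map_comp]
      rfl
  choose O i hyO c hc using hloc
  have hcompat : TopCat.Presheaf.IsCompatible Y.presheaf O c := by
    intro y z
    apply ι_app_injective hU (O y ⊓ O z)
    have n : ∀ (w : W) (le : O y ⊓ O z ≤ O w),
        (U.ι.app (O y ⊓ O z)).hom ((Y.presheaf.map (homOfLE le).op).hom (c w)) =
          ((U : Scheme.{u}).presheaf.map (homOfLE (show U.ι ⁻¹ᵁ (O y ⊓ O z) ≤ U.ι ⁻¹ᵁ W from
            fun _ h => i w (le h))).op).hom s := by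
      intro w le
      have nat : Y.presheaf.map (homOfLE le).op ≫ U.ι.app (O y ⊓ O z) = U.ι.app (O w) ≫
          (U : Scheme.{u}).presheaf.map (homOfLE (show U.ι ⁻¹ᵁ (O y ⊓ O z) ≤ U.ι ⁻¹ᵁ (O w) from
            fun _ h => le h)).op := U.ι.naturality (homOfLE le).op
      refine (congrArg (fun m => CommRingCat.Hom.hom m (c w)) nat).trans ?_
      refine (congrArg _ (hc w)).trans ?_
      change (((U : Scheme.{u}).presheaf.map _) ≫ ((U : Scheme.{u}).presheaf.map _)).hom s = _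
      rw [← Functor.map_comp]
      rfl
    exact (n y inf_le_left).trans (n z inf_le_right).symm
  obtain ⟨d, hd, -⟩ := TopCat.Sheaf.existsUnique_gluing' Y.sheaf O W (fun y => homOfLE (i y))
    (fun z hz => Opens.mem_iSup.mpr ⟨⟨z, hz⟩, hyO ⟨z, hz⟩⟩) c hcompat
  refine ⟨d, ?_⟩
  refine TopCat.Sheaf.eq_of_locally_eq' (U : Scheme.{u}).sheaf (fun y : W => U.ι ⁻¹ᵁ (O y)) (U.ι ⁻¹ᵁ W)
    (fun y => homOfLE (show U.ι ⁻¹ᵁ (O y) ≤ U.ι ⁻¹ᵁ W from fun _ h => i y h))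
    (fun z hz => Opens.mem_iSup.mpr ⟨⟨U.ι.base z, hz⟩, hyO ⟨U.ι.base z, hz⟩⟩) _ _ fun y => ?_
  have nat : Y.presheaf.map (homOfLE (i y)).op ≫ U.ι.app (O y) = U.ι.app W ≫
      (U : Scheme.{u}).presheaf.map (homOfLE (show U.ι ⁻¹ᵁ (O y) ≤ U.ι ⁻¹ᵁ W from
        fun _ h => i y h)).op := U.ι.naturality (homOfLE (i y)).op
  refine (congrArg (fun m => CommRingCat.Hom.hom m d) nat).symm.trans ?_
  exact (congrArg _ (hd y)).trans (hc y)

theorem exists_extension_of_integral (hY : Pi1.IsNormalScheme Y) {X X' : Scheme.{u}}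
    (g : X' ⟶ X) [IsIntegralHom g] (U : Y.Opens) (hU : Dense (U : Set Y))
    (f : (U : Scheme.{u}) ⟶ X') (h : Y ⟶ X) (hfh : f ≫ g = U.ι ≫ h) :
    ∃ f' : Y ⟶ X', U.ι ≫ f' = f ∧ f' ≫ g = h := by
  classical
  have le : ∀ V : X.Opens, U.ι ⁻¹ᵁ (h ⁻¹ᵁ V) ≤ f ⁻¹ᵁ (g ⁻¹ᵁ V) := fun V =>
    preimage_le_of_over g (U.ι ≫ h) f hfh V
  let j : ∀ V : X.Opens, Γ(Y, h ⁻¹ᵁ V) →+* Γ((U : Scheme.{u}), U.ι ⁻¹ᵁ (h ⁻¹ᵁ V)) := fun V =>
    (U.ι.app (h ⁻¹ᵁ V)).hom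
  let a : ∀ V : X.Opens, Γ(X', g ⁻¹ᵁ V) →+* Γ((U : Scheme.{u}), U.ι ⁻¹ᵁ (h ⁻¹ᵁ V)) := fun V =>
    (f.appLE (g ⁻¹ᵁ V) (U.ι ⁻¹ᵁ (h ⁻¹ᵁ V)) (le V)).hom
  have hcomm : ∀ (V : X.Opens), (a V).comp (g.app V).hom = (j V).comp (h.app V).hom := by
    intro V
    have e1 : g.app V ≫ f.appLE (g ⁻¹ᵁ V) (U.ι ⁻¹ᵁ (h ⁻¹ᵁ V)) (le V) =
        (f ≫ g).appLE V (U.ι ⁻¹ᵁ (h ⁻¹ᵁ V)) (le V) := by
      exact (Scheme.Hom.comp_appLE f g V (U.ι ⁻¹ᵁ (h ⁻¹ᵁ V)) (le V)).symm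
    have key : ∀ (k : (U : Scheme.{u}) ⟶ X) (hk : k = U.ι ≫ h) (e : U.ι ⁻¹ᵁ (h ⁻¹ᵁ V) ≤ k ⁻¹ᵁ V),
        k.appLE V (U.ι ⁻¹ᵁ (h ⁻¹ᵁ V)) e = h.app V ≫ U.ι.app (h ⁻¹ᵁ V) := by
      rintro k rfl e
      rw [Scheme.Hom.comp_appLE, ← Scheme.Hom.app_eq_appLE]
    exact congrArg CommRingCat.Hom.hom (e1.trans (key _ hfh _))
  have hrange : ∀ (V : X.Opens) (b : Γ(X', g ⁻¹ᵁ V)), ∃ c, j V c = a V b := by
    intro V b
    refine exists_section_of_locally_integral hY hU _ _ fun y hy => ?_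
    obtain ⟨V', hV', hyV', hV'V⟩ := exists_isAffineOpen_mem_and_subset (x := h.base y) (U := V) hy
    let b' := (X'.presheaf.map (homOfLE (show g ⁻¹ᵁ V' ≤ g ⁻¹ᵁ V from fun _ hz => hV'V hz)).op).hom b
    obtain ⟨p, hp, hpb⟩ := IsIntegralHom.isIntegral_app (f := g) V' hV' b'
    refine ⟨h ⁻¹ᵁ V', fun _ hz => hV'V hz, hyV', p.map (h.app V').hom, hp.map _, ?_⟩
    rw [Polynomial.eval₂_map]
    have hb' : ((U : Scheme.{u}).presheaf.map (homOfLE (show U.ι ⁻¹ᵁ (h ⁻¹ᵁ V') ≤ U.ι ⁻¹ᵁ (h ⁻¹ᵁ V) from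
        fun _ hz => hV'V hz)).op).hom (a V b) = a V' b' := by
      change (f.appLE _ _ (le V) ≫ (U : Scheme.{u}).presheaf.map _).hom b =
        (X'.presheaf.map _ ≫ f.appLE _ _ (le V')).hom b
      rw [Scheme.Hom.appLE_map, Scheme.Hom.map_appLE]
    rw [hb', ← hcomm V', ← Polynomial.hom_eval₂, hpb, map_zero]
  let e : ∀ V : X.Opens, Γ(Y, h ⁻¹ᵁ V) ≃+* (j V).range := fun V =>
    RingEquiv.ofBijective (j V).rangeRestrict
      ⟨fun c d hcd => ι_app_injective hU _ (congrArg Subtype.val hcd), RingHom.rangeRestrict_surjective _⟩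
  let w : ∀ V : X.Opens, Γ(X', g ⁻¹ᵁ V) →+* Γ(Y, h ⁻¹ᵁ V) := fun V =>
    (e V).symm.toRingHom.comp ((a V).codRestrict _ (fun b => hrange V b))
  have hw : ∀ V b, j V (w V b) = a V b := fun V b =>
    congrArg Subtype.val ((e V).apply_symm_apply ((a V).codRestrict _ (fun b => hrange V b) b))
  let ω : AffAlg.algHoms g h :=
    ⟨{ app := fun V => CommRingCat.ofHom (w V.unop)
       naturality := fun V V' i => by
        ext b
        apply ι_app_injective hU (h ⁻¹ᵁ V'.unop)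
        refine (hw V'.unop _).trans ?_
        have nat : Y.presheaf.map (homOfLE (show h ⁻¹ᵁ V'.unop ≤ h ⁻¹ᵁ V.unop from fun _ hz => i.unop.le hz)).op ≫
            U.ι.app (h ⁻¹ᵁ V'.unop) = U.ι.app (h ⁻¹ᵁ V.unop) ≫ (U : Scheme.{u}).presheaf.map
              (homOfLE (show U.ι ⁻¹ᵁ (h ⁻¹ᵁ V'.unop) ≤ U.ι ⁻¹ᵁ (h ⁻¹ᵁ V.unop) from
                fun _ hz => i.unop.le hz)).op := U.ι.naturality _
        refine Eq.trans ?_ (congrArg (fun m => CommRingCat.Hom.hom m (w V.unop b)) nat).symm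
        refine Eq.trans ?_ (congrArg _ (hw V.unop b)).symm
        change (X'.presheaf.map _ ≫ f.appLE _ _ (le V'.unop)).hom b =
          (f.appLE _ _ (le V.unop) ≫ (U : Scheme.{u}).presheaf.map _).hom b
        rw [Scheme.Hom.appLE_map, Scheme.Hom.map_appLE] },
     by
      ext V r
      apply ι_app_injective hU (h ⁻¹ᵁ V)
      refine (hw V _).trans ?_
      exact RingHom.congr_fun (hcomm V) r⟩
  obtain ⟨⟨f', hf'⟩, hω⟩ := algOf_surjective g h ω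
  refine ⟨f', ?_, hf'⟩
  have h1 : (U.ι ≫ f') ≫ g = U.ι ≫ h := by rw [Category.assoc, hf']
  have h2 : AffAlg.algOf g (U.ι ≫ h) ⟨U.ι ≫ f', h1⟩ = AffAlg.algOf g (U.ι ≫ h) ⟨f, hfh⟩ := by
    apply Subtype.ext
    refine NatTrans.ext (funext fun V => ?_)
    change (AffAlg.algHom g (U.ι ≫ h) _ h1).app (op V.unop) = (AffAlg.algHom g (U.ι ≫ h) _ hfh).app (op V.unop)
    rw [algHom_app g (U.ι ≫ h) (U.ι ≫ f') h1 V.unop (preimage_le_of_over g (U.ι ≫ h) _ h1 V.unop),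
      algHom_app g (U.ι ≫ h) f hfh V.unop (preimage_le_of_over g (U.ι ≫ h) _ hfh V.unop)]
    have h3 := congrArg (fun m : AffAlg.algHoms g h => m.1.app (op V.unop)) hω
    change (AffAlg.algHom g h f' hf').app (op V.unop) = CommRingCat.ofHom (w V.unop) at h3
    rw [algHom_app g h f' hf' V.unop (preimage_le_of_over g h f' hf' V.unop)] at h3
    erw [← Scheme.Hom.appLE_comp_appLE U.ι f' (g ⁻¹ᵁ V.unop) (h ⁻¹ᵁ V.unop) (U.ι ⁻¹ᵁ (h ⁻¹ᵁ V.unop))
      (preimage_le_of_over g h f' hf' V.unop) le_rfl, h3]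
    rw [← Scheme.Hom.app_eq_appLE]
    exact CommRingCat.hom_ext (RingHom.ext (hw V.unop))
  exact congrArg Subtype.val (algOf_injective g (U.ι ≫ h) h2)

end Groth.Ega2Proj
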