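/-
Base change of the direct image of a quasi-coherent module by an affine morphism.
-/
import Groth.Agent.LocFree.ExtPullback
import Groth.Agent.LocFree.AffineHom
import Groth.Agent.QCohMod.QCQS
import Mathlib.AlgebraicGeometry.Morphisms.Flat
import Mathlib.Algebra.Category.Ring.Constructions
import Mathlib.RingTheory.IsTensorProduct

set_option autoImplicit false
universe u
open CategoryTheory AlgebraicGeometry TensorProduct

namespace Groth.Ega2Proj.AffBC


theorem bijective_of_pushout {R S A B : Type u} [CommRing R] [CommRing S] [CommRing A] [CommRing B]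
    [Algebra R A] [Algebra R S] [Algebra R B] [Algebra A B] [Algebra S B] [IsScalarTower R A B]
    [IsScalarTower R S B] [Algebra.IsPushout R S A B]
    {M M₀ N P : Type u} [AddCommGroup M] [Module A M] [AddCommGroup M₀] [Module R M₀]
    [AddCommGroup N] [Module B N] [Module A N] [IsScalarTower A B N]
    [AddCommGroup P] [Module S P] [Module R P] [IsScalarTower R S P]
    (e : M₀ ≃+ M) (he : ∀ (r : R) m, e (r • m) = algebraMap R A r • e m)
    (b : M →ₗ[A] N) (hb : IsBaseChange B b) (a : M₀ →ₗ[R] P) (ha : IsBaseChange S a)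
    (ψ : P →+ N) (hψ : ∀ (s : S) p, ψ (s • p) = algebraMap S B s • ψ p)
    (h : ∀ m, ψ (a m) = b (e m)) : Function.Bijective ψ := by
  let _ : Module R M := Module.compHom M (algebraMap R A)
  let _ : Module S N := Module.compHom N (algebraMap S B)
  let _ : Module R N := Module.compHom N (algebraMap R B)
  haveI : IsScalarTower R A M := IsScalarTower.of_algebraMap_smul fun _ _ => rfl
  haveI : IsScalarTower S B N := IsScalarTower.of_algebraMap_smul fun _ _ => rfl
  haveI : IsScalarTower R S N := IsScalarTower.of_algebraMap_smul fun r n => by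
    show algebraMap S B (algebraMap R S r) • n = algebraMap R B r • n
    rw [← IsScalarTower.algebraMap_apply]
  haveI : IsScalarTower R A N := IsScalarTower.of_algebraMap_smul fun r n => by
    show algebraMap R A r • n = algebraMap R B r • n
    rw [← algebraMap_smul B (algebraMap R A r) n, ← IsScalarTower.algebraMap_apply]
  let e' : M₀ ≃ₗ[R] M := { e with map_smul' := he }
  have hb' : IsBaseChange S ((b.restrictScalars R) ∘ₗ e'.toLinearMap) := by
    refine IsBaseChange.of_equiv ((AlgebraTensorModule.congr (LinearEquiv.refl S S) e').trans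
      ((Algebra.IsPushout.cancelBaseChange R S A B M).symm.trans (hb.equiv.restrictScalars S))) fun m => ?_
    simp [IsBaseChange.equiv_tmul, e']
  let ψ' : P →ₗ[S] N := { ψ with map_smul' := hψ }
  exact Groth.LocFree.bijective_of_isBaseChange ha hb' ψ' (LinearMap.ext fun m => h m)

open Scheme.Modules Groth.PicAux

variable {X S X' S' : Scheme.{u}} (f : X ⟶ S) (g : S' ⟶ S) (g' : X' ⟶ X) (f' : X' ⟶ S')

theorem isPushout_appLE (h : IsPullback g' f' f g) [IsAffineHom f] {U : S.Opens} (hU : IsAffineOpen U)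
    {V : S'.Opens} (hV : IsAffineOpen V) (e : V ≤ g ⁻¹ᵁ U) (e' : f' ⁻¹ᵁ V ≤ g' ⁻¹ᵁ (f ⁻¹ᵁ U)) :
    IsPushout (g.appLE U V e) (f.app U) (f'.app V) (g'.appLE (f ⁻¹ᵁ U) (f' ⁻¹ᵁ V) e') := by
  have hiso := isIso_pushoutSection_of_isAffineOpen h (US := U) (UT := V) (UX := f ⁻¹ᵁ U)
    (UY := f' ⁻¹ᵁ V) e le_rfl (by exact (inf_eq_right.2 e').symm) hU hV (hU.preimage f)
  have := (isIso_pushoutSection_iff h (US := U) (UT := V) (UX := f ⁻¹ᵁ U) (UY := f' ⁻¹ᵁ V)
    e le_rfl (by exact (inf_eq_right.2 e').symm)).1 hiso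
  simpa only [Scheme.Hom.app_eq_appLE] using this.flip

theorem bijective_app (h : IsPullback g' f' f g) [IsAffineHom f] (F : X.Modules) [F.IsQuasicoherent]
    (β : (pullback g).obj ((pushforward f).obj F) ⟶ (pushforward f').obj ((pullback g').obj F))
    (hβ : ∀ (U : S.Opens) (V : S'.Opens) (e : V ≤ g ⁻¹ᵁ U) (e' : f' ⁻¹ᵁ V ≤ g' ⁻¹ᵁ (f ⁻¹ᵁ U))
      (m : Γ(F, f ⁻¹ᵁ U)),
      β.app V (res _ e (pullSec g ((pushforward f).obj F) (U := U) m)) = res _ e' (pullSec g' F m))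
    {U : S.Opens} (hU : IsAffineOpen U) {V : S'.Opens} (hV : IsAffineOpen V) (e : V ≤ g ⁻¹ᵁ U) :
    Function.Bijective (β.app V) := by
  haveI := h.flip
  haveI : IsAffineHom f' := MorphismProperty.of_isPullback h inferInstance
  have e' : f' ⁻¹ᵁ V ≤ g' ⁻¹ᵁ (f ⁻¹ᵁ U) := by
    rw [← Scheme.Hom.comp_preimage, h.w, Scheme.Hom.comp_preimage]
    exact f'.preimage_mono e
  haveI := Groth.QCohMod.isQCoh_pushforward F f
  have hpo := isPushout_appLE f g g' f' h hU hV e e'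
  letI algRS := Groth.QCohMod.sectionsAlg g e
  letI algAB := Groth.QCohMod.sectionsAlg g' e'
  letI algRA : Algebra Γ(S, U) Γ(X, f ⁻¹ᵁ U) := (f.app U).hom.toAlgebra
  letI algSB : Algebra Γ(S', V) Γ(X', f' ⁻¹ᵁ V) := (f'.app V).hom.toAlgebra
  letI algRB : Algebra Γ(S, U) Γ(X', f' ⁻¹ᵁ V) := (g.appLE U V e ≫ f'.app V).hom.toAlgebra
  haveI : IsScalarTower Γ(S, U) Γ(S', V) Γ(X', f' ⁻¹ᵁ V) := IsScalarTower.of_algebraMap_eq fun _ => rfl
  haveI : IsScalarTower Γ(S, U) Γ(X, f ⁻¹ᵁ U) Γ(X', f' ⁻¹ᵁ V) :=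
    IsScalarTower.of_algebraMap_eq fun r => congr(($(hpo.w)).hom r)
  haveI : Algebra.IsPushout Γ(S, U) Γ(S', V) Γ(X, f ⁻¹ᵁ U) Γ(X', f' ⁻¹ᵁ V) :=
    CommRingCat.isPushout_iff_isPushout.1 hpo
  letI modP : Module Γ(S, U) Γ((pullback g).obj ((pushforward f).obj F), V) :=
    Module.compHom _ (g.appLE U V e).hom
  haveI : IsScalarTower Γ(S, U) Γ(S', V) Γ((pullback g).obj ((pushforward f).obj F), V) :=
    IsScalarTower.of_algebraMap_smul fun _ _ => rfl
  letI modN : Module Γ(X, f ⁻¹ᵁ U) Γ((pullback g').obj F, f' ⁻¹ᵁ V) :=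
    Module.compHom _ (g'.appLE (f ⁻¹ᵁ U) (f' ⁻¹ᵁ V) e').hom
  haveI : IsScalarTower Γ(X, f ⁻¹ᵁ U) Γ(X', f' ⁻¹ᵁ V) Γ((pullback g').obj F, f' ⁻¹ᵁ V) :=
    IsScalarTower.of_algebraMap_smul fun _ _ => rfl
  exact bijective_of_pushout (R := Γ(S, U)) (S := Γ(S', V)) (A := Γ(X, f ⁻¹ᵁ U)) (B := Γ(X', f' ⁻¹ᵁ V))
    (M₀ := Γ((pushforward f).obj F, U)) (M := Γ(F, f ⁻¹ᵁ U)) (N := Γ((pullback g').obj F, f' ⁻¹ᵁ V))
    (AddEquiv.refl _) (fun r m => rfl) _
    (Groth.LocFree.isBaseChange_pullSecₗ g' F e' (hU.preimage f) (hV.preimage f'))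
    _ (Groth.LocFree.isBaseChange_pullSecₗ g ((pushforward f).obj F) e hU hV)
    (β.app V).hom (fun s p => β.app_smul s p) (fun m => hβ U V e e' m)

end Groth.Ega2Proj.AffBC
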