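/-
`O(1)` is ample on `Proj` of a graded ring generated in degree one by finitely many elements
(gradings by additive subgroups).
-/
import Groth.Agent.RelTwist.Basic
import Groth.Agent.Ega2Proj.RelAmple

set_option autoImplicit false
universe u
open CategoryTheory AlgebraicGeometry Opposite TopologicalSpace

set_option backward.isDefEq.respectTransparency.types false

namespace Groth.Ega2Proj.GrAmple

open Groth.PicAux Groth.RelTw Groth.PropsBasic.Ample

variable {A σ : Type u} [CommRing A] [SetLike σ A] [AddSubgroupClass σ A] {𝒜 : ℕ → σ} [GradedRing 𝒜]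

theorem one_notMem (x : ProjectiveSpectrum 𝒜) : (1 : A) ∉ x.asHomogeneousIdeal := fun h =>
  x.isPrime.ne_top ((Ideal.eq_top_iff_one _).2 h)

/-- The global section of `O(1)` given by an element of degree one. -/
noncomputable def sec {f : A} (hf : f ∈ 𝒜 1) : Γ(GrTwist.twist 𝒜 (1 : ℤ), ⊤) :=
  frac hf (SetLike.one_mem_graded 𝒜) (by norm_num) ⊤ (fun x _ => one_notMem x)

theorem gval_sec {f : A} (hf : f ∈ 𝒜 1) (x : ProjectiveSpectrum 𝒜) (hx : x ∈ (⊤ : (Proj 𝒜).Opens)) :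
    gval (sec hf) x hx = algebraMap A (GrTwist.Loc 𝒜 x) f :=
  (Localization.mk_one_eq_algebraMap f)

theorem gen_res_sec {f : A} (hf : f ∈ 𝒜 1) :
    Gen (GrTwist.twist 𝒜 (1 : ℤ)) (Proj.basicOpen 𝒜 f) (res _ le_top (sec hf)) :=
  gen_frac hf (SetLike.one_mem_graded 𝒜) (by norm_num) _ (fun x _ => one_notMem x) fun _ hx => hx

theorem gloc_sec (hgen : (HomogeneousIdeal.irrelevant 𝒜).toIdeal ≤ Ideal.span (𝒜 1 : Set A))
    {f : A} (hf : f ∈ 𝒜 1) : gloc (sec hf) = Proj.basicOpen 𝒜 f := by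
  refine le_antisymm (fun x hx => ?_) (le_gloc (gen_res_sec hf))
  obtain ⟨g, hg, hgx⟩ := exists_frac_cover hgen x
  let V : (Proj 𝒜).Opens := gloc (sec hf) ⊓ Proj.basicOpen 𝒜 g
  have hxV : x ∈ V := ⟨hx, hgx⟩
  obtain ⟨c, hc⟩ := (gen_gloc (sec hf) le_rfl).exists_coeff (V := V) inf_le_left
    (res _ le_top (sec hg))
  have h1 := congrArg (fun s => gval s x hxV) hc
  simp only [gval_smul, gval_res, gval_sec] at h1
  change f ∉ x.asHomogeneousIdeal
  have : x.asHomogeneousIdeal.toIdeal.IsPrime := x.isPrime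
  have hu : IsUnit (algebraMap A (GrTwist.Loc 𝒜 x) g) :=
    (IsLocalization.AtPrime.isUnit_to_map_iff _ x.asHomogeneousIdeal.toIdeal g).mpr hgx
  rw [h1] at hu
  exact (IsLocalization.AtPrime.isUnit_to_map_iff _ x.asHomogeneousIdeal.toIdeal f).mp
    (isUnit_of_mul_isUnit_right hu)

theorem isInvertible_twist_one
    (hgen : (HomogeneousIdeal.irrelevant 𝒜).toIdeal ≤ Ideal.span (𝒜 1 : Set A)) :
    PicF.IsInvertible (GrTwist.twist 𝒜 (1 : ℤ)) := by
  rw [isInvertible_iff_exists_gen]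
  intro x
  obtain ⟨g, hg, hgx⟩ := exists_frac_cover hgen x
  exact ⟨_, _, hgx, gen_res_sec hg⟩

/-- `O(1)` is ample when the irrelevant ideal is generated by finitely many degree-one elements. -/
theorem isAmple_twist_one (s : Finset A) (hs1 : ∀ f ∈ s, f ∈ 𝒜 1)
    (hs : (HomogeneousIdeal.irrelevant 𝒜).toIdeal ≤ Ideal.span (s : Set A)) :
    CohB1.IsAmple (GrTwist.twist 𝒜 (1 : ℤ)) := by
  have hgen := hs.trans (Ideal.span_mono hs1)
  have hinv := isInvertible_twist_one hgen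
  have hcov : ⨆ f : s, Proj.basicOpen 𝒜 (f : A) = ⊤ :=
    Proj.iSup_basicOpen_eq_top 𝒜 (fun f : s => (f : A))
      (hs.trans (Ideal.span_mono fun x hx => ⟨⟨x, hx⟩, rfl⟩))
  refine ⟨hinv, ⟨?_⟩, fun x => ?_⟩
  · rw [← Opens.coe_top, ← hcov, Opens.coe_iSup]
    exact isCompact_iUnion fun f =>
      (Proj.isAffineOpen_basicOpen 𝒜 (f : A) (hs1 _ f.2) one_pos).isCompact
  · obtain ⟨f, hxf⟩ := Opens.mem_iSup.1 (hcov.ge (Set.mem_univ x) :
      x ∈ ⨆ f : s, Proj.basicOpen 𝒜 (f : A))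
    refine ⟨0, homOfSection (powSec (sec (hs1 _ f.2)) 1), ?_⟩
    have : CohB1.genLocus _ (homOfSection (powSec (sec (hs1 _ f.2)) 1)) = Proj.basicOpen 𝒜 (f : A) :=
      (gloc_powSec hinv _ one_pos).trans (gloc_sec hgen _)
    rw [this]
    exact ⟨hxf, Proj.isAffineOpen_basicOpen 𝒜 (f : A) (hs1 _ f.2) one_pos⟩

end Groth.Ega2Proj.GrAmple
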