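/-
Generation by sections over the base from surjectivity of the counit `f^*f_*N ⟶ N` (EGA II 4.6.13).
-/
import Groth.Agent.Ega2Proj.Spans
import Groth.Agent.Ega2Proj.QuasiAffineAmple

set_option autoImplicit false
universe u
open CategoryTheory CategoryTheory.Limits AlgebraicGeometry TopologicalSpace Opposite

set_option backward.isDefEq.respectTransparency.types false

namespace Groth.Ega2Proj

open Groth.PicAux Groth.PropsBasic.Ample

variable {X Y : Scheme.{u}}

/-- If the counit is epi, some section over a preimage generates at each point. -/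
theorem exists_gen_of_epi_counit (f : X ⟶ Y) {N : X.Modules} (hN : PicF.IsInvertible N)
    [hepi : Epi ((Scheme.Modules.pullbackPushforwardAdjunction f).counit.app N)] (z : X) :
    ∃ (W : Y.Opens) (U : X.Opens) (hU : U ≤ f ⁻¹ᵁ W) (s : Γ(N, f ⁻¹ᵁ W)),
      z ∈ U ∧ Gen N U (Groth.PicAux.res N hU s) := by
  by_contra hcon
  let i := X.fromSpecResidueField z
  let a : N ⟶ (Scheme.Modules.pushforward i).obj ((Scheme.Modules.pullback i).obj N) :=
    (Scheme.Modules.pullbackPushforwardAdjunction i).unit.app N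
  obtain ⟨U, e, -, hzU, he⟩ := exists_affine_gen_mem hN z
  have hi : ∀ w, i w = z := fun w => Scheme.fromSpecResidueField_apply z w
  -- `a` kills all sections over preimages
  have hkill : ∀ (W : Y.Opens) (s : Γ(N, f ⁻¹ᵁ W)), pullSec i N s = 0 := by
    intro W s
    by_cases hz : z ∈ f ⁻¹ᵁ W
    · let U' := U ⊓ f ⁻¹ᵁ W
      have he' := he.res (inf_le_left : U' ≤ U)
      obtain ⟨c, hc⟩ := he'.exists_coeff le_rfl (Groth.PicAux.res N (inf_le_right : U' ≤ f ⁻¹ᵁ W) s)
      rw [Groth.PicAux.res_self] at hc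
      have hcz : z ∉ X.basicOpen c := fun hzc => hcon ⟨W, X.basicOpen c, (X.basicOpen_le c).trans (inf_le_right : U' ≤ f ⁻¹ᵁ W),
        s, hzc, by
          rw [← Groth.PicAux.res_res (M := N) (inf_le_right : U' ≤ f ⁻¹ᵁ W) (X.basicOpen_le c) s, hc,
            Groth.PicAux.res_smul]
          exact (he'.res (X.basicOpen_le c)).smul_unit (RingedSpace.isUnit_res_basicOpen _ c)⟩
      have h0 : i.app U' c = 0 := by
        rw [← basicOpen_eq_bot_iff, ← Scheme.preimage_basicOpen, eq_bot_iff]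
        intro w hw
        exact (hcz ((hi w) ▸ hw)).elim
      refine res_ext (fun _ : Unit => i ⁻¹ᵁ U') (fun _ => i.preimage_mono (inf_le_right : U' ≤ f ⁻¹ᵁ W))
        (fun w _ => Opens.mem_iSup.2 ⟨(), by
          change i w ∈ U'
          rw [hi]; exact ⟨hzU, hz⟩⟩) fun _ => ?_
      rw [res_pullSec i N (inf_le_right : U' ≤ f ⁻¹ᵁ W) s, hc, pullSec_smul, h0, zero_smul, Groth.PicAux.res_zero]
    · refine res_ext (fun j : Empty => j.elim) (fun j => j.elim) (fun w hw => ?_) (fun j => j.elim)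
      exact (hz ((hi w) ▸ hw)).elim
  have ha : (Scheme.Modules.pushforward f).map a = 0 := by
    ext W s
    exact hkill W s
  have ha0 : a = 0 := by
    rw [← cancel_epi ((Scheme.Modules.pullbackPushforwardAdjunction f).counit.app N), comp_zero]
    apply ((Scheme.Modules.pullbackPushforwardAdjunction f).homEquiv _ _).injective
    rw [Adjunction.homEquiv_unit, Adjunction.homEquiv_unit, Functor.map_comp, ← Category.assoc,
      Adjunction.right_triangle_components, Category.id_comp, ha, Functor.map_zero, comp_zero]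
  have he0 : pullSec i N e = 0 := by
    change a.app U e = 0
    rw [ha0]; rfl
  have hw : Nonempty (Spec (X.residueField z)) := inferInstance
  obtain ⟨w⟩ := hw
  have h10 : (1 : Γ(Spec (X.residueField z), i ⁻¹ᵁ U)) = 0 := by
    refine (he.pull i).smul_inj le_rfl ?_
    rw [Groth.PicAux.res_self, he0, smul_zero, smul_zero]
  have := congrArg ((Spec (X.residueField z)).presheaf.germ _ w (show i w ∈ U by rw [hi]; exact hzU)) h10
  rw [map_one, map_zero] at this
  exact one_ne_zero this

theorem gen_restrict_sec {M : X.Modules} (D : X.Opens) (V : D.toScheme.Opens) (s : Γ(M, D.ι ''ᵁ V))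
    (hs : Gen M (D.ι ''ᵁ V) s) : Gen (M.restrict D.ι) V (s : Γ(M.restrict D.ι, V)) := by
  intro V' hV'
  have hb := hs (D.ι ''ᵁ V') (D.ι.image_mono hV')
  have e1 : (fun r : Γ(X, D.ι ''ᵁ V') => r • Groth.PicAux.res M (D.ι.image_mono hV') s) =
      fun r : Γ(D.toScheme, V') => r • Groth.PicAux.res (M.restrict D.ι) hV' s :=
    funext fun r => (restrict_smul D V' r _).symm
  exact (congrArg Function.Bijective e1).mp hb

/-- Over an affine open of the base, global sections of the restriction generate. -/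
theorem exists_mem_gloc_restrict_of_epi_counit (f : X ⟶ Y) [QuasiCompact f] {N : X.Modules}
    (hN : PicF.IsInvertible N) [Epi ((Scheme.Modules.pullbackPushforwardAdjunction f).counit.app N)]
    {V : Y.Opens} (hV : IsAffineOpen V) (hqs : IsQuasiSeparated (f ⁻¹ᵁ V : Set X))
    (z : (f ⁻¹ᵁ V).toScheme) :
    ∃ t : Γ(N.restrict (f ⁻¹ᵁ V).ι, ⊤), z ∈ gloc t := by
  obtain ⟨W, U, hU, s, hzU, hgen⟩ := exists_gen_of_epi_counit f hN z.1
  obtain ⟨h, hle, hzh⟩ := hV.exists_basicOpen_le (V := W) ⟨f z.1, hU hzU⟩ z.2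
  let g : Γ(X, f ⁻¹ᵁ V) := f.app V h
  have hg : X.basicOpen g = f ⁻¹ᵁ Y.basicOpen h := (Scheme.preimage_basicOpen f h).symm
  have hgW : X.basicOpen g ≤ f ⁻¹ᵁ W := hg.le.trans (f.preimage_mono hle)
  have := isQCoh_of_isInvertible hN
  obtain ⟨k, t, ht⟩ := Groth.QCohMod.exists_pow_smul_eq_res_of_qcqs N (W := f ⁻¹ᵁ V)
    (QuasiCompact.isCompact_preimage _ V.2 hV.isCompact) hqs g (Groth.PicAux.res N hgW s)
  let U' := U ⊓ X.basicOpen g
  have hU'V : U' ≤ f ⁻¹ᵁ V := inf_le_right.trans (X.basicOpen_le g)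
  have ht' : Gen N U' (Groth.PicAux.res N hU'V t) := by
    have h1 : Groth.PicAux.res N hU'V t =
        resX X (inf_le_right : U' ≤ X.basicOpen g) (resX X (X.basicOpen_le g) g ^ k) •
          Groth.PicAux.res N (inf_le_left : U' ≤ U) (Groth.PicAux.res N hU s) := by
      rw [← Groth.PicAux.res_res (M := N) (X.basicOpen_le g) (inf_le_right : U' ≤ X.basicOpen g) t]
      refine (congrArg (Groth.PicAux.res N _) ht).trans ?_
      rw [Groth.PicAux.res_smul, Groth.PicAux.res_res, Groth.PicAux.res_res]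
      rfl
    rw [h1]
    exact (hgen.res inf_le_left).smul_unit (((RingedSpace.isUnit_res_basicOpen _ g).pow k).map _)
  let D := f ⁻¹ᵁ V
  let U'' : D.toScheme.Opens := D.ι ⁻¹ᵁ U'
  have him : D.ι ''ᵁ U'' ≤ U' := D.ι.image_preimage_le U'
  refine ⟨(Groth.PicAux.res N (Scheme.Opens.ι_image_le D ⊤) t : Γ(N, D.ι ''ᵁ ⊤)),
    le_gloc ?_ (show z ∈ U'' from ⟨hzU, hg.ge hzh⟩)⟩
  have h2 := gen_restrict_sec D U'' _ (ht'.res him)
  rw [Groth.PicAux.res_res] at h2
  convert h2 using 1
  exact Groth.PicAux.res_res (M := N) _ (D.ι.image_mono le_top) t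

end Groth.Ega2Proj
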