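/-
Stalks spanned by sections over an open; the counit `f^*f_*G ⟶ G` (EGA II 4.6.8, 5.1.2).
-/
import Groth.Agent.Ega2Proj.CounitGen
import Groth.Agent.QCohMod.Pullback
import Groth.Agent.QCohMod.Killed
import Groth.Agent.QCohMod.PullbackQCoh

set_option autoImplicit false
universe u
open CategoryTheory CategoryTheory.Limits AlgebraicGeometry TopologicalSpace Opposite TensorProduct

set_option backward.isDefEq.respectTransparency.types false

namespace Groth.Ega2Proj

open Groth.PicAux Groth.PropsBasic.Ample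

variable {X Y : Scheme.{u}}

/-- The span in `G_z` of the germs of the sections over `D`. -/
noncomputable def spanOn (G : X.Modules) (D : X.Opens) (z : X) (hz : z ∈ D) :
    Submodule (X.presheaf.stalk z) (G.presheaf.stalk z) :=
  Submodule.span (X.presheaf.stalk z) (Set.range fun t : Γ(G, D) => Groth.QCohMod.germ G z hz t)

theorem germ_mem_spanOn (G : X.Modules) {D : X.Opens} {z : X} (hz : z ∈ D) (t : Γ(G, D)) :
    Groth.QCohMod.germ G z hz t ∈ spanOn G D z hz := Submodule.subset_span ⟨t, rfl⟩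

/-- The stalk map of a morphism of modules is linear. -/
noncomputable def stalkLin {G G' : X.Modules} (φ : G ⟶ G') (z : X) :
    G.presheaf.stalk z →ₗ[X.presheaf.stalk z] G'.presheaf.stalk z where
  toFun a := (Groth.QCohMod.stalk z).map φ a
  map_add' a b := map_add _ a b
  map_smul' r a := by
    obtain ⟨U, hU, r, rfl⟩ := TopCat.Presheaf.exists_germ_eq X.presheaf r
    exact Groth.QCohMod.stalk_map_germ_smul φ z hU r a

theorem stalkLin_germ {G G' : X.Modules} (φ : G ⟶ G') {U : X.Opens} {z : X} (hz : z ∈ U)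
    (m : Γ(G, U)) :
    stalkLin φ z (Groth.QCohMod.germ G z hz m) = Groth.QCohMod.germ G' z hz (φ.app U m) :=
  Groth.QCohMod.stalk_map_germ φ z hz m

/-- Generation on the restriction to `D` gives spanning by sections over `D`. -/
theorem spanOn_eq_top_of_restrict (G : X.Modules) (D : X.Opens) (h : SpansStalks (G.restrict D.ι))
    (z : X) (hz : z ∈ D) : spanOn G D z hz = ⊤ := by
  rw [eq_top_iff]
  intro a _
  let w : D.toScheme := ⟨z, hz⟩
  let Φ := (Scheme.Modules.restrictStalkNatIso D.ι w).hom.app G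
  have hΦ : ∀ (V : D.toScheme.Opens) (hV : w ∈ V) (m : Γ(G.restrict D.ι, V)),
      Φ (Groth.QCohMod.germ (G.restrict D.ι) w hV m) =
        Groth.QCohMod.germ G z (U := D.ι ''ᵁ V) ⟨w, hV, rfl⟩ (m : Γ(G, D.ι ''ᵁ V)) :=
    fun V hV m => ConcreteCategory.congr_hom
      (Scheme.Modules.germ_restrictStalkNatIso_hom_app D.ι w G hV) m
  obtain ⟨W, hW, y, rfl⟩ := Groth.QCohMod.exists_germ G z a
  let V₀ : D.toScheme.Opens := D.ι ⁻¹ᵁ W
  have key : ∀ b : (G.restrict D.ι).presheaf.stalk w, Φ b ∈ spanOn G D z hz := by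
    intro b
    induction (Submodule.eq_top_iff'.1 (h w) b) using Submodule.span_induction with
    | mem b hb =>
      obtain ⟨t, rfl⟩ := hb
      rw [hΦ]
      refine Submodule.subset_span ⟨Groth.PicAux.res G D.ι_image_top.ge (t : Γ(G, D.ι ''ᵁ ⊤)), ?_⟩
      exact Groth.QCohMod.germ_res G _ z hz _
    | zero => erw [map_zero]; exact Submodule.zero_mem _
    | add b b' _ _ hb hb' => erw [map_add]; exact Submodule.add_mem _ hb hb'
    | smul r b _ hb =>
      obtain ⟨V, hV, r, rfl⟩ := TopCat.Presheaf.exists_germ_eq D.toScheme.presheaf r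
      obtain ⟨V', hV', b, rfl⟩ := Groth.QCohMod.exists_germ (G.restrict D.ι) w b
      have hV'' : w ∈ V ⊓ V' := ⟨hV, hV'⟩
      rw [← Groth.QCohMod.germ_res (G.restrict D.ι) (inf_le_right : V ⊓ V' ≤ V') w hV'' b] at hb ⊢
      rw [← TopCat.Presheaf.germ_res_apply D.toScheme.presheaf (homOfLE (inf_le_left : V ⊓ V' ≤ V)) w hV'' r,
        ← Groth.QCohMod.germ_smul]
      erw [hΦ] at hb ⊢
      erw [restrict_smul, Groth.QCohMod.germ_smul]
      exact Submodule.smul_mem _ _ hb
  have := key (Groth.QCohMod.germ (G.restrict D.ι) w (U := V₀) hW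
    (Groth.PicAux.res G (D.ι.image_preimage_le W) y : Γ(G, D.ι ''ᵁ V₀)))
  erw [hΦ] at this
  erw [Groth.QCohMod.germ_res G (D.ι.image_preimage_le W) z ⟨w, hW, rfl⟩ y] at this
  exact this

/-- The counit on a pulled back section. -/
theorem counit_pullSec (f : X ⟶ Y) (G : X.Modules) (W : Y.Opens) (m : Γ(G, f ⁻¹ᵁ W)) :
    ((Scheme.Modules.pullbackPushforwardAdjunction f).counit.app G).app (f ⁻¹ᵁ W)
      (pullSec f ((Scheme.Modules.pushforward f).obj G) (m : Γ((Scheme.Modules.pushforward f).obj G, W))) = m :=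
  congr(($((Scheme.Modules.pullbackPushforwardAdjunction f).right_triangle_components G)).app W m)

/-- Spanning by sections over preimages makes the counit epi. -/
theorem epi_counit_of_spanOn (f : X ⟶ Y) (G : X.Modules)
    (h : ∀ z : X, ∃ (W : Y.Opens) (hz : z ∈ f ⁻¹ᵁ W), spanOn G (f ⁻¹ᵁ W) z hz = ⊤) :
    Epi ((Scheme.Modules.pullbackPushforwardAdjunction f).counit.app G) := by
  refine (Groth.QCohMod.epi_iff_stalk _).2 fun z g => ?_
  obtain ⟨W, hz, hW⟩ := h z
  let cu : (Scheme.Modules.pullback f).obj ((Scheme.Modules.pushforward f).obj G) ⟶ G :=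
    (Scheme.Modules.pullbackPushforwardAdjunction f).counit.app G
  have hle : spanOn G (f ⁻¹ᵁ W) z hz ≤ LinearMap.range (stalkLin cu z) := by
    refine Submodule.span_le.2 ?_
    rintro _ ⟨m, rfl⟩
    exact ⟨_, (stalkLin_germ _ hz _).trans (congrArg _ (counit_pullSec f G W m))⟩
  obtain ⟨a, ha⟩ := hle (Submodule.eq_top_iff'.1 hW (show G.presheaf.stalk z from g))
  exact ⟨a, ha⟩

/-- An epi counit makes the sections over preimages of affine opens span the stalks. -/
theorem spanOn_of_epi_counit (f : X ⟶ Y) [QuasiCompact f] (G : X.Modules) [G.IsQuasicoherent]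
    [hepi : Epi ((Scheme.Modules.pullbackPushforwardAdjunction f).counit.app G)]
    {V : Y.Opens} (hV : IsAffineOpen V) (hqs : IsQuasiSeparated (f ⁻¹ᵁ V : Set X))
    (z : X) (hz : z ∈ f ⁻¹ᵁ V) : spanOn G (f ⁻¹ᵁ V) z hz = ⊤ := by
  rw [eq_top_iff]
  rintro g -
  obtain ⟨a, rfl⟩ := (Groth.QCohMod.epi_iff_stalk _).1 hepi z g
  obtain ⟨w, rfl⟩ := (Groth.QCohMod.pullStalkHom_bijective f ((Scheme.Modules.pushforward f).obj G) z).2 a
  let _ := Groth.QCohMod.stalkAlg f z
  let cu : (Scheme.Modules.pullback f).obj ((Scheme.Modules.pushforward f).obj G) ⟶ G :=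
    (Scheme.Modules.pullbackPushforwardAdjunction f).counit.app G
  change stalkLin cu z _ ∈ _
  induction w using TensorProduct.induction_on with
  | zero => rw [map_zero, map_zero]; exact Submodule.zero_mem _
  | add p q hp hq => rw [map_add, map_add]; exact Submodule.add_mem _ hp hq
  | tmul b t =>
    obtain ⟨W, hW, m, rfl⟩ := Groth.QCohMod.exists_germ ((Scheme.Modules.pushforward f).obj G) (f z) t
    rw [Groth.QCohMod.pullStalkHom_tmul, map_smul, Groth.QCohMod.pullGerm_germ, stalkLin_germ,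
      show cu.app (f ⁻¹ᵁ W) (pullSec f ((Scheme.Modules.pushforward f).obj G) m) = m from
        counit_pullSec f G W m]
    refine Submodule.smul_mem _ _ ?_
    obtain ⟨h, hle, hzh⟩ := hV.exists_basicOpen_le (V := W) ⟨f z, hW⟩ hz
    let g : Γ(X, f ⁻¹ᵁ V) := f.app V h
    have hg : X.basicOpen g = f ⁻¹ᵁ Y.basicOpen h := (Scheme.preimage_basicOpen f h).symm
    have hgW : X.basicOpen g ≤ f ⁻¹ᵁ W := hg.le.trans (f.preimage_mono hle)
    have hzg : z ∈ X.basicOpen g := hg.ge hzh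
    obtain ⟨k, t, ht⟩ := Groth.QCohMod.exists_pow_smul_eq_res_of_qcqs G (W := f ⁻¹ᵁ V)
      (QuasiCompact.isCompact_preimage _ V.2 hV.isCompact) hqs g
      (Groth.QCohMod.res G hgW (m : Γ(G, f ⁻¹ᵁ W)))
    have h1 := congrArg (Groth.QCohMod.germ G z hzg) ht
    rw [Groth.QCohMod.germ_smul, Groth.QCohMod.germ_res, Groth.QCohMod.germ_res] at h1
    rw [← Submodule.smul_mem_iff_of_isUnit _
      (((RingedSpace.isUnit_res_basicOpen _ g).pow k).map (X.presheaf.germ _ z hzg).hom)]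
    erw [← h1]
    exact germ_mem_spanOn G hz t

/-- Membership in loci of sections of a restriction. -/
theorem mem_gloc_restrict_iff {N : X.Modules} {D U : X.Opens} (hUD : U ≤ D) {e : Γ(N, U)}
    (he : Gen N U e) (t : Γ(N, D)) {c : Γ(X, U)} (hc : Groth.PicAux.res N hUD t = c • e)
    {y : X} (hy : y ∈ U) :
    (⟨y, hUD hy⟩ : D.toScheme) ∈
        gloc (L := N.restrict D.ι) (Groth.PicAux.res N (Scheme.Opens.ι_image_le D ⊤) t : Γ(N, D.ι ''ᵁ ⊤)) ↔
      y ∈ X.basicOpen c := by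
  let V : D.toScheme.Opens := D.ι ⁻¹ᵁ U
  have him : D.ι ''ᵁ V ≤ U := D.ι.image_preimage_le U
  let e' : Γ(N.restrict D.ι, V) := (Groth.PicAux.res N him e : Γ(N, D.ι ''ᵁ V))
  let c' : Γ(D.toScheme, V) := resX X him c
  have he' : Gen (N.restrict D.ι) V e' := gen_restrict_sec D V _ (he.res him)
  have hc' : Groth.PicAux.res (N.restrict D.ι) (le_top : V ≤ ⊤)
      (Groth.PicAux.res N (Scheme.Opens.ι_image_le D ⊤) t : Γ(N, D.ι ''ᵁ ⊤)) = c' • e' := by
    refine Eq.trans ?_ (restrict_smul D V c' e').symm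
    have h := congrArg (Groth.PicAux.res N him) hc
    rw [Groth.PicAux.res_res, Groth.PicAux.res_smul] at h
    refine Eq.trans ?_ h
    exact Groth.PicAux.res_res (M := N) _ (D.ι.image_mono le_top) t
  have hb : (D.ι ''ᵁ D.toScheme.basicOpen c') = X.basicOpen c' := by
    rw [Scheme.image_basicOpen, Scheme.Opens.ι_appIso]
    rfl
  have hb' : X.basicOpen (resX X him c) = D.ι ''ᵁ V ⊓ X.basicOpen c := X.basicOpen_res c (homOfLE him).op
  constructor
  · intro h
    have h2 : y ∈ D.ι ''ᵁ D.toScheme.basicOpen c' :=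
      ⟨⟨y, hUD hy⟩, (gloc_inf_eq_basicOpen he' hc').le ⟨h, hy⟩, rfl⟩
    rw [hb] at h2
    exact (hb'.le h2).2
  · intro h
    have h2 : y ∈ D.ι ''ᵁ D.toScheme.basicOpen c' :=
      hb.ge (hb'.ge ⟨⟨⟨y, hUD hy⟩, hy, rfl⟩, h⟩)
    obtain ⟨w, hw, hwy⟩ := h2
    have : w = (⟨y, hUD hy⟩ : D.toScheme) := D.ι.isOpenEmbedding.injective hwy
    exact ((gloc_inf_eq_basicOpen he' hc').ge (this ▸ hw)).1

/-- If sections over `D` of `K ⊗ N`, with `K` cutting out the complement of the affine `O`, span the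
stalk at `x ∈ O`, then some section of `N` over `D` has an affine locus containing `x`. -/
theorem exists_affine_gloc_of_spanOn {N : X.Modules} (hN : PicF.IsInvertible N) {D O : X.Opens}
    (hO : IsAffineOpen O) (hOD : O ≤ D) {x : X} (hx : x ∈ O) (K : X.IdealSheafData)
    (hK : (K.support : Set X) = (O : Set X)ᶜ)
    (h : spanOn (CohB1.tensorMod (ClSub.idealMod K) N) D x (hOD hx) = ⊤) :
    ∃ t : Γ(N.restrict D.ι, ⊤), (⟨x, hOD hx⟩ : D.toScheme) ∈ gloc t ∧ IsAffineOpen (gloc t) := by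
  obtain ⟨ψ, hψ⟩ := exists_tensor_lift (L := ClSub.idealMod K) (M := N) (P := N)
    (fun W => LinearMap.mk₂ Γ(X, W) (fun a b => OmegaSh.idealSect K W a • b)
      (fun a a' b => by rw [map_add, add_smul])
      (fun r a b => by rw [Groth.OmegaSheaf.idealSect_smul, mul_smul])
      (fun a b b' => smul_add _ b b') (fun r a b => smul_comm _ r b))
    (fun W W' hW a b => by
      simp only [LinearMap.mk₂_apply]
      rw [Groth.PicAux.res_smul]
      congr 1
      exact (Groth.OmegaSheaf.idealSect_res K hW a).symm)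
  simp only [LinearMap.mk₂_apply] at hψ
  let s : Γ(CohB1.tensorMod (ClSub.idealMod K) N, D) → Γ(N.restrict D.ι, ⊤) := fun t =>
    (Groth.PicAux.res N (Scheme.Opens.ι_image_le D ⊤) (ψ.app D t) : Γ(N, D.ι ''ᵁ ⊤))
  -- all these sections have loci inside `O`
  have hsub : ∀ t, gloc (s t) ≤ D.ι ⁻¹ᵁ O := by
    intro t w hw
    by_contra hwO
    obtain ⟨U, e, hU, hwU, he, hUD⟩ : ∃ (U : X.Opens) (e : Γ(N, U)), IsAffineOpen U ∧ w.1 ∈ U ∧
        Gen N U e ∧ U ≤ D := by
      obtain ⟨U, e, -, hwU, he⟩ := exists_affine_gen_mem hN w.1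
      obtain ⟨U', hU', hwU', hle⟩ := exists_isAffineOpen_mem_and_subset (x := w.1) (U := U ⊓ D) ⟨hwU, w.2⟩
      exact ⟨U', _, hU', hwU', he.res (show U' ≤ U from fun y hy => (hle hy).1), fun y hy => (hle hy).2⟩
    obtain ⟨a, ha⟩ := (tmulSec_bijective (M := ClSub.idealMod K) le_rfl he).2
      (Groth.PicAux.res _ hUD t)
    have hres : Groth.PicAux.res N hUD (ψ.app D t) = OmegaSh.idealSect K U a • e := by
      rw [← app_res, ← ha]
      simp only [Groth.PicAux.res_self]
      exact hψ U a e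
    have hys : w.1 ∈ (K.support : Set X) := by rw [hK]; exact hwO
    have h1 := (K.mem_support_iff_of_mem (U := ⟨U, hU⟩) hwU).1 hys
    rw [Scheme.mem_zeroLocus_iff] at h1
    exact h1 _ (Groth.OmegaSheaf.idealSect_mem K ⟨U, hU⟩ a)
      ((mem_gloc_restrict_iff hUD he (ψ.app D t) hres hwU).1 hw)
  -- one of them generates at `x`
  obtain ⟨U, e, hU, hxU, he, hUD⟩ : ∃ (U : X.Opens) (e : Γ(N, U)), IsAffineOpen U ∧ x ∈ U ∧
      Gen N U e ∧ U ≤ D := by
    obtain ⟨U, e, -, hxU, he⟩ := exists_affine_gen_mem hN x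
    obtain ⟨U', hU', hxU', hle⟩ := exists_isAffineOpen_mem_and_subset (x := x) (U := U ⊓ D) ⟨hxU, hOD hx⟩
    exact ⟨U', _, hU', hxU', he.res (show U' ≤ U from fun y hy => (hle hy).1), fun y hy => (hle hy).2⟩
  have hxs : x ∉ (K.support : Set X) := by rw [hK]; exact fun h => h hx
  obtain ⟨f, hf, hxf⟩ : ∃ f ∈ K.ideal ⟨U, hU⟩, x ∈ X.basicOpen f := by
    by_contra hno
    exact hxs ((K.mem_support_iff_of_mem (U := ⟨U, hU⟩) hxU).2
      ((Scheme.mem_zeroLocus_iff _ _ _).2 fun f hf hxf => hno ⟨f, hf, hxf⟩))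
  obtain ⟨a, ha⟩ := Groth.OmegaSheaf.exists_idealSect K ⟨U, hU⟩ hf
  suffices ∃ t, (⟨x, hOD hx⟩ : D.toScheme) ∈ gloc (s t) by
    obtain ⟨t, ht⟩ := this
    refine ⟨s t, ht, ?_⟩
    have hO' : IsAffineOpen (D.ι ⁻¹ᵁ O) := by
      rw [← D.ι.isAffineOpen_iff_of_isOpenImmersion, Scheme.Hom.image_preimage_eq_opensRange_inf,
        Scheme.Opens.opensRange_ι, inf_eq_right.2 hOD]
      exact hO
    have h3 := isAffineOpen_gloc_inf (isInvertible_restrict D.ι hN) (homOfSection (s t)) hO'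
    rwa [inf_eq_left.2 (hsub t)] at h3
  by_contra hcon
  have hxu := (Scheme.mem_basicOpen X f x hxU).1 hxf
  let E := Groth.QCohMod.germ N x hxU e
  have hle : spanOn (CohB1.tensorMod (ClSub.idealMod K) N) D x (hOD hx) ≤
      Submodule.comap (stalkLin ψ x) (Submodule.map
        (LinearMap.toSpanSingleton (X.presheaf.stalk x) (N.presheaf.stalk x) E)
        (IsLocalRing.maximalIdeal (X.presheaf.stalk x))) := by
    refine Submodule.span_le.2 ?_
    rintro _ ⟨t, rfl⟩
    obtain ⟨d, hd⟩ := he.exists_coeff le_rfl (Groth.PicAux.res N hUD (ψ.app D t))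
    rw [Groth.PicAux.res_self] at hd
    refine ⟨X.presheaf.germ U x hxU d, (IsLocalRing.mem_maximalIdeal _).2 fun hu => hcon ⟨t,
      (mem_gloc_restrict_iff hUD he (ψ.app D t) hd hxU).2 ((Scheme.mem_basicOpen X d x hxU).2 hu)⟩, ?_⟩
    rw [LinearMap.toSpanSingleton_apply, stalkLin_germ, ← Groth.QCohMod.germ_smul, ← hd]
    exact Groth.QCohMod.germ_res N hUD x hxU _
  rw [h] at hle
  obtain ⟨r, hr, hreq⟩ := hle (Submodule.mem_top (x := Groth.QCohMod.germ (CohB1.tensorMod (ClSub.idealMod K) N) x hxU (tmulSec a e)))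
  rw [LinearMap.toSpanSingleton_apply, stalkLin_germ, hψ, ha, Groth.QCohMod.germ_smul] at hreq
  have hu : IsUnit (X.presheaf.germ U x hxU f - r) := by
    by_contra hn
    have := Ideal.add_mem _ ((IsLocalRing.mem_maximalIdeal _).2 hn) hr
    rw [sub_add_cancel] at this
    exact (IsLocalRing.mem_maximalIdeal _).1 this hxu
  have h0 : E = 0 := hu.smul_eq_zero.1 (by rw [sub_smul, hreq, sub_self])
  obtain ⟨W, hW, i, i', hres⟩ := TopCat.Presheaf.germ_eq N.presheaf x hxU hxU e 0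
    (h0.trans (map_zero (Groth.QCohMod.germ N x hxU)).symm)
  have h10 : (1 : Γ(X, W)) = 0 := by
    refine he.smul_inj i.le ?_
    rw [one_smul, zero_smul]
    exact hres.trans (map_zero _)
  have := congrArg (X.presheaf.germ W x hW) h10
  rw [map_one, map_zero] at this
  exact one_ne_zero this

end Groth.Ega2Proj
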