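/-
Composition of relatively ample modules (EGA II 4.6.13 (ii)).
-/
import Groth.Agent.Ega2Proj.SpanOn
import Groth.Agent.S9691

set_option autoImplicit false
universe u
open CategoryTheory CategoryTheory.Limits AlgebraicGeometry TopologicalSpace Opposite

set_option backward.isDefEq.respectTransparency.types false

namespace Groth.Ega2Proj

open Groth.PicAux Groth.PropsBasic.Ample

variable {X Y : Scheme.{u}}

theorem isRelAmple_morphismRestrict {f : X ⟶ Y} [QuasiCompact f] {L : X.Modules}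
    (h : RelAmple.IsRelAmple f L) (U : Y.Opens) :
    RelAmple.IsRelAmple (f ∣_ U) (L.restrict (f ⁻¹ᵁ U).ι) := by
  have : QuasiCompact (f ∣_ U) :=
    MorphismProperty.of_isPullback (P := @QuasiCompact) (isPullback_morphismRestrict f U).flip ‹_›
  refine ⟨this, fun V => ?_⟩
  let Z : (f ⁻¹ᵁ U).toScheme.Opens := (f ∣_ U) ⁻¹ᵁ V.1
  have : CompactSpace (Z : Scheme.{u}) :=
    isCompact_iff_compactSpace.mp (QuasiCompact.isCompact_preimage _ V.1.2 V.2.isCompact)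
  refine isAmple_of_iso (restrictRestrictIso Z.ι (f ⁻¹ᵁ U).ι L) ?_
  refine isAmple_of_isRelAmple h ⟨U.ι ''ᵁ V.1, V.2.image_of_isOpenImmersion _⟩ _ ?_
  rintro _ ⟨⟨w, hw⟩, rfl⟩
  exact ⟨_, hw, congr($(morphismRestrict_ι f U) w)⟩

/-- `F ⊗ M^{k+1}` has a section with the locus of a section of `F` over `X_T`. -/
theorem exists_gloc_image [CompactSpace X] [QuasiSeparatedSpace X] {F M : X.Modules}
    (hF : PicF.IsInvertible F) (hM : PicF.IsInvertible M) (T : Γ(M, ⊤)) (σ : Γ(F, gloc T)) :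
    ∃ k₀ : ℕ, ∀ k, k₀ ≤ k → ∃ b : Γ(CohB1.tensorMod F (CohB1.tensorPow M (k + 1)), ⊤),
      gloc b = (gloc T).ι ''ᵁ gloc (L := F.restrict (gloc T).ι)
        (Groth.PicAux.res F (Scheme.Opens.ι_image_le (gloc T) ⊤) σ : Γ(F, (gloc T).ι ''ᵁ ⊤)) := by
  have := isQCoh_of_isInvertible hF
  obtain ⟨k₀, hk₀⟩ := exists_twist_extend F hM T σ
  refine ⟨k₀, fun k hk => ?_⟩
  obtain ⟨t, ht⟩ := hk₀ k hk
  have hFk := isInvertible_tensorMod hF (isInvertible_tensorPow hM k)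
  obtain ⟨a, -⟩ := exists_associator F (CohB1.tensorPow M k) M
  let b : Γ(CohB1.tensorMod F (CohB1.tensorPow M (k + 1)), ⊤) := a.hom.app ⊤ (tmulSec t T)
  refine ⟨b, ?_⟩
  have hb : gloc b = gloc t ⊓ gloc T := (gloc_map a.hom _).trans (gloc_tmulSec hFk hM t T)
  rw [hb]
  let D := gloc T
  have key : ∀ (y : X) (hy : y ∈ D), y ∈ gloc t ↔ (⟨y, hy⟩ : D.toScheme) ∈ gloc (L := F.restrict D.ι)
      (Groth.PicAux.res F (Scheme.Opens.ι_image_le D ⊤) σ : Γ(F, D.ι ''ᵁ ⊤)) := by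
    intro y hy
    obtain ⟨U, e, -, hyU, he⟩ := exists_affine_gen_mem hF y
    let U' := U ⊓ D
    have he' := he.res (inf_le_left : U' ≤ U)
    obtain ⟨c, hc⟩ := he'.exists_coeff le_rfl (Groth.PicAux.res F (inf_le_right : U' ≤ D) σ)
    rw [Groth.PicAux.res_self] at hc
    have hg := he'.tensor (((gen_gloc T le_rfl).pow k).res (inf_le_right : U' ≤ D))
    have hct : Groth.PicAux.res _ (le_top : U' ≤ ⊤) t = c • tmulSec (Groth.PicAux.res F (inf_le_left : U' ≤ U) e)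
        (Groth.PicAux.res _ (inf_le_right : U' ≤ D) (powSec (Groth.PicAux.res M (le_top : D ≤ ⊤) T) k)) := by
      rw [← tmulSec_smul_left, ← hc, ← res_tmulSec, ← ht]
      exact (Groth.PicAux.res_res (M := CohB1.tensorMod F (CohB1.tensorPow M k)) le_top _ t).symm
    rw [show (y ∈ gloc t ↔ y ∈ X.basicOpen c) from ⟨fun h => (gloc_inf_eq_basicOpen hg hct).le ⟨h, hyU, hy⟩,
      fun h => ((gloc_inf_eq_basicOpen hg hct).ge h).1⟩]
    exact (mem_gloc_restrict_iff (inf_le_right : U' ≤ D) he' σ hc ⟨hyU, hy⟩).symm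
  ext y
  constructor
  · rintro ⟨h1, h2⟩
    exact ⟨⟨y, h2⟩, (key y h2).1 h1, rfl⟩
  · rintro ⟨⟨w, hw⟩, h, rfl⟩
    exact ⟨(key w hw).2 h, hw⟩

/-- If `L` is ample relative to `f` and `K` ample, then `L ⊗ f^*K^n` is ample for large `n`. -/
theorem exists_isAmple_tensor_pullback (f : X ⟶ Y) [QuasiCompact f] {L : X.Modules} {K : Y.Modules}
    (hL : RelAmple.IsRelAmple f L) (hK : CohB1.IsAmple K) :
    ∃ n₀ : ℕ, ∀ n, n₀ ≤ n →
      CohB1.IsAmple (CohB1.tensorMod L ((Scheme.Modules.pullback f).obj (CohB1.tensorPow K n))) := by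
  have := hK.2.1
  have := isSeparated_of_cover hK.1 hK.2.2
  have : IsSeparated f := Groth.Agent.S9691.result f L hL
  have := QuasiCompact.compactSpace_of_compactSpace f
  have : X.IsSeparated := ⟨by rw [← terminal.comp_from f]; infer_instance⟩
  have hLi := isInvertible_of_isRelAmple hL
  have hpt : ∀ x : X, ∃ (O : X.Opens) (k₀ : ℕ), x ∈ O ∧ IsAffineOpen O ∧ ∀ n, k₀ ≤ n →
      ∃ (q : ℕ) (b : Γ(CohB1.tensorPow
          (CohB1.tensorMod L ((Scheme.Modules.pullback f).obj (CohB1.tensorPow K n))) (q + 1), ⊤)),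
        gloc b = O := by
    intro x
    obtain ⟨p, t, hxt, hta⟩ := hK.2.2 (f x)
    rw [genLocus_eq_gloc] at hxt hta
    have hKp := isInvertible_tensorPow hK.1 (p + 1)
    let M := (Scheme.Modules.pullback f).obj (CohB1.tensorPow K (p + 1))
    have hM : PicF.IsInvertible M := isInvertible_pullback f hKp
    let T : Γ(M, ⊤) := pullSec f _ (gsec t)
    have hT : gloc T = f ⁻¹ᵁ gloc (gsec t) := gloc_pullSec f hKp (gsec t)
    have hA : CohB1.IsAmple (L.restrict (gloc T).ι) := by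
      rw [hT]
      exact hL.2 ⟨_, hta⟩
    obtain ⟨m, s, hxs, hs⟩ := hA.2.2 ⟨x, hT.ge hxt⟩
    rw [genLocus_eq_gloc] at hxs hs
    let q := (m + 1) * (p + 1)
    obtain ⟨s', hs'⟩ := exists_gloc_pow hA.1 (gsec s) (Nat.succ_pos p) (N := q) rfl
    obtain ⟨φ⟩ := exists_tensorPow_restrict (L := L) (gloc T).ι q
    let F := CohB1.tensorPow L q
    let σ : Γ(F, gloc T) := Groth.PicAux.res F (gloc T).ι_image_top.ge
      ((φ.inv.app ⊤ s' : Γ(F.restrict (gloc T).ι, ⊤)) : Γ(F, (gloc T).ι ''ᵁ ⊤))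
    obtain ⟨k₀, hk₀⟩ := exists_gloc_image (isInvertible_tensorPow hLi q) hM T σ
    have hloc : gloc (L := F.restrict (gloc T).ι)
        (Groth.PicAux.res F (Scheme.Opens.ι_image_le (gloc T) ⊤) σ : Γ(F, (gloc T).ι ''ᵁ ⊤)) = gloc (gsec s) := by
      rw [← hs', ← gloc_map φ.inv s']
      congr 1
      exact (Groth.PicAux.res_res (M := F) _ _ _).trans (Groth.PicAux.res_self (M := F) _ _)
    refine ⟨(gloc T).ι ''ᵁ gloc (gsec s), k₀ + 1, ⟨_, hxs, rfl⟩, hs.image_of_isOpenImmersion _, fun n hn => ?_⟩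
    have hkn : k₀ + 1 ≤ (m + 1) * n := hn.trans (Nat.le_mul_of_pos_left _ (Nat.succ_pos m))
    obtain ⟨k, hk⟩ : ∃ k, k + 1 = (m + 1) * n := ⟨(m + 1) * n - 1, by omega⟩
    obtain ⟨b, hb⟩ := hk₀ k (by omega)
    rw [hloc] at hb
    -- `F ⊗ M^{k+1}` is a power of `L ⊗ f^*K^n`
    obtain ⟨e₁⟩ := tensorPow_tensorMod L ((Scheme.Modules.pullback f).obj (CohB1.tensorPow K n)) q
    obtain ⟨e₂⟩ := pullback_tensorPow f (CohB1.tensorPow K n) q
    obtain ⟨e₃⟩ := tensorPow_mul K n q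
    obtain ⟨e₄⟩ := pullback_tensorPow f (CohB1.tensorPow K (p + 1)) (k + 1)
    obtain ⟨e₅⟩ := tensorPow_mul K (p + 1) (k + 1)
    have hnq : n * q = (p + 1) * (k + 1) := by rw [hk]; ring
    let e : CohB1.tensorMod F (CohB1.tensorPow M (k + 1)) ≅ CohB1.tensorPow
        (CohB1.tensorMod L ((Scheme.Modules.pullback f).obj (CohB1.tensorPow K n))) q :=
      PicGrp.tensorModIso (Iso.refl _) (e₄.symm ≪≫
        (Scheme.Modules.pullback f).mapIso (e₅.symm ≪≫ eqToIso (congrArg _ hnq.symm) ≪≫ e₃) ≪≫ e₂) ≪≫ e₁.symm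
    have key : ∀ r : ℕ, r = q → ∃ b' : Γ(CohB1.tensorPow
        (CohB1.tensorMod L ((Scheme.Modules.pullback f).obj (CohB1.tensorPow K n))) r, ⊤),
        gloc b' = (gloc T).ι ''ᵁ gloc (gsec s) := by
      rintro _ rfl
      exact ⟨e.hom.app ⊤ b, (gloc_map e.hom b).trans hb⟩
    obtain ⟨b', hb'⟩ := key (q - 1 + 1) (Nat.sub_add_cancel (Nat.mul_pos (Nat.succ_pos _) (Nat.succ_pos _)))
    exact ⟨q - 1, b', hb'⟩
  choose O k₀ hxO hO hsec using hpt
  obtain ⟨fin, hfin⟩ := isCompact_univ.elim_finite_subcover (fun x => (O x : Set X))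
    (fun x => (O x).isOpen) (fun x _ => Set.mem_iUnion.2 ⟨x, hxO x⟩)
  refine ⟨fin.sup k₀, fun n hn => ⟨isInvertible_tensorMod hLi
    (isInvertible_pullback f (isInvertible_tensorPow hK.1 n)), inferInstance, fun y => ?_⟩⟩
  obtain ⟨x, hx, hy⟩ := Set.mem_iUnion₂.1 (hfin (Set.mem_univ y))
  obtain ⟨q, b, hb⟩ := hsec x n ((Finset.le_sup hx).trans hn)
  refine ⟨q, homOfSection b, hb.ge hy, ?_⟩
  change IsAffineOpen (gloc b)
  rw [hb]; exact hO x

end Groth.Ega2Proj
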