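/-
`O(1)` on the relative `Proj` of an algebra generated in degree one (of finite type) is ample
relative to the base; projective morphisms are quasi-projective.
-/
import Groth.Agent.Ega2Proj.GrTwistAmple
import Groth.Agent.Ega2Proj.RelAmpleComp
import Groth.Agent.RelTwist.Exist
import Groth.Agent.Chow.Projective

set_option autoImplicit false
universe u
open CategoryTheory CategoryTheory.Limits AlgebraicGeometry Opposite TopologicalSpace

set_option backward.isDefEq.respectTransparency.types false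

namespace Groth.Ega2Proj

variable {S P : Scheme.{u}} {𝒮 : RelProj.QCGrAlg S} {p : P ⟶ S}
  {chart : ∀ (U : S.Opens) (hU : IsAffineOpen U), (((p ⁻¹ᵁ U : P.Opens) : Scheme.{u}) ≅ Proj (𝒮.deg U hU))}

theorem exists_degOne_finset (hgen : 𝒮.IsGenDegOne) (hft : 𝒮.IsFTDeg 1) (U : S.Opens)
    (hU : IsAffineOpen U) : ∃ T : Finset (𝒮.presheaf.obj (op U)), (∀ f ∈ T, f ∈ 𝒮.deg U hU 1) ∧
      (HomogeneousIdeal.irrelevant (𝒮.deg U hU)).toIdeal ≤ Ideal.span (T : Set _) := by
  obtain ⟨T, hT, hspan⟩ := hft U hU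
  refine ⟨T, fun f hf => hT hf, (Groth.RelTw.irrelevant_le_span_one hgen U hU).trans
    (Ideal.span_le.mpr fun x hx => ?_)⟩
  obtain ⟨c, rfl⟩ := hspan x hx
  exact Ideal.sum_mem _ fun t ht => Ideal.mul_mem_left _ _ (Ideal.subset_span ht)

theorem isRelAmple_relTwist_one (hgen : 𝒮.IsGenDegOne) (hft : 𝒮.IsFTDeg 1)
    (hP : RelProj.IsRelProj 𝒮 p chart) {L : P.Modules}
    {lam : ∀ (U : S.Opens) (hU : IsAffineOpen U),
      L ⟶ (Scheme.Modules.pushforward (RelProj.emb p chart U hU)).obj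
        (GrTwist.twist (𝒮.deg U hU) (1 : ℤ))}
    (hL : RelProj.IsRelTwist 𝒮 p chart 1 L lam) : RelAmple.IsRelAmple p L := by
  have : IsProper p := Groth.Chow.isProper_of_isProjective
    ⟨𝒮, P, p, chart, Iso.refl P, hgen, hft, hP, Category.id_comp p⟩
  refine ⟨inferInstance, fun V => ?_⟩
  obtain ⟨U, hU⟩ := V
  obtain ⟨T, hT, hTspan⟩ := exists_degOne_finset hgen hft U hU
  let emb := RelProj.emb p chart U hU
  obtain ⟨φ⟩ := Groth.RelTw.nonempty_restrict_iso emb (lam U hU)
    (fun W => hL.bijective U hU _ (Groth.RelTw.image_le U hU W))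
  have hA : CohB1.IsAmple (L.restrict emb) := isAmple_of_iso φ.symm (GrAmple.isAmple_twist_one T hT hTspan)
  have : CompactSpace ((p ⁻¹ᵁ U : P.Opens) : Scheme.{u}) :=
    isCompact_iff_compactSpace.mp (p.isCompact_preimage hU.isCompact)
  exact isAmple_restrict_of_range_le (p ⁻¹ᵁ U).ι emb
    (fun z hz => by
      have h : z ∈ emb.opensRange := by
        rw [Groth.RelTw.opensRange_emb]
        rwa [Scheme.Opens.range_ι] at hz
      exact h) hA

theorem isRelAmple_pullback_iso {X : Scheme.{u}} (e : X ≅ P) {L : P.Modules}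
    (hL : RelAmple.IsRelAmple p L) :
    RelAmple.IsRelAmple (e.hom ≫ p) ((Scheme.Modules.pullback e.hom).obj L) := by
  have : QuasiCompact p := hL.1
  refine ⟨inferInstance, fun V => ?_⟩
  let U : X.Opens := (e.hom ≫ p) ⁻¹ᵁ V.1
  let W : P.Opens := p ⁻¹ᵁ V.1
  have : CompactSpace (U : Scheme.{u}) :=
    isCompact_iff_compactSpace.mp ((e.hom ≫ p).isCompact_preimage V.2.isCompact)
  have h := isAmple_restrict_of_range_le (U.ι ≫ e.hom) W.ι (L := L)
    (fun z hz => by
      obtain ⟨u, rfl⟩ := hz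
      rw [Scheme.Opens.range_ι]
      exact u.2) (hL.2 V)
  exact isAmple_of_iso (restrictRestrictIso U.ι e.hom L ≪≫
    (Scheme.Modules.restrictFunctor U.ι).mapIso (restrictIsoPullback e.hom L)) h

theorem isQuasiProjective_of_isProjective {X : Scheme.{u}} {f : X ⟶ S} (hf : RelProj.IsProjective f) :
    RelProj.IsQuasiProjective f := by
  have := Groth.Chow.isProper_of_isProjective hf
  obtain ⟨𝒮, P, p, chart, e, hgen, hft, hP, rfl⟩ := hf
  exact ⟨inferInstance, inferInstance, _, isRelAmple_pullback_iso e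
    (isRelAmple_relTwist_one hgen hft hP (Groth.RelTw.isRelTwist_relTwist hP 1))⟩

end Groth.Ega2Proj
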