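/-
A quasi-coherent algebra from its rings over the affine opens.
-/
import Groth.Prelude.Def_RelSpec

set_option autoImplicit false

universe u

open CategoryTheory CategoryTheory.Limits AlgebraicGeometry Opposite TopologicalSpace

noncomputable section

namespace Groth.Ega2Proj.AffGlue

variable {S : Scheme.{u}} (F : S.AffineZariskiSiteᵒᵖ ⥤ CommRingCat.{u})
  (α : (Scheme.AffineZariskiSite.toOpensFunctor S).op ⋙ S.presheaf ⟶ F) (hα : α.Coequifibered)

/-- The gluing datum. -/
def glueData : (Scheme.AffineZariskiSite.directedCover S).RelativeGluingData :=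
  Scheme.AffineZariskiSite.relativeGluingData hα

instance : ((glueData F α hα).functor ⋙ Scheme.forget).IsLocallyDirected :=
  Scheme.Cover.RelativeGluingData.instIsLocallyDirectedI₀CompFunctorForgetOfIsThin ..

/-- The glued scheme. -/
def glued : Scheme.{u} := (glueData F α hα).glued

/-- The ring over an affine open. -/
abbrev obj (U : S.Opens) (hU : IsAffineOpen U) : CommRingCat.{u} :=
  F.obj (op (show S.AffineZariskiSite from ⟨U, hU⟩))

/-- The structure map over an affine open. -/
def str (U : S.Opens) (hU : IsAffineOpen U) : Γ(S, U) ⟶ obj F U hU :=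
  α.app (op (show S.AffineZariskiSite from ⟨U, hU⟩))

/-- Its projection. -/
def proj : glued F α hα ⟶ S := (glueData F α hα).toBase

/-- Its charts. -/
def chart (U : S.Opens) (hU : IsAffineOpen U) :
    Spec (obj F U hU) ⟶ glued F α hα :=
  (glueData F α hα).cover.f ⟨U, hU⟩

variable (U : S.Opens) (hU : IsAffineOpen U)

instance : IsOpenImmersion (chart F α hα U hU) := (glueData F α hα).cover.map_prop _

theorem chart_π : chart F α hα U hU ≫ proj F α hα = Spec.map (str F α U hU) ≫ hU.fromSpec :=
  colimit.ι_desc _ _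

theorem proj_preimage : proj F α hα ⁻¹ᵁ U = (chart F α hα U hU).opensRange := by
  simpa using! (glueData F α hα).toBase_preimage_eq_opensRange_ι ⟨U, hU⟩

instance : IsAffineHom (proj F α hα) where
  isAffine_preimage U hU := by
    rw [proj_preimage F α hα U hU]
    exact isAffineOpen_opensRange (chart F α hα U hU)

/-- The quasi-coherent algebra. -/
def qc : RelSpec.QCAlg S := RelSpec.QCAlg.directImage (proj F α hα)

theorem top_le_preimage : (⊤ : (Spec (obj F U hU)).Opens) ≤
    chart F α hα U hU ⁻¹ᵁ (proj F α hα ⁻¹ᵁ U) := by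
  rw [← Scheme.Hom.comp_preimage, chart_π, Scheme.Hom.comp_preimage, hU.fromSpec_preimage_self]
  exact le_top

/-- Its sections over an affine open. -/
def secHom : (qc F α hα).presheaf.obj (op U) ⟶ obj F U hU :=
  (chart F α hα U hU).appLE (proj F α hα ⁻¹ᵁ U) ⊤ (top_le_preimage F α hα U hU) ≫ (Scheme.ΓSpecIso _).hom

theorem isIso_secHom : IsIso (secHom F α hα U hU) := by
  have h1 : IsIso ((chart F α hα U hU).app (proj F α hα ⁻¹ᵁ U)) :=
    Scheme.Hom.isIso_app _ _ (proj_preimage F α hα U hU).le
  have h2 : IsIso ((chart F α hα U hU).appLE (proj F α hα ⁻¹ᵁ U) ⊤ (top_le_preimage F α hα U hU)) := by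
    have h3 : chart F α hα U hU ⁻¹ᵁ (proj F α hα ⁻¹ᵁ U) = ⊤ := top_le_iff.1 (top_le_preimage F α hα U hU)
    rw [Scheme.Hom.appLE, show (homOfLE (top_le_preimage F α hα U hU)) = eqToHom h3.symm from
      Subsingleton.elim _ _]
    infer_instance
  exact IsIso.comp_isIso' h2 inferInstance

theorem bijective_secHom : Function.Bijective (secHom F α hα U hU).hom :=
  have := isIso_secHom F α hα U hU
  ConcreteCategory.bijective_of_isIso _

set_option backward.isDefEq.respectTransparency false in
theorem str_secHom : (qc F α hα).str.app (op U) ≫ secHom F α hα U hU = str F α U hU := by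
  change (proj F α hα).app U ≫ _ = _
  have h1 := Scheme.Hom.congr_app (chart_π F α hα U hU) U
  have h2 := (Scheme.Hom.comp_app (chart F α hα U hU) (proj F α hα) U).symm
  have hk : ∀ k : (op ⊤ : (Spec (obj F U hU)).Opensᵒᵖ) ⟶ op ⊤,
      (Spec (obj F U hU)).presheaf.map k = 𝟙 _ := fun k => by
    rw [Subsingleton.elim k (𝟙 _)]; exact CategoryTheory.Functor.map_id _ _
  simp only [secHom, Scheme.Hom.appLE, Category.assoc]
  rw [reassoc_of% h2, h1, Scheme.Hom.comp_app, hU.fromSpec_app_self]
  simp only [Category.assoc]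
  rw [Scheme.Hom.naturality_assoc]
  simp only [← Functor.map_comp_assoc]
  erw [hk, Category.id_comp]
  rw [← cancel_epi (Scheme.ΓSpecIso Γ(S, U)).hom, Iso.hom_inv_id_assoc]
  erw [Scheme.ΓSpecIso_naturality]

theorem chart_res {U V : S.AffineZariskiSite} (i : V ⟶ U) :
    Spec.map (F.map i.op) ≫ chart F α hα U.1 U.2 = chart F α hα V.1 V.2 :=
  colimit.w (glueData F α hα).functor i

set_option backward.isDefEq.respectTransparency false in
theorem secHom_res {U V : S.AffineZariskiSite} (i : V ⟶ U) :
    (qc F α hα).presheaf.map (homOfLE (Scheme.AffineZariskiSite.toOpens_mono i.le)).op ≫ secHom F α hα V.1 V.2 =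
      secHom F α hα U.1 U.2 ≫ F.map i.op := by
  change (glued F α hα).presheaf.map (homOfLE ((proj F α hα).preimage_mono (Scheme.AffineZariskiSite.toOpens_mono i.le))).op ≫
      secHom F α hα V.1 V.2 = _
  simp only [secHom, Category.assoc, ← Scheme.ΓSpecIso_naturality]
  simp only [← Category.assoc]
  congr 1
  simp only [Scheme.Hom.appTop, Scheme.Hom.appLE, Category.assoc]
  have h1 := (Scheme.Hom.comp_app (Spec.map (F.map i.op)) (chart F α hα U.1 U.2) (proj F α hα ⁻¹ᵁ U.1)).symm
  rw [Scheme.Hom.naturality_assoc, Scheme.Hom.naturality, reassoc_of% h1,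
    Scheme.Hom.congr_app (chart_res F α hα i), Category.assoc, ← Functor.map_comp, ← Functor.map_comp]
  rfl

end Groth.Ega2Proj.AffGlue
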