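/-
The homogeneous ideal attached to a compatible family of ideals of the rings `A_(f)`.
-/
import Groth.Agent.Ega2Proj2.ProjLoc
import Mathlib.RingTheory.GradedAlgebra.Radical

set_option autoImplicit false

universe u

open HomogeneousLocalization
open scoped HomogeneousIdeal

noncomputable section

namespace Groth.Ega2Proj.GrSat

/-- An ideal of `A_(f)` for every homogeneous `f` of positive degree. -/
abbrev Family {A σ : Type u} [CommRing A] [SetLike σ A] [AddSubgroupClass σ A] (𝒜 : ℕ → σ)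
    [GradedRing 𝒜] : Type u :=
  ∀ (d : ℕ) (f : A), 0 < d → f ∈ 𝒜 d → Ideal (Away 𝒜 f)

variable {A σ : Type u} [CommRing A] [SetLike σ A] [AddSubgroupClass σ A] {𝒜 : ℕ → σ} [GradedRing 𝒜]
  (J : Family 𝒜)

/-- Compatibility along `A_(f) → A_(fg)`. -/
def IsCompat : Prop :=
  ∀ (d e : ℕ) (f g x : A) (hd : 0 < d) (_ : 0 < e) (hf : f ∈ 𝒜 d) (hg : g ∈ 𝒜 e) (hx : x = f * g)
    (n : ℕ) (hn : 0 < n) (hxn : x ∈ 𝒜 n) (_ : n = d + e),
    J n x hn hxn = (J d f hd hf).map (awayMap 𝒜 hg hx)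

/-- The ideal of numerators of the fractions in `J_f`. -/
def num {d : ℕ} (hd : 0 < d) {f : A} (hf : f ∈ 𝒜 d) : Ideal A :=
  Ideal.span {b | ∃ (m : ℕ) (hb : b ∈ 𝒜 (m • d)), Away.mk 𝒜 hf m b hb ∈ J d f hd hf}

/-- Its saturation by `f`. -/
def sat {d : ℕ} (hd : 0 < d) {f : A} (hf : f ∈ 𝒜 d) : Ideal A where
  carrier := {a | ∃ k, f ^ k * a ∈ num J hd hf}
  add_mem' := by
    rintro a b ⟨k, hk⟩ ⟨l, hl⟩
    refine ⟨k + l, ?_⟩
    have : f ^ (k + l) * (a + b) = f ^ l * (f ^ k * a) + f ^ k * (f ^ l * b) := by ring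
    rw [this]
    exact add_mem (Ideal.mul_mem_left _ _ hk) (Ideal.mul_mem_left _ _ hl)
  zero_mem' := ⟨0, by rw [mul_zero]; exact zero_mem _⟩
  smul_mem' := by
    rintro c a ⟨k, hk⟩
    exact ⟨k, by rw [smul_eq_mul, mul_left_comm]; exact Ideal.mul_mem_left _ _ hk⟩

/-- The ideal of `A` attached to `J`. -/
def ideal : Ideal A := ⨅ (d : ℕ) (f : A) (hd : 0 < d) (hf : f ∈ 𝒜 d), sat J hd hf

theorem mem_ideal {a : A} :
    a ∈ ideal J ↔ ∀ (d : ℕ) (f : A) (hd : 0 < d) (hf : f ∈ 𝒜 d), a ∈ sat J hd hf := by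
  simp only [ideal, Ideal.mem_iInf]

variable {J} {d : ℕ} {hd : 0 < d} {f : A} {hf : f ∈ 𝒜 d}

theorem num_le_sat : num J hd hf ≤ sat J hd hf := fun x hx => ⟨0, by rwa [pow_zero, one_mul]⟩

theorem mem_sat_of_pow_mul {a : A} {k : ℕ} (h : f ^ k * a ∈ sat J hd hf) : a ∈ sat J hd hf := by
  obtain ⟨l, hl⟩ := h
  exact ⟨l + k, by rwa [pow_add, mul_assoc]⟩

theorem isHomogeneous_num : (num J hd hf).IsHomogeneous 𝒜 :=
  Ideal.homogeneous_span 𝒜 _ fun _ ⟨m, hb, _⟩ => ⟨m • d, hb⟩

theorem isHomogeneous_sat : (sat J hd hf).IsHomogeneous 𝒜 := by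
  intro i a ⟨k, hk⟩
  refine ⟨k, ?_⟩
  have h := isHomogeneous_num (k * d + i) hk
  have hfk : f ^ k ∈ 𝒜 (k * d) := by simpa using SetLike.pow_mem_graded k hf
  rwa [DirectSum.coe_decompose_mul_add_of_left_mem 𝒜 hfk] at h

theorem isHomogeneous_ideal : (ideal J).IsHomogeneous 𝒜 := fun i a ha =>
  (mem_ideal J).2 fun d f hd hf => isHomogeneous_sat i ((mem_ideal J).1 ha d f hd hf)

theorem mk_mul_pow (m k : ℕ) (b : A) (hb : b ∈ 𝒜 (m • d)) (hb' : f ^ k * b ∈ 𝒜 ((k + m) • d)) :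
    Away.mk 𝒜 hf (k + m) (f ^ k * b) hb' = Away.mk 𝒜 hf m b hb := by
  apply val_injective
  simp only [Away.val_mk, Localization.mk_eq_mk_iff, Localization.r_iff_exists]
  exact ⟨1, by simp only [OneMemClass.coe_one, one_mul]; ring⟩

/-- An element of `num` of degree `M d` gives a fraction in `J`. -/
theorem mk_mem_of_mem_num {x : A} (hx : x ∈ num J hd hf) (M : ℕ) (hxM : x ∈ 𝒜 (M • d)) :
    Away.mk 𝒜 hf M x hxM ∈ J d f hd hf := by
  classical
  have key : ∀ (c : A) (M : ℕ), Away.mk 𝒜 hf M (DirectSum.decompose 𝒜 (c * x) (M • d) : A)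
      (SetLike.coe_mem _) ∈ J d f hd hf := by
    clear hxM
    induction hx using Submodule.span_induction with
    | mem b hb =>
      obtain ⟨m, hb, hJ⟩ := hb
      intro c M
      rcases le_or_gt m M with hmM | hmM
      · have hle : m • d ≤ M • d := by simp only [smul_eq_mul]; exact Nat.mul_le_mul_right d hmM
        have hsub : M • d - m • d = (M - m) • d := by
          simp only [smul_eq_mul]; exact (Nat.sub_mul _ _ _).symm
        have e : Away.mk 𝒜 hf M (DirectSum.decompose 𝒜 (c * b) (M • d) : A) (SetLike.coe_mem _) =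
            Away.mk 𝒜 hf (M - m) (DirectSum.decompose 𝒜 c ((M - m) • d) : A) (SetLike.coe_mem _) *
              Away.mk 𝒜 hf m b hb := by
          apply val_injective
          simp only [val_mul, Away.val_mk, Localization.mk_mul, Localization.mk_eq_mk_iff,
            Localization.r_iff_exists]
          refine ⟨1, ?_⟩
          rw [DirectSum.coe_decompose_mul_of_right_mem_of_le 𝒜 hb hle, hsub]
          simp only [OneMemClass.coe_one, one_mul, Submonoid.coe_mul, ← pow_add,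
            Nat.sub_add_cancel hmM]
        rw [e]
        exact Ideal.mul_mem_left _ _ hJ
      · have hlt : ¬ m • d ≤ M • d := by
          simp only [smul_eq_mul, not_le]; exact Nat.mul_lt_mul_of_pos_right hmM hd
        have e : Away.mk 𝒜 hf M (DirectSum.decompose 𝒜 (c * b) (M • d) : A) (SetLike.coe_mem _) = 0 := by
          apply val_injective
          simp only [Away.val_mk, val_zero,
            DirectSum.coe_decompose_mul_of_right_mem_of_not_le 𝒜 hb hlt, Localization.mk_zero]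
        rw [e]
        exact zero_mem _
    | zero =>
      intro c M
      have e : Away.mk 𝒜 hf M (DirectSum.decompose 𝒜 (c * 0) (M • d) : A) (SetLike.coe_mem _) = 0 := by
        apply val_injective
        simp only [Away.val_mk, val_zero, mul_zero, DirectSum.decompose_zero, DirectSum.zero_apply,
          ZeroMemClass.coe_zero, Localization.mk_zero]
      rw [e]
      exact zero_mem _
    | add a b _ _ ha hb =>
      intro c M
      have e : Away.mk 𝒜 hf M (DirectSum.decompose 𝒜 (c * (a + b)) (M • d) : A) (SetLike.coe_mem _) =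
          Away.mk 𝒜 hf M (DirectSum.decompose 𝒜 (c * a) (M • d) : A) (SetLike.coe_mem _) +
          Away.mk 𝒜 hf M (DirectSum.decompose 𝒜 (c * b) (M • d) : A) (SetLike.coe_mem _) := by
        apply val_injective
        simp only [val_add, Away.val_mk, Localization.add_mk_self, mul_add, DirectSum.decompose_add,
          DirectSum.add_apply, AddMemClass.coe_add]
      rw [e]
      exact add_mem (ha c M) (hb c M)
    | smul r a _ ha =>
      intro c M
      simp only [smul_eq_mul, ← mul_assoc]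
      exact ha (c * r) M
  have h := key 1 M
  simpa only [one_mul, DirectSum.decompose_of_mem_same 𝒜 hxM] using h

theorem mk_mem_of_mem_sat {m : ℕ} {b : A} (hb : b ∈ 𝒜 (m • d)) (h : b ∈ sat J hd hf) :
    Away.mk 𝒜 hf m b hb ∈ J d f hd hf := by
  obtain ⟨k, hk⟩ := h
  have hb' : f ^ k * b ∈ 𝒜 ((k + m) • d) := by
    rw [add_smul]; exact SetLike.mul_mem_graded (SetLike.pow_mem_graded k hf) hb
  rw [← mk_mul_pow m k b hb hb']
  exact mk_mem_of_mem_num hk _ hb'

section compat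

variable {e : ℕ} {he : 0 < e} {g : A} {hg : g ∈ 𝒜 e} {n : ℕ} {hn : 0 < n} {x : A} {hxn : x ∈ 𝒜 n}
  (hJ : IsCompat J) (hx : x = f * g) (hne : n = d + e)

include hJ hx hne hg he in
theorem sat_le_sat_mul : sat J hd hf ≤ sat J hn hxn := by
  subst hne
  suffices h : num J hd hf ≤ sat J hn hxn by
    intro a ⟨k, hk⟩
    refine mem_sat_of_pow_mul (k := k) ?_
    have : x ^ k * a = g ^ k * (f ^ k * a) := by rw [hx, mul_pow]; ring
    rw [this]
    exact Ideal.mul_mem_left _ _ (h hk)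
  refine Ideal.span_le.2 ?_
  rintro b ⟨m, hb, hbJ⟩
  have hbg : b * g ^ m ∈ 𝒜 (m • (d + e)) := by
    rw [smul_add]; exact SetLike.mul_mem_graded hb (SetLike.pow_mem_graded m hg)
  have h1 : b * g ^ m ∈ num J hn hxn := by
    refine Ideal.subset_span ⟨m, hbg, ?_⟩
    rw [hJ d e f g x hd he hf hg hx (d + e) hn hxn rfl]
    have h2 := Ideal.mem_map_of_mem (awayMap 𝒜 hg hx) hbJ
    rwa [awayMap_mk] at h2
  refine mem_sat_of_pow_mul (k := m) (num_le_sat ?_)
  have : x ^ m * b = f ^ m * (b * g ^ m) := by rw [hx, mul_pow]; ring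
  rw [this]
  exact Ideal.mul_mem_left _ _ h1

include hJ hx hne hg he in
theorem exists_pow_mul_mem_sat {a : A} (ha : a ∈ sat J hn hxn) : ∃ k, g ^ k * a ∈ sat J hd hf := by
  subst hne
  suffices h : ∀ z ∈ num J hn hxn, ∃ k, g ^ k * z ∈ sat J hd hf by
    obtain ⟨k, hk⟩ := ha
    obtain ⟨l, hl⟩ := h _ hk
    refine ⟨l + k, mem_sat_of_pow_mul (k := k) ?_⟩
    have : f ^ k * (g ^ (l + k) * a) = g ^ l * (x ^ k * a) := by rw [hx, mul_pow, pow_add]; ring
    rw [this]
    exact hl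
  intro z hz
  induction hz using Submodule.span_induction with
  | mem b hb =>
    obtain ⟨m, hb, hbJ⟩ := hb
    have hmem := hbJ
    rw [hJ d e f g x hd he hf hg hx (d + e) hn hxn rfl] at hmem
    letI := (awayMap 𝒜 hg hx).toAlgebra
    have := Away.isLocalization_mul hf hg hx hd.ne'
    obtain ⟨⟨⟨u, hu⟩, ⟨s, hs⟩⟩, hus⟩ :=
      (IsLocalization.mem_map_algebraMap_iff (Submonoid.powers (Away.isLocalizationElem hf hg)) _).1 hmem
    obtain ⟨N, rfl⟩ := hs
    obtain ⟨M, c, hc, rfl⟩ := Away.mk_surjective 𝒜 hf u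
    have hus' := congrArg val hus
    simp only [RingHom.algebraMap_toAlgebra, map_pow, val_mul, val_pow, awayMap_mk, Away.val_mk,
      Localization.mk_pow, Localization.mk_mul, Localization.mk_eq_mk_iff, Localization.r_iff_exists]
      at hus'
    obtain ⟨⟨_, l, rfl⟩, hl⟩ := hus'
    simp only [Submonoid.coe_mul, SubmonoidClass.coe_pow] at hl
    refine ⟨l + M + d * N + e * N, mem_sat_of_pow_mul (k := l + M) (num_le_sat ?_)⟩
    have key : f ^ (l + M) * (g ^ (l + M + d * N + e * N) * b) =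
        (f ^ l * f ^ (m + e * N) * g ^ (l + M + m + e * N)) * c := by
      rw [hx] at hl
      linear_combination hl
    rw [key]
    exact Ideal.mul_mem_left _ _ (Ideal.subset_span ⟨M, hc, hu⟩)
  | zero => exact ⟨0, by rw [mul_zero]; exact zero_mem _⟩
  | add a b _ _ ha hb =>
    obtain ⟨k, hk⟩ := ha
    obtain ⟨l, hl⟩ := hb
    refine ⟨k + l, ?_⟩
    have : g ^ (k + l) * (a + b) = g ^ l * (g ^ k * a) + g ^ k * (g ^ l * b) := by ring
    rw [this]
    exact add_mem (Ideal.mul_mem_left _ _ hk) (Ideal.mul_mem_left _ _ hl)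
  | smul r a _ ha =>
    obtain ⟨k, hk⟩ := ha
    exact ⟨k, by rw [smul_eq_mul, mul_left_comm]; exact Ideal.mul_mem_left _ _ hk⟩

end compat

/-- A finite set of homogeneous elements of positive degree cutting out the irrelevant ideal. -/
def IsCover (𝒜 : ℕ → σ) [GradedRing 𝒜] (s : Finset A) : Prop :=
  (∀ g ∈ s, ∃ e, 0 < e ∧ g ∈ 𝒜 e) ∧ (𝒜₊).toIdeal ≤ (Ideal.span (s : Set A)).radical

variable (hJ : IsCompat J) {s : Finset A} (hs : IsCover 𝒜 s)

include hJ hs in
theorem mem_ideal_of_forall {a : A}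
    (h : ∀ g ∈ s, ∀ (e : ℕ) (he : 0 < e) (hg : g ∈ 𝒜 e), a ∈ sat J he hg) : a ∈ ideal J := by
  refine (mem_ideal J).2 fun d f hd hf => ?_
  have hfs : f ∈ (Ideal.span (s : Set A)).radical :=
    hs.2 (HomogeneousIdeal.mem_irrelevant_of_mem _ hd hf)
  let K : Ideal A :=
    { carrier := {c | c * a ∈ sat J hd hf}
      add_mem' := fun {p q} hp hq => by
        change (p + q) * a ∈ sat J hd hf
        rw [add_mul]; exact add_mem hp hq
      zero_mem' := by
        change (0 : A) * a ∈ sat J hd hf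
        rw [zero_mul]; exact zero_mem _
      smul_mem' := fun r p hp => by
        change r * p * a ∈ sat J hd hf
        rw [mul_assoc]; exact Ideal.mul_mem_left _ _ hp }
  have hK : (Ideal.span (s : Set A)).radical ≤ K.radical := by
    refine Ideal.radical_le_radical_iff.2 (Ideal.span_le.2 fun g hg => ?_)
    obtain ⟨e, he, hge⟩ := hs.1 g hg
    have hfg : f * g ∈ 𝒜 (d + e) := SetLike.mul_mem_graded hf hge
    have h1 : a ∈ sat J (Nat.add_pos_left hd e) hfg :=
      sat_le_sat_mul (hg := hf) (he := hd) hJ (mul_comm f g) (Nat.add_comm d e) (h g hg e he hge)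
    obtain ⟨k, hk⟩ := exists_pow_mul_mem_sat (hd := hd) (hf := hf) (he := he) (hg := hge) hJ rfl rfl h1
    exact ⟨k, hk⟩
  obtain ⟨k, hk⟩ := hK hfs
  exact mem_sat_of_pow_mul (k := k) hk

include hJ hs in
theorem exists_pow_mul_mem_ideal {b : A} (hb : b ∈ sat J hd hf) : ∃ k, f ^ k * b ∈ ideal J := by
  classical
  have key : ∀ g ∈ s, ∃ k, ∀ (e : ℕ) (he : 0 < e) (hg : g ∈ 𝒜 e), f ^ k * b ∈ sat J he hg := by
    intro g hgs
    obtain ⟨e₀, he₀, hg₀⟩ := hs.1 g hgs
    by_cases hg0 : g = 0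
    · refine ⟨0, fun e he hg => ⟨1, ?_⟩⟩
      have : g ^ 1 * (f ^ 0 * b) = 0 := by rw [pow_one]; simp [hg0]
      rw [this]; exact zero_mem _
    have hfg : f * g ∈ 𝒜 (d + e₀) := SetLike.mul_mem_graded hf hg₀
    have h1 : b ∈ sat J (Nat.add_pos_left hd e₀) hfg :=
      sat_le_sat_mul (hg := hg₀) (he := he₀) hJ rfl rfl hb
    obtain ⟨k, hk⟩ := exists_pow_mul_mem_sat (hd := he₀) (hf := hg₀) (he := hd) (hg := hf) hJ
      (mul_comm f g) (Nat.add_comm d e₀) h1
    refine ⟨k, fun e he hg => ?_⟩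
    obtain rfl : e = e₀ := DirectSum.degree_eq_of_mem_mem 𝒜 hg hg₀ hg0
    exact hk
  choose! k hk using key
  refine ⟨∑ g ∈ s, k g, mem_ideal_of_forall hJ hs fun g hg e he hge => ?_⟩
  rw [← Nat.sub_add_cancel (Finset.single_le_sum (fun _ _ => Nat.zero_le _) hg : k g ≤ ∑ g ∈ s, k g),
    pow_add, mul_assoc]
  exact Ideal.mul_mem_left _ _ (hk g hg e he hge)

include hJ hs in
theorem mk_mem_iff {m : ℕ} {b : A} (hb : b ∈ 𝒜 (m • d)) :
    Away.mk 𝒜 hf m b hb ∈ J d f hd hf ↔ ∃ k, f ^ k * b ∈ ideal J :=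
  ⟨fun h => exists_pow_mul_mem_ideal hJ hs (num_le_sat (Ideal.subset_span ⟨m, hb, h⟩)),
    fun ⟨_, hk⟩ => mk_mem_of_mem_sat hb (mem_sat_of_pow_mul ((mem_ideal J).1 hk d f hd hf))⟩

end Groth.Ega2Proj.GrSat
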