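/-
The ideal attached to a compatible family commutes with localisation in degree zero.
-/
import Groth.Agent.Ega2Proj.GrSat

set_option autoImplicit false

universe u

open HomogeneousLocalization
open scoped HomogeneousIdeal

noncomputable section

namespace Groth.Ega2Proj.GrSat

variable {A B σ τ : Type u} [CommRing A] [SetLike σ A] [AddSubgroupClass σ A]
  [CommRing B] [SetLike τ B] [AddSubgroupClass τ B]
  {𝒜 : ℕ → σ} {ℬ : ℕ → τ} [GradedRing 𝒜] [GradedRing ℬ]
  (ψ : 𝒜 →+*ᵍ ℬ) (c : 𝒜 0)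
  (hloc : letI := ψ.toRingHom.toAlgebra; IsLocalization.Away (c : A) B)
  (J : Family 𝒜) (J' : Family ℬ)
  (hJJ : ∀ (d : ℕ) (f : A) (hd : 0 < d) (hf : f ∈ 𝒜 d),
    J' d (ψ f) hd (ψ.map_mem hf) = (J d f hd hf).map (Away.map ψ f))

include hloc in
omit [AddSubgroupClass τ B] in
theorem exists_pow_mul_eq_zero {x : A} (h : ψ x = 0) : ∃ k, (c : A) ^ k * x = 0 := by
  letI := ψ.toRingHom.toAlgebra
  have h' : algebraMap A B x = 0 := h
  obtain ⟨⟨_, k, rfl⟩, hk⟩ := (IsLocalization.map_eq_zero_iff (Submonoid.powers (c : A)) B x).1 h'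
  exact ⟨k, hk⟩

include hloc in
omit [AddSubgroupClass τ B] in
theorem isUnit_map : IsUnit (ψ (c : A)) := by
  letI := ψ.toRingHom.toAlgebra
  exact IsLocalization.Away.algebraMap_isUnit (S := B) (c : A)

include hloc hJJ in
theorem exists_num_lift {d : ℕ} {hd : 0 < d} {f : A} {hf : f ∈ 𝒜 d} {z : B}
    (hz : z ∈ num J' hd (ψ.map_mem hf)) : ∃ (k : ℕ) (y : A), y ∈ num J hd hf ∧ ψ y = ψ (c : A) ^ k * z := by
  classical
  induction hz using Submodule.span_induction with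
  | mem b' hb' =>
    obtain ⟨m, hb', hbJ⟩ := hb'
    erw [hJJ d f hd hf] at hbJ
    letI := (Away.map ψ f).toAlgebra
    have := Groth.Ega2P2.isLocalization_awayMap ψ c hloc hf
    obtain ⟨⟨⟨u, hu⟩, ⟨s, hs⟩⟩, hus⟩ := (IsLocalization.mem_map_algebraMap_iff
      (Submonoid.powers (fromZeroRingHom 𝒜 (Submonoid.powers f) c)) _).1 hbJ
    obtain ⟨N, rfl⟩ := hs
    obtain ⟨M, y, hy, rfl⟩ := Away.mk_surjective 𝒜 hf u
    have hz := DFunLike.congr_fun (Groth.Ega2P2.awayMap_fromZero ψ f) c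
    simp only [RingHom.comp_apply] at hz
    simp only [RingHom.algebraMap_toAlgebra, map_pow] at hus
    erw [hz, Away.map_mk] at hus
    replace hus := congrArg val hus
    simp only [val_mul, val_pow, Groth.Ega2P2.val_fromZero, Groth.Ega2P2.zeroHom_coe, Away.val_mk,
      Localization.mk_pow, Localization.mk_mul, Localization.mk_eq_mk_iff, Localization.r_iff_exists,
      one_pow, mul_one] at hus
    obtain ⟨⟨_, l, rfl⟩, hl⟩ := hus
    simp only at hl
    -- descend the identity to `A`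
    letI := ψ.toRingHom.toAlgebra
    obtain ⟨K, x, hx⟩ := IsLocalization.Away.surj (c : A) b'
    change b' * ψ (c : A) ^ K = ψ x at hx
    have hck : ψ (c : A) ^ K ∈ ℬ 0 := by
      simpa using SetLike.pow_mem_graded (A := ℬ) K (ψ.map_mem c.2)
    have hbi : b' * ψ (c : A) ^ K ∈ ℬ (m • d) := by
      simpa only [add_zero] using SetLike.mul_mem_graded (A := ℬ) hb' hck
    let b : A := DirectSum.decompose 𝒜 x (m • d)
    have hb : ψ b = b' * ψ (c : A) ^ K := by
      simp only [b]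
      rw [GradedRingHom.map_directSumDecompose, ← hx,
        DirectSum.decompose_of_mem_same _ hbi]
    have h0 : ψ ((f ^ (l + M) * (c : A) ^ N) * b - (c : A) ^ K * f ^ (l + m) * y) = 0 := by
      simp only [map_sub, map_mul, map_pow, hb]
      linear_combination (ψ (c : A) ^ K) * hl
    obtain ⟨L, hL⟩ := exists_pow_mul_eq_zero ψ c hloc h0
    rw [mul_sub, sub_eq_zero] at hL
    have hL' : f ^ (l + M) * ((c : A) ^ (L + N) * b) = ((c : A) ^ (L + K) * f ^ (l + m)) * y := by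
      linear_combination hL
    have hdeg : (c : A) ^ (L + N) * b ∈ 𝒜 (m • d) := by
      have := SetLike.mul_mem_graded (SetLike.pow_mem_graded (L + N) c.2) (SetLike.coe_mem
        (DirectSum.decompose 𝒜 x (m • d)))
      simpa [b] using this
    refine ⟨L + N + K, (c : A) ^ (L + N) * b, Ideal.subset_span ⟨m, hdeg, mk_mem_of_mem_sat hdeg ⟨l + M, ?_⟩⟩, ?_⟩
    · rw [hL']
      exact Ideal.mul_mem_left _ _ (Ideal.subset_span ⟨M, hy, hu⟩)
    · rw [map_mul, map_pow, hb, pow_add _ (L + N) K]; ring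
  | zero => exact ⟨0, 0, zero_mem _, by rw [map_zero, mul_zero]⟩
  | add a b _ _ ha hb =>
    obtain ⟨k, x, hx, ex⟩ := ha
    obtain ⟨l, y, hy, ey⟩ := hb
    refine ⟨k + l, (c : A) ^ l * x + (c : A) ^ k * y,
      add_mem (Ideal.mul_mem_left _ _ hx) (Ideal.mul_mem_left _ _ hy), ?_⟩
    rw [map_add, map_mul, map_mul, map_pow, map_pow, ex, ey]; ring
  | smul r a _ ha =>
    obtain ⟨k, x, hx, ex⟩ := ha
    letI := ψ.toRingHom.toAlgebra
    obtain ⟨K, r₀, hr⟩ := IsLocalization.Away.surj (c : A) r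
    change r * ψ (c : A) ^ K = ψ r₀ at hr
    refine ⟨K + k, r₀ * x, Ideal.mul_mem_left _ _ hx, ?_⟩
    rw [map_mul, ex, ← hr, smul_eq_mul]; ring

include hJJ in
theorem map_mem_num {d : ℕ} {hd : 0 < d} {f : A} {hf : f ∈ 𝒜 d} {y : A} (hy : y ∈ num J hd hf) :
    ψ y ∈ num J' hd (ψ.map_mem hf) := by
  suffices num J hd hf ≤ (num J' hd (ψ.map_mem hf)).comap ψ from this hy
  refine Ideal.span_le.2 ?_
  rintro b ⟨m, hb, hbJ⟩
  refine Ideal.subset_span ⟨m, ψ.map_mem hb, ?_⟩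
  erw [hJJ d f hd hf, ← Away.map_mk ψ f hf m b hb]
  exact Ideal.mem_map_of_mem _ hbJ

variable (hJ : IsCompat J) (hJ' : IsCompat J') {s : Finset A} (hs : IsCover 𝒜 s)

include hloc hs in
theorem isCover_image [DecidableEq B] : IsCover ℬ (s.image ψ) := by
  refine ⟨fun g' hg' => ?_, ?_⟩
  · obtain ⟨g, hg, rfl⟩ := Finset.mem_image.mp hg'
    obtain ⟨e, he, hge⟩ := hs.1 g hg
    exact ⟨e, he, ψ.map_mem hge⟩
  · have h1 : (ℬ₊).toIdeal ≤ (𝒜₊).toIdeal.map ψ := Groth.Ega2P2.irrelevant_le_map_of_away ψ c hloc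
    refine h1.trans ((Ideal.map_mono hs.2).trans ((Ideal.map_radical_le _).trans ?_))
    rw [Ideal.map_span, Finset.coe_image]

include hloc hJJ hJ hJ' hs in
/-- The ideal of the localisation is the extended ideal. -/
theorem ideal_eq_map : ideal J' = (ideal J).map ψ := by
  classical
  refine le_antisymm (fun z hz => ?_) (Ideal.map_le_iff_le_comap.2 fun a ha => ?_)
  · letI := ψ.toRingHom.toAlgebra
    obtain ⟨K, a, ha⟩ := IsLocalization.Away.surj (c : A) z
    change z * ψ (c : A) ^ K = ψ a at ha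
    have key : ∀ g ∈ s, ∃ k, ∀ (e : ℕ) (he : 0 < e) (hg : g ∈ 𝒜 e), (c : A) ^ k * a ∈ sat J he hg := by
      intro g hgs
      obtain ⟨e₀, he₀, hg₀⟩ := hs.1 g hgs
      by_cases hg0 : g = 0
      · refine ⟨0, fun e he hg => ⟨1, ?_⟩⟩
        have : g ^ 1 * ((c : A) ^ 0 * a) = 0 := by rw [pow_one]; simp [hg0]
        rw [this]; exact zero_mem _
      obtain ⟨l, hl⟩ := (mem_ideal J').1 hz e₀ (ψ g) he₀ (ψ.map_mem hg₀)
      obtain ⟨k, y, hy, hye⟩ := exists_num_lift (hd := he₀) (f := g) (hf := hg₀) ψ c hloc J J' hJJ hl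
      have h0 : ψ ((c : A) ^ k * (g ^ l * a) - (c : A) ^ K * y) = 0 := by
        simp only [map_sub, map_mul, map_pow, hye, ← ha]; ring
      obtain ⟨L, hL⟩ := exists_pow_mul_eq_zero ψ c hloc h0
      rw [mul_sub, sub_eq_zero] at hL
      refine ⟨L + k, fun e he hg => ?_⟩
      obtain rfl : e = e₀ := DirectSum.degree_eq_of_mem_mem 𝒜 hg hg₀ hg0
      refine ⟨l, ?_⟩
      have : g ^ l * ((c : A) ^ (L + k) * a) = ((c : A) ^ L * (c : A) ^ K) * y := by linear_combination hL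
      rw [this]
      exact Ideal.mul_mem_left _ _ hy
    choose! k hk using key
    have hmem : (c : A) ^ (∑ g ∈ s, k g) * a ∈ ideal J := mem_ideal_of_forall hJ hs fun g hg e he hge => by
      rw [← Nat.sub_add_cancel (Finset.single_le_sum (fun _ _ => Nat.zero_le _) hg : k g ≤ ∑ g ∈ s, k g),
        pow_add, mul_assoc]
      exact Ideal.mul_mem_left _ _ (hk g hg e he hge)
    have hu := ((isUnit_map ψ c hloc).pow ((∑ g ∈ s, k g) + K))
    refine (Ideal.mul_unit_mem_iff_mem _ hu).mp ?_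
    have : z * ψ (c : A) ^ ((∑ g ∈ s, k g) + K) = ψ ((c : A) ^ (∑ g ∈ s, k g) * a) := by
      rw [map_mul, map_pow, ← ha]; ring
    rw [this]
    exact Ideal.mem_map_of_mem _ hmem
  · refine mem_ideal_of_forall hJ' (isCover_image ψ c hloc hs) fun g' hg' e he hge => ?_
    obtain ⟨g, hg, rfl⟩ := Finset.mem_image.mp hg'
    obtain ⟨e₀, he₀, hg₀⟩ := hs.1 g hg
    by_cases h0 : ψ g = 0
    · refine ⟨1, ?_⟩
      have : ψ g ^ 1 * ψ a = 0 := by rw [pow_one]; simp [h0]
      rw [this]; exact zero_mem _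
    obtain rfl : e = e₀ := DirectSum.degree_eq_of_mem_mem ℬ hge (ψ.map_mem hg₀) h0
    obtain ⟨l, hl⟩ := (mem_ideal J).1 ha e g he hg₀
    refine ⟨l, ?_⟩
    have := map_mem_num ψ J J' hJJ hl
    rwa [map_mul, map_pow] at this

end Groth.Ega2Proj.GrSat
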