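/-
The ideal of a closed subscheme in an affine chart.
-/
import Mathlib.AlgebraicGeometry.IdealSheaf.Functorial

set_option autoImplicit false

universe u

open CategoryTheory CategoryTheory.Limits AlgebraicGeometry Opposite TopologicalSpace

noncomputable section

namespace Groth.Ega2Proj.PullIdeal

variable {P : Scheme.{u}} {R R' : CommRingCat.{u}} (ι : Spec R ⟶ P) [IsOpenImmersion ι]

/-- The functions of the chart. -/
def sec : Γ(P, ι.opensRange) ⟶ R :=
  ι.appLE ι.opensRange ⊤ ι.preimage_opensRange.ge ≫ (Scheme.ΓSpecIso R).hom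

theorem isIso_sec : IsIso (sec ι) := by
  have h1 : IsIso (ι.app ι.opensRange) := Scheme.Hom.isIso_app _ _ le_rfl
  have h2 : IsIso (ι.appLE ι.opensRange ⊤ ι.preimage_opensRange.ge) := by
    rw [Scheme.Hom.appLE, show (homOfLE ι.preimage_opensRange.ge) = eqToHom ι.preimage_opensRange.symm from
      Subsingleton.elim _ _]
    infer_instance
  exact IsIso.comp_isIso' h2 inferInstance

/-- The chart as an affine open. -/
abbrev range : P.affineOpens := ⟨ι.opensRange, isAffineOpen_opensRange ι⟩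

variable (I : P.IdealSheafData)

/-- The ideal of the closed subscheme in the chart. -/
def ideal : Ideal R := (I.ideal (range ι)).map (sec ι).hom

variable {ι} in
theorem sec_comp {ι' : Spec R' ⟶ P} [IsOpenImmersion ι'] (φ : R ⟶ R') (h : Spec.map φ ≫ ι = ι')
    (hle : ι'.opensRange ≤ ι.opensRange) :
    P.presheaf.map (homOfLE hle).op ≫ sec ι' = sec ι ≫ φ := by
  subst h
  have h1 : (⊤ : (Spec R').Opens) ≤ Spec.map φ ⁻¹ᵁ ⊤ := le_rfl
  have h2 : (Spec.map φ).appLE ⊤ ⊤ h1 = (Spec.map φ).appTop := by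
    rw [Scheme.Hom.appTop, Scheme.Hom.app_eq_appLE]
    rfl
  have h3 : (⊤ : (Spec R').Opens) ≤ (Spec.map φ ≫ ι) ⁻¹ᵁ ι.opensRange :=
    (Spec.map φ ≫ ι).preimage_opensRange.ge.trans ((Spec.map φ ≫ ι).preimage_mono hle)
  have e1 : P.presheaf.map (homOfLE hle).op ≫
      (Spec.map φ ≫ ι).appLE _ ⊤ (Spec.map φ ≫ ι).preimage_opensRange.ge =
      (Spec.map φ ≫ ι).appLE ι.opensRange ⊤ h3 :=
    Scheme.Hom.map_appLE _ _ _
  have e2 : ι.appLE ι.opensRange ⊤ ι.preimage_opensRange.ge ≫ (Spec.map φ).appLE ⊤ ⊤ h1 =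
      (Spec.map φ ≫ ι).appLE ι.opensRange ⊤ h3 :=
    Scheme.Hom.appLE_comp_appLE _ _ _ _ _ _ _
  calc P.presheaf.map (homOfLE hle).op ≫ sec (Spec.map φ ≫ ι)
      = (Spec.map φ ≫ ι).appLE ι.opensRange ⊤ h3 ≫ (Scheme.ΓSpecIso R').hom := by
        rw [sec, ← Category.assoc, e1]
    _ = ι.appLE ι.opensRange ⊤ ι.preimage_opensRange.ge ≫ (Spec.map φ).appTop ≫
        (Scheme.ΓSpecIso R').hom := by
        rw [← e2, h2, Category.assoc]
    _ = sec ι ≫ φ := by
        rw [Scheme.ΓSpecIso_naturality, sec, Category.assoc]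

variable {ι} in
/-- Compatibility with smaller charts. -/
theorem ideal_comp {ι' : Spec R' ⟶ P} [IsOpenImmersion ι'] (φ : R ⟶ R') (h : Spec.map φ ≫ ι = ι') :
    ideal ι' I = (ideal ι I).map φ.hom := by
  have hle : ι'.opensRange ≤ ι.opensRange := by
    subst h
    rintro _ ⟨x, rfl⟩
    exact ⟨_, rfl⟩
  have e1 : (I.ideal (range ι)).map (P.presheaf.map (homOfLE hle).op).hom = I.ideal (range ι') :=
    I.map_ideal (show range ι' ≤ range ι from hle)
  have e2 : (sec ι').hom.comp (P.presheaf.map (homOfLE hle).op).hom = φ.hom.comp (sec ι).hom :=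
    congrArg CommRingCat.Hom.hom (sec_comp φ h hle)
  unfold ideal
  rw [Ideal.map_map, ← e1]
  erw [Ideal.map_map]
  rw [e2]

section ker

variable {ι}
variable {Z : Scheme.{u}} (h : Z ⟶ P) [QuasiCompact h] {j : Spec R' ⟶ Z} [IsOpenImmersion j] (φ : R ⟶ R')

/-- The kernel of a morphism given in a chart by a ring map. -/
theorem ideal_ker (hfac : j ≫ h = Spec.map φ ≫ ι) (hrange : j.opensRange = h ⁻¹ᵁ ι.opensRange) :
    ideal ι h.ker = RingHom.ker φ.hom := by
  have hb : Function.Bijective (sec ι).hom :=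
    have := isIso_sec ι
    ConcreteCategory.bijective_of_isIso _
  have hj : (⊤ : (Spec R').Opens) ≤ j ⁻¹ᵁ (h ⁻¹ᵁ ι.opensRange) := by
    rw [← hrange]; exact j.preimage_opensRange.ge
  have h1 : IsIso (j.app (h ⁻¹ᵁ ι.opensRange)) := Scheme.Hom.isIso_app _ _ hrange.ge
  have h2 : IsIso (j.appLE (h ⁻¹ᵁ ι.opensRange) ⊤ hj) := by
    rw [Scheme.Hom.appLE, show (homOfLE hj) = eqToHom (top_le_iff.mp hj).symm from
      Subsingleton.elim _ _]
    infer_instance
  have h3 : IsIso (j.appLE (h ⁻¹ᵁ ι.opensRange) ⊤ hj ≫ (Scheme.ΓSpecIso R').hom) :=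
    IsIso.comp_isIso' h2 inferInstance
  have ht : (⊤ : (Spec R').Opens) ≤ Spec.map φ ⁻¹ᵁ ⊤ := le_rfl
  have h4 : (Spec.map φ).appLE ⊤ ⊤ ht = (Spec.map φ).appTop := by
    rw [Scheme.Hom.appTop, Scheme.Hom.app_eq_appLE]
    rfl
  have key : h.app ι.opensRange ≫ j.appLE (h ⁻¹ᵁ ι.opensRange) ⊤ hj ≫ (Scheme.ΓSpecIso R').hom =
      sec ι ≫ φ := by
    have e1 : h.app ι.opensRange ≫ j.appLE (h ⁻¹ᵁ ι.opensRange) ⊤ hj =
        ι.appLE ι.opensRange ⊤ ι.preimage_opensRange.ge ≫ (Spec.map φ).appLE ⊤ ⊤ ht := by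
      rw [Scheme.Hom.app_eq_appLE, Scheme.Hom.appLE_comp_appLE, Scheme.Hom.appLE_comp_appLE]
      simp only [hfac]
    rw [← Category.assoc, e1, h4, Category.assoc, Scheme.ΓSpecIso_naturality, sec, Category.assoc]
  have hinj := (ConcreteCategory.bijective_of_isIso
    (j.appLE (h ⁻¹ᵁ ι.opensRange) ⊤ hj ≫ (Scheme.ΓSpecIso R').hom)).1
  have hiff : ∀ y, y ∈ h.ker.ideal (range ι) ↔ φ.hom ((sec ι).hom y) = 0 := by
    intro y
    rw [Scheme.Hom.ker_apply, RingHom.mem_ker]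
    have hy := congr(($key).hom y)
    constructor
    · intro h0
      exact hy.symm.trans ((congrArg
        (j.appLE (h ⁻¹ᵁ ι.opensRange) ⊤ hj ≫ (Scheme.ΓSpecIso R').hom).hom h0).trans (map_zero _))
    · intro h0
      refine hinj ?_
      rw [map_zero]
      exact hy.trans h0
  ext x
  rw [ideal, Ideal.mem_map_iff_of_surjective _ hb.2, RingHom.mem_ker]
  constructor
  · rintro ⟨y, hy, rfl⟩
    exact (hiff y).1 hy
  · intro hx
    obtain ⟨y, rfl⟩ := hb.2 x
    exact ⟨y, (hiff y).2 hx, rfl⟩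

end ker

theorem ext_of_ideal_eq {I J : P.IdealSheafData} {κ : Type*} {R : κ → CommRingCat.{u}}
    (ι : ∀ k, Spec (R k) ⟶ P) [∀ k, IsOpenImmersion (ι k)] (hcov : ⨆ k, (ι k).opensRange = ⊤)
    (h : ∀ k, ideal (ι k) I = ideal (ι k) J) : I = J := by
  refine Scheme.IdealSheafData.ext_of_iSup_eq_top (fun k => range (ι k)) hcov fun k => ?_
  have hb : Function.Bijective (sec (ι k)).hom :=
    have := isIso_sec (ι k)
    ConcreteCategory.bijective_of_isIso _
  have e := congrArg (Ideal.comap (sec (ι k)).hom) (h k)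
  rwa [ideal, ideal, Ideal.comap_map_of_bijective _ hb, Ideal.comap_map_of_bijective _ hb] at e

end Groth.Ega2Proj.PullIdeal
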