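/-
The homogeneous ideal, over each affine open, of a closed subscheme of a relative `Proj`.
-/
import Groth.Agent.Ega2Proj.GrSatLoc
import Groth.Agent.Ega2Proj.PullIdeal
import Groth.Agent.Ega2Proj2.ChartMaps
import Groth.Agent.Ega2Proj2.RelProjBasic
import Groth.Prelude.Def_RelProj4

set_option autoImplicit false

universe u

open CategoryTheory CategoryTheory.Limits AlgebraicGeometry Opposite TopologicalSpace
open scoped HomogeneousIdeal
open HomogeneousLocalization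

noncomputable section

namespace Groth.Ega2Proj.ClosedProj

variable {S P : Scheme.{u}} {𝒜 : RelProj.QCGrAlg S} (p : P ⟶ S)
  (chart : ∀ (U : S.Opens) (hU : IsAffineOpen U), (((p ⁻¹ᵁ U : P.Opens) : Scheme.{u}) ≅ Proj (𝒜.deg U hU)))

/-- The standard chart `Spec 𝒜(U)_(f) → P`. -/
def aw (U : S.Opens) (hU : IsAffineOpen U) {d : ℕ} (hd : 0 < d) {f : 𝒜.presheaf.obj (op U)}
    (hf : f ∈ 𝒜.deg U hU d) : Spec (CommRingCat.of (Away (𝒜.deg U hU) f)) ⟶ P :=
  Proj.awayι (𝒜.deg U hU) f hf hd ≫ RelProj.emb p chart U hU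

instance (U : S.Opens) (hU : IsAffineOpen U) {d : ℕ} (hd : 0 < d) {f : 𝒜.presheaf.obj (op U)}
    (hf : f ∈ 𝒜.deg U hU d) : IsOpenImmersion (aw p chart U hU hd hf) := by
  delta aw; infer_instance

theorem opensRange_aw (U : S.Opens) (hU : IsAffineOpen U) {d : ℕ} (hd : 0 < d)
    {f : 𝒜.presheaf.obj (op U)} (hf : f ∈ 𝒜.deg U hU d) :
    (aw p chart U hU hd hf).opensRange =
      RelProj.emb p chart U hU ''ᵁ Proj.basicOpen (𝒜.deg U hU) f := by
  refine (Scheme.Hom.opensRange_comp (Proj.awayι (𝒜.deg U hU) f hf hd) (RelProj.emb p chart U hU)).trans ?_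
  rw [Proj.opensRange_awayι]

variable (I : P.IdealSheafData)

/-- The ideals cut out by `I` in the standard charts over `U`. -/
def fam (U : S.Opens) (hU : IsAffineOpen U) : GrSat.Family (𝒜.deg U hU) :=
  fun _ _ hd hf => PullIdeal.ideal (aw p chart U hU hd hf) I

theorem isCompat (U : S.Opens) (hU : IsAffineOpen U) : GrSat.IsCompat (fam p chart I U hU) := by
  intro d e f g x hd he hf hg hx n hn hxn hne
  subst hne
  refine PullIdeal.ideal_comp I (CommRingCat.ofHom (awayMap (𝒜.deg U hU) hg hx)) ?_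
  rw [aw, aw, ← Category.assoc]
  congr 1
  exact Proj.SpecMap_awayMap_awayι (𝒜 := 𝒜.deg U hU) hf hd hg hx

variable {p chart} (hP : RelProj.IsRelProj 𝒜 p chart)

include hP in
theorem fam_res {U : S.Opens} (hU : IsAffineOpen U) {V : S.Opens} (hV : IsAffineOpen V) (hle : V ≤ U)
    (r : Γ(S, U)) (hr : S.basicOpen r = V) (d : ℕ) (f : 𝒜.presheaf.obj (op U)) (hd : 0 < d)
    (hf : f ∈ 𝒜.deg U hU d) :
    fam p chart I V hV d (𝒜.res hU hV hle f) hd ((𝒜.res hU hV hle).map_mem hf) =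
      (fam p chart I U hU d f hd hf).map (Away.map (𝒜.res hU hV hle) f) := by
  refine PullIdeal.ideal_comp I (CommRingCat.ofHom (Away.map (𝒜.res hU hV hle) f)) ?_
  rw [aw, aw, ← Groth.Ega2P2.map_res_emb_of_eq hP hU hV hle r hr,
    Proj.awayι_comp_map_assoc _ _ hd _ hf]

include hP in
theorem exists_cover [QuasiCompact p] (U : S.Opens) (hU : IsAffineOpen U) :
    ∃ s : Finset (𝒜.presheaf.obj (op U)), GrSat.IsCover (𝒜.deg U hU) s := by
  classical
  haveI : CompactSpace ((p ⁻¹ᵁ U : P.Opens) : Scheme.{u}) :=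
    isCompact_iff_compactSpace.mp (p.isCompact_preimage hU.isCompact)
  haveI : CompactSpace (Proj (𝒜.deg U hU)) := (chart U hU).hom.homeomorph.compactSpace
  let ι := Σ i : PNat, 𝒜.deg U hU i
  let O : ι → Set (Proj (𝒜.deg U hU)) := fun k =>
    (Proj.basicOpen (𝒜.deg U hU) (k.2 : 𝒜.presheaf.obj (op U)) : (Proj (𝒜.deg U hU)).Opens)
  have hcov : Set.univ ⊆ ⋃ k, O k := fun y _ => by
    obtain ⟨k, x, hx⟩ : ∃ (k : ι) (x : _),
        (Proj.awayι (𝒜.deg U hU) (k.2 : 𝒜.presheaf.obj (op U)) k.2.2 k.1.pos).base x = y :=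
      (Proj.affineOpenCover (𝒜.deg U hU)).openCover.exists_eq y
    exact Set.mem_iUnion.mpr ⟨k, (Proj.opensRange_awayι _ _ k.2.2 k.1.pos).le ⟨x, hx⟩⟩
  obtain ⟨t, ht⟩ := isCompact_univ.elim_finite_subcover O
    (fun k => (Proj.basicOpen (𝒜.deg U hU) (k.2 : 𝒜.presheaf.obj (op U))).2) hcov
  refine ⟨t.image fun k => (k.2 : 𝒜.presheaf.obj (op U)), ?_, ?_⟩
  · intro g hg
    obtain ⟨k, -, rfl⟩ := Finset.mem_image.mp hg
    exact ⟨k.1, k.1.pos, k.2.2⟩
  · have hhom : (Ideal.span ((t.image fun k => (k.2 : 𝒜.presheaf.obj (op U)) : Finset _) :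
        Set (𝒜.presheaf.obj (op U)))).IsHomogeneous (𝒜.deg U hU) :=
      Ideal.homogeneous_span _ _ fun g hg => by
        obtain ⟨k, -, rfl⟩ := Finset.mem_image.mp hg
        exact ⟨_, k.2.2⟩
    rw [hhom.radical_eq]
    refine le_sInf fun J hJ => ?_
    obtain ⟨hJh, hle, hJp⟩ := hJ
    by_contra hnot
    let y : ProjectiveSpectrum (𝒜.deg U hU) := ⟨⟨J, hJh⟩, hJp, hnot⟩
    obtain ⟨k, hk⟩ := Set.mem_iUnion.mp (ht (Set.mem_univ (y : Proj (𝒜.deg U hU))))
    obtain ⟨hkt, hky⟩ := Set.mem_iUnion.mp hk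
    exact hky (hle (Ideal.subset_span (Finset.mem_image.mpr ⟨k, hkt, rfl⟩)))

/-- The homogeneous ideal over `U`. -/
def idl (p : P ⟶ S)
    (chart : ∀ (U : S.Opens) (hU : IsAffineOpen U), (((p ⁻¹ᵁ U : P.Opens) : Scheme.{u}) ≅ Proj (𝒜.deg U hU)))
    (U : S.Opens) (hU : IsAffineOpen U) : Ideal (𝒜.presheaf.obj (op U)) :=
  GrSat.ideal (fam p chart I U hU)

include hP in
theorem idl_res [QuasiCompact p] {U : S.Opens} (hU : IsAffineOpen U) {V : S.Opens} (hV : IsAffineOpen V)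
    (hle : V ≤ U) (r : Γ(S, U)) (hr : S.basicOpen r = V) :
    idl I p chart V hV = (idl I p chart U hU).map (𝒜.res hU hV hle) := by
  obtain ⟨s, hs⟩ := exists_cover hP U hU
  subst hr
  refine GrSat.ideal_eq_map (𝒜.res hU hV hle)
    ⟨(𝒜.str.app (op U)).hom r, 𝒜.str_mem U hU r⟩ ?_ _ _ ?_ (isCompat p chart I U hU)
    (isCompat p chart I _ hV) hs
  · exact 𝒜.isQC U hU r
  · exact fun d f hd hf => fam_res I hP hU hV hle r rfl d f hd hf

end Groth.Ega2Proj.ClosedProj
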