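/-
The grading of the target of a surjection with homogeneous kernel.
-/
import Mathlib.RingTheory.GradedAlgebra.Homogeneous.Ideal

set_option autoImplicit false

universe u

open DirectSum

noncomputable section

namespace Groth.Ega2Proj.GrImage

variable {A B : Type u} [CommRing A] [CommRing B] (𝒜 : ℕ → AddSubgroup A) [GradedRing 𝒜] (φ : A →+* B)

/-- The images of the graded pieces. -/
def img (i : ℕ) : AddSubgroup B := (𝒜 i).map φ.toAddMonoidHom

theorem map_mem_img {i : ℕ} {a : A} (ha : a ∈ 𝒜 i) : φ a ∈ img 𝒜 φ i := ⟨a, ha, rfl⟩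

instance gradedMonoid_img : SetLike.GradedMonoid (img 𝒜 φ) where
  one_mem := ⟨1, SetLike.one_mem_graded 𝒜, map_one φ⟩
  mul_mem i j := by
    rintro _ _ ⟨a, ha, rfl⟩ ⟨b, hb, rfl⟩
    exact ⟨a * b, SetLike.mul_mem_graded ha hb, map_mul φ a b⟩

theorem internal (hs : Function.Surjective φ) (hk : (RingHom.ker φ).IsHomogeneous 𝒜) :
    DirectSum.IsInternal (img 𝒜 φ) := by
  classical
  refine ⟨?_, fun b => ?_⟩
  · rw [injective_iff_map_eq_zero]
    intro x hx
    choose a ha hax using fun i => (x i).2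
    let y : A := ∑ i ∈ DFinsupp.support x, a i
    have hy : φ y = 0 := by
      rw [map_sum]
      refine Eq.trans (Finset.sum_congr rfl fun i _ => hax i) ?_
      refine Eq.trans ?_ hx
      conv_rhs => rw [← DirectSum.sum_support_of x, map_sum]
      exact Finset.sum_congr rfl fun i _ => (DirectSum.coeAddMonoidHom_of (img 𝒜 φ) i (x i)).symm
    refine DFinsupp.ext fun i => Subtype.ext ?_
    by_cases hi : i ∈ DFinsupp.support x
    · have hcomp : (DirectSum.decompose 𝒜 y i : A) = a i := by
        rw [← GradedRing.proj_apply, map_sum, Finset.sum_eq_single i]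
        · rw [GradedRing.proj_apply, DirectSum.decompose_of_mem_same 𝒜 (ha i)]
        · exact fun j _ hji => by rw [GradedRing.proj_apply, DirectSum.decompose_of_mem_ne 𝒜 (ha j) hji]
        · exact fun h => absurd hi h
      have h0 : (DirectSum.decompose 𝒜 y i : A) ∈ RingHom.ker φ := hk i (show y ∈ RingHom.ker φ from hy)
      rw [hcomp] at h0
      exact (hax i).symm.trans h0
    · rw [DFinsupp.notMem_support_iff.mp hi]
      rfl
  · obtain ⟨a, rfl⟩ := hs b
    refine ⟨∑ i ∈ DFinsupp.support (DirectSum.decompose 𝒜 a),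
      DirectSum.of (fun i => img 𝒜 φ i) i ⟨_, map_mem_img 𝒜 φ (DirectSum.decompose 𝒜 a i).2⟩, ?_⟩
    conv_rhs => rw [← DirectSum.sum_support_decompose 𝒜 a, map_sum]
    rw [map_sum]
    exact Finset.sum_congr rfl fun i _ => DirectSum.coeAddMonoidHom_of (img 𝒜 φ) i _

/-- The quotient grading. -/
@[implicit_reducible]
def gradedRing (hs : Function.Surjective φ) (hk : (RingHom.ker φ).IsHomogeneous 𝒜) :
    GradedRing (img 𝒜 φ) where
  __ := (internal 𝒜 φ hs hk).chooseDecomposition
  __ := gradedMonoid_img 𝒜 φ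

end Groth.Ega2Proj.GrImage
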