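/-
The graded quotient algebra of a closed subscheme of a relative `Proj`.
-/
import Groth.Agent.Ega2Proj.ClosedProjIdeal
import Groth.Agent.Ega2Proj.AffGlue
import Groth.Agent.Ega2Proj.GrImage

set_option autoImplicit false

universe u

open CategoryTheory CategoryTheory.Limits AlgebraicGeometry Opposite TopologicalSpace

noncomputable section

namespace Groth.Ega2Proj.ClosedProj

theorem isLocalization_quotientMap {A B : Type u} [CommRing A] [CommRing B] (ψ : A →+* B) (c : A)
    (hloc : letI := ψ.toAlgebra; IsLocalization.Away c B) (K : Ideal A) (K' : Ideal B)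
    (hK : K' = K.map ψ) (hle : K ≤ K'.comap ψ) :
    letI := (Ideal.quotientMap K' ψ hle).toAlgebra
    IsLocalization.Away (Ideal.Quotient.mk K c) (B ⧸ K') := by
  letI := ψ.toAlgebra
  letI := (Ideal.quotientMap K' ψ hle).toAlgebra
  refine IsLocalization.Away.mk _ ?_ ?_ ?_
  · rw [RingHom.algebraMap_toAlgebra, Ideal.quotientMap_mk]
    exact (IsLocalization.Away.algebraMap_isUnit (S := B) c).map (Ideal.Quotient.mk K')
  · intro z
    obtain ⟨b, rfl⟩ := Ideal.Quotient.mk_surjective z
    obtain ⟨k, a, ha⟩ := IsLocalization.Away.surj c b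
    refine ⟨k, Ideal.Quotient.mk K a, ?_⟩
    rw [RingHom.algebraMap_toAlgebra, Ideal.quotientMap_mk, Ideal.quotientMap_mk, ← map_pow, ← map_mul]
    exact congrArg _ ha
  · intro x y hxy
    obtain ⟨a, rfl⟩ := Ideal.Quotient.mk_surjective x
    obtain ⟨b, rfl⟩ := Ideal.Quotient.mk_surjective y
    rw [RingHom.algebraMap_toAlgebra, Ideal.quotientMap_mk, Ideal.quotientMap_mk, Ideal.Quotient.eq,
      ← map_sub, hK] at hxy
    obtain ⟨⟨⟨u, hu⟩, ⟨s, hs⟩⟩, hus⟩ := (IsLocalization.mem_map_algebraMap_iff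
      (Submonoid.powers c) B).1 (show algebraMap A B (a - b) ∈ K.map (algebraMap A B) from hxy)
    obtain ⟨k, rfl⟩ := hs
    rw [← map_mul] at hus
    obtain ⟨l, hl⟩ := IsLocalization.Away.exists_of_eq (x := c) hus
    refine ⟨l + k, ?_⟩
    rw [← map_pow, ← map_mul, ← map_mul, Ideal.Quotient.eq]
    have : c ^ (l + k) * a - c ^ (l + k) * b = c ^ l * u := by linear_combination hl
    rw [this]
    exact Ideal.mul_mem_left _ _ hu

variable {S P : Scheme.{u}} {𝒜 : RelProj.QCGrAlg S} {p : P ⟶ S}
  {chart : ∀ (U : S.Opens) (hU : IsAffineOpen U), (((p ⁻¹ᵁ U : P.Opens) : Scheme.{u}) ≅ Proj (𝒜.deg U hU))}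
  (hP : RelProj.IsRelProj 𝒜 p chart) [QuasiCompact p] (I : P.IdealSheafData)

include hP in
theorem idl_map_site {U V : S.AffineZariskiSite} (i : V ≤ U) :
    idl I p chart V.1 V.2 = (idl I p chart U.1 U.2).map
      (𝒜.res U.2 V.2 (Scheme.AffineZariskiSite.toOpens_mono i)) := by
  obtain ⟨r, hr⟩ := i
  exact idl_res I hP U.2 V.2 _ r hr

/-- The quotient rings over the affine opens. -/
def quotF : S.AffineZariskiSiteᵒᵖ ⥤ CommRingCat.{u} where
  obj U := CommRingCat.of (𝒜.presheaf.obj (op U.unop.1) ⧸ idl I p chart U.unop.1 U.unop.2)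
  map {U V} i := CommRingCat.ofHom (Ideal.quotientMap _
    (𝒜.presheaf.map (homOfLE (Scheme.AffineZariskiSite.toOpens_mono i.unop.le)).op).hom
    (fun x hx => by
      change _ ∈ idl I p chart V.unop.1 V.unop.2
      rw [idl_map_site hP I i.unop.le]
      exact Ideal.mem_map_of_mem _ hx))
  map_id U := CommRingCat.hom_ext (Ideal.Quotient.ringHom_ext (RingHom.ext fun x => by
    change Ideal.Quotient.mk _ ((𝒜.presheaf.map (𝟙 _)).hom x) = Ideal.Quotient.mk _ x
    rw [𝒜.presheaf.map_id]; rfl))
  map_comp {U V W} i j := CommRingCat.hom_ext (Ideal.Quotient.ringHom_ext (RingHom.ext fun x => by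
    change Ideal.Quotient.mk _ _ = Ideal.Quotient.mk _ ((𝒜.presheaf.map _ ≫ 𝒜.presheaf.map _).hom x)
    rw [← Functor.map_comp]
    rfl))

/-- Their structure maps. -/
def quotα : (Scheme.AffineZariskiSite.toOpensFunctor S).op ⋙ S.presheaf ⟶ quotF hP I where
  app U := 𝒜.str.app (op U.unop.1) ≫ CommRingCat.ofHom (Ideal.Quotient.mk _)
  naturality U V i := CommRingCat.hom_ext (RingHom.ext fun r => by
    change Ideal.Quotient.mk _ _ = Ideal.Quotient.mk _ _
    refine congrArg _ ?_
    exact congr(($(𝒜.str.naturality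
      (homOfLE (Scheme.AffineZariskiSite.toOpens_mono i.unop.le)).op)).hom r))

theorem quotα_coequifibered : (quotα hP I).Coequifibered := by
  refine Scheme.AffineZariskiSite.coequifibered_iff_forall_isLocalizationAway.mpr fun U r => ?_
  exact isLocalization_quotientMap _ _ (𝒜.isQC U.1 U.2 r) _ _
    (idl_map_site hP I (U.basicOpen_le r)) (fun x hx => by
      change _ ∈ idl I p chart (U.basicOpen r).1 (U.basicOpen r).2
      rw [idl_map_site hP I (U.basicOpen_le r)]
      exact Ideal.mem_map_of_mem _ hx)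

/-- The quotient map over an affine open. -/
def mkQ (U : S.Opens) (hU : IsAffineOpen U) :
    𝒜.presheaf.obj (op U) ⟶ CommRingCat.of (𝒜.presheaf.obj (op U) ⧸ idl I p chart U hU) :=
  CommRingCat.ofHom (Ideal.Quotient.mk _)

/-- The quotient algebra. -/
def quotQC : RelSpec.QCAlg S := AffGlue.qc (quotF hP I) (quotα hP I) (quotα_coequifibered hP I)

/-- Its sections over an affine open. -/
def quotSec (U : S.Opens) (hU : IsAffineOpen U) :
    (quotQC hP I).presheaf.obj (op U) ≅ CommRingCat.of (𝒜.presheaf.obj (op U) ⧸ idl I p chart U hU) :=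
  @asIso _ _ _ _ (AffGlue.secHom (quotF hP I) (quotα hP I) (quotα_coequifibered hP I) U hU)
    (AffGlue.isIso_secHom (quotF hP I) (quotα hP I) (quotα_coequifibered hP I) U hU)

/-- The projection on affine opens. -/
def projRestr : (Scheme.AffineZariskiSite.toOpensFunctor S).op ⋙ 𝒜.presheaf ⟶
    (Scheme.AffineZariskiSite.toOpensFunctor S).op ⋙ (quotQC hP I).presheaf where
  app U := mkQ I (chart := chart) U.unop.1 U.unop.2 ≫ (quotSec hP I U.unop.1 U.unop.2).inv
  naturality U V i := by
    let hle := Scheme.AffineZariskiSite.toOpens_mono i.unop.le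
    have h : (quotQC hP I).presheaf.map (homOfLE hle).op ≫ (quotSec hP I V.unop.1 V.unop.2).hom =
        (quotSec hP I U.unop.1 U.unop.2).hom ≫ (quotF hP I).map i :=
      AffGlue.secHom_res (quotF hP I) (quotα hP I) (quotα_coequifibered hP I) i.unop
    refine CommRingCat.hom_ext (RingHom.ext fun x => ?_)
    apply (ConcreteCategory.bijective_of_isIso (quotSec hP I V.unop.1 V.unop.2).hom).1
    change (quotSec hP I V.unop.1 V.unop.2).hom.hom ((quotSec hP I V.unop.1 V.unop.2).inv.hom
        (Ideal.Quotient.mk _ ((𝒜.presheaf.map (homOfLE hle).op).hom x))) =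
      (quotSec hP I V.unop.1 V.unop.2).hom.hom (((quotQC hP I).presheaf.map (homOfLE hle).op).hom
        ((quotSec hP I U.unop.1 U.unop.2).inv.hom ((mkQ I (chart := chart) U.unop.1 U.unop.2).hom x)))
    refine Eq.trans ?_ (congr(($h).hom ((quotSec hP I U.unop.1 U.unop.2).inv.hom
      ((mkQ I (chart := chart) U.unop.1 U.unop.2).hom x)))).symm
    refine Eq.trans ?_ (congrArg ((quotF hP I).map i).hom
      (Iso.inv_hom_id_apply (quotSec hP I U.unop.1 U.unop.2)
        ((mkQ I (chart := chart) U.unop.1 U.unop.2).hom x))).symm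
    rw [Iso.inv_hom_id_apply]
    rfl

/-- The projection. -/
def projPre : 𝒜.presheaf ⟶ (quotQC hP I).presheaf :=
  Functor.IsCoverDense.restrictHomEquivHom (G := Scheme.AffineZariskiSite.toOpensFunctor S)
    (K := Opens.grothendieckTopology S) (ℱ := 𝒜.presheaf)
    (ℱ' := (⟨(quotQC hP I).presheaf, (quotQC hP I).isSheaf⟩ : TopCat.Sheaf CommRingCat.{u} S.carrier))
    (projRestr hP I)

theorem projPre_app (U : S.Opens) (hU : IsAffineOpen U) :
    (projPre hP I).app (op U) = mkQ I (chart := chart) U hU ≫ (quotSec hP I U hU).inv := by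
  have h : (Scheme.AffineZariskiSite.toOpensFunctor S).op.whiskerLeft (projPre hP I) = projRestr hP I :=
    (Functor.IsCoverDense.restrictHomEquivHom (G := Scheme.AffineZariskiSite.toOpensFunctor S)
      (K := Opens.grothendieckTopology S) (ℱ := 𝒜.presheaf)
      (ℱ' := (⟨(quotQC hP I).presheaf, (quotQC hP I).isSheaf⟩ :
        TopCat.Sheaf CommRingCat.{u} S.carrier))).symm_apply_apply _
  exact NatTrans.congr_app h (op (show S.AffineZariskiSite from ⟨U, hU⟩))

/-- The projection as a map of algebras. -/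
def projAlg : 𝒜.toQCAlg ⟶ quotQC hP I where
  hom := projPre hP I
  comm := by
    refine (Functor.IsCoverDense.restrictHomEquivHom (G := Scheme.AffineZariskiSite.toOpensFunctor S)
      (K := Opens.grothendieckTopology S) (ℱ := S.presheaf)
      (ℱ' := (⟨(quotQC hP I).presheaf, (quotQC hP I).isSheaf⟩ :
        TopCat.Sheaf CommRingCat.{u} S.carrier))).symm.injective ?_
    ext U : 2
    change 𝒜.str.app (op U.unop.1) ≫ (projPre hP I).app (op U.unop.1) =
      (quotQC hP I).str.app (op U.unop.1)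
    rw [projPre_app hP I U.unop.1 U.unop.2]
    have h := AffGlue.str_secHom (quotF hP I) (quotα hP I) (quotα_coequifibered hP I) U.unop.1 U.unop.2
    rw [← cancel_mono (quotSec hP I U.unop.1 U.unop.2).hom, Category.assoc, Category.assoc,
      Iso.inv_hom_id, Category.comp_id]
    exact h.symm

theorem proj_surjective (U : S.Opens) (hU : IsAffineOpen U) :
    Function.Surjective ((projAlg hP I).hom.app (op U)).hom := by
  have h : (projAlg hP I).hom.app (op U) = _ := projPre_app hP I U hU
  rw [h]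
  exact (ConcreteCategory.bijective_of_isIso (quotSec hP I U hU).inv).2.comp Ideal.Quotient.mk_surjective

theorem proj_eq_zero_iff (U : S.Opens) (hU : IsAffineOpen U) (x : 𝒜.presheaf.obj (op U)) :
    ((projAlg hP I).hom.app (op U)).hom x = 0 ↔ x ∈ idl I p chart U hU := by
  have h : (projAlg hP I).hom.app (op U) = _ := projPre_app hP I U hU
  rw [h]
  exact (map_eq_zero_iff (quotSec hP I U hU).inv.hom
    (ConcreteCategory.bijective_of_isIso (quotSec hP I U hU).inv).1).trans Ideal.Quotient.eq_zero_iff_mem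

/-- The graded quotient algebra. -/
def quotGr : RelProj.QCGrAlg S where
  toQCAlg := quotQC hP I
  deg U hU := GrImage.img (𝒜.deg U hU) ((projAlg hP I).hom.app (op U)).hom
  graded U hU := GrImage.gradedRing _ _ (proj_surjective hP I U hU) (fun i x hx => by
    rw [RingHom.mem_ker] at hx ⊢
    rw [proj_eq_zero_iff hP I U hU] at hx ⊢
    exact GrSat.isHomogeneous_ideal i hx)
  map_mem {U V} hU hV i {d x} hx := by
    obtain ⟨a, ha, rfl⟩ := hx
    exact ⟨_, 𝒜.map_mem hU hV i ha, congr(($((projAlg hP I).hom.naturality (homOfLE i).op)).hom a)⟩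
  str_mem U hU r := ⟨_, 𝒜.str_mem U hU r, congr(($(NatTrans.congr_app (projAlg hP I).comm (op U))).hom r)⟩

theorem isGradedHom_proj : RelProj.IsGradedHom (ℬ := quotGr hP I) (projAlg hP I) :=
  fun _ _ _ x hx => ⟨x, hx, rfl⟩

theorem isGenDegOne_quot (hgen : 𝒜.IsGenDegOne) : (quotGr hP I).IsGenDegOne := by
  intro U hU
  refine eq_top_iff.2 fun y _ => ?_
  obtain ⟨x, rfl⟩ := proj_surjective hP I U hU y
  have hx : x ∈ Subring.closure
      ((𝒜.deg U hU 0 : Set (𝒜.presheaf.obj (op U))) ∪ (𝒜.deg U hU 1 : Set _)) := by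
    rw [hgen U hU]; exact Subring.mem_top x
  induction hx using Subring.closure_induction with
  | mem z hz =>
    rcases hz with hz | hz
    · exact Subring.subset_closure (Or.inl ⟨z, hz, rfl⟩)
    · exact Subring.subset_closure (Or.inr ⟨z, hz, rfl⟩)
  | zero => erw [map_zero]; exact zero_mem _
  | one => erw [map_one]; exact one_mem _
  | add a b _ _ ha hb => erw [map_add]; exact add_mem (ha trivial) (hb trivial)
  | neg a _ ha => erw [map_neg]; exact neg_mem (ha trivial)
  | mul a b _ _ ha hb => erw [map_mul]; exact mul_mem (ha trivial) (hb trivial)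

theorem isFTDeg_quot {d : ℕ} (hft : 𝒜.IsFTDeg d) : (quotGr hP I).IsFTDeg d := by
  classical
  intro U hU
  obtain ⟨T, hT, hspan⟩ := hft U hU
  letI : Algebra Γ(S, U) ((quotGr hP I).presheaf.obj (op U)) :=
    ((quotGr hP I).str.app (op U)).hom.toAlgebra
  let π : 𝒜.presheaf.obj (op U) →+* (quotGr hP I).presheaf.obj (op U) :=
    ((projAlg hP I).hom.app (op U)).hom
  refine ⟨T.image π, ?_, ?_⟩
  · intro y hy
    obtain ⟨t, ht, rfl⟩ := Finset.mem_image.mp hy
    exact ⟨t, hT ht, rfl⟩
  rintro _ ⟨x, hx, rfl⟩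
  obtain ⟨c, rfl⟩ := hspan x hx
  have key : π (∑ t ∈ T, (𝒜.str.app (op U)).hom (c t) * t) ∈
      Submodule.span Γ(S, U) ((T.image π : Finset _) : Set ((quotGr hP I).presheaf.obj (op U))) := by
    rw [map_sum]
    refine sum_mem fun t ht => ?_
    rw [map_mul]
    have e : π ((𝒜.str.app (op U)).hom (c t)) = ((quotGr hP I).str.app (op U)).hom (c t) :=
      congr(($(NatTrans.congr_app (projAlg hP I).comm (op U))).hom (c t))
    rw [e, ← RingHom.algebraMap_toAlgebra ((quotGr hP I).str.app (op U)).hom]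
    rw [← Algebra.smul_def]
    exact Submodule.smul_mem _ _ (Submodule.subset_span (Finset.mem_image_of_mem π ht))
  obtain ⟨e, -, he⟩ := Submodule.mem_span_finset.mp key
  exact ⟨e, he.symm.trans (Finset.sum_congr rfl fun t _ => Algebra.smul_def (e t) t)⟩

end Groth.Ega2Proj.ClosedProj
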