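/-
A closed subscheme of a relative `Proj` is the relative `Proj` of a graded quotient.
-/
import Groth.Agent.Ega2Proj.ClosedProjQuot
import Groth.Agent.Ega2Proj2.RelProjBasic
import Groth.Agent.Ega2Proj2.QMapLocal
import Groth.Agent.Ega2Proj2.QMapOfHom

set_option autoImplicit false

universe u

open CategoryTheory CategoryTheory.Limits AlgebraicGeometry Opposite TopologicalSpace
open HomogeneousLocalization

noncomputable section

namespace Groth.Ega2Proj.ClosedProj

variable {S P : Scheme.{u}} {𝒜 : RelProj.QCGrAlg S} {p : P ⟶ S}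
  {chart : ∀ (U : S.Opens) (hU : IsAffineOpen U), (((p ⁻¹ᵁ U : P.Opens) : Scheme.{u}) ≅ Proj (𝒜.deg U hU))}
  (hP : RelProj.IsRelProj 𝒜 p chart) [QuasiCompact p]

/-- The projection as a graded morphism over the identity. -/
abbrev qHom (I : P.IdealSheafData) : RelProj.QGrHom (𝟙 S) 𝒜 (quotGr hP I) :=
  RelProj.QGrHom.ofHom (ℬ := quotGr hP I) (projAlg hP I) (isGradedHom_proj hP I)

theorem ker_awayMap (I : P.IdealSheafData) {U : S.Opens} (hU : IsAffineOpen U) {d : ℕ} (hd : 0 < d)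
    {f : 𝒜.presheaf.obj (op U)} (hf : f ∈ 𝒜.deg U hU d) :
    RingHom.ker (Away.map (RelProj.gradedHomAt (ℬ := quotGr hP I) (projAlg hP I) (isGradedHom_proj hP I) U hU) f) =
      PullIdeal.ideal (aw p chart U hU hd hf) I := by
  obtain ⟨s, hs⟩ := exists_cover hP U hU
  ext z
  obtain ⟨m, b, hb, rfl⟩ := Away.mk_surjective (𝒜.deg U hU) hf z
  refine Iff.trans ?_ (GrSat.mk_mem_iff (isCompat p chart I U hU) hs hb).symm
  rw [RingHom.mem_ker]
  erw [Away.map_mk]
  rw [← val_injective _ |>.eq_iff, Away.val_mk, val_zero, Localization.mk_eq_mk',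
    IsLocalization.mk'_eq_zero_iff]
  constructor
  · rintro ⟨⟨_, k, rfl⟩, hk⟩
    refine ⟨k, (proj_eq_zero_iff hP I U hU _).1 ?_⟩
    rw [map_mul, map_pow]
    exact hk
  · rintro ⟨k, hk⟩
    refine ⟨⟨_, k, rfl⟩, ?_⟩
    have h := (proj_eq_zero_iff hP I U hU _).2 hk
    rw [map_mul, map_pow] at h
    exact h

theorem exists_quotient {Z : Scheme.{u}} (i : Z ⟶ P) [IsClosedImmersion i] :
    ∃ (PB : Scheme.{u}) (pB : PB ⟶ S)
      (chartB : ∀ (U : S.Opens) (hU : IsAffineOpen U),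
        (((pB ⁻¹ᵁ U : PB.Opens) : Scheme.{u}) ≅ Proj ((quotGr hP i.ker).deg U hU)))
      (h : PB ⟶ P) (e : PB ≅ Z), RelProj.IsRelProj (quotGr hP i.ker) pB chartB ∧
        RelProj.IsProjQMap (qHom hP i.ker) p chart pB chartB h ∧ e.hom ≫ i = h ∧ h ≫ p = pB := by
  obtain ⟨PB, pB, chartB, hB⟩ := Groth.Ega2P2.exists_isRelProj (quotGr hP i.ker)
  let φ : 𝒜.toQCAlg ⟶ (quotGr hP i.ker).toQCAlg := projAlg hP i.ker
  let hφ : RelProj.IsGradedHom φ := isGradedHom_proj hP i.ker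
  let u : RelProj.QGrHom (𝟙 S) 𝒜 (quotGr hP i.ker) := RelProj.QGrHom.ofHom φ hφ
  have hsurj : ∀ (k : ℕ) (U : S.Opens) (hU : IsAffineOpen U) (y : (quotGr hP i.ker).presheaf.obj (op U)),
      y ∈ (quotGr hP i.ker).deg U hU k → ∃ x ∈ 𝒜.deg U hU k, RelProj.gradedHomAt (ℬ := quotGr hP i.ker) φ hφ U hU x = y := by
    rintro k U hU _ ⟨x, hx, rfl⟩
    exact ⟨x, hx, rfl⟩
  have htop : RelProj.domQ u pB chartB = ⊤ := by
    refine top_le_iff.mp fun z _ => ?_
    obtain ⟨U, hU, w, rfl⟩ : ∃ (U : S.Opens) (hU : IsAffineOpen U) (w : Proj ((quotGr hP i.ker).deg U hU)),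
        (RelProj.emb pB chartB U hU).base w = z := (Groth.Ega2P2.projCharts hB).exists_eq z
    refine (Groth.Ega2P2.emb_mem_domQ_iff _ hB hU hU le_rfl w).mpr ?_
    erw [Groth.Ega2P2.ofHom_gradedAt_self φ hφ U hU le_rfl,
      Groth.Ega2P2.domOpen_eq_top_of_eventually (N := 0) (RelProj.gradedHomAt (ℬ := quotGr hP i.ker) φ hφ U hU)
        (fun k _ => hsurj k U hU)]
    trivial
  obtain ⟨h, hh, -⟩ := Groth.Ega2P2.existsUnique_projQMap u hP hB htop
  have hcl : IsClosedImmersion h := by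
    refine Groth.Ega2P2.projQMap_of_away _ hP hB hh @IsClosedImmersion fun U hU hU' d hd f hf => ?_
    have e : u.gradedAt U hU ((𝟙 S : S ⟶ S) ⁻¹ᵁ U) hU' le_rfl =
        RelProj.gradedHomAt (ℬ := quotGr hP i.ker) φ hφ U hU := Groth.Ega2P2.ofHom_gradedAt_self φ hφ U hU le_rfl
    rw [e]
    exact IsClosedImmersion.spec_of_surjective _
      (Groth.Ega2P2.awayMap_surjective_of_eventually (N := 0) _ (fun k _ => hsurj k U hU) hf hd)
  let κ := Σ (U : {U : S.Opens // IsAffineOpen U}) (n : PNat), 𝒜.deg U.1 U.2 n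
  let R : κ → CommRingCat.{u} := fun k => CommRingCat.of (Away (𝒜.deg k.1.1 k.1.2) (k.2.2 : 𝒜.presheaf.obj (op k.1.1)))
  let ι : ∀ k, Spec (R k) ⟶ P := fun k => aw p chart k.1.1 k.1.2 k.2.1.pos k.2.2.2
  haveI : ∀ k, IsOpenImmersion (ι k) := fun k => inferInstanceAs (IsOpenImmersion (aw p chart _ _ _ _))
  have hker : h.ker = i.ker := by
    refine PullIdeal.ext_of_ideal_eq ι ?_ fun k => ?_
    · refine top_le_iff.mp fun z _ => ?_
      obtain ⟨U, hU, y, rfl⟩ : ∃ (U : S.Opens) (hU : IsAffineOpen U) (y : Proj (𝒜.deg U hU)),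
          (RelProj.emb p chart U hU).base y = z := (Groth.Ega2P2.projCharts hP).exists_eq z
      obtain ⟨s, x, rfl⟩ : ∃ (s : Σ n : PNat, 𝒜.deg U hU n) (x : _),
          (Proj.awayι (𝒜.deg U hU) (s.2 : 𝒜.presheaf.obj (op U)) s.2.2 s.1.pos).base x = y :=
        (Proj.affineOpenCover (𝒜.deg U hU)).openCover.exists_eq y
      exact Opens.mem_iSup.mpr ⟨(⟨⟨U, hU⟩, s⟩ : κ), ⟨x, rfl⟩⟩
    · obtain ⟨⟨U, hU⟩, n, f, hf⟩ := k
      let U' : S.Opens := (𝟙 S : S ⟶ S) ⁻¹ᵁ U
      have hU' : IsAffineOpen U' := hU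
      have hg : u.gradedAt U hU U' hU' le_rfl = RelProj.gradedHomAt (ℬ := quotGr hP i.ker) φ hφ U hU :=
        Groth.Ega2P2.ofHom_gradedAt_self φ hφ U hU le_rfl
      refine (PullIdeal.ideal_ker (ι := aw p chart U hU n.pos hf) h
        (j := RelProj.awayEmb u pB chartB U hU U' hU' le_rfl n.pos f hf)
        (CommRingCat.ofHom (Away.map (u.gradedAt U hU U' hU' le_rfl) f))
        (hh.2 U hU U' hU' le_rfl n n.pos f hf) ?_).trans ?_
      · haveI := Groth.Ega2P2.isIso_opens_ι hh.1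
        refine Opens.ext (Set.ext fun z => ?_)
        obtain ⟨w, rfl⟩ := (RelProj.domQ u pB chartB).ι.homeomorph.surjective z
        have hpre := SetLike.ext_iff.mp (Groth.Ega2P2.preimage_chart_eq u hP hB _
          (Groth.Ega2P2.isProjQMapOn_of_isProjQMap u hh) hU hU' n.pos f hf) w
        refine Iff.trans ?_ hpre.symm
        constructor
        · rintro ⟨x, hx⟩
          refine ⟨x, (RelProj.domQ u pB chartB).ι.isOpenEmbedding.injective ?_⟩
          refine Eq.trans ?_ hx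
          exact congr($(Groth.Ega2P2.qLift_ι (p' := pB) (chart' := chartB) u
            ⟨U, hU, U', hU', le_rfl, n, n.pos, f, hf⟩).base x)
        · rintro ⟨x, hx⟩
          refine ⟨x, ?_⟩
          refine Eq.trans ?_ (congrArg (RelProj.domQ u pB chartB).ι.base hx)
          exact (congr($(Groth.Ega2P2.qLift_ι (p' := pB) (chart' := chartB) u
            ⟨U, hU, U', hU', le_rfl, n, n.pos, f, hf⟩).base x)).symm
      · rw [hg]
        exact ker_awayMap hP i.ker hU n.pos hf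
  let e := IsClosedImmersion.lift i h hker.ge
  have he : e ≫ i = h := IsClosedImmersion.lift_fac i h hker.ge
  have : IsIso e := IsClosedImmersion.isIso_of_ker_eq h i e he hker
  exact ⟨PB, pB, chartB, h, asIso e, hB, hh, he,
    (Groth.Ega2P2.projQMap_comp u hP hB hh).trans (Category.comp_id pB)⟩

/-- A closed subscheme of a projective scheme is projective. -/
theorem isProjective_comp_closedImmersion {X Z : Scheme.{u}} {f : X ⟶ S} (hf : RelProj.IsProjective f)
    (i : Z ⟶ X) [IsClosedImmersion i] [QuasiCompact f] : RelProj.IsProjective (i ≫ f) := by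
  obtain ⟨𝒜, P, p, chart, e, hgen, hft, hP, rfl⟩ := hf
  have : QuasiCompact p := by
    have h := (inferInstance : QuasiCompact (e.inv ≫ e.hom ≫ p))
    rwa [Iso.inv_hom_id_assoc] at h
  obtain ⟨PB, pB, chartB, h, e', hB, hh, he, hp⟩ := exists_quotient hP (i ≫ e.hom)
  refine ⟨_, PB, pB, chartB, e'.symm, isGenDegOne_quot hP _ hgen, isFTDeg_quot hP _ hft, hB, ?_⟩
  rw [Iso.symm_hom, Iso.inv_comp_eq, ← hp, ← he, Category.assoc, Category.assoc]

end Groth.Ega2Proj.ClosedProj
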