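/-
Polarisation data: an invertible module with compatible finite families of sections giving affine charts.
A proper morphism with such data is projective.
-/
import Groth.Agent.Ega2Proj.QProjEmb
import Groth.Agent.Ega2Proj.ClosedProj
import Groth.Agent.Chow.Projective
import Groth.Agent.QCohMod.SpanSub
import Mathlib.AlgebraicGeometry.ZariskisMainTheorem

set_option autoImplicit false

universe u

open CategoryTheory CategoryTheory.Limits AlgebraicGeometry Opposite TopologicalSpace

set_option backward.isDefEq.respectTransparency.types false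

noncomputable section

namespace Groth.Ega2Proj

section ftSub

end ftSub

open Groth.PicAux Groth.RelTw

variable {X Y : Scheme.{u}} (f : X ⟶ Y)

/-- Sections of the direct image. -/
abbrev PSec (L : X.Modules) (A : Y.Opens) : Type u := Γ((Scheme.Modules.pushforward f).obj L, A)

/-- A section of the direct image as a section upstairs. -/
abbrev up {L : X.Modules} {A : Y.Opens} (t : PSec f L A) : Γ(L, f ⁻¹ᵁ A) := t

/-- Restriction of sections of the direct image. -/
abbrev pres (L : X.Modules) {A D : Y.Opens} (h : D ≤ A) (t : PSec f L A) : PSec f L D :=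
  Groth.PicAux.res ((Scheme.Modules.pushforward f).obj L) h t

/-- Compatible finite families of sections of an invertible module giving affine charts. -/
structure Pol where
  /-- the invertible module -/
  L : X.Modules
  inv : PicF.IsInvertible L
  /-- the sections -/
  T : ∀ A : Y.Opens, IsAffineOpen A → Set (PSec f L A)
  fin : ∀ A hA, (T A hA).Finite
  compat : ∀ A (hA : IsAffineOpen A) (r : Γ(Y, A)),
    Submodule.span Γ(Y, Y.basicOpen r) (pres f L (Y.basicOpen_le r) '' T A hA) =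
      Submodule.span Γ(Y, Y.basicOpen r) (T (Y.basicOpen r) (hA.basicOpen r))
  chart : ∀ A (hA : IsAffineOpen A) (z : X), f z ∈ A → ∃ t ∈ T A hA, ∃ (W : X.Opens) (hW : W ≤ f ⁻¹ᵁ A),
    z ∈ W ∧ IsAffineOpen W ∧ Gen L W (res L hW (up f t)) ∧
    (∀ (V : X.Opens) (hV : V ≤ f ⁻¹ᵁ A), Gen L V (res L hV (up f t)) → V ≤ W) ∧
    Subring.closure (Set.range (f.appLE A W hW) ∪
      {c | ∃ t' ∈ T A hA, c • res L hW (up f t) = res L hW (up f t')}) = ⊤

open Groth.QCohMod in
/-- Compatible finite families span a quasi-coherent submodule of finite type. -/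
theorem exists_ftSub_of_compat {F : Y.Modules} [F.IsQuasicoherent]
    (T : ∀ A : Y.Opens, IsAffineOpen A → Set Γ(F, A)) (hfin : ∀ A hA, (T A hA).Finite)
    (hcompat : ∀ A (hA : IsAffineOpen A) (r : Γ(Y, A)),
      Submodule.span Γ(Y, Y.basicOpen r) (Groth.QCohMod.res F (Y.basicOpen_le r) '' T A hA) =
        Submodule.span Γ(Y, Y.basicOpen r) (T (Y.basicOpen r) (hA.basicOpen r))) :
    ∃ (E : Y.Modules) (k : E ⟶ F), E.IsQuasicoherent ∧
      (∀ V : Y.Opens, IsAffineOpen V → Module.Finite Γ(Y, V) Γ(E, V)) ∧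
      ∀ A hA, ∀ t ∈ T A hA, ∃ e : Γ(E, A), k.app A e = t := by
  classical
  let W : {A : Y.Opens // IsAffineOpen A} → Y.Opens := fun a => a.1
  let P : {A : Y.Opens // IsAffineOpen A} → SubMod F := fun a => SubMod.locSpan a.1 (T a.1 a.2)
  have hsub : ∀ a b, ∀ Z ≤ W a ⊓ W b, (P a).mem Z ≤ (P b).mem Z := by
    rintro ⟨A, hA⟩ ⟨B, hB⟩ Z hZ s hs x hx
    obtain ⟨Z', hZ'Z, hZ'A, hxZ', hs'⟩ := hs x ⟨hx.1, (hZ hx.1).1⟩
    obtain ⟨r, r', hrr', hxr⟩ := exists_basicOpen_le_affine_inter hA hB x (hZ hx.1)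
    let Z'' := Z' ⊓ Y.basicOpen r
    have hrA : Z'' ≤ Y.basicOpen r := inf_le_right
    have hrB : Z'' ≤ Y.basicOpen r' := inf_le_right.trans hrr'.le
    refine ⟨Z'', inf_le_left.trans hZ'Z, hrB.trans (Y.basicOpen_le r'), ⟨hxZ', hxr⟩, ?_⟩
    have h1 := SubMod.res_mem_span (inf_le_left : Z'' ≤ Z') _ _ hs'
    rw [Groth.QCohMod.res_res, Set.image_image] at h1
    simp only [Groth.QCohMod.res_res] at h1
    refine Submodule.span_le.2 ?_ h1
    rintro _ ⟨t, ht, rfl⟩
    have key : ∀ (D : Y.Opens) (hD : IsAffineOpen D) (_ : D = Y.basicOpen r') (hDA : D ≤ A) (hZD : Z'' ≤ D),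
        Groth.QCohMod.res F hDA t ∈ Submodule.span Γ(Y, D) (T D hD) →
        Groth.QCohMod.res F (hZD.trans hDA) t ∈ Submodule.span Γ(Y, Z'')
          (Groth.QCohMod.res F (hrB.trans (Y.basicOpen_le r')) '' T B hB) := by
      rintro D hD rfl hDA hZD h2
      rw [← hcompat B hB r'] at h2
      have h3 := SubMod.res_mem_span hrB _ _ h2
      rw [Groth.QCohMod.res_res, Set.image_image] at h3
      simp only [Groth.QCohMod.res_res] at h3
      exact h3
    exact key _ (hA.basicOpen r) hrr' (Y.basicOpen_le r) hrA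
      ((hcompat A hA r).le (Submodule.subset_span ⟨t, ht, rfl⟩))
  have hagree : ∀ a, (SubMod.glue W P).Agree (P a) (W a) := fun a =>
    SubMod.glue_agree W P (fun a b Z hZ => le_antisymm (hsub a b Z hZ)
      (hsub b a Z (hZ.trans (inf_comm (W a) (W b)).le))) a
  let Q := SubMod.glue W P
  have hgood : Q.GoodOn ⊤ := by
    intro x _
    obtain ⟨A, hA, hxA, -⟩ := exists_isAffineOpen_mem_and_subset (x := x) (U := (⊤ : Y.Opens)) trivial
    refine ⟨A, le_top, hxA, SubMod.GoodAt.congr ⟨hA, ?_, fun r s hs => locSpan_lift hA _ r s hs⟩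
      (hagree ⟨A, hA⟩).symm⟩
    rw [locSpan_mem hA]
    exact Submodule.fg_span (hfin A hA)
  have hQ := SubMod.isQCoh_toMod hgood
  refine ⟨Q.toMod, Q.ι, hQ.1, ((isCoh_iff _).1 hQ).2, fun A hA t ht => Q.exists_ι_app_eq t ?_⟩
  rw [hagree ⟨A, hA⟩ A le_rfl, locSpan_mem hA]
  exact Submodule.subset_span ht

variable {f}

/-- A proper morphism with polarisation data is a closed subscheme of a projective bundle. -/
theorem Pol.exists_closedImmersion_sym [IsProper f] (D : Pol f) :
    ∃ (E : Y.Modules) (P : Scheme.{u}) (p : P ⟶ Y) (_ : E.IsQuasicoherent)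
      (chart : ∀ (U : Y.Opens) (hU : IsAffineOpen U),
        ((p ⁻¹ᵁ U : P.Opens) : Scheme.{u}) ≅ Proj ((Groth.SymAlg.symGr E).deg U hU))
      (r : X ⟶ P), (∀ V : Y.Opens, IsAffineOpen V → Module.Finite Γ(Y, V) Γ(E, V)) ∧
        RelProj.IsRelProj (Groth.SymAlg.symGr E) p chart ∧ RelProj.IsProjective p ∧
        IsClosedImmersion r ∧ r ≫ p = f := by
  classical
  let F := (Scheme.Modules.pushforward f).obj D.L
  have : D.L.IsQuasicoherent := Groth.PicAux.isQCoh_of_isInvertible D.inv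
  have : F.IsQuasicoherent := Groth.QCohMod.isQCoh_pushforward (M := D.L) f
  obtain ⟨E, k, hE, hEfin, hek⟩ := exists_ftSub_of_compat (F := F) D.T D.fin D.compat
  let σ : LinData f E D.L :=
    { app := fun U => AddMonoidHom.mk' (fun e => (k.app U e : Γ(D.L, f ⁻¹ᵁ U))) fun a b => map_add (k.app U).hom a b
      app_smul := fun U a e => k.app_smul a e
      app_res := fun U V h e => Groth.QCohMod.res_app k h e }
  let 𝒮 := Groth.SymAlg.symGr E
  have hj := Groth.SymAlg.isGrSymAlg_symGr (E := E)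
  obtain ⟨P, p, chart, hP⟩ := Groth.Ega2P2.exists_isRelProj 𝒮
  have hO1 := Groth.RelTw.isRelTwist_relTwist hP 1
  obtain ⟨φ₁, hφ₁⟩ := exists_phi hj hP hO1
  have hdata : ∀ z : X, ∃ (A : Y.Opens) (hA : IsAffineOpen A) (e : Γ(E, A)),
      z ∈ σ.genLoc A e ∧ IsAffineOpen (σ.genLoc A e) ∧
      Subring.closure (Set.range (f.appLE A (σ.genLoc A e) (σ.genLoc_le A e)) ∪
        Set.range (σ.ratio A e)) = ⊤ := by
    intro z
    obtain ⟨A, hA, hzA, -⟩ := exists_isAffineOpen_mem_and_subset (x := f z) (U := (⊤ : Y.Opens)) trivial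
    obtain ⟨t, ht, W, hW, hzW, hWaff, hgenW, hmax, hcl⟩ := D.chart A hA z hzA
    obtain ⟨e, rfl⟩ := hek A hA t ht
    obtain rfl : σ.genLoc A e = W := le_antisymm (hmax _ (σ.genLoc_le A e) (σ.gen_genLoc A e))
      (σ.le_genLoc hW hgenW)
    refine ⟨A, hA, e, hzW, hWaff, top_le_iff.1 (hcl.ge.trans (Subring.closure_mono ?_))⟩
    refine Set.union_subset_union le_rfl ?_
    rintro c ⟨t', ht', hc⟩
    obtain ⟨e', rfl⟩ := hek A hA t' ht'
    exact ⟨e', (σ.eq_ratio hc).symm⟩
  choose A hA e hz haff hgen using hdata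
  obtain ⟨r, hr⟩ := exists_fits σ hj hP hO1 hφ₁ fun z => ⟨A z, hA z, e z, hz z⟩
  have hp : RelProj.IsProjective p :=
    ⟨𝒮, P, p, chart, Iso.refl P, isGenDegOne_sym hj, isFTDeg_one_sym hj hEfin, hP, Category.id_comp p⟩
  have : IsProper p := Groth.Chow.isProper_of_isProjective hp
  have : IsProper (r ≫ p) := hr.comp ▸ inferInstance
  have : IsProper r := IsProper.of_comp r p
  have : IsImmersion r := by
    refine Groth.Chow.isImmersion_of_pieces r
      (fun z : X => dPlus p chart (Groth.SymAlg.jSym E) (A z) (hA z) (e z))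
      (fun z => ⟨z, (hr.pre _ (hA z) _).ge (hz z)⟩) fun z => ?_
    refine QEmb.isClosedImmersion_restrict r (isAffineOpen_dPlus hj (A z) (hA z) _) (haff z) (hr.pre _ (hA z) _) ?_
    refine (congrArg (fun m => Function.Surjective (CommRingCat.Hom.hom m))
      (hr.fn (A z) (hA z) (e z) (hr.pre _ (hA z) _).ge)).mpr ?_
    suffices h : Function.Surjective (σ.fracHom hj (hA z) (e z)) from
      h.comp (ConcreteCategory.bijective_of_isIso (coord hj chart (A z) (hA z) (e z)).inv).2
    intro c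
    suffices h : c ∈ (σ.fracHom hj (hA z) (e z)).range from h
    refine ((hgen z).ge.trans (Subring.closure_le.2 ?_)) (Subring.mem_top c)
    rintro _ (⟨a, rfl⟩ | ⟨e', rfl⟩)
    · exact ⟨jfrac hj (A z) (hA z) (e z) 0 (𝒮.str_mem (A z) (hA z) a),
        (σ.fracHom_jfrac hj (hA z) (e z) 0 (𝒮.str_mem (A z) (hA z) a)).trans (σ.algHom_str hj (hA z) (e z) a)⟩
    · exact ⟨jfrac hj (A z) (hA z) (e z) 1 (hj.2 (A z) (hA z) e'),
        (σ.fracHom_jfrac hj (hA z) (e z) 1 (hj.2 (A z) (hA z) e')).trans (σ.algHom_j hj (hA z) (e z) e')⟩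
  have : IsClosedImmersion r := (IsClosedImmersion.iff_isProper_and_mono _).2 ⟨inferInstance, inferInstance⟩
  exact ⟨E, P, p, hE, chart, r, hEfin, hP, hp, inferInstance, hr.comp⟩

/-- A proper morphism with polarisation data is projective. -/
theorem Pol.isProjective [IsProper f] (D : Pol f) : RelProj.IsProjective f := by
  obtain ⟨E, P, p, hE, chart, r, -, -, hp, hr, hrp⟩ := D.exists_closedImmersion_sym
  have : IsProper p := Groth.Chow.isProper_of_isProjective hp
  exact hrp ▸ ClosedProj.isProjective_comp_closedImmersion hp r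

end Groth.Ega2Proj
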