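/-
A proper quasi-projective morphism over a quasi-compact quasi-separated base is projective.
-/
import Groth.Agent.Ega2Proj.QProjEmb
import Groth.Agent.Ega2Proj.ClosedProj
import Groth.Agent.Chow.Projective
import Mathlib.AlgebraicGeometry.ZariskisMainTheorem

set_option autoImplicit false

universe u

open CategoryTheory CategoryTheory.Limits AlgebraicGeometry

namespace Groth.Ega2Proj

theorem isProjective_of_isQuasiProjective {X Y : Scheme.{u}} [CompactSpace Y] [QuasiSeparatedSpace Y]
    {f : X ⟶ Y} (hq : RelProj.IsQuasiProjective f) [IsProper f] : RelProj.IsProjective f := by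
  obtain ⟨hft, hqc, L, hL⟩ := hq
  obtain ⟨𝒮, P, p, chart, r, hgen, hft1, hP, hr, hrp⟩ := QEmb.exists_immersion_proj f hL
  have hp : RelProj.IsProjective p :=
    ⟨𝒮, P, p, chart, Iso.refl P, hgen, hft1, hP, Category.id_comp p⟩
  have : IsProper p := Groth.Chow.isProper_of_isProjective hp
  have : IsProper (r ≫ p) := hrp ▸ inferInstance
  have : IsProper r := IsProper.of_comp r p
  have : IsClosedImmersion r := (IsClosedImmersion.iff_isProper_and_mono _).2 ⟨inferInstance, inferInstance⟩
  exact hrp ▸ ClosedProj.isProjective_comp_closedImmersion hp r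

end Groth.Ega2Proj
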