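import Groth.Agent.Ega2Proj.TildeStalk
import Groth.Agent.QCohMod.Local

/-!
# Quasi-coherence of `M(n)~` and comparison with the twisting sheaves
-/

universe u

open CategoryTheory AlgebraicGeometry Opposite TopologicalSpace DirectSum Limits
open Groth.QCohMod (res resFun)

namespace Groth.Ega2Proj

variable {R A : Type u} [CommRing R] [CommRing A] [Algebra R A] (𝒜 : ℕ → Submodule R A)
  [GradedAlgebra 𝒜]

theorem exists_pos_notMem (x : ProjectiveSpectrum 𝒜) :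
    ∃ (d : ℕ) (g : A), 0 < d ∧ g ∈ 𝒜 d ∧ g ∉ x.asHomogeneousIdeal := by
  by_contra hc
  push Not at hc
  exact x.not_irrelevant_le (irrelevant_le_ideal 𝒜 fun d hd a ha => hc d a hd ha)

/-- A function on `D₊(f)` is one fraction `a / f ^ k`. -/
theorem exists_fun_eq_frac {d : ℕ} (hd : 0 < d) {f : A} (hf : f ∈ 𝒜 d)
    (φ : Γ(Proj 𝒜, Proj.basicOpen 𝒜 f)) :
    ∃ (k : ℕ) (a : A), a ∈ 𝒜 (k * d) ∧ ∀ (x : ProjectiveSpectrum 𝒜) (hx : f ∉ x.asHomogeneousIdeal),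
      (φ.1 ⟨x, hx⟩).val = Localization.mk a
        (⟨f ^ k, fun h => hx (x.isPrime.mem_of_pow_mem k h)⟩ :
          x.asHomogeneousIdeal.toIdeal.primeCompl) := by
  obtain ⟨z, rfl⟩ := (ConcreteCategory.bijective_of_isIso
    (Proj.basicOpenIsoAway 𝒜 f hf hd).hom).2 φ
  obtain ⟨k, a, ha, rfl⟩ := HomogeneousLocalization.Away.mk_surjective (𝒜 := 𝒜) hf z
  refine ⟨k, a, by simpa using ha, fun x hx => ?_⟩
  rw [Proj.basicOpenIsoAway_hom]
  refine (ProjectiveSpectrum.Proj.awayToSection_apply 𝒜 f _ ⟨x, hx⟩).trans ?_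
  rw [HomogeneousLocalization.Away.val_mk, Localization.mk_eq_mk', IsLocalization.map_mk',
    Localization.mk_eq_mk']
  rfl

/-- The non-vanishing locus of a function given by a fraction. -/
theorem mem_basicOpen_iff_of_frac {U : (Proj 𝒜).Opens} (φ : Γ(Proj 𝒜, U)) {x : ProjectiveSpectrum 𝒜}
    (hx : x ∈ U) {a b : A} {hb : b ∈ x.asHomogeneousIdeal.toIdeal.primeCompl}
    (h : (φ.1 ⟨x, hx⟩).val = Localization.mk a ⟨b, hb⟩) :
    x ∈ (Proj 𝒜).basicOpen φ ↔ a ∉ x.asHomogeneousIdeal := by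
  refine ((Proj 𝒜).mem_basicOpen φ x hx).trans ?_
  refine (isUnit_map_iff (Proj.stalkIso' 𝒜 x) _).symm.trans ?_
  refine (Iff.of_eq (congrArg IsUnit (Proj.stalkIso'_germ 𝒜 U x hx φ))).trans ?_
  rw [← HomogeneousLocalization.isUnit_iff_isUnit_val, h, Localization.mk_eq_mk',
    IsLocalization.AtPrime.isUnit_mk'_iff]
  rfl

namespace Tilde

variable {M : Type u} [AddCommGroup M] [Module R M] [Module A M]
  (ℳ : ℕ → Submodule R M) [SetLike.GradedSMul 𝒜 ℳ] (n : ℤ)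

theorem pow_smul_val {U : (Proj 𝒜).Opens} (φ : Γ(Proj 𝒜, U))
    (s : Γ(GrTilde.tilde 𝒜 ℳ n, U)) {x : ProjectiveSpectrum 𝒜} (hx : x ∈ U) {a : A} {m : M}
    {b c : x.asHomogeneousIdeal.toIdeal.primeCompl}
    (hφ : (φ.1 ⟨x, hx⟩).val = Localization.mk a b)
    (hs : (s.1 ⟨x, hx⟩).1 = LocalizedModule.mk m c) (K : ℕ) :
    ((φ ^ K • s : Γ(GrTilde.tilde 𝒜 ℳ n, U)).1 ⟨x, hx⟩).1 =
      LocalizedModule.mk (a ^ K • m) (b ^ K * c) := by
  change ((φ ^ K).1 ⟨x, hx⟩ • s.1 ⟨x, hx⟩).1 = _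
  rw [GrTilde.coe_smul_val, hs]
  change ((φ.1 ⟨x, hx⟩ ^ K).val) • LocalizedModule.mk m c = _
  rw [HomogeneousLocalization.val_pow, hφ, Localization.mk_pow, LocalizedModule.mk_smul_mk]

variable [DirectSum.Decomposition ℳ]

/-- `M(n)~` is quasi-coherent. -/
theorem isQuasicoherent : (GrTilde.tilde 𝒜 ℳ n).IsQuasicoherent := by
  refine QCohMod.isQCoh_of_affine_cover _ fun x => ?_
  obtain ⟨d, f, hd, hf, hfx⟩ := exists_pos_notMem 𝒜 x
  refine ⟨Proj.basicOpen 𝒜 f, Proj.isAffineOpen_basicOpen 𝒜 f hf hd, hfx, fun φ s => ?_,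
    fun φ t ht => ?_⟩
  · obtain ⟨k, a, ha, hφ⟩ := exists_fun_eq_frac 𝒜 hd hf φ
    have hO : ∀ y : ProjectiveSpectrum 𝒜, f ∉ y.asHomogeneousIdeal →
        a ∉ y.asHomogeneousIdeal → y ∈ (Proj 𝒜).basicOpen φ := fun y hy hay =>
      (mem_basicOpen_iff_of_frac 𝒜 φ hy (hφ y hy)).mpr hay
    have hle : Proj.basicOpen 𝒜 (a * f) ≤ (Proj 𝒜).basicOpen φ := fun y hy =>
      hO y (fun h => hy (y.asHomogeneousIdeal.toIdeal.mul_mem_left _ h))
        (fun h => hy (y.asHomogeneousIdeal.toIdeal.mul_mem_right _ h))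
    obtain ⟨K, i, m, hi, hm⟩ := exists_frac 𝒜 ℳ n (Nat.add_pos_right (k * d) hd)
      (SetLike.mul_mem_graded ha hf) (res (GrTilde.tilde 𝒜 ℳ n) hle s)
    refine ⟨K, fracSect 𝒜 ℳ n (Proj.basicOpen 𝒜 f) (j := (k * K + K) * d) m.1 m.2
      (f ^ (k * K + K)) (by simpa using SetLike.pow_mem_graded (k * K + K) hf)
      (fun y h => y.2 (y.1.isPrime.mem_of_pow_mem _ h))
      (Or.inl (by rw [hi]; push_cast; ring)), ?_⟩
    refine sect_ext 𝒜 ℳ n fun y => ?_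
    obtain ⟨y, hy⟩ := y
    have hyf : f ∉ y.asHomogeneousIdeal := (Proj 𝒜).basicOpen_le φ hy
    have hya : a ∉ y.asHomogeneousIdeal := (mem_basicOpen_iff_of_frac 𝒜 φ hyf (hφ y hyf)).mp hy
    haveI : y.asHomogeneousIdeal.toIdeal.IsPrime := y.isPrime
    have hyaf : a * f ∉ y.asHomogeneousIdeal :=
      y.asHomogeneousIdeal.toIdeal.primeCompl.mul_mem hya hyf
    refine Eq.trans ?_
      (pow_smul_val 𝒜 ℳ n (resFun _ ((Proj 𝒜).basicOpen_le φ) φ) s hy (hφ y hyf)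
        (hm ⟨y, hyaf⟩) K).symm
    refine (LocalizedModule.mk_eq.mpr ⟨1, ?_⟩)
    simp only [one_smul, Submonoid.smul_def, Submonoid.coe_mul, SubmonoidClass.coe_pow, smul_smul]
    congr 1
    ring
  · obtain ⟨k, a, ha, hφ⟩ := exists_fun_eq_frac 𝒜 hd hf φ
    obtain ⟨p, i, m, hi, hm⟩ := exists_frac 𝒜 ℳ n hd hf t
    obtain ⟨N, hN⟩ := exists_pow_smul_eq_zero 𝒜 ℳ (Nat.add_pos_right (k * d) hd)
      (SetLike.mul_mem_graded ha hf) m.2 fun y hy => by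
        have hyf : f ∉ y.asHomogeneousIdeal := fun h =>
          hy (y.asHomogeneousIdeal.toIdeal.mul_mem_left _ h)
        have hya : a ∉ y.asHomogeneousIdeal := fun h =>
          hy (y.asHomogeneousIdeal.toIdeal.mul_mem_right _ h)
        have hyO := (mem_basicOpen_iff_of_frac 𝒜 φ hyf (hφ y hyf)).mpr hya
        refine (mk_eq_zero_iff 𝒜).mp ((hm ⟨y, hyf⟩).symm.trans ?_)
        exact congrArg (fun r : GrTilde.sect 𝒜 ℳ n (op ((Proj 𝒜).basicOpen φ)) =>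
          (r.1 ⟨y, hyO⟩).1) ht
    refine ⟨N, sect_ext 𝒜 ℳ n fun y => ?_⟩
    obtain ⟨y, hy⟩ := y
    refine (pow_smul_val 𝒜 ℳ n φ t hy (hφ y hy) (hm ⟨y, hy⟩) N).trans ?_
    refine (mk_eq_zero_iff 𝒜).mpr ⟨f ^ N, fun h => hy (y.isPrime.mem_of_pow_mem N h), ?_⟩
    rw [smul_smul, ← mul_pow, mul_comm f a]
    exact hN

end Tilde

/-- The twisting sheaf is the sheaf associated to the ring with shifted grading. -/
theorem twist_eq_tilde (n : ℤ) : Twist.twist 𝒜 n = GrTilde.tilde 𝒜 𝒜 n := rfl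

/-- The twisting sheaves are quasi-coherent. -/
theorem isQuasicoherent_twist (n : ℤ) : (Twist.twist 𝒜 n).IsQuasicoherent :=
  Tilde.isQuasicoherent 𝒜 𝒜 n

end Groth.Ega2Proj
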