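import Groth.Agent.Variety2.ProjBasics

/-!
# The rational point (1 : 0 : … : 0) of projective space
-/

universe u

open CategoryTheory CategoryTheory.Limits AlgebraicGeometry

namespace Groth.Ega2Proj

theorem X_zero_mem (n : ℕ) (R : Type u) [CommRing R] :
    (MvPolynomial.X 0 : MvPolynomial (Fin (n + 1)) R) ∈ CohB1.polyGrading n R 1 :=
  MvPolynomial.isHomogeneous_X R 0

theorem exists_section_projSpace (n : ℕ) (R : Type u) [CommRing R] :
    ∃ s : Spec (CommRingCat.of R) ⟶ CohB1.ProjSpace n R, s ≫ CohB1.ProjSpace.toSpec n R = 𝟙 _ := by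
  classical
  let ev : MvPolynomial (Fin (n + 1)) R →+* R := MvPolynomial.eval (Pi.single 0 1)
  have hev : ev (MvPolynomial.X 0) = 1 := by simp [ev]
  have hu : IsUnit (ev (MvPolynomial.X 0)) := by rw [hev]; exact isUnit_one
  let lft : Localization.Away (MvPolynomial.X 0 : MvPolynomial (Fin (n + 1)) R) →+* R :=
    Localization.awayLift ev (MvPolynomial.X 0) hu
  let ρ : HomogeneousLocalization.Away (CohB1.polyGrading n R) (MvPolynomial.X 0) →+* R :=
    lft.comp (algebraMap _ (Localization.Away (MvPolynomial.X 0 : MvPolynomial (Fin (n + 1)) R)))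
  have hlft : ∀ p, lft (algebraMap (MvPolynomial (Fin (n + 1)) R) _ p) = ev p := fun p =>
    IsLocalization.Away.lift_eq _ hu p
  refine ⟨Spec.map (CommRingCat.ofHom ρ) ≫ Proj.awayι (CohB1.polyGrading n R) _ (X_zero_mem n R) one_pos, ?_⟩
  rw [CohB1.ProjSpace.toSpec, Category.assoc]
  erw [Proj.awayι_toSpecZero_assoc]
  rw [← Spec.map_comp, ← Spec.map_comp, ← CommRingCat.ofHom_comp, ← CommRingCat.ofHom_comp]
  refine (congrArg (fun g => Spec.map (CommRingCat.ofHom g)) (RingHom.ext fun r => ?_ : _ = RingHom.id R)).trans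
    (by simp)
  have hv : lft (Localization.mk (MvPolynomial.C r) 1) = r := by
    rw [Localization.mk_one_eq_algebraMap, hlft]
    exact MvPolynomial.eval_C r
  exact hv

theorem surjective_projSpace_toSpec (n : ℕ) (R : Type u) [CommRing R] :
    Surjective (CohB1.ProjSpace.toSpec n R) := by
  obtain ⟨s, hs⟩ := exists_section_projSpace n R
  exact ⟨fun x => ⟨s.base x, congrArg (fun k => k.base x) hs⟩⟩

theorem isIso_projSpace_zero_toSpec (R : Type u) [CommRing R] : IsIso (CohB1.ProjSpace.toSpec 0 R) := by
  classical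
  haveI := Groth.Variety2.isIso_specMap_polyGrading_zero 0 R
  set P := CohB1.polyGrading 0 R
  set f : MvPolynomial (Fin 1) R := MvPolynomial.X 0
  have hf : f ∈ P 1 := X_zero_mem 0 R
  have hmono : ∀ (k : ℕ) (p : MvPolynomial (Fin 1) R), p ∈ P k → p = MvPolynomial.C (p.coeff (Finsupp.single 0 k)) * f ^ k := by
    intro k p hp
    ext α
    obtain ⟨m, rfl⟩ : ∃ m, α = Finsupp.single (0 : Fin 1) m :=
      ⟨α 0, Finsupp.ext fun i => by rw [Subsingleton.elim i 0, Finsupp.single_eq_same]⟩
    rw [MvPolynomial.C_mul_X_pow_eq_monomial, MvPolynomial.coeff_monomial]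
    split_ifs with h
    · rw [h]
    · refine MvPolynomial.IsHomogeneous.coeff_eq_zero hp ?_
      rw [Finsupp.degree_single]
      exact fun e => h (by rw [e])
  have htop : Proj.basicOpen P f = ⊤ := by
    refine top_le_iff.mp fun x _ => (Proj.mem_basicOpen _ _ _).mpr fun hx => x.not_irrelevant_le ?_
    refine (HomogeneousIdeal.irrelevant_le _).mpr fun k hk p hp => ?_
    change p ∈ x.asHomogeneousIdeal.toIdeal
    rw [hmono k p hp]
    exact Ideal.mul_mem_left _ _ (Ideal.pow_mem_of_mem _ hx k hk)
  haveI : IsIso (Proj.awayι P f hf one_pos) := by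
    haveI : Epi (Proj.awayι P f hf one_pos).base := by
      rw [TopCat.epi_iff_surjective]
      intro x
      have : x ∈ (Proj.awayι P f hf one_pos).opensRange := by rw [Proj.opensRange_awayι, htop]; trivial
      exact this
    exact IsOpenImmersion.isIso _
  have hbij : Function.Bijective (HomogeneousLocalization.fromZeroRingHom P (Submonoid.powers f)) := by
    refine ⟨fun a b h => ?_, fun y => ?_⟩
    · have h' := congrArg HomogeneousLocalization.val h
      simp only [HomogeneousLocalization.fromZeroRingHom, RingHom.coe_mk, MonoidHom.coe_mk, OneHom.coe_mk,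
        HomogeneousLocalization.val_mk, Localization.mk_eq_mk', IsLocalization.eq] at h'
      obtain ⟨⟨_, j, rfl⟩, hj⟩ := h'
      have hreg : IsRegular (f ^ j) := (MvPolynomial.isRegular_X (R := R) (n := (0 : Fin 1))).pow j
      exact Subtype.ext (hreg.left (by simpa using hj))
    · obtain ⟨k, p, hp, rfl⟩ := HomogeneousLocalization.Away.mk_surjective P hf y
      refine ⟨⟨MvPolynomial.C (p.coeff (Finsupp.single 0 k)), MvPolynomial.isHomogeneous_C _ _⟩, ?_⟩
      apply HomogeneousLocalization.val_injective
      simp only [HomogeneousLocalization.fromZeroRingHom, RingHom.coe_mk, MonoidHom.coe_mk, OneHom.coe_mk,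
        HomogeneousLocalization.val_mk, HomogeneousLocalization.Away.val_mk, Localization.mk_eq_mk_iff,
        Localization.r_iff_exists]
      refine ⟨1, ?_⟩
      conv_rhs => rw [hmono k p (by simpa using hp)]
      simp [mul_comm]
  haveI : IsIso (Proj.toSpecZero P) := by
    haveI : IsIso (Proj.awayι P f hf one_pos ≫ Proj.toSpecZero P) := by
      rw [Proj.awayι_toSpecZero]
      haveI : IsIso (CommRingCat.ofHom (HomogeneousLocalization.fromZeroRingHom P (Submonoid.powers f))) :=
        (ConcreteCategory.isIso_iff_bijective _).mpr hbij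
      infer_instance
    exact IsIso.of_isIso_comp_left (Proj.awayι P f hf one_pos) _
  exact inferInstanceAs (IsIso (Proj.toSpecZero P ≫ _))

end Groth.Ega2Proj
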