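import Groth.Agent.Ega2Proj.TildeQCoh
import Groth.Agent.Ega2Proj.TensorGen

/-!
# Multiplication by fractions, bases of the twisting sheaves
-/

universe u

open CategoryTheory AlgebraicGeometry Opposite TopologicalSpace DirectSum
open Groth.PicAux

namespace Groth.Ega2Proj

variable {R A : Type u} [CommRing R] [CommRing A] [Algebra R A] (𝒜 : ℕ → Submodule R A)
  [GradedAlgebra 𝒜]

/-- The fraction `g / h` in the local ring at a point where `h` does not vanish. -/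
noncomputable abbrev lfrac (x : ProjectiveSpectrum 𝒜) (g : A) {h : A}
    (hx : h ∉ x.asHomogeneousIdeal) : Twist.Loc 𝒜 x :=
  Localization.mk g ⟨h, hx⟩

theorem lfrac_mul_lfrac (x : ProjectiveSpectrum 𝒜) {g g' h h' : A}
    (hx : h ∉ x.asHomogeneousIdeal) (hx' : h' ∉ x.asHomogeneousIdeal)
    (hxx : h * h' ∉ x.asHomogeneousIdeal) :
    lfrac 𝒜 x g hx * lfrac 𝒜 x g' hx' = lfrac 𝒜 x (g * g') hxx :=
  Localization.mk_mul _ _ _ _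

theorem lfrac_self (x : ProjectiveSpectrum 𝒜) {h : A} (hx : h ∉ x.asHomogeneousIdeal) :
    lfrac 𝒜 x h hx = 1 :=
  Localization.mk_self (⟨h, hx⟩ : x.asHomogeneousIdeal.toIdeal.primeCompl)

theorem lfrac_inv (x : ProjectiveSpectrum 𝒜) {g h : A} (hgx : g ∉ x.asHomogeneousIdeal)
    (hhx : h ∉ x.asHomogeneousIdeal) : lfrac 𝒜 x g hhx * lfrac 𝒜 x h hgx = 1 := by
  rw [lfrac_mul_lfrac 𝒜 x hhx hgx (x.asHomogeneousIdeal.toIdeal.primeCompl.mul_mem hhx hgx),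
    ← lfrac_self 𝒜 x (x.asHomogeneousIdeal.toIdeal.primeCompl.mul_mem hhx hgx)]
  congr 1
  exact mul_comm g h

theorem lfrac_isUnit (x : ProjectiveSpectrum 𝒜) {g h : A} (hgx : g ∉ x.asHomogeneousIdeal)
    (hhx : h ∉ x.asHomogeneousIdeal) : IsUnit (lfrac 𝒜 x g hhx) :=
  IsUnit.of_mul_eq_one _ (lfrac_inv 𝒜 x hgx hhx)

namespace Tilde

variable {M : Type u} [AddCommGroup M] [Module R M] [Module A M]
  (ℳ : ℕ → Submodule R M) [SetLike.GradedSMul 𝒜 ℳ]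

variable {𝒜 ℳ}

/-- The value of a section at a point. -/
noncomputable def tval {n : ℤ} {U : (Proj 𝒜).Opens} (s : Γ(GrTilde.tilde 𝒜 ℳ n, U))
    (x : ProjectiveSpectrum 𝒜) (hx : x ∈ U) : GrTilde.LocMod 𝒜 (M := M) x :=
  (s.1 ⟨x, hx⟩).1

theorem tval_mem {n : ℤ} {U : (Proj 𝒜).Opens} (s : Γ(GrTilde.tilde 𝒜 ℳ n, U))
    (x : ProjectiveSpectrum 𝒜) (hx : x ∈ U) : tval s x hx ∈ GrTilde.tildeAt 𝒜 ℳ n x :=
  (s.1 ⟨x, hx⟩).2

theorem tval_ext {n : ℤ} {U : (Proj 𝒜).Opens} {s t : Γ(GrTilde.tilde 𝒜 ℳ n, U)}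
    (h : ∀ x hx, tval s x hx = tval t x hx) : s = t :=
  sect_ext 𝒜 ℳ n fun x => h x.1 x.2

@[simp] theorem tval_res {n : ℤ} {U V : (Proj 𝒜).Opens} (h : V ≤ U)
    (s : Γ(GrTilde.tilde 𝒜 ℳ n, U)) (x : ProjectiveSpectrum 𝒜) (hx : x ∈ V) :
    tval (res _ h s) x hx = tval s x (h hx) := rfl

@[simp] theorem tval_add {n : ℤ} {U : (Proj 𝒜).Opens} (s t : Γ(GrTilde.tilde 𝒜 ℳ n, U))
    (x : ProjectiveSpectrum 𝒜) (hx : x ∈ U) : tval (s + t) x hx = tval s x hx + tval t x hx := rfl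

@[simp] theorem tval_zero {n : ℤ} {U : (Proj 𝒜).Opens}
    (x : ProjectiveSpectrum 𝒜) (hx : x ∈ U) :
    tval (0 : Γ(GrTilde.tilde 𝒜 ℳ n, U)) x hx = 0 := rfl

theorem tval_smul {n : ℤ} {U : (Proj 𝒜).Opens} (r : Γ(Proj 𝒜, U))
    (s : Γ(GrTilde.tilde 𝒜 ℳ n, U)) (x : ProjectiveSpectrum 𝒜) (hx : x ∈ U) :
    tval (r • s) x hx = (r.1 ⟨x, hx⟩).val • tval s x hx := rfl

/-- Fractions of degree `e - e'` map degree-`n` values to degree-`n + e - e'` values. -/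
theorem lfrac_smul_mem {e e' : ℕ} {g h : A} (hg : g ∈ 𝒜 e) (hh : h ∈ 𝒜 e') {n n' : ℤ}
    (hn : n' = n + e - e') {x : ProjectiveSpectrum 𝒜} (hx : h ∉ x.asHomogeneousIdeal)
    {q : GrTilde.LocMod 𝒜 (M := M) x} (hq : q ∈ GrTilde.tildeAt 𝒜 ℳ n x) :
    lfrac 𝒜 x g hx • q ∈ GrTilde.tildeAt 𝒜 ℳ n' x := by
  obtain ⟨i, j, m, s, hs, hm, hsj, hdeg, rfl⟩ := exists_frac_of_mem_tildeAt 𝒜 ℳ n hq
  rw [LocalizedModule.mk_smul_mk]
  exact mk_mem_tildeAt 𝒜 ℳ n' (i := e + i) (j := e' + j) (smul_mem 𝒜 ℳ hg hm rfl)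
    (SetLike.mul_mem_graded hh hsj) (x.asHomogeneousIdeal.toIdeal.primeCompl.mul_mem hx hs)
    (hdeg.imp (fun h => by push_cast; omega) fun h => by rw [h, smul_zero])

/-- Multiplication of sections by the fraction `g / h`. -/
noncomputable def mulFrac {e e' : ℕ} {g h : A} (hg : g ∈ 𝒜 e) (hh : h ∈ 𝒜 e') {n n' : ℤ}
    (hn : n' = n + e - e') {U : (Proj 𝒜).Opens}
    (hU : ∀ x : ProjectiveSpectrum 𝒜, x ∈ U → h ∉ x.asHomogeneousIdeal)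
    (s : Γ(GrTilde.tilde 𝒜 ℳ n, U)) : Γ(GrTilde.tilde 𝒜 ℳ n', U) :=
  (⟨fun x => ⟨lfrac 𝒜 x.1 g (hU x.1 x.2) • (s.1 x).1, lfrac_smul_mem hg hh hn _ (s.1 x).2⟩,
    fun x => by
      obtain ⟨V, hxV, ι, i, j, ⟨m, hm⟩, ⟨t, ht⟩, hnin, hdeg, hval⟩ := s.2 x
      replace hdeg : (i : ℤ) = j + n ∨ m = 0 := hdeg
      refine ⟨V, hxV, ι, e + i, e' + j, ⟨g • m, smul_mem 𝒜 ℳ hg hm rfl⟩,
        ⟨h * t, SetLike.mul_mem_graded hh ht⟩, fun y =>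
          haveI : y.1.asHomogeneousIdeal.toIdeal.IsPrime := y.1.isPrime
          y.1.asHomogeneousIdeal.toIdeal.primeCompl.mul_mem (hU y.1 (ι y).2) (hnin y),
        hdeg.imp (fun h => by push_cast; omega) (fun h => by
          change g • m = 0; rw [h, smul_zero]), fun y => ?_⟩
      change lfrac 𝒜 y.1 g _ • (s.1 (ι y)).1 = _
      erw [hval y]
      exact LocalizedModule.mk_smul_mk _ _ _ _⟩ :
    GrTilde.sect 𝒜 ℳ n' (op U))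

@[simp] theorem tval_mulFrac {e e' : ℕ} {g h : A} (hg : g ∈ 𝒜 e) (hh : h ∈ 𝒜 e') {n n' : ℤ}
    (hn : n' = n + e - e') {U : (Proj 𝒜).Opens}
    (hU : ∀ x : ProjectiveSpectrum 𝒜, x ∈ U → h ∉ x.asHomogeneousIdeal)
    (s : Γ(GrTilde.tilde 𝒜 ℳ n, U)) (x : ProjectiveSpectrum 𝒜) (hx : x ∈ U) :
    tval (mulFrac hg hh hn hU s) x hx = lfrac 𝒜 x g (hU x hx) • tval s x hx := rfl

theorem mulFrac_mulFrac {e e' : ℕ} {g h : A} (hg : g ∈ 𝒜 e) (hh : h ∈ 𝒜 e') {n n' : ℤ}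
    (hn : n' = n + e - e') (hn' : n = n' + e' - e) {U : (Proj 𝒜).Opens}
    (hUh : ∀ x : ProjectiveSpectrum 𝒜, x ∈ U → h ∉ x.asHomogeneousIdeal)
    (hUg : ∀ x : ProjectiveSpectrum 𝒜, x ∈ U → g ∉ x.asHomogeneousIdeal)
    (s : Γ(GrTilde.tilde 𝒜 ℳ n, U)) : mulFrac hh hg hn' hUg (mulFrac hg hh hn hUh s) = s := by
  refine tval_ext fun x hx => ?_
  rw [tval_mulFrac, tval_mulFrac, smul_smul, lfrac_inv 𝒜 x (hUh x hx) (hUg x hx), one_smul]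

theorem mulFrac_bijective {e e' : ℕ} {g h : A} (hg : g ∈ 𝒜 e) (hh : h ∈ 𝒜 e') {n n' : ℤ}
    (hn : n' = n + e - e') {U : (Proj 𝒜).Opens}
    (hUh : ∀ x : ProjectiveSpectrum 𝒜, x ∈ U → h ∉ x.asHomogeneousIdeal)
    (hUg : ∀ x : ProjectiveSpectrum 𝒜, x ∈ U → g ∉ x.asHomogeneousIdeal) :
    Function.Bijective fun s : Γ(GrTilde.tilde 𝒜 ℳ n, U) => mulFrac hg hh hn hUh s :=
  Function.bijective_iff_has_inverse.mpr ⟨mulFrac hh hg (by omega) hUg,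
    fun s => mulFrac_mulFrac hg hh hn _ hUh hUg s,
    fun s => mulFrac_mulFrac hh hg _ hn hUg hUh s⟩

end Tilde

section Twist

variable {𝒜}

/-- The value of a section of a twisting sheaf at a point. -/
noncomputable def wval {n : ℤ} {U : (Proj 𝒜).Opens} (s : Γ(Twist.twist 𝒜 n, U))
    (x : ProjectiveSpectrum 𝒜) (hx : x ∈ U) : Twist.Loc 𝒜 x :=
  (s.1 ⟨x, hx⟩).1

theorem wval_ext {n : ℤ} {U : (Proj 𝒜).Opens} {s t : Γ(Twist.twist 𝒜 n, U)}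
    (h : ∀ x hx, wval s x hx = wval t x hx) : s = t :=
  Subtype.ext (funext fun x => Subtype.ext (h x.1 x.2))

@[simp] theorem wval_res {n : ℤ} {U V : (Proj 𝒜).Opens} (h : V ≤ U)
    (s : Γ(Twist.twist 𝒜 n, U)) (x : ProjectiveSpectrum 𝒜) (hx : x ∈ V) :
    wval (res _ h s) x hx = wval s x (h hx) := rfl

theorem wval_smul {n : ℤ} {U : (Proj 𝒜).Opens} (r : Γ(Proj 𝒜, U))
    (s : Γ(Twist.twist 𝒜 n, U)) (x : ProjectiveSpectrum 𝒜) (hx : x ∈ U) :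
    wval (r • s) x hx = (r.1 ⟨x, hx⟩).val * wval s x hx :=
  Twist.coe_smul_val n x (r.1 ⟨x, hx⟩) (s.1 ⟨x, hx⟩)

/-- The section `g / h` of `O(e - e')`. -/
noncomputable def fracGen {e e' : ℕ} {g h : A} (hg : g ∈ 𝒜 e) (hh : h ∈ 𝒜 e') {n : ℤ}
    (hn : (e : ℤ) = e' + n) (U : (Proj 𝒜).Opens)
    (hU : ∀ x : ProjectiveSpectrum 𝒜, x ∈ U → h ∉ x.asHomogeneousIdeal) :
    Γ(Twist.twist 𝒜 n, U) :=
  Tilde.fracSect 𝒜 𝒜 n U g hg h hh (fun x => hU x.1 x.2) (Or.inl hn)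

@[simp] theorem wval_fracGen {e e' : ℕ} {g h : A} (hg : g ∈ 𝒜 e) (hh : h ∈ 𝒜 e') {n : ℤ}
    (hn : (e : ℤ) = e' + n) (U : (Proj 𝒜).Opens)
    (hU : ∀ x : ProjectiveSpectrum 𝒜, x ∈ U → h ∉ x.asHomogeneousIdeal)
    (x : ProjectiveSpectrum 𝒜) (hx : x ∈ U) :
    wval (fracGen hg hh hn U hU) x hx = lfrac 𝒜 x g (hU x hx) := rfl

/-- Two functions with the same values are equal. -/
theorem fun_ext {U : (Proj 𝒜).Opens} {r r' : Γ(Proj 𝒜, U)}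
    (h : ∀ (x : ProjectiveSpectrum 𝒜) (hx : x ∈ U), (r.1 ⟨x, hx⟩).val = (r'.1 ⟨x, hx⟩).val) :
    r = r' :=
  Subtype.ext (funext fun x => HomogeneousLocalization.val_injective _ (h x.1 x.2))

/-- Every value of a twisting sheaf is a single fraction. -/
theorem exists_lfrac_of_mem_twistAt {n : ℤ} {x : ProjectiveSpectrum 𝒜} {q : Twist.Loc 𝒜 x}
    (hq : q ∈ Twist.twistAt 𝒜 n x) :
    ∃ (i j : ℕ) (a b : A) (hb : b ∉ x.asHomogeneousIdeal), a ∈ 𝒜 i ∧ b ∈ 𝒜 j ∧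
      ((i : ℤ) = j + n ∨ a = 0) ∧ q = lfrac 𝒜 x a hb :=
  Tilde.exists_frac_of_mem_tildeAt 𝒜 𝒜 n hq

/-- A degree-zero value is an element of the degree-zero local ring. -/
theorem exists_a0_of_mem_twistAt {x : ProjectiveSpectrum 𝒜} {q : Twist.Loc 𝒜 x}
    (hq : q ∈ Twist.twistAt 𝒜 0 x) : ∃ c : Twist.A0 𝒜 x, c.val = q := by
  obtain ⟨i, j, a, b, hb, ha, hbj, hdeg, rfl⟩ := exists_lfrac_of_mem_twistAt hq
  rcases hdeg with h | rfl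
  · obtain rfl : i = j := by omega
    exact ⟨.mk ⟨i, ⟨a, ha⟩, ⟨b, hbj⟩, hb⟩, HomogeneousLocalization.val_mk _⟩
  · exact ⟨0, HomogeneousLocalization.val_zero.trans (Localization.mk_zero _).symm⟩

/-- A degree-zero section is a function. -/
theorem exists_fun_eq_wval {U : (Proj 𝒜).Opens} (s : Γ(Twist.twist 𝒜 0, U)) :
    ∃ r : Γ(Proj 𝒜, U), ∀ (x : ProjectiveSpectrum 𝒜) (hx : x ∈ U),
      (r.1 ⟨x, hx⟩).val = wval s x hx := by
  have key : ∀ x : U, ∃ c : Twist.A0 𝒜 x.1, c.val = wval s x.1 x.2 := fun x =>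
    exists_a0_of_mem_twistAt (s.1 x).2
  choose r hr using key
  refine ⟨⟨r, fun x => ?_⟩, fun x hx => hr ⟨x, hx⟩⟩
  obtain ⟨V, hxV, ι, i, j, ⟨a, ha⟩, ⟨b, hb⟩, hnin, hdeg, hval⟩ := s.2 x
  replace hdeg : (i : ℤ) = j + 0 ∨ a = 0 := hdeg
  have ha' : a ∈ 𝒜 j := by
    rcases hdeg with h | h
    · exact (show i = j by omega) ▸ ha
    · exact h ▸ zero_mem _
  refine ⟨V, hxV, ι, j, ⟨a, ha'⟩, ⟨b, hb⟩, hnin, fun y => HomogeneousLocalization.val_injective _ ?_⟩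
  rw [HomogeneousLocalization.val_mk]
  exact (hr (ι y)).trans (hval y)

/-- A fraction with numerator and denominator invertible on `U` is a basis of the twisting sheaf. -/
theorem gen_fracGen {e e' : ℕ} {g h : A} (hg : g ∈ 𝒜 e) (hh : h ∈ 𝒜 e') {n : ℤ}
    (hn : (e : ℤ) = e' + n) (U : (Proj 𝒜).Opens)
    (hUh : ∀ x : ProjectiveSpectrum 𝒜, x ∈ U → h ∉ x.asHomogeneousIdeal)
    (hUg : ∀ x : ProjectiveSpectrum 𝒜, x ∈ U → g ∉ x.asHomogeneousIdeal) :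
    Gen (Twist.twist 𝒜 n) U (fracGen hg hh hn U hUh) := by
  intro V hV
  constructor
  · intro r r' hr
    refine fun_ext fun x hx => ?_
    have h1 := congrArg (fun s => wval s x hx) hr
    simp only [wval_smul, wval_res, wval_fracGen] at h1
    exact (lfrac_isUnit 𝒜 x (hUg x (hV hx)) (hUh x (hV hx))).mul_left_injective h1
  · intro s
    obtain ⟨r, hr⟩ := exists_fun_eq_wval (U := V) (Tilde.mulFrac (ℳ := 𝒜) hh hg
      (n := n) (n' := 0) (by omega) (fun x hx => hUg x (hV hx)) s)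
    refine ⟨r, wval_ext fun x hx => ?_⟩
    rw [wval_smul, wval_res, wval_fracGen, hr]
    change (lfrac 𝒜 x h _ * wval s x hx) * _ = _
    rw [mul_comm, ← mul_assoc, lfrac_inv 𝒜 x (hUg x (hV hx)) (hUh x (hV hx)), one_mul]

end Twist

end Groth.Ega2Proj
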