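import Mathlib.AlgebraicGeometry.ProjectiveSpectrum.Basic
import Mathlib.RingTheory.GradedAlgebra.Radical
import Mathlib.RingTheory.GradedAlgebra.FiniteType
import Mathlib.RingTheory.Adjoin.Basic
import Mathlib.RingTheory.Noetherian.Basic
import Mathlib.RingTheory.Adjoin.Tower

/-!
# Elementary facts on ℕ-graded rings and their projective spectrum
-/

universe u

open DirectSum

namespace Groth.Ega2Proj

variable {σ A : Type*} [CommRing A] [SetLike σ A] [AddSubgroupClass σ A]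
  (𝒜 : ℕ → σ) [GradedRing 𝒜]

theorem mem_irrelevant_iff_decompose_zero (a : A) :
    a ∈ (HomogeneousIdeal.irrelevant 𝒜).toIdeal ↔ (decompose 𝒜 a 0 : A) = 0 := by
  exact (HomogeneousIdeal.mem_irrelevant_iff 𝒜 a).trans (by rw [GradedRing.proj_apply])

/-- To put the irrelevant ideal inside an ideal it is enough to do so for its homogeneous elements. -/
theorem irrelevant_le_ideal {I : Ideal A} (h : ∀ d, 0 < d → ∀ a ∈ 𝒜 d, a ∈ I) :
    (HomogeneousIdeal.irrelevant 𝒜).toIdeal ≤ I :=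
  (HomogeneousIdeal.toIdeal_irrelevant_le _).mpr fun d hd a ha => h d hd a ha

theorem decompose_mem_irrelevant {a : A} (ha : a ∈ (HomogeneousIdeal.irrelevant 𝒜).toIdeal) (d : ℕ) :
    (decompose 𝒜 a d : A) ∈ (HomogeneousIdeal.irrelevant 𝒜).toIdeal :=
  (HomogeneousIdeal.irrelevant 𝒜).isHomogeneous d ha

theorem mem_of_forall_homogeneous_pos {a : A} (ha : a ∈ (HomogeneousIdeal.irrelevant 𝒜).toIdeal)
    {I : Ideal A} (h : ∀ d, 0 < d → (decompose 𝒜 a d : A) ∈ I) : a ∈ I := by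
  classical
  rw [← DirectSum.sum_support_decompose 𝒜 a]
  refine Ideal.sum_mem _ fun d _ => ?_
  rcases d.eq_zero_or_pos with rfl | hd
  · rw [(mem_irrelevant_iff_decompose_zero 𝒜 a).mp ha]; exact zero_mem _
  · exact h d hd

/-- A homogeneous element of positive degree outside the radical of a homogeneous ideal misses some
point of `Proj` containing that ideal. -/
theorem exists_point_of_notMem_radical {d : ℕ} {f : A} (hd : 0 < d) (hf : f ∈ 𝒜 d) {I : Ideal A}
    (hI : I.IsHomogeneous 𝒜) (h : f ∉ I.radical) :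
    ∃ x : ProjectiveSpectrum 𝒜, I ≤ x.asHomogeneousIdeal.toIdeal ∧ f ∉ x.asHomogeneousIdeal := by
  rw [hI.radical_eq, Ideal.mem_sInf] at h
  push Not at h
  obtain ⟨J, ⟨hJ, hIJ, hJp⟩, hfJ⟩ := h
  refine ⟨⟨⟨J, hJ⟩, hJp, fun hle => hfJ (hle (HomogeneousIdeal.mem_irrelevant_of_mem 𝒜 hd hf))⟩,
    hIJ, hfJ⟩

theorem exists_point_of_not_isNilpotent {d : ℕ} {f : A} (hd : 0 < d) (hf : f ∈ 𝒜 d)
    (h : ¬ IsNilpotent f) : ∃ x : ProjectiveSpectrum 𝒜, f ∉ x.asHomogeneousIdeal :=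
  (exists_point_of_notMem_radical 𝒜 hd hf (Ideal.IsHomogeneous.bot 𝒜) h).imp fun _ => And.right

theorem mem_radical_iff_forall_point {f : A} (hf : f ∈ (HomogeneousIdeal.irrelevant 𝒜).toIdeal)
    {I : Ideal A} (hI : I.IsHomogeneous 𝒜) :
    f ∈ I.radical ↔
      ∀ x : ProjectiveSpectrum 𝒜, I ≤ x.asHomogeneousIdeal.toIdeal → f ∈ x.asHomogeneousIdeal := by
  refine ⟨fun h x hx => x.isPrime.radical_le_iff.mpr hx h, fun h => ?_⟩
  refine mem_of_forall_homogeneous_pos 𝒜 hf fun d hd => ?_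
  by_contra hc
  obtain ⟨x, hx, hfx⟩ := exists_point_of_notMem_radical 𝒜 hd (SetLike.coe_mem _) hI hc
  exact hfx (x.asHomogeneousIdeal.isHomogeneous d (h x hx))

theorem isNilpotent_iff_forall_point {f : A} (hf : f ∈ (HomogeneousIdeal.irrelevant 𝒜).toIdeal) :
    IsNilpotent f ↔ ∀ x : ProjectiveSpectrum 𝒜, f ∈ x.asHomogeneousIdeal := by
  have h := mem_radical_iff_forall_point 𝒜 hf (Ideal.IsHomogeneous.bot 𝒜)
  simpa [Ideal.mem_radical_iff, IsNilpotent] using h

/-- `S_0` as the image of the degree-zero part of an element. -/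
theorem exists_zero_add_irrelevant (a : A) :
    ∃ r : 𝒜 0, a - algebraMap (𝒜 0) A r ∈ (HomogeneousIdeal.irrelevant 𝒜).toIdeal := by
  classical
  refine ⟨decompose 𝒜 a 0, ?_⟩
  rw [mem_irrelevant_iff_decompose_zero]
  change ((decompose 𝒜 (a - (decompose 𝒜 a 0 : A))) 0 : A) = 0
  rw [decompose_sub, DirectSum.sub_apply, decompose_coe, DirectSum.of_eq_same, sub_self]
  rfl

end Groth.Ega2Proj
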