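import Groth.Agent.LocFree.Basic
import Groth.Agent.LocFree.Affine
import Mathlib.LinearAlgebra.Matrix.NonsingularInverse

/-!
# Locally free modules are free near finite sets of an affine open
-/

universe u

open CategoryTheory CategoryTheory.Limits AlgebraicGeometry Opposite TopologicalSpace

namespace Groth.Ega2Proj

open Groth.PicAux Groth.LocFree

section Algebra

variable {R M : Type*} [CommRing R] [AddCommGroup M] [Module R M]

open Matrix in
/-- Change of family by a square matrix. -/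
lemma isBasisAway_of_matrix {r : R} {n : ℕ} {m m' : Fin n → M} (h : IsBasisAway r m) (k : ℕ)
    (c : Matrix (Fin n) (Fin n) R) (hc : ∀ i, r ^ k • m' i = ∑ j, c i j • m j) :
    IsBasisAway (r * c.det) m' := by
  constructor
  · intro e he
    have h0 : ∑ j, (e ᵥ* c) j • m j = 0 := by
      simp only [Matrix.vecMul, dotProduct, Finset.sum_smul]
      rw [Finset.sum_comm]
      simp only [mul_smul, ← Finset.smul_sum, ← hc]
      simp_rw [smul_comm (e _) (r ^ k), ← Finset.smul_sum, he, smul_zero]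
    obtain ⟨l, hl⟩ := h.1 _ h0
    have h1 : r ^ l • e ᵥ* (c * c.adjugate) = 0 := by
      rw [← Matrix.vecMul_vecMul, ← Matrix.smul_vecMul,
        show r ^ l • (e ᵥ* c) = 0 from funext hl, Matrix.zero_vecMul]
    rw [Matrix.mul_adjugate, Matrix.vecMul_smul, Matrix.vecMul_one] at h1
    refine ⟨l + 1, fun i => ?_⟩
    have h2 := congrFun h1 i
    simp only [Pi.smul_apply, smul_eq_mul, Pi.zero_apply] at h2
    linear_combination (r * c.det ^ l) * h2
  · intro x
    obtain ⟨l, d, hd⟩ := h.2 x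
    have hdet : ∀ j, c.det • m j = ∑ i, (r ^ k * c.adjugate j i) • m' i := by
      intro j
      calc c.det • m j = ∑ p, (c.adjugate * c) j p • m p := by
            rw [Matrix.adjugate_mul, Finset.sum_eq_single j]
            · simp
            · exact fun p _ hp => by simp [Ne.symm hp]
            · simp
        _ = ∑ i, (r ^ k * c.adjugate j i) • m' i := by
            simp only [Matrix.mul_apply, Finset.sum_smul]
            rw [Finset.sum_comm]
            refine Finset.sum_congr rfl fun i _ => ?_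
            simp only [mul_smul, ← Finset.smul_sum, ← hc]
            rw [smul_comm]
    refine ⟨l + 1, fun i => ∑ j, (r * c.det ^ l * d j) * (r ^ k * c.adjugate j i), ?_⟩
    calc (r * c.det) ^ (l + 1) • x = (r * c.det ^ l * c.det) • (r ^ l • x) := by
          rw [smul_smul]; congr 1; ring
      _ = ∑ j, (r * c.det ^ l * d j) • (c.det • m j) := by
          rw [hd, Finset.smul_sum]
          refine Finset.sum_congr rfl fun j _ => ?_
          rw [smul_smul, smul_smul]; congr 1; ring
      _ = _ := by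
          simp only [hdet, Finset.smul_sum, smul_smul, Finset.sum_smul]
          exact Finset.sum_comm

/-- Gluing bases at finitely many incomparable primes. -/
theorem exists_isBasisAway_at_finset {n : ℕ} (Q : Finset (Ideal R)) (hQ : ∀ q ∈ Q, q.IsPrime)
    (g : Ideal R → R) (t : Ideal R → Fin n → M)
    (hg : ∀ q ∈ Q, g q ∉ q ∧ IsBasisAway (g q) (t q))
    (hinc : ∀ q ∈ Q, ∀ p ∈ Q, p ≤ q → p = q) :
    ∃ m : Fin n → M, ∀ q ∈ Q, ∃ s ∉ q, IsBasisAway s m := by
  classical
  have ha : ∀ q ∈ Q, ∃ a, a ∉ q ∧ ∀ p ∈ Q, p ≠ q → a ∈ p := by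
    intro q hq
    have hnle : ¬ (Q.erase q).inf id ≤ q := fun hle => by
      obtain ⟨p, hp, hpq⟩ := (hQ q hq).inf_le'.mp hle
      exact (Finset.mem_erase.mp hp).1 (hinc q hq p (Finset.mem_erase.mp hp).2 hpq)
    obtain ⟨a, ha, haq⟩ := Set.not_subset.mp hnle
    exact ⟨a, haq, fun p hp hne => (Finset.inf_le (Finset.mem_erase.mpr ⟨hne, hp⟩) :
      (Q.erase q).inf id ≤ p) ha⟩
  choose! a haq hap using ha
  refine ⟨fun i => ∑ p ∈ Q, a p • t p i, fun q hq => ?_⟩
  choose k d hd using fun pi : Ideal R × Fin n => (hg q hq).2.2 (t pi.1 pi.2)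
  let K := ∑ p ∈ Q, ∑ i : Fin n, k (p, i)
  have hK : ∀ p ∈ Q, ∀ i, k (p, i) ≤ K := fun p hp i =>
    le_trans (Finset.single_le_sum (f := fun i => k (p, i)) (fun _ _ => Nat.zero_le _)
      (Finset.mem_univ i))
      (Finset.single_le_sum (f := fun p => ∑ i : Fin n, k (p, i)) (fun _ _ => Nat.zero_le _) hp)
  let c : Matrix (Fin n) (Fin n) R := fun i j => (if i = j then a q * g q ^ K else 0) +
    ∑ p ∈ Q.erase q, a p * (g q ^ (K - k (p, i)) * d (p, i) j)
  have := hQ q hq
  refine ⟨g q * c.det, fun h => ?_, isBasisAway_of_matrix (hg q hq).2 K c fun i => ?_⟩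
  · rcases (hQ q hq).mem_or_mem h with h | h
    · exact (hg q hq).1 h
    · rw [← Ideal.Quotient.eq_zero_iff_mem, RingHom.map_det] at h
      have hm : (Ideal.Quotient.mk q).mapMatrix c =
          (Ideal.Quotient.mk q (a q * g q ^ K)) • (1 : Matrix (Fin n) (Fin n) (R ⧸ q)) := by
        ext i j
        change Ideal.Quotient.mk q (c i j) = _
        simp only [c, map_add, map_sum, map_mul]
        rw [Finset.sum_eq_zero fun p hp => by
          rw [Ideal.Quotient.eq_zero_iff_mem.mpr
            (hap p (Finset.mem_erase.mp hp).2 q hq (Finset.mem_erase.mp hp).1.symm), zero_mul],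
          add_zero]
        by_cases hij : i = j <;> simp [hij]
      rw [hm, Matrix.det_smul, Matrix.det_one, mul_one, ← map_pow,
        Ideal.Quotient.eq_zero_iff_mem] at h
      rcases (hQ q hq).mem_or_mem ((hQ q hq).mem_of_pow_mem _ h) with h | h
      · exact haq q hq h
      · exact (hg q hq).1 ((hQ q hq).mem_of_pow_mem _ h)
  · rw [← Finset.add_sum_erase Q _ hq, smul_add, Finset.smul_sum]
    simp only [c, add_smul, Finset.sum_add_distrib, Finset.sum_smul, ite_smul, zero_smul,
      Finset.sum_ite_eq, Finset.mem_univ, if_true]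
    congr 1
    · rw [smul_smul, mul_comm]
    · rw [Finset.sum_comm]
      refine Finset.sum_congr rfl fun p hp => ?_
      rw [smul_comm]
      simp only [mul_smul, ← Finset.smul_sum, ← hd]
      rw [← mul_smul (g q ^ (K - k (p, i))), ← pow_add,
        Nat.sub_add_cancel (hK p (Finset.mem_erase.mp hp).2 i)]

end Algebra

/-- A locally free module is free near a finite subset of an affine open. -/
theorem exists_basis_near_finite {Y : Scheme.{u}} {r : ℕ} {E : Y.Modules}
    (hE : FlatMod.IsFinLocFreeOfRank r E) {Z : Set Y} (hZ : Z.Finite) {V : Y.Opens}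
    (hV : IsAffineOpen V) (hZV : Z ⊆ V) :
    ∃ (U : Y.Opens) (s : Fin r → Γ(E, U)), Z ⊆ U ∧ U ≤ V ∧ Basis' E U s := by
  classical
  have := KTheory.LocFree.isQCoh (isFinLocFree_of_rank hE)
  let P : V → Ideal Γ(Y, V) := fun z => (hV.primeIdealOf z).asIdeal
  let Zs : Set V := {z | z.1 ∈ Z}
  have hZs : Zs.Finite := hZ.preimage Subtype.val_injective.injOn
  let Q₀ : Finset (Ideal Γ(Y, V)) := hZs.toFinset.image P
  let Q : Finset (Ideal Γ(Y, V)) := Q₀.filter fun q => ∀ p ∈ Q₀, q ≤ p → p = q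
  have hloc : ∀ q ∈ Q, ∃ (g : Γ(Y, V)) (t : Fin r → Γ(E, V)), g ∉ q ∧ IsBasisAway g t := by
    intro q hq
    obtain ⟨z, -, rfl⟩ := Finset.mem_image.mp (Finset.mem_filter.mp hq).1
    obtain ⟨W, s, hzW, hs⟩ := isFinLocFreeOfRank_iff.1 hE z.1
    obtain ⟨g, hzg, hgW⟩ := Groth.QCohMod.exists_basicOpen_mem hV z.2 hzW
    obtain ⟨t, ht⟩ := exists_isBasisAway_of_basis' hV g (hs.res' hgW)
    exact ⟨g, t, (Groth.QCohMod.mem_basicOpen_iff_notMem_primeIdealOf hV g z.1 z.2).1 hzg, ht⟩
  choose! g t hgt using hloc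
  obtain ⟨m, hm⟩ := exists_isBasisAway_at_finset Q (fun q hq => by
      obtain ⟨z, -, rfl⟩ := Finset.mem_image.mp (Finset.mem_filter.mp hq).1
      exact (hV.primeIdealOf z).isPrime) g t hgt
    (fun q hq p hp hpq => ((Finset.mem_filter.mp hp).2 q (Finset.mem_filter.mp hq).1 hpq).symm)
  choose! s hsq hs using hm
  let U : Y.Opens := ⨆ q : Q, Y.basicOpen (s q)
  have hUV : U ≤ V := iSup_le fun q => Y.basicOpen_le _
  refine ⟨U, fun i => res E hUV (m i), fun z hz => ?_, hUV,
    KTheory.LocFree.basis'_of_local _ fun W hW x hx => ?_⟩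
  · have hz' : P ⟨z, hZV hz⟩ ∈ Q₀ :=
      Finset.mem_image.mpr ⟨⟨z, hZV hz⟩, hZs.mem_toFinset.mpr hz, rfl⟩
    obtain ⟨q, hzq, hqmax⟩ := Q₀.exists_le_maximal hz'
    have hqQ : q ∈ Q :=
      Finset.mem_filter.mpr ⟨hqmax.1, fun p hp h => le_antisymm (hqmax.2 hp h) h⟩
    exact Opens.mem_iSup.mpr ⟨⟨q, hqQ⟩,
      (Groth.QCohMod.mem_basicOpen_iff_notMem_primeIdealOf hV _ z (hZV hz)).2
        fun h => hsq q hqQ (hzq h)⟩
  · obtain ⟨q, hxq⟩ := Opens.mem_iSup.mp (hW hx)
    refine ⟨W ⊓ Y.basicOpen (s q.1), inf_le_left, inf_le_left.trans hW, ⟨hx, hxq⟩, ?_⟩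
    simpa [res_res] using basis'_of_isBasisAway hV (s q.1) (hs q.1 q.2)
      (W ⊓ Y.basicOpen (s q.1)) inf_le_right

end Groth.Ega2Proj
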