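import Mathlib.LinearAlgebra.Charpoly.BaseChange
import Mathlib.LinearAlgebra.Eigenspace.Charpoly
import Mathlib.LinearAlgebra.Eigenspace.Minpoly
import Mathlib.RingTheory.Polynomial.IsIntegral
import Mathlib.FieldTheory.IsAlgClosed.AlgebraicClosure
import Mathlib.RingTheory.Localization.FractionRing
import Mathlib.RingTheory.Localization.BaseChange

/-!
# Integrality of the characteristic polynomial of an endomorphism of a finite module
-/

universe u

open Polynomial TensorProduct

namespace Groth.Ega2Proj

variable {A : Type*} [CommRing A] {K : Type*} [Field K] [Algebra A K]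

/-- If a monic polynomial over `A` annihilates an endomorphism of a finite-dimensional `K`-space then the
coefficients of its characteristic polynomial are integral over `A`. -/
theorem isIntegral_charpoly_coeff_of_annihilated {V : Type*} [AddCommGroup V] [Module K V]
    [Module.Finite K V] (f : Module.End K V) (p : A[X]) (hp : p.Monic)
    (h : aeval f (p.map (algebraMap A K)) = 0) (i : ℕ) : IsIntegral A (f.charpoly.coeff i) := by
  let L := AlgebraicClosure K
  let g : Module.End L (L ⊗[K] V) := f.baseChange L
  have hg : g.charpoly = f.charpoly.map (algebraMap K L) := LinearMap.charpoly_baseChange f L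
  have h0 : aeval g (p.map (algebraMap A L)) = 0 := by
    rw [IsScalarTower.algebraMap_eq A K L, ← Polynomial.map_map, aeval_map_algebraMap]
    have := aeval_algHom_apply (Module.End.baseChangeHom K L V) f (p.map (algebraMap A K))
    rw [h, map_zero] at this
    exact this
  have hroots : ∀ x : L, g.charpoly.IsRoot x → IsIntegral A x := by
    intro x hx
    rw [← Module.End.hasEigenvalue_iff_isRoot_charpoly] at hx
    obtain ⟨v, hv⟩ := hx.exists_hasEigenvector
    have hv0 := Module.End.aeval_apply_of_hasEigenvector (p := p.map (algebraMap A L)) hv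
    rw [h0, LinearMap.zero_apply] at hv0
    rcases smul_eq_zero.mp hv0.symm with h' | h'
    · exact ⟨p, hp, by rw [← eval_map]; exact h'⟩
    · exact absurd h' hv.2
  have hint := Polynomial.isIntegral_coeff_of_factors (R := A) g.charpoly
    (by rw [(g.charpoly_monic).leadingCoeff]; exact isIntegral_one) (IsAlgClosed.splits _) hroots i
  rw [hg, coeff_map] at hint
  exact (isIntegral_algebraMap_iff (FaithfulSMul.algebraMap_injective K L)).mp hint

variable {E : Type*} [AddCommGroup E] [Module A E]

theorem aeval_baseChange_eq (u : Module.End A E) (p : A[X]) :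
    aeval (u.baseChange K) (p.map (algebraMap A K)) = (aeval u p).baseChange K := by
  rw [aeval_map_algebraMap]
  exact aeval_algHom_apply (Module.End.baseChangeHom A K E) u p

variable [Module.Finite A E]

theorem isIntegral_charpoly_baseChange_coeff (u : Module.End A E) (i : ℕ) :
    IsIntegral A ((u.baseChange K).charpoly.coeff i) := by
  obtain ⟨p, hp, hpu⟩ := LinearMap.exists_monic_and_aeval_eq_zero A u
  refine isIntegral_charpoly_coeff_of_annihilated _ p hp ?_ i
  rw [aeval_baseChange_eq, hpu, LinearMap.baseChange_zero]

variable [IsDomain A] [IsFractionRing A K]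

theorem isUnit_of_det_eq_algebraMap (u : Module.End A E) (a : A)
    (ha : algebraMap A K a = LinearMap.det (u.baseChange K)) (hu : Function.Bijective u) : IsUnit a := by
  obtain ⟨v, hv⟩ := ((Module.End.isUnit_iff u).mpr hu).exists_right_inv
  have hdet : algebraMap A K a * LinearMap.det (v.baseChange K) = 1 := by
    rw [ha, ← map_mul]
    have := congrArg (fun w : Module.End A E => LinearMap.det (w.baseChange K)) hv
    simp only [LinearMap.baseChange_mul, LinearMap.baseChange_one, map_one] at this
    exact this
  have hint : IsIntegral A (LinearMap.det (v.baseChange K)) := by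
    rw [LinearMap.det_eq_sign_charpoly_coeff]
    exact ((isIntegral_one.neg).pow _).mul (isIntegral_charpoly_baseChange_coeff v 0)
  haveI : Algebra.IsIntegral A (integralClosure A K) := integralClosure.AlgebraIsIntegral
  haveI : FaithfulSMul A (integralClosure A K) :=
    (faithfulSMul_iff_algebraMap_injective _ _).mpr fun x y h =>
      IsFractionRing.injective A K (congrArg Subtype.val h)
  haveI : IsLocalHom (algebraMap A (integralClosure A K)) := Algebra.IsIntegral.isLocalHom A _
  have hu' : IsUnit (algebraMap A (integralClosure A K) a) :=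
    IsUnit.of_mul_eq_one ⟨_, hint⟩ (Subtype.ext hdet)
  exact hu'.of_map

theorem bijective_of_isUnit_det [Module.IsTorsionFree A E] (u : Module.End A E)
    (hcoeff : ∀ i : ℕ, ((u.baseChange K).charpoly).coeff i ∈ (algebraMap A K).range)
    (a : A) (ha : algebraMap A K a = LinearMap.det (u.baseChange K)) (hunit : IsUnit a) :
    Function.Bijective u := by
  obtain ⟨q, hq, -, -⟩ := lifts_and_natDegree_eq_and_monic (f := algebraMap A K)
    (((u.baseChange K).charpoly).lifts_iff_coeff_lifts.mpr hcoeff) (LinearMap.charpoly_monic _)
  have hqu : aeval u q = 0 := by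
    ext e
    have h1 := LinearMap.aeval_self_charpoly (u.baseChange K)
    rw [← hq, aeval_baseChange_eq] at h1
    have h2 : (TensorProduct.mk A K E 1) (aeval u q e) = 0 := by
      have := LinearMap.congr_fun h1 ((1 : K) ⊗ₜ e)
      simpa using this
    obtain ⟨c, hc⟩ := (IsLocalizedModule.eq_zero_iff (nonZeroDivisors A) (TensorProduct.mk A K E 1)).mp h2
    exact (smul_eq_zero.mp hc).resolve_left (nonZeroDivisors.ne_zero c.2)
  have hc0 : IsUnit (q.coeff 0) := by
    have h3 : algebraMap A K (q.coeff 0) = (u.baseChange K).charpoly.coeff 0 := by rw [← hq, coeff_map]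
    rw [LinearMap.det_eq_sign_charpoly_coeff, ← h3] at ha
    rw [← neg_one_mul (1 : K), mul_one, ← map_one (algebraMap A K), ← map_neg, ← map_pow, ← map_mul] at ha
    rw [IsFractionRing.injective A K ha] at hunit
    exact isUnit_of_mul_isUnit_right hunit
  rw [← Module.End.isUnit_iff]
  have hsum : aeval u (q.divX) * u + algebraMap A (Module.End A E) (q.coeff 0) = 0 := by
    have h4 := congrArg (aeval u) q.divX_mul_X_add
    simp only [map_add, map_mul, aeval_X, aeval_C, hqu] at h4
    exact h4
  have h5 : IsUnit (aeval u q.divX * u) := by
    rw [eq_neg_of_add_eq_zero_left hsum]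
    exact (hc0.map (algebraMap A (Module.End A E))).neg
  have hcomm : Commute (aeval u q.divX) u := by
    have := (Commute.all q.divX X).map (aeval u)
    rwa [aeval_X] at this
  exact (hcomm.isUnit_mul_iff.mp h5).2

end Groth.Ega2Proj
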