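/-
Some positive twist on the relative Proj of a graded algebra of finite type is invertible and relatively ample.
-/
import Groth.Agent.Ega2Proj.RelProjAmple

set_option autoImplicit false

universe u

open CategoryTheory CategoryTheory.Limits AlgebraicGeometry Opposite TopologicalSpace
open scoped HomogeneousIdeal

set_option backward.isDefEq.respectTransparency.types false

noncomputable section

namespace Groth.Ega2Proj.RelProjFT

open Groth.PicAux Groth.RelTw Groth.PropsBasic.Ample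

section graded

variable {R A σ : Type u} [CommRing R] [CommRing A] [SetLike σ A] [AddSubgroupClass σ A] {𝒜 : ℕ → σ}
  [GradedRing 𝒜]

/-- Homogeneous generators of the irrelevant ideal. -/
theorem exists_irrelevant_generators (φ : R →+* A) (hφ : φ.FiniteType) (h0 : ∀ r, φ r ∈ 𝒜 0) :
    ∃ H : Finset A, (∀ h ∈ H, ∃ n, 0 < n ∧ h ∈ 𝒜 n) ∧ (𝒜₊).toIdeal ≤ Ideal.span (H : Set A) := by
  classical
  let _alg := φ.toAlgebra
  obtain ⟨G, hG⟩ := (hφ : Algebra.FiniteType R A).out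
  let H : Finset A := G.biUnion fun g =>
    ((DirectSum.decompose 𝒜 g).support.filter fun n => 0 < n).image fun n => (DirectSum.decompose 𝒜 g n : A)
  refine ⟨H, fun h hh => ?_, ?_⟩
  · obtain ⟨g, -, hg⟩ := Finset.mem_biUnion.1 hh
    obtain ⟨n, hn, rfl⟩ := Finset.mem_image.1 hg
    exact ⟨n, (Finset.mem_filter.1 hn).2, SetLike.coe_mem _⟩
  let I := Ideal.span (H : Set A)
  let π := (GradedRing.projZeroRingHom 𝒜)
  let q := Ideal.Quotient.mk I
  have key : ∀ a : A, q (π a) = q a := by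
    intro a
    have ha : a ∈ Algebra.adjoin R (G : Set A) := hG.symm ▸ Algebra.mem_top
    induction ha using Algebra.adjoin_induction with
    | algebraMap r => exact congrArg q (DirectSum.decompose_of_mem_same 𝒜 (h0 r))
    | add x y _ _ hx hy => simp only [map_add, hx, hy]
    | mul x y _ _ hx hy => simp only [map_mul, hx, hy]
    | mem g hg =>
      refine (Ideal.Quotient.mk_eq_mk_iff_sub_mem _ _).2 ?_
      rw [← neg_sub, neg_mem_iff]
      nth_rw 1 [← DirectSum.sum_support_decompose 𝒜 g]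
      have hsum : ∀ n ∈ (DirectSum.decompose 𝒜 g).support, n ≠ 0 → (DirectSum.decompose 𝒜 g n : A) ∈ I :=
        fun n hn hn0 => Ideal.subset_span (Finset.mem_biUnion.2 ⟨g, hg,
          Finset.mem_image.2 ⟨n, Finset.mem_filter.2 ⟨hn, Nat.pos_of_ne_zero hn0⟩, rfl⟩⟩)
      by_cases h : 0 ∈ (DirectSum.decompose 𝒜 g).support
      · rw [← Finset.sum_erase_add _ _ h]
        have : π g = (DirectSum.decompose 𝒜 g 0 : A) := rfl
        rw [this, add_sub_cancel_right]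
        exact I.sum_mem fun n hn => hsum n (Finset.mem_of_mem_erase hn) (Finset.ne_of_mem_erase hn)
      · have : π g = 0 := by
          change (DirectSum.decompose 𝒜 g 0 : A) = 0
          rw [DFinsupp.notMem_support_iff.1 h, ZeroMemClass.coe_zero]
        rw [this, sub_zero]
        exact I.sum_mem fun n hn => hsum n hn fun e => h (e ▸ hn)
  intro a ha
  have h : π a = 0 := ha
  have := key a
  rw [h, map_zero] at this
  exact Ideal.Quotient.eq_zero_iff_mem.1 this.symm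

/-- The global section of `O(d)` given by an element of degree `d`. -/
def secD {d : ℕ} {f : A} (hf : f ∈ 𝒜 d) : Γ(GrTwist.twist 𝒜 (d : ℤ), ⊤) :=
  frac hf (SetLike.one_mem_graded 𝒜) (by simp) ⊤ (fun x _ => GrAmple.one_notMem x)

theorem gen_res_secD {d : ℕ} {f : A} (hf : f ∈ 𝒜 d) :
    Gen (GrTwist.twist 𝒜 (d : ℤ)) (Proj.basicOpen 𝒜 f) (res _ le_top (secD hf)) :=
  gen_frac hf (SetLike.one_mem_graded 𝒜) (by simp) _ (fun x _ => GrAmple.one_notMem x) fun _ hx => hx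

theorem gval_secD {d : ℕ} {f : A} (hf : f ∈ 𝒜 d) (x : ProjectiveSpectrum 𝒜) (hx : x ∈ (⊤ : (Proj 𝒜).Opens)) :
    gval (secD hf) x hx = algebraMap A (GrTwist.Loc 𝒜 x) f :=
  (Localization.mk_one_eq_algebraMap f)

variable {d : ℕ} (hcov : ∀ x : ProjectiveSpectrum 𝒜, ∃ g ∈ 𝒜 d, g ∉ x.asHomogeneousIdeal)

include hcov in
theorem gloc_secD {f : A} (hf : f ∈ 𝒜 d) : gloc (secD hf) = Proj.basicOpen 𝒜 f := by
  refine le_antisymm (fun x hx => ?_) (le_gloc (gen_res_secD hf))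
  obtain ⟨g, hg, hgx⟩ := hcov x
  let V : (Proj 𝒜).Opens := gloc (secD hf) ⊓ Proj.basicOpen 𝒜 g
  have hxV : x ∈ V := ⟨hx, hgx⟩
  obtain ⟨c, hc⟩ := (gen_gloc (secD hf) le_rfl).exists_coeff (V := V) inf_le_left
    (res _ le_top (secD hg))
  have h1 := congrArg (fun s => gval s x hxV) hc
  simp only [gval_smul, gval_res, gval_secD] at h1
  change f ∉ x.asHomogeneousIdeal
  have : x.asHomogeneousIdeal.toIdeal.IsPrime := x.isPrime
  have hu : IsUnit (algebraMap A (GrTwist.Loc 𝒜 x) g) :=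
    (IsLocalization.AtPrime.isUnit_to_map_iff _ x.asHomogeneousIdeal.toIdeal g).mpr hgx
  rw [h1] at hu
  exact (IsLocalization.AtPrime.isUnit_to_map_iff _ x.asHomogeneousIdeal.toIdeal f).mp
    (isUnit_of_mul_isUnit_right hu)

include hcov in
theorem isInvertible_twist : PicF.IsInvertible (GrTwist.twist 𝒜 (d : ℤ)) := by
  rw [isInvertible_iff_exists_gen]
  intro x
  obtain ⟨g, hg, hgx⟩ := hcov x
  exact ⟨_, _, hgx, gen_res_secD hg⟩

/-- `O(d)` is ample when the `D₊(h)`, for finitely many `h` of degree `d`, cover. -/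
theorem isAmple_twist (hd : 0 < d) (s : Finset A) (hs1 : ∀ f ∈ s, f ∈ 𝒜 d)
    (hs : ∀ x : ProjectiveSpectrum 𝒜, ∃ g ∈ s, g ∉ x.asHomogeneousIdeal) :
    CohB1.IsAmple (GrTwist.twist 𝒜 (d : ℤ)) := by
  have hc : ∀ x : ProjectiveSpectrum 𝒜, ∃ g ∈ 𝒜 d, g ∉ x.asHomogeneousIdeal := fun x =>
    let ⟨g, hg, hgx⟩ := hs x
    ⟨g, hs1 g hg, hgx⟩
  have hinv := isInvertible_twist hc
  have hcov' : ⨆ f : s, Proj.basicOpen 𝒜 (f : A) = ⊤ := top_le_iff.1 fun x _ =>
    let ⟨g, hg, hgx⟩ := hs x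
    Opens.mem_iSup.2 ⟨⟨g, hg⟩, hgx⟩
  refine ⟨hinv, ⟨?_⟩, fun x => ?_⟩
  · rw [← Opens.coe_top, ← hcov', Opens.coe_iSup]
    exact isCompact_iUnion fun f =>
      (Proj.isAffineOpen_basicOpen 𝒜 (f : A) (hs1 _ f.2) hd).isCompact
  · obtain ⟨f, hfs, hxf⟩ := hs x
    refine ⟨0, homOfSection (powSec (secD (hs1 _ hfs)) 1), ?_⟩
    have : CohB1.genLocus _ (homOfSection (powSec (secD (hs1 _ hfs)) 1)) = Proj.basicOpen 𝒜 f :=
      (gloc_powSec hinv _ one_pos).trans (gloc_secD hc _)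
    rw [this]
    exact ⟨hxf, Proj.isAffineOpen_basicOpen 𝒜 f (hs1 _ hfs) hd⟩

end graded

variable {Y X : Scheme.{u}} {𝒮 : RelProj.QCGrAlg Y} {f : X ⟶ Y}
  {chart : ∀ (U : Y.Opens) (hU : IsAffineOpen U), ((f ⁻¹ᵁ U : X.Opens) : Scheme.{u}) ≅ Proj (𝒮.deg U hU)}

/-- Some positive twist is invertible and ample. -/
theorem exists_twist_relAmple [CompactSpace Y] [QuasiCompact f]
    (hft : ∀ (U : Y.Opens) (_ : IsAffineOpen U), (𝒮.str.app (op U)).hom.FiniteType) :
    ∃ d : ℕ, 0 < d ∧ ∀ (L : X.Modules)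
      (lam : ∀ (U : Y.Opens) (hU : IsAffineOpen U),
        L ⟶ (Scheme.Modules.pushforward (RelProj.emb f chart U hU)).obj (GrTwist.twist (𝒮.deg U hU) (d : ℤ))),
      RelProj.IsRelTwist 𝒮 f chart (d : ℤ) L lam → PicF.IsInvertible L ∧ RelAmple.IsRelAmple f L := by
  classical
  obtain ⟨c, hc⟩ := isCompact_univ.elim_finite_subcover (fun V : Y.affineOpens => (V.1 : Set Y))
    (fun V => V.1.2) (fun x _ => Set.mem_iUnion.2
      (by
        obtain ⟨_, ⟨V, hV, rfl⟩, hx, -⟩ :=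
          Y.isBasis_affineOpens.exists_subset_of_mem_open (Set.mem_univ x) isOpen_univ
        exact ⟨⟨V, hV⟩, hx⟩))
  choose H hH hHspan using fun V : Y.affineOpens =>
    exists_irrelevant_generators (𝒜 := 𝒮.deg V.1 V.2) (𝒮.str.app (op V.1)).hom (hft V.1 V.2) (𝒮.str_mem V.1 V.2)
  choose dg hdg hmem using hH
  let d := ∏ V ∈ c, ∏ h ∈ (H V).attach, dg V h.1 h.2
  have hd : 0 < d := Finset.prod_pos fun V _ => Finset.prod_pos fun h _ => hdg _ _ _
  refine ⟨d, hd, fun L lam hL => ?_⟩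
  have hcovd : ∀ V ∈ c, ∃ s : Finset (𝒮.presheaf.obj (op V.1)), (∀ g ∈ s, g ∈ 𝒮.deg V.1 V.2 d) ∧
      ∀ x : ProjectiveSpectrum (𝒮.deg V.1 V.2), ∃ g ∈ s, g ∉ x.asHomogeneousIdeal := by
    intro V hV
    refine ⟨(H V).attach.image (fun h => h.1 ^ (d / dg V h.1 h.2)), fun g hg => ?_, fun x => ?_⟩
    · obtain ⟨h, -, rfl⟩ := Finset.mem_image.1 hg
      have hdvd : dg V h.1 h.2 ∣ d :=
        (Finset.dvd_prod_of_mem (fun h : (H V) => dg V h.1 h.2) (Finset.mem_attach _ h)).trans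
          (Finset.dvd_prod_of_mem (fun V => ∏ h ∈ (H V).attach, dg V h.1 h.2) hV)
      have := SetLike.pow_mem_graded (A := 𝒮.deg V.1 V.2) (d / dg V h.1 h.2) (hmem V h.1 h.2)
      rwa [smul_eq_mul, Nat.div_mul_cancel hdvd] at this
    · by_contra hx
      push Not at hx
      refine x.not_irrelevant_le ((hHspan V).trans (Ideal.span_le.2 fun h hh => ?_))
      exact x.isPrime.mem_of_pow_mem _ (hx _ (Finset.mem_image.2 ⟨⟨h, hh⟩, Finset.mem_attach _ _, rfl⟩))
  have hlocal : ∀ z : X, ∃ (V : Y.affineOpens), V ∈ c ∧ f z ∈ V.1 := fun z => by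
    obtain ⟨V, hV, hzV⟩ := Set.mem_iUnion₂.1 (hc (Set.mem_univ (f z)))
    exact ⟨V, hV, hzV⟩
  have hamp : RelAmple.IsRelAmple f L := by
    refine isRelAmple_of_local f fun z => ?_
    obtain ⟨⟨U, hU⟩, hV, hzU⟩ := hlocal z
    obtain ⟨s, hs1, hs⟩ := hcovd _ hV
    obtain ⟨φ⟩ := Groth.RelTw.nonempty_restrict_iso (RelProj.emb f chart U hU) (lam U hU)
      (fun W => hL.bijective U hU _ (Groth.RelTw.image_le U hU W))
    refine ⟨U, Proj (𝒮.deg U hU), RelProj.emb f chart U hU, inferInstance, hzU, fun x hx => ?_,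
      isAmple_of_iso φ.symm (isAmple_twist hd s hs1 hs)⟩
    exact (Groth.RelTw.opensRange_emb (chart := chart) U hU).ge hx
  exact ⟨isInvertible_of_isRelAmple hamp, hamp⟩

end Groth.Ega2Proj.RelProjFT

namespace Groth.Ega2Proj.RelProjFT

theorem quasiCompact_of_finiteType {Y X : Scheme.{u}} {𝒮 : RelProj.QCGrAlg Y} {f : X ⟶ Y}
    (chart : ∀ (U : Y.Opens) (hU : IsAffineOpen U), ((f ⁻¹ᵁ U : X.Opens) : Scheme.{u}) ≅ Proj (𝒮.deg U hU))
    (hft : ∀ (U : Y.Opens) (_ : IsAffineOpen U), (𝒮.str.app (op U)).hom.FiniteType) : QuasiCompact f := by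
  classical
  refine quasiCompact_iff_forall_isAffineOpen.2 fun U hU => ?_
  obtain ⟨H, hH, hspan⟩ := exists_irrelevant_generators (𝒜 := 𝒮.deg U hU) (𝒮.str.app (op U)).hom
    (hft U hU) (𝒮.str_mem U hU)
  choose n hn hmem using hH
  have hcov : ⨆ h : H, Proj.basicOpen (𝒮.deg U hU) (h : 𝒮.presheaf.obj (op U)) = ⊤ :=
    Proj.iSup_basicOpen_eq_top (𝒮.deg U hU) (fun h : H => (h : 𝒮.presheaf.obj (op U)))
      (hspan.trans (Ideal.span_mono fun x hx => ⟨⟨x, hx⟩, rfl⟩))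
  have : CompactSpace (Proj (𝒮.deg U hU)) := ⟨by
    rw [← Opens.coe_top, ← hcov, Opens.coe_iSup]
    exact isCompact_iUnion fun h => (Proj.isAffineOpen_basicOpen _ _ (hmem _ h.2) (hn _ h.2)).isCompact⟩
  exact isCompact_iff_compactSpace.2 (chart U hU).hom.homeomorph.symm.compactSpace

end Groth.Ega2Proj.RelProjFT
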