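/-
Quasi-coherent modules on a scheme affine over `S` as modules over the direct-image algebra.
-/
import Groth.Prelude.Def_RelSpec2
import Groth.Agent.LocFree.ExtPullback
import Groth.Agent.LocFree.AffineHom
import Groth.Agent.OmegaSheaf.ConormalTrans
import Groth.Agent.SymAlg.Univ

set_option autoImplicit false
universe u
open CategoryTheory AlgebraicGeometry Opposite TopologicalSpace

noncomputable section

namespace Groth.Ega2Proj.DirImg

open Groth.PicAux (res res_res res_self res_smul res_add app_res resX res_glue res_ext)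

variable {X : Scheme.{u}}

/-- Restriction of sections of a quasi-coherent module between affines generates linearly. -/
theorem res_induction (M : X.Modules) [M.IsQuasicoherent] {U W : X.Opens} (hU : IsAffineOpen U)
    (hW : IsAffineOpen W) (h : W ≤ U) {P : Γ(M, W) → Prop} (x : Γ(M, W)) (h0 : P 0)
    (hres : ∀ a, P (res M h a)) (hsmul : ∀ (r : Γ(X, W)) y, P y → P (r • y)) (hadd : ∀ y z, P y → P z → P (y + z)) :
    P x := by
  let e := (Scheme.Modules.pullbackId X).app M
  have hinv : ∀ z, (e.hom.app W) ((e.inv.app W) z) = z := fun z => by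
    rw [← CategoryTheory.comp_apply, ← Scheme.Modules.Hom.comp_app, e.inv_hom_id]; rfl
  suffices H : ∀ y, P (e.hom.app W y) by simpa only [hinv] using H (e.inv.app W x)
  intro y
  have h' : W ≤ (𝟙 X : X ⟶ X) ⁻¹ᵁ U := h
  letI := Groth.QCohMod.sectionsAlg (𝟙 X) h'
  letI : Module Γ(X, U) Γ((Scheme.Modules.pullback (𝟙 X)).obj M, W) :=
    Module.compHom _ ((𝟙 X : X ⟶ X).appLE U W h').hom
  haveI : IsScalarTower Γ(X, U) Γ(X, W) Γ((Scheme.Modules.pullback (𝟙 X)).obj M, W) :=
    IsScalarTower.of_algebraMap_smul fun _ _ => rfl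
  induction y using (Groth.LocFree.isBaseChange_pullSecₗ (𝟙 X) M h' hU hW).inductionOn with
  | zero => rw [map_zero]; exact h0
  | tmul a =>
    have e1 : e.hom.app W (Groth.LocFree.pullSecₗ (𝟙 X) M h' a) = res M h a := by
      show e.hom.app W (res _ h' (Groth.PicAux.pullSec (𝟙 X) M a)) = _
      rw [app_res]
      exact congrArg (res M h) (Groth.OmegaSheaf.pullbackId_hom_pullSect M U a)
    rw [e1]; exact hres a
  | smul r y hy => rw [Scheme.Modules.Hom.app_smul]; exact hsmul r _ hy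
  | add y z hy hz => rw [map_add]; exact hadd _ _ hy hz

/-- Sections of a quasi-coherent module over a smaller affine open are the base change. -/
theorem exists_linearMap (M : X.Modules) [M.IsQuasicoherent] (N : X.Modules) {U W : X.Opens}
    (hU : IsAffineOpen U) (hW : IsAffineOpen W) (h : W ≤ U) (w : Γ(M, U) →+ Γ(N, U))
    (hw : ∀ (r : Γ(X, U)) a, w (r • a) = r • w a) :
    ∃ φ : Γ(M, W) →ₗ[Γ(X, W)] Γ(N, W), ∀ a, φ (res M h a) = res N h (w a) := by
  let e := (Scheme.Modules.pullbackId X).app M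
  have h' : W ≤ (𝟙 X : X ⟶ X) ⁻¹ᵁ U := h
  letI := Groth.QCohMod.sectionsAlg (𝟙 X) h'
  letI : Module Γ(X, U) Γ((Scheme.Modules.pullback (𝟙 X)).obj M, W) :=
    Module.compHom _ ((𝟙 X : X ⟶ X).appLE U W h').hom
  haveI : IsScalarTower Γ(X, U) Γ(X, W) Γ((Scheme.Modules.pullback (𝟙 X)).obj M, W) :=
    IsScalarTower.of_algebraMap_smul fun _ _ => rfl
  letI : Module Γ(X, U) Γ(N, W) := Module.compHom _ ((𝟙 X : X ⟶ X).appLE U W h').hom
  haveI : IsScalarTower Γ(X, U) Γ(X, W) Γ(N, W) := IsScalarTower.of_algebraMap_smul fun _ _ => rfl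
  let f : Γ(M, U) →ₗ[Γ(X, U)] Γ(N, W) :=
    { toFun := fun a => res N h (w a)
      map_add' := fun a b => by rw [map_add, res_add]
      map_smul' := fun r a => by
        rw [hw, res_smul]
        show _ = (𝟙 X : X ⟶ X).appLE U W h' r • (res N h (w a))
        congr 1 }
  have hb := Groth.LocFree.isBaseChange_pullSecₗ (𝟙 X) M h' hU hW
  let einv : Γ(M, W) →ₗ[Γ(X, W)] Γ((Scheme.Modules.pullback (𝟙 X)).obj M, W) :=
    { toFun := fun z => e.inv.app W z
      map_add' := fun a b => map_add _ a b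
      map_smul' := fun r a => e.inv.app_smul r a }
  refine ⟨(hb.lift f).comp einv, fun a => ?_⟩
  have e1 : einv (res M h a) = Groth.LocFree.pullSecₗ (𝟙 X) M h' a := by
    show e.inv.app W (res M h a) = res _ h' (Groth.PicAux.pullSec (𝟙 X) M a)
    exact (app_res e.inv h a).trans (congrArg (res _ h) (Groth.OmegaSheaf.pullbackId_inv_app M U a))
  rw [LinearMap.comp_apply, e1]
  exact LinearMap.congr_fun (hb.lift_comp f) a

/-- A morphism of modules from compatible maps of sections over a basis of affine opens closed under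
affine subsets. -/
theorem exists_hom_of_basis {L M : X.Modules} (P : X.Opens → Prop)
    (hP : ∀ (x : X) (V : X.Opens), x ∈ V → ∃ W, P W ∧ x ∈ W ∧ W ≤ V)
    (f : ∀ U : X.Opens, P U → (Γ(L, U) →ₗ[Γ(X, U)] Γ(M, U)))
    (hf : ∀ U V (hU : P U) (hV : P V) (h : V ≤ U) x, res M h (f U hU x) = f V hV (res L h x)) :
    ∃ φ : L ⟶ M, ∀ U (hU : P U) x, φ.app U x = f U hU x := by
  have hcov : ∀ V : X.Opens, V ≤ ⨆ W : {W : {W // P W} // W.1 ≤ V}, W.1.1 := fun V z hz => by
    obtain ⟨W, hW, hzW, hWV⟩ := hP z V hz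
    exact Opens.mem_iSup.2 ⟨⟨⟨W, hW⟩, hWV⟩, hzW⟩
  have key : ∀ (V : X.Opens) (x : Γ(L, V)), ∃! y : Γ(M, V), ∀ W : {W : {W // P W} // W.1 ≤ V},
      res M W.2 y = f W.1.1 W.1.2 (res L W.2 x) := by
    intro V x
    refine res_glue (fun W : {W : {W // P W} // W.1 ≤ V} => W.1.1) (fun W => W.2) (hcov V) _
      fun a b => ?_
    refine res_ext (fun T : {T : {W // P W} // T.1 ≤ a.1.1 ⊓ b.1.1} => T.1.1) (fun T => T.2)
      (hcov _) fun T => ?_
    rw [res_res, res_res, hf _ _ a.1.2 T.1.2 (T.2.trans inf_le_left),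
      hf _ _ b.1.2 T.1.2 (T.2.trans inf_le_right), res_res, res_res]
  choose y hy huniq using key
  obtain ⟨φ, hφ⟩ := Groth.PicAux.exists_hom_of_cover (U := fun _ : PUnit.{u + 1} => (⊤ : X.Opens)) (L := L)
    (M := M) (by simp) (fun _ V _ x => y V x)
    (fun _ V _ a b => (huniq V _ _ fun W => by
      rw [res_add, res_add, map_add, hy V a W, hy V b W]).symm)
    (fun _ V _ r a => (huniq V _ _ fun W => by
      rw [res_smul, res_smul, map_smul, hy V a W]).symm)
    (fun _ V W _ h a => huniq W _ _ fun T => by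
      rw [res_res, res_res]
      exact hy V a ⟨T.1, T.2.trans h⟩)
    (fun _ _ _ _ _ _ => rfl)
  refine ⟨φ, fun V hV x => ?_⟩
  rw [hφ ⟨⟩ V le_top x]
  have := hy V x ⟨⟨V, hV⟩, le_rfl⟩
  rwa [res_self, res_self] at this

variable {S : Scheme.{u}} (f : X ⟶ S)

/-- Small affine opens: those inside the preimage of an affine open of the base. -/
def Small (W : X.Opens) : Prop := IsAffineOpen W ∧ ∃ U : S.Opens, IsAffineOpen U ∧ W ≤ f ⁻¹ᵁ U

theorem exists_small (x : X) (V : X.Opens) (hx : x ∈ V) : ∃ W, Small f W ∧ x ∈ W ∧ W ≤ V := by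
  obtain ⟨U, hU, hxU, -⟩ := exists_isAffineOpen_mem_and_subset (U := (⊤ : S.Opens)) (x := f.base x) trivial
  obtain ⟨W, hW, hxW, hWV⟩ := exists_isAffineOpen_mem_and_subset (U := V ⊓ f ⁻¹ᵁ U) (x := x) ⟨hx, hxU⟩
  exact ⟨W, ⟨hW, U, hU, fun y hy => (hWV hy).2⟩, hxW, fun y hy => (hWV hy).1⟩

variable [IsAffineHom f] (F G : X.Modules)

/-- A morphism is determined by its sections over preimages of affine opens. -/
theorem hom_ext_preimage [F.IsQuasicoherent] {a b : F ⟶ G}
    (h : ∀ U : S.Opens, IsAffineOpen U → ∀ x, a.app (f ⁻¹ᵁ U) x = b.app (f ⁻¹ᵁ U) x) : a = b := by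
  refine Scheme.Modules.hom_ext _ _ fun V => AddCommGrpCat.ext fun x => ?_
  refine Groth.CohTwo.eq_of_local G _ _ fun z hz => ?_
  obtain ⟨W, ⟨hW, U, hU, hWU⟩, hzW, hWV⟩ := exists_small f z V hz
  refine ⟨W, hWV, hzW, ((Groth.QCohMod.res_app a hWV x).trans ?_).trans (Groth.QCohMod.res_app b hWV x).symm⟩
  generalize Groth.QCohMod.res F hWV x = y
  induction y using res_induction F (hU.preimage f) hW hWU with
  | h0 => rw [map_zero, map_zero]
  | hres c => rw [app_res, app_res, h U hU]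
  | hsmul r y hy => rw [Scheme.Modules.Hom.app_smul, Scheme.Modules.Hom.app_smul, hy]
  | hadd y z hy hz => rw [map_add, map_add, hy, hz]

/-- A compatible family of linear maps over preimages of affine opens comes from a morphism. -/
theorem exists_hom_of_preimage [F.IsQuasicoherent]
    (w : ∀ U : S.Opens, IsAffineOpen U → (Γ(F, f ⁻¹ᵁ U) →+ Γ(G, f ⁻¹ᵁ U)))
    (hw : ∀ U hU (r : Γ(X, f ⁻¹ᵁ U)) x, w U hU (r • x) = r • w U hU x)
    (hres : ∀ U V (hU : IsAffineOpen U) (hV : IsAffineOpen V) (h : V ≤ U) x,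
      res G (f.preimage_mono h) (w U hU x) = w V hV (res F (f.preimage_mono h) x)) :
    ∃ φ : F ⟶ G, ∀ U (hU : IsAffineOpen U) x, φ.app (f ⁻¹ᵁ U) x = w U hU x := by
  -- compatibility of the lifts
  have key : ∀ {U U' : S.Opens} (hU : IsAffineOpen U) (hU' : IsAffineOpen U') {W T : X.Opens}
      (hW : IsAffineOpen W) (hT : IsAffineOpen T) (hWU : W ≤ f ⁻¹ᵁ U) (hTU : T ≤ f ⁻¹ᵁ U') (hTW : T ≤ W)
      (φ : Γ(F, W) →ₗ[Γ(X, W)] Γ(G, W)) (_ : ∀ a, φ (res F hWU a) = res G hWU (w U hU a))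
      (ψ : Γ(F, T) →ₗ[Γ(X, T)] Γ(G, T)) (_ : ∀ a, ψ (res F hTU a) = res G hTU (w U' hU' a))
      (x : Γ(F, W)), res G hTW (φ x) = ψ (res F hTW x) := by
    intro U U' hU hU' W T hW hT hWU hTU hTW φ hφ ψ hψ x
    induction x using res_induction F (hU.preimage f) hW hWU with
    | h0 => simp [res]
    | hsmul r y hy => rw [map_smul, res_smul, res_smul, map_smul, hy]
    | hadd y z hy hz => rw [map_add, res_add, res_add, map_add, hy, hz]
    | hres a =>
      rw [hφ, res_res, res_res]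
      refine Groth.PicAux.res_ext (fun Q : {Q : {Q : X.Opens // IsAffineOpen Q ∧ ∃ U'' : S.Opens,
          IsAffineOpen U'' ∧ U'' ≤ U ⊓ U' ∧ Q ≤ f ⁻¹ᵁ U''} // Q.1 ≤ T} => Q.1.1) (fun Q => Q.2) ?_ ?_
      · intro z hz
        obtain ⟨U'', hU'', hzU'', hle⟩ := exists_isAffineOpen_mem_and_subset (U := U ⊓ U') (x := f.base z)
          ⟨hWU (hTW hz), hTU hz⟩
        obtain ⟨Q, hQ, hzQ, hQle⟩ := exists_isAffineOpen_mem_and_subset (U := T ⊓ f ⁻¹ᵁ U'') (x := z) ⟨hz, hzU''⟩
        exact Opens.mem_iSup.2 ⟨⟨⟨Q, hQ, U'', hU'', hle, fun y hy => (hQle hy).2⟩, fun y hy => (hQle hy).1⟩, hzQ⟩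
      · rintro ⟨⟨Q, hQ, U'', hU'', hle, hQU''⟩, hQT⟩
        obtain ⟨χ, hχ⟩ := exists_linearMap F G (hU''.preimage f) hQ hQU'' (w U'' hU'') (hw U'' hU'')
        have ea : res G (hQT.trans (hTW.trans hWU)) (w U hU a) =
            χ (res F (hQT.trans (hTW.trans hWU)) a) := by
          have h1 := hres U U'' hU hU'' (hle.trans inf_le_left) a
          have h2 := hχ (res F (f.preimage_mono (hle.trans inf_le_left)) a)
          rw [res_res] at h2
          rw [h2, ← h1, res_res]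
        have eb : ∀ y : Γ(F, T), res G hQT (ψ y) = χ (res F hQT y) := fun y => by
          induction y using res_induction F (hU'.preimage f) hT hTU with
          | h0 => simp [res]
          | hsmul r y hy => rw [map_smul, res_smul, res_smul, map_smul, hy]
          | hadd y z hy hz => rw [map_add, res_add, res_add, map_add, hy, hz]
          | hres c =>
            have h1 := hres U' U'' hU' hU'' (hle.trans inf_le_right) c
            have h2 := hχ (res F (f.preimage_mono (hle.trans inf_le_right)) c)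
            rw [res_res] at h2
            rw [hψ, res_res, res_res, h2, ← h1, res_res]
        rw [res_res, eb, res_res, ea]
  let φ0 : ∀ W : X.Opens, Small f W → (Γ(F, W) →ₗ[Γ(X, W)] Γ(G, W)) := fun W hW =>
    (exists_linearMap F G (hW.2.choose_spec.1.preimage f) hW.1 hW.2.choose_spec.2
      (w _ hW.2.choose_spec.1) (hw _ hW.2.choose_spec.1)).choose
  have hφ0 : ∀ W (hW : Small f W) a, φ0 W hW (res F hW.2.choose_spec.2 a) =
      res G hW.2.choose_spec.2 (w _ hW.2.choose_spec.1 a) := fun W hW =>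
    (exists_linearMap F G (hW.2.choose_spec.1.preimage f) hW.1 hW.2.choose_spec.2
      (w _ hW.2.choose_spec.1) (hw _ hW.2.choose_spec.1)).choose_spec
  obtain ⟨φ, hφ⟩ := exists_hom_of_basis (Small f) (exists_small f) φ0 fun W T hW hT h x =>
    key hW.2.choose_spec.1 hT.2.choose_spec.1 hW.1 hT.1 hW.2.choose_spec.2 hT.2.choose_spec.2 h
      _ (hφ0 W hW) _ (hφ0 T hT) x
  refine ⟨φ, fun U hU x => ?_⟩
  have hs : Small f (f ⁻¹ᵁ U) := ⟨hU.preimage f, U, hU, le_rfl⟩
  rw [hφ _ hs]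
  let wl : Γ(F, f ⁻¹ᵁ U) →ₗ[Γ(X, f ⁻¹ᵁ U)] Γ(G, f ⁻¹ᵁ U) := { w U hU with map_smul' := hw U hU }
  have := key hs.2.choose_spec.1 hU hs.1 hs.1 hs.2.choose_spec.2 le_rfl le_rfl _ (hφ0 _ hs) wl
    (fun a => by rw [res_self, res_self]; rfl) x
  rwa [res_self, res_self] at this

end Groth.Ega2Proj.DirImg
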