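/-
A quasi-affine morphism of finite type is an immersion followed by an affine morphism of finite type.
-/
import Groth.Prelude.Def_Mor2
import Groth.Agent.LocImm.FiniteFactor
import Groth.Agent.Limits.RelSpecColimit
import Groth.Agent.Ega2Proj.QProjEmb
import Groth.Agent.Ega2Proj.QuasiAffineAmple
import Groth.Agent.Chow.AffineImm
import Groth.Agent.PropsBasic.QuasiAffineSection

set_option autoImplicit false

universe u

open CategoryTheory CategoryTheory.Limits AlgebraicGeometry Opposite TopologicalSpace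

set_option backward.isDefEq.respectTransparency.types false

noncomputable section

namespace Groth.Ega2Proj.QAff

open Groth.QCohMod Groth.Ega2P2

variable {X Y : Scheme.{u}} (f : X ⟶ Y) [QuasiCompact f] [QuasiSeparated f]

/-- Finitely many sections of the direct image lie in a subalgebra of finite type. -/
theorem exists_ft_subalgebra [CompactSpace Y] [QuasiSeparatedSpace Y] {ι : Type*} [Finite ι]
    (U : ι → Y.Opens) (hU : ∀ i, IsAffineOpen (U i)) (T : ∀ i, Set Γ(X, f ⁻¹ᵁ U i))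
    (hT : ∀ i, (T i).Finite) :
    ∃ (A : RelSpec.QCAlg Y) (φ : A ⟶ RelSpec.QCAlg.directImage f),
      (∀ W : Y.Opens, IsAffineOpen W → (A.str.app (op W)).hom.FiniteType) ∧
      ∀ i, T i ⊆ Set.range (φ.hom.app (op (U i))).hom := by
  classical
  set B := RelSpec.QCAlg.directImage f
  have := isQCoh_toModule B
  obtain ⟨t, ht⟩ := isCompact_univ.elim_finite_subcover (fun V : Y.affineOpens => (V.1 : Set Y))
    (fun V => V.1.2) (by
      intro x _
      obtain ⟨_, ⟨V, hV, rfl⟩, hx, -⟩ :=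
        Y.isBasis_affineOpens.exists_subset_of_mem_open (Set.mem_univ x) isOpen_univ
      exact Set.mem_iUnion.2 ⟨⟨V, hV⟩, hx⟩)
  let e := t.equivFin
  let V : Fin t.card → Y.Opens := fun l => (e.symm l).1.1
  have hV : ∀ l, IsAffineOpen (V l) := fun l => (e.symm l).1.2
  have hcov : ⨆ l, V l = ⊤ := eq_top_iff.2 fun x _ => by
    obtain ⟨W, hW, hxW⟩ := Set.mem_iUnion₂.1 (ht (Set.mem_univ x))
    exact TopologicalSpace.Opens.mem_iSup.2 ⟨e ⟨W, hW⟩, by simpa [V] using hxW⟩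
  have hVV : ∀ (W : Y.Opens), IsCompact (W : Set Y) → ∀ l, IsCompact ((V l : Set Y) ∩ W) :=
    fun W hW l => QuasiSeparatedSpace.inter_isCompact _ _ (V l).2 (hV l).isCompact W.2 hW
  have hW : ∀ l, IsCompact ((V l : Set Y) ∩ ⋃ m ∈ Set.Iio l, (V m : Set Y)) := fun l => by
    rw [Set.inter_iUnion₂]
    exact (Set.toFinite _).isCompact_biUnion fun m _ => hVV (V m) (hV m).isCompact l
  choose E j hj hE hTE using fun i => exists_finiteType_containing B V hV hcov hW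
    (hU i) (hVV _ (hU i).isCompact) (T i) (hT i)
  obtain ⟨E₀, j₀, hj₀, hE₀, -⟩ := exists_finiteType_containing B V hV hcov hW
    (isAffineOpen_bot Y) (hVV _ (isAffineOpen_bot Y).isCompact) ∅ Set.finite_empty
  have := Fintype.ofFinite ι
  obtain ⟨G, k, hk, hG, ha⟩ := exists_finiteType_containing_family Finset.univ E j hE E₀ j₀ hE₀
  have := hG.1
  refine ⟨locGenAlg B k, locGenHom B k, fun W hW => finiteType_locGen B k hG.2 ⟨W, hW⟩, fun i s hs => ?_⟩
  obtain ⟨e', he'⟩ := hTE i s hs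
  obtain ⟨a, hal⟩ := ha i (Finset.mem_univ i)
  refine ⟨⟨s, gen_le_locGen B k _ ?_⟩, rfl⟩
  rw [← he', ← hal]
  exact app_mem_gen B k (a.app _ e')

/-- The spectrum of an algebra of finite type is of finite type. -/
theorem locallyOfFiniteType_π (A : RelSpec.QCAlg Y)
    (h : ∀ W : Y.Opens, IsAffineOpen W → (A.str.app (op W)).hom.FiniteType) : LocallyOfFiniteType A.π := by
  refine IsZariskiLocalAtSource.of_openCover A.glueData.cover fun U => ?_
  change LocallyOfFiniteType (A.ι U.1 U.2 ≫ A.π)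
  rw [A.ι_π U.1 U.2]
  have : LocallyOfFiniteType (Spec.map (A.str.app (op U.1))) :=
    (HasRingHomProperty.Spec_iff (P := @LocallyOfFiniteType)).mpr (h U.1 U.2)
  exact MorphismProperty.comp_mem _ _ _ this inferInstance

variable {f} in
/-- The lift of a map of algebras on functions over an affine open. -/
theorem lift_appLE {A : RelSpec.QCAlg Y} {φ : A ⟶ RelSpec.QCAlg.directImage f} {v : X ⟶ A.spec}
    (hv : Groth.Limits.RelSpecColimit.IsLift f φ v) {U : Y.Opens} (hU : IsAffineOpen U)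
    (e : f ⁻¹ᵁ U ≤ v ⁻¹ᵁ (A.π ⁻¹ᵁ U)) (b : Γ(A.spec, A.π ⁻¹ᵁ U)) :
    v.appLE (A.π ⁻¹ᵁ U) (f ⁻¹ᵁ U) e b = φ.hom.app (op U) (A.gammaAff U hU b) := by
  let D := f ⁻¹ᵁ U
  let l : D.toScheme ⟶ Spec (A.presheaf.obj (op U)) := D.toSpecΓ ≫ Spec.map (φ.hom.app (op U))
  have h1 : D.ι ≫ v = l ≫ A.ι U hU := (hv U hU).trans (Category.assoc _ _ _).symm
  have h2 : v.appLE (A.π ⁻¹ᵁ U) D e ≫ D.topIso.inv =
      A.gammaAff U hU ≫ φ.hom.app (op U) ≫ D.topIso.inv := by
    have hl : (Scheme.ΓSpecIso (A.presheaf.obj (op U))).inv ≫ l.appTop =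
        φ.hom.app (op U) ≫ D.topIso.inv := by
      rw [Scheme.Hom.comp_appTop, ← Scheme.ΓSpecIso_inv_naturality_assoc, Scheme.Opens.toSpecΓ_appTop,
        Iso.inv_hom_id_assoc]
      rfl
    rw [← hl, RelSpec.QCAlg.gammaAff, Category.assoc, Iso.hom_inv_id_assoc,
      show D.topIso.inv = D.ι.appLE D ⊤ D.ι_preimage_self.ge from ?_, Scheme.Hom.appLE_comp_appLE,
      show l.appTop = l.appLE ⊤ ⊤ (le_refl _) from Scheme.Hom.app_eq_appLE _, Scheme.Hom.appLE_comp_appLE]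
    · congr 1
    · simp [Scheme.Hom.appLE, Scheme.Opens.topIso, Scheme.Opens.ι_app]
      exact (X.presheaf.map_comp _ _).symm.trans rfl |>.symm
  have h3 : v.appLE (A.π ⁻¹ᵁ U) D e = A.gammaAff U hU ≫ φ.hom.app (op U) :=
    (cancel_mono D.topIso.inv).1 (h2.trans (Category.assoc _ _ _).symm)
  exact congr(($h3).hom b)

/-- The sections of the charts. -/
theorem exists_data (hqa : ∀ V : Y.Opens, IsAffineOpen V → Scheme.IsQuasiAffine (f ⁻¹ᵁ V : Scheme.{u}))
    [LocallyOfFiniteType f] {V : Y.Opens} (hV : IsAffineOpen V) :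
    ∃ S : Finset Γ(X, f ⁻¹ᵁ V), (∀ s ∈ S, IsAffineOpen (X.basicOpen s)) ∧
      (∀ x, f x ∈ V → ∃ s ∈ S, x ∈ X.basicOpen s) ∧
      ∃ T : Finset Γ(X, f ⁻¹ᵁ V), S ⊆ T ∧ ∀ s ∈ S,
        Subring.closure (Set.range (f.appLE V (X.basicOpen s) (X.basicOpen_le s)) ∪
          {c | ∃ t ∈ T, ∃ n : ℕ, c * (X.presheaf.map (homOfLE (X.basicOpen_le s)).op s) ^ n =
            X.presheaf.map (homOfLE (X.basicOpen_le s)).op t}) = ⊤ := by
  classical
  let D : X.Opens := f ⁻¹ᵁ V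
  have := hqa V hV
  have hDc : IsCompact (D : Set X) := QuasiCompact.isCompact_preimage _ V.2 hV.isCompact
  have hDq : IsQuasiSeparated (D : Set X) := f.isQuasiSeparated_preimage hV.isQuasiSeparated
  have h : ∀ x : D, ∃ s : Γ(X, D), IsAffineOpen (X.basicOpen s) ∧ x.1 ∈ X.basicOpen s := by
    intro x
    obtain ⟨g, hg, hx, -⟩ := Groth.PropsBasic.Ample.exists_affine_basicOpen_of_finite
      (X := (D : Scheme.{u})) (⊤ : (D : Scheme.{u}).Opens) {x} (fun _ _ => trivial)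
    obtain ⟨s, rfl⟩ := (ConcreteCategory.bijective_of_isIso D.topIso.inv).2 g
    refine ⟨s, ?_, ?_⟩
    · rw [← Scheme.Opens.ι_image_basicOpen_topIso_inv]
      exact hg.image_of_isOpenImmersion _
    · rw [← Scheme.Opens.ι_image_basicOpen_topIso_inv]
      exact ⟨x, hx x (Finset.mem_singleton_self x), rfl⟩
  choose s hsa hxs using h
  obtain ⟨F, hF⟩ := hDc.elim_finite_subcover (fun x : D => (X.basicOpen (s x) : Set X))
    (fun x => (X.basicOpen (s x)).2) (fun x hx => Set.mem_iUnion.2 ⟨⟨x, hx⟩, hxs _⟩)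
  refine ⟨F.image s, fun t ht => ?_, fun x hx => ?_, ?_⟩
  · obtain ⟨z, -, rfl⟩ := Finset.mem_image.1 ht
    exact hsa z
  · obtain ⟨z, hz, hxz⟩ := Set.mem_iUnion₂.1 (hF hx)
    exact ⟨s z, Finset.mem_image_of_mem s hz, hxz⟩
  have hgen : ∀ z : D, ∃ T : Finset Γ(X, D),
      Subring.closure (Set.range (f.appLE V (X.basicOpen (s z)) (X.basicOpen_le _)) ∪
        {c | ∃ t ∈ T, ∃ n : ℕ, c * (X.presheaf.map (homOfLE (X.basicOpen_le (s z))).op (s z)) ^ n =
          X.presheaf.map (homOfLE (X.basicOpen_le (s z))).op t}) = ⊤ := by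
    intro z
    have hft := HasRingHomProperty.appLE @LocallyOfFiniteType f inferInstance ⟨V, hV⟩ ⟨_, hsa z⟩
      (X.basicOpen_le (s z))
    let _alg := (f.appLE V (X.basicOpen (s z)) (X.basicOpen_le (s z))).hom.toAlgebra
    obtain ⟨G, hG⟩ := (hft : Algebra.FiniteType Γ(Y, V) Γ(X, X.basicOpen (s z))).out
    let _alg2 : Algebra Γ(X, D) Γ(X, X.basicOpen (s z)) :=
      (X.presheaf.map (homOfLE (X.basicOpen_le (s z))).op).hom.toAlgebra
    have : IsLocalization.Away (s z) Γ(X, X.basicOpen (s z)) := isLocalization_basicOpen_of_qcqs hDc hDq (s z)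
    choose n a ha using fun c : Γ(X, X.basicOpen (s z)) => IsLocalization.Away.surj (s z) c
    refine ⟨G.image a, top_le_iff.1 fun c _ => ?_⟩
    have hc : c ∈ Algebra.adjoin Γ(Y, V) (↑G : Set Γ(X, X.basicOpen (s z))) := hG.symm ▸ Algebra.mem_top
    replace hc : c ∈ Subring.closure (Set.range (f.appLE V (X.basicOpen (s z)) (X.basicOpen_le _)) ∪
        (↑G : Set Γ(X, X.basicOpen (s z)))) := (Algebra.mem_adjoin_iff).1 hc
    refine Subring.closure_mono (Set.union_subset_union le_rfl fun g hg => ?_) hc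
    exact ⟨a g, Finset.mem_image_of_mem a hg, n g, ha g⟩
  choose T hT using hgen
  refine ⟨F.image s ∪ F.biUnion T, Finset.subset_union_left, fun t ht => ?_⟩
  obtain ⟨z, hz, rfl⟩ := Finset.mem_image.1 ht
  refine top_le_iff.1 ((hT z).ge.trans (Subring.closure_mono (Set.union_subset_union le_rfl ?_)))
  rintro c ⟨t, ht, n, e⟩
  exact ⟨t, Finset.mem_union_right _ (Finset.mem_biUnion.2 ⟨z, hz, ht⟩), n, e⟩

theorem appLE_congr_hom {g g' : X ⟶ Y} (h : g = g') {U : Y.Opens} {V : X.Opens} (e : V ≤ g ⁻¹ᵁ U)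
    (e' : V ≤ g' ⁻¹ᵁ U) : g.appLE U V e = g'.appLE U V e' := by
  subst h
  rfl

/-- The factorisation. -/
theorem exists_factor [CompactSpace Y] [QuasiSeparatedSpace Y] [LocallyOfFiniteType f]
    (hqa : ∀ V : Y.Opens, IsAffineOpen V → Scheme.IsQuasiAffine (f ⁻¹ᵁ V : Scheme.{u})) :
    ∃ (X'' : Scheme.{u}) (g : X'' ⟶ Y) (j : X ⟶ X''),
      IsAffineHom g ∧ LocallyOfFiniteType g ∧ IsImmersion j ∧ j ≫ g = f := by
  classical
  obtain ⟨c, hc⟩ := isCompact_univ.elim_finite_subcover (fun V : Y.affineOpens => (V.1 : Set Y))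
    (fun V => V.1.2) (fun x _ => Set.mem_iUnion.2
      (by
        obtain ⟨_, ⟨V, hV, rfl⟩, hx, -⟩ :=
          Y.isBasis_affineOpens.exists_subset_of_mem_open (Set.mem_univ x) isOpen_univ
        exact ⟨⟨V, hV⟩, hx⟩))
  let U : c → Y.Opens := fun i => i.1.1
  have hU : ∀ i, IsAffineOpen (U i) := fun i => i.1.2
  choose S hSa hScov T hST hgen using fun i => exists_data f hqa (hU i)
  obtain ⟨A, φ, hAft, hTr⟩ := exists_ft_subalgebra f U hU (fun i => (↑(T i) : Set Γ(X, f ⁻¹ᵁ U i)))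
    fun i => (T i).finite_toSet
  obtain ⟨v, hv⟩ := Groth.Limits.RelSpecColimit.exists_isLift f φ
  have hvπ : v ≫ A.π = f := hv.comp_π
  have hpre : ∀ i, v ⁻¹ᵁ (A.π ⁻¹ᵁ U i) = f ⁻¹ᵁ U i := fun i => by
    rw [← Scheme.Hom.comp_preimage, hvπ]
  have hb : ∀ i, ∀ t ∈ T i, ∃ b : Γ(A.spec, A.π ⁻¹ᵁ U i),
      v.appLE (A.π ⁻¹ᵁ U i) (f ⁻¹ᵁ U i) (hpre i).ge b = t := by
    intro i t ht
    obtain ⟨a, ha⟩ := hTr i ht
    have := isIso_gammaAff A (U i) (hU i)
    obtain ⟨b, rfl⟩ := (ConcreteCategory.bijective_of_isIso (A.gammaAff (U i) (hU i))).2 a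
    exact ⟨b, (lift_appLE hv (hU i) (hpre i).ge b).trans ha⟩
  choose b hb using hb
  have hR : ∀ i, ∀ (s) (hs : s ∈ S i), v ⁻¹ᵁ A.spec.basicOpen (b i s (hST i hs)) = X.basicOpen s := by
    intro i s hs
    have e : X.basicOpen s = X.basicOpen (v.appLE (A.π ⁻¹ᵁ U i) (f ⁻¹ᵁ U i) (hpre i).ge (b i s (hST i hs))) := by
      rw [hb]
    rw [e, Scheme.Hom.appLE, CommRingCat.comp_apply, Scheme.basicOpen_res, ← Scheme.preimage_basicOpen]
    exact (inf_eq_right.2 ((v.preimage_mono (A.spec.basicOpen_le _)).trans (hpre i).le)).symm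
  refine ⟨A.spec, A.π, v, inferInstance, locallyOfFiniteType_π A hAft, ?_, hvπ⟩
  refine Groth.Chow.isImmersion_of_pieces v
    (fun k : (i : c) × S i => A.spec.basicOpen (b k.1 k.2.1 (hST k.1 k.2.2))) (fun x => ?_) ?_
  · obtain ⟨W, hW, hxW⟩ := Set.mem_iUnion₂.1 (hc (Set.mem_univ (f x)))
    obtain ⟨s, hs, hxs⟩ := hScov ⟨W, hW⟩ x hxW
    exact ⟨⟨⟨W, hW⟩, ⟨s, hs⟩⟩, (hR _ s hs).ge hxs⟩
  rintro ⟨i, s, hs⟩
  have hVa : IsAffineOpen (A.π ⁻¹ᵁ U i) := (hU i).preimage A.π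
  refine QEmb.isClosedImmersion_restrict v (hVa.basicOpen _) (hSa i s hs) (hR i s hs) ?_
  let R := A.spec.basicOpen (b i s (hST i hs))
  let ρ := (v.appLE R (X.basicOpen s) (hR i s hs).ge).hom
  let resR := (A.spec.presheaf.map (homOfLE (A.spec.basicOpen_le (b i s (hST i hs)))).op).hom
  have hres : ∀ t (ht : t ∈ T i), ρ (resR (b i t ht)) =
      X.presheaf.map (homOfLE (X.basicOpen_le s)).op t := by
    intro t ht
    refine Eq.trans ?_ (congrArg (X.presheaf.map (homOfLE (X.basicOpen_le s)).op) (hb i t ht))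
    refine (congr(($(v.map_appLE (hR i s hs).ge (homOfLE (A.spec.basicOpen_le _)).op)).hom (b i t ht))).trans ?_
    exact (congr(($(v.appLE_map (hpre i).ge (homOfLE (X.basicOpen_le s)).op)).hom (b i t ht))).symm
  suffices h : ρ.range = ⊤ from RingHom.range_eq_top.1 h
  refine top_le_iff.1 ((hgen i s hs).ge.trans (Subring.closure_le.2 ?_))
  rintro z (⟨r, rfl⟩ | ⟨t, ht, n, e⟩)
  · refine ⟨A.π.appLE (U i) R (A.spec.basicOpen_le _) r, ?_⟩
    change (A.π.appLE (U i) R _ ≫ v.appLE R (X.basicOpen s) _).hom r = _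
    rw [Scheme.Hom.appLE_comp_appLE]
    congr 2
    exact appLE_congr_hom hvπ _ _
  · obtain ⟨u, hu⟩ : IsUnit (resR (b i s (hST i hs))) := RingedSpace.isUnit_res_basicOpen _ _
    refine ⟨resR (b i t ht) * (↑u⁻¹ : Γ(A.spec, R)) ^ n, ?_⟩
    rw [map_mul, map_pow, hres, ← e, ← hres s (hST i hs), ← hu, mul_assoc, ← mul_pow, ← map_mul,
      Units.mul_inv, map_one, one_pow, mul_one]

end Groth.Ega2Proj.QAff
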