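/-
An affine morphism of finite type over a quasi-compact quasi-separated base factors by a closed immersion through
a vector bundle.
-/
import Groth.Agent.Ega2Proj.QAffFactor
import Groth.Agent.SymAlg.Univ

set_option autoImplicit false

universe u

open CategoryTheory CategoryTheory.Limits AlgebraicGeometry Opposite TopologicalSpace

set_option backward.isDefEq.respectTransparency.types false

noncomputable section

namespace Groth.Ega2Proj.AffVB

open Groth.QCohMod Groth.Ega2P2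

variable {X Y : Scheme.{u}} (f : X ⟶ Y)

/-- An affine morphism of finite type factors by a closed immersion through a vector bundle of finite type. -/
theorem exists_closedImmersion_vectorBundle [CompactSpace Y] [QuasiSeparatedSpace Y] [IsAffineHom f]
    [LocallyOfFiniteType f] :
    ∃ (E : Y.Modules) (_ : Coh.IsCoh E) (A : RelSpec.QCAlg Y) (j : E ⟶ A.toModule)
      (_ : RelSpec.IsSymAlg E A j) (i : X ⟶ A.spec), IsClosedImmersion i ∧ i ≫ A.π = f := by
  classical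
  obtain ⟨c, hc⟩ := isCompact_univ.elim_finite_subcover (fun V : Y.affineOpens => (V.1 : Set Y))
    (fun V => V.1.2) (fun x _ => Set.mem_iUnion.2
      (by
        obtain ⟨_, ⟨V, hV, rfl⟩, hx, -⟩ :=
          Y.isBasis_affineOpens.exists_subset_of_mem_open (Set.mem_univ x) isOpen_univ
        exact ⟨⟨V, hV⟩, hx⟩))
  have hgen : ∀ V : Y.affineOpens, ∃ T : Finset Γ(X, f ⁻¹ᵁ V.1),
      Subring.closure (Set.range (f.app V.1) ∪ (T : Set Γ(X, f ⁻¹ᵁ V.1))) = ⊤ := by
    intro V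
    have hft := HasRingHomProperty.appLE @LocallyOfFiniteType f inferInstance V ⟨_, V.2.preimage f⟩
      (le_refl (f ⁻¹ᵁ V.1))
    rw [Scheme.Hom.appLE_eq_app] at hft
    let _alg := (f.app V.1).hom.toAlgebra
    obtain ⟨G, hG⟩ := (hft : Algebra.FiniteType Γ(Y, V.1) Γ(X, f ⁻¹ᵁ V.1)).out
    exact ⟨G, top_le_iff.1 fun z _ =>
      Algebra.mem_adjoin_iff.1 (hG.symm ▸ Algebra.mem_top)⟩
  choose T hT using hgen
  let B := RelSpec.QCAlg.directImage f
  have := isQCoh_toModule B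
  let κ := Σ V : c, T V.1
  obtain ⟨E, k, hEq, hEf, hk⟩ := QEmb.exists_ftSub (F := B.toModule) (fun i : κ => i.1.1.1)
    (fun i => i.1.1.2) (fun i => (show Γ(B.toModule, i.1.1.1) from i.2.1))
  have := hEq
  let A := Groth.SymAlg.symQC E
  let φ : A ⟶ B := Groth.SymAlg.liftAlg B k
  obtain ⟨v, hv⟩ := Groth.Limits.RelSpecColimit.exists_isLift f φ
  have hvπ : v ≫ A.π = f := hv.comp_π
  refine ⟨E, (isCoh_iff E).2 ⟨hEq, hEf⟩, A, Groth.SymAlg.jSym E, Groth.SymAlg.isSymAlg_symQC E, v, ?_, hvπ⟩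
  have hcov : ⨆ V : c, A.π ⁻¹ᵁ V.1.1 = ⊤ := eq_top_iff.2 fun z _ => by
    obtain ⟨W, hW, hz⟩ := Set.mem_iUnion₂.1 (hc (Set.mem_univ (A.π z)))
    exact TopologicalSpace.Opens.mem_iSup.2 ⟨⟨W, hW⟩, hz⟩
  refine IsZariskiLocalAtTarget.of_iSup_eq_top _ hcov fun V => ?_
  have hpre : v ⁻¹ᵁ (A.π ⁻¹ᵁ V.1.1) = f ⁻¹ᵁ V.1.1 := by rw [← Scheme.Hom.comp_preimage, hvπ]
  refine QEmb.isClosedImmersion_restrict v (V.1.2.preimage A.π) (V.1.2.preimage f) hpre ?_
  have hφ : Function.Surjective (φ.hom.app (op V.1.1)).hom := by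
    refine RingHom.range_eq_top.1 (top_le_iff.1 ((hT V.1).ge.trans (Subring.closure_le.2 ?_)))
    rintro z (⟨r, rfl⟩ | hz)
    · exact ⟨A.str.app (op V.1.1) r, congr(($(Groth.Limits.RelSpecColimit.str_app φ V.1.1)).hom r)⟩
    · obtain ⟨e, he⟩ := hk ⟨V, ⟨z, hz⟩⟩
      refine ⟨toB A ((Groth.SymAlg.jSym E).app V.1.1 e), ?_⟩
      change ((Groth.SymAlg.liftPre B k).app (op V.1.1)).hom _ = z
      rw [Groth.SymAlg.liftPre_app B k V.1.2, Groth.SymAlg.secEquiv_jSym, Groth.SymAlg.liftSec_ι]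
      exact he
  intro z
  obtain ⟨a, rfl⟩ := hφ z
  have := isIso_gammaAff A V.1.1 V.1.2
  obtain ⟨b, rfl⟩ := (ConcreteCategory.bijective_of_isIso (A.gammaAff V.1.1 V.1.2)).2 a
  exact ⟨b, QAff.lift_appLE hv V.1.2 hpre.ge b⟩

end Groth.Ega2Proj.AffVB
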