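/-
The inverse image of a quasi-coherent algebra.
-/
import Groth.Agent.Ega2Proj2.RelSpecGamma
import Groth.Prelude.Def_RelProj4
import Mathlib.AlgebraicGeometry.Morphisms.Flat

set_option autoImplicit false

universe u

open CategoryTheory CategoryTheory.Limits AlgebraicGeometry Opposite TopologicalSpace

noncomputable section

namespace Groth.Ega2Proj.AlgBC

variable {S S' : Scheme.{u}} (g : S' ⟶ S) (A : RelSpec.QCAlg S)

instance isAffineHom_snd : IsAffineHom (pullback.snd A.π g) :=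
  MorphismProperty.of_isPullback (P := @IsAffineHom) (IsPullback.of_hasPullback A.π g) inferInstance

/-- The inverse-image algebra. -/
def qc : RelSpec.QCAlg S' := RelSpec.QCAlg.directImage (pullback.snd A.π g)

/-- The sections of an algebra as functions on its spectrum. -/
def gamIso (U : S.Opens) : Γ(A.spec, A.π ⁻¹ᵁ U) ≅ A.presheaf.obj (op U) :=
  haveI := Groth.Ega2P2.isIso_gammaMap A
  (asIso A.gammaMap).app (op U)

theorem gamIso_hom (U : S.Opens) : (gamIso A U).hom = A.gammaMap.app (op U) := rfl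

theorem str_gam (U : S.Opens) : A.π.app U ≫ (gamIso A U).hom = A.str.app (op U) :=
  NatTrans.congr_app A.π_c_gammaMap (op U)

theorem str_gam_inv (U : S.Opens) : A.str.app (op U) ≫ (gamIso A U).inv = A.π.app U := by
  rw [← str_gam, Category.assoc, Iso.hom_inv_id, Category.comp_id]

theorem gam_natural {U V : S.Opens} (i : V ≤ U) :
    A.presheaf.map (homOfLE i).op ≫ (gamIso A V).inv =
      (gamIso A U).inv ≫ A.spec.presheaf.map (homOfLE (A.π.preimage_mono i)).op := by
  rw [Iso.eq_inv_comp, ← Category.assoc, Iso.comp_inv_eq]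
  exact (A.gammaMap.naturality (homOfLE i).op).symm

theorem preimage_le (U : S.Opens) :
    pullback.snd A.π g ⁻¹ᵁ (g ⁻¹ᵁ U) ≤ pullback.fst A.π g ⁻¹ᵁ (A.π ⁻¹ᵁ U) := by
  rw [← Scheme.Hom.comp_preimage, ← Scheme.Hom.comp_preimage, pullback.condition]

/-- The canonical `g`-morphism to the inverse image. -/
def qHom : RelSpec.QHom g A (qc g A) where
  app U := (gamIso A U).inv ≫
    (pullback.fst A.π g).appLE (A.π ⁻¹ᵁ U) (pullback.snd A.π g ⁻¹ᵁ (g ⁻¹ᵁ U)) (preimage_le g A U)
  naturality {U V} i := by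
    have e := congrArg (· ≫ (pullback.fst A.π g).appLE (A.π ⁻¹ᵁ V) (pullback.snd A.π g ⁻¹ᵁ (g ⁻¹ᵁ V))
      (preimage_le g A V)) (gam_natural A i)
    simp only [Category.assoc] at e
    refine Eq.trans ?_ e.symm
    refine (Category.assoc _ _ _).trans (congrArg ((gamIso A U).inv ≫ ·) ?_)
    exact (Scheme.Hom.appLE_map _ _ _).trans (Scheme.Hom.map_appLE _ _ _).symm
  str_app U := by
    have e2 : A.π.app U ≫ (pullback.fst A.π g).appLE (A.π ⁻¹ᵁ U) (pullback.snd A.π g ⁻¹ᵁ (g ⁻¹ᵁ U))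
        (preimage_le g A U) = g.app U ≫ (pullback.snd A.π g).app (g ⁻¹ᵁ U) := by
      simp only [Scheme.Hom.app_eq_appLE, Scheme.Hom.appLE_comp_appLE, pullback.condition]
    exact (Category.assoc _ _ _).symm.trans ((congrArg (· ≫ _) (str_gam_inv A U)).trans e2)

theorem qHom_appLE (U : S.Opens) (U' : S'.Opens) (hle : U' ≤ g ⁻¹ᵁ U) :
    (qHom g A).appLE U U' hle = (gamIso A U).inv ≫
      (pullback.fst A.π g).appLE (A.π ⁻¹ᵁ U) (pullback.snd A.π g ⁻¹ᵁ U')
        (((pullback.snd A.π g).preimage_mono hle).trans (preimage_le g A U)) := by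
  refine (Category.assoc _ _ _).trans ?_
  congr 1
  exact Scheme.Hom.appLE_map _ _ _

theorem isQBaseChange : RelSpec.IsQBaseChange (qHom g A) := by
  intro U hU U' hU' hle
  have H : IsPullback (pullback.fst A.π g) (pullback.snd A.π g) A.π g := IsPullback.of_hasPullback _ _
  let W := pullback.snd A.π g ⁻¹ᵁ U'
  have e1 : W ≤ pullback.fst A.π g ⁻¹ᵁ (A.π ⁻¹ᵁ U) :=
    ((pullback.snd A.π g).preimage_mono hle).trans (preimage_le g A U)
  have hW : W = pullback.fst A.π g ⁻¹ᵁ (A.π ⁻¹ᵁ U) ⊓ pullback.snd A.π g ⁻¹ᵁ U' :=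
    (inf_eq_right.mpr e1).symm
  have h := ((isIso_pushoutSection_iff H hle (le_refl (A.π ⁻¹ᵁ U)) hW).1
    (isIso_pushoutSection_of_isAffineOpen H hle (le_refl _) hW hU hU' (hU.preimage A.π))).flip
  refine h.of_iso (Iso.refl _) (Iso.refl _) (gamIso A U) (Iso.refl _) ?_ ?_ ?_ ?_
  · simp
  · simp only [Iso.refl_hom, Category.id_comp, ← str_gam, Scheme.Hom.app_eq_appLE]
  · refine (Category.comp_id _).trans (Eq.trans ?_ (Category.id_comp _).symm)
    exact (Scheme.Hom.app_eq_appLE _).symm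
  · refine (Category.comp_id _).trans ?_
    rw [qHom_appLE]
    exact (Iso.hom_inv_id_assoc _ _).symm

end Groth.Ega2Proj.AlgBC
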