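/-
Base change of symmetric algebras.
-/
import Groth.Agent.SymAlg.SymLoc
import Groth.Agent.SymAlg.Univ
import Groth.Agent.LocFree.ExtPullback
import Groth.Agent.Ega2Proj2.RelSpecBasic
import Mathlib.RingTheory.IsTensorProduct

set_option autoImplicit false
universe u
open CategoryTheory CategoryTheory.Limits AlgebraicGeometry Opposite TensorProduct

noncomputable section

namespace Groth.Ega2Proj.SymBC

theorem isPushout_of_liftHom {R R' A B : Type u} [CommRing R] [CommRing R'] [CommRing A] [CommRing B]
    [Algebra R R'] {M M' : Type u} [AddCommGroup M] [Module R M] [AddCommGroup M'] [Module R' M']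
    [Module R M'] [IsScalarTower R R' M'] (i : M →ₗ[R] M') (hi : IsBaseChange R' i)
    (s : R →+* A) (s' : R' →+* B) (a : M →+ A) (ha : ∀ r e, a (r • e) = s r * a e)
    (b : M' →+ B) (hb : ∀ r e, b (r • e) = s' r * b e)
    (hA : Function.Bijective (Groth.SymAlg.liftHom s a ha))
    (hB : Function.Bijective (Groth.SymAlg.liftHom s' b hb))
    (u : A →+* B) (hu : ∀ r, u (s r) = s' (algebraMap R R' r)) (hua : ∀ e, u (a e) = b (i e)) :
    IsPushout (CommRingCat.ofHom (algebraMap R R')) (CommRingCat.ofHom s) (CommRingCat.ofHom s')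
      (CommRingCat.ofHom u) := by
  have ext : ∀ {C : CommRingCat.{u}} (f g : CommRingCat.of B ⟶ C),
      (∀ r, f.hom (s' r) = g.hom (s' r)) → (∀ e, f.hom (b (i e)) = g.hom (b (i e))) → f = g := by
    intro C f g h1 h2
    refine CommRingCat.hom_ext (RingHom.ext fun x => ?_)
    obtain ⟨x, rfl⟩ := hB.2 x
    have : f.hom.comp (Groth.SymAlg.liftHom s' b hb) = g.hom.comp (Groth.SymAlg.liftHom s' b hb) := by
      refine Groth.SymAlg.ringHom_ext (fun r => ?_) fun e => ?_
      · simpa using h1 r
      · simp only [RingHom.comp_apply, Groth.SymAlg.liftHom_ι]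
        induction e using hi.inductionOn with
        | zero => simp
        | tmul e => exact h2 e
        | smul r e he => rw [hb, map_mul, map_mul, h1, he]
        | add e e' he he' => rw [map_add, map_add, map_add, he, he']
    exact RingHom.congr_fun this x
  have w : CommRingCat.ofHom (algebraMap R R') ≫ CommRingCat.ofHom s' =
      CommRingCat.ofHom s ≫ CommRingCat.ofHom u := CommRingCat.hom_ext (RingHom.ext fun r => (hu r).symm)
  have key : ∀ c : PushoutCocone (CommRingCat.ofHom (algebraMap R R')) (CommRingCat.ofHom s),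
      ∃ l : CommRingCat.of B ⟶ c.pt, CommRingCat.ofHom s' ≫ l = c.inl ∧ CommRingCat.ofHom u ≫ l = c.inr := by
    intro c
    have hc : ∀ r, c.inl.hom (algebraMap R R' r) = c.inr.hom (s r) := fun r => congr(($c.condition).hom r)
    letI : Algebra R' c.pt := c.inl.hom.toAlgebra
    letI : Algebra R c.pt := (c.inl.hom.comp (algebraMap R R')).toAlgebra
    haveI : IsScalarTower R R' c.pt := IsScalarTower.of_algebraMap_eq fun _ => rfl
    let f : M →ₗ[R] c.pt :=
      { toFun := fun e => c.inr.hom (a e)
        map_add' := fun x y => by rw [map_add, map_add]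
        map_smul' := fun r e => by
          rw [RingHom.id_apply, ha, map_mul, ← hc, Algebra.smul_def]; rfl }
    let L := Groth.SymAlg.liftHom c.inl.hom (hi.lift f).toAddMonoidHom fun r e => by
      show hi.lift f (r • e) = _
      rw [map_smul, Algebra.smul_def]; rfl
    let eB := RingEquiv.ofBijective _ hB
    let l : B →+* c.pt := L.comp eB.symm.toRingHom
    have el : ∀ y, l (Groth.SymAlg.liftHom s' b hb y) = L y := fun y => congrArg L (eB.symm_apply_apply y)
    have l1 : ∀ r, l (s' r) = c.inl.hom r := fun r => by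
      rw [← Groth.SymAlg.liftHom_algebraMap s' b hb r, el]; simp [L]
    have l2 : ∀ e, l (b e) = hi.lift f e := fun e => by
      rw [← Groth.SymAlg.liftHom_ι s' b hb e, el]; simp [L]
    refine ⟨CommRingCat.ofHom l, CommRingCat.hom_ext (RingHom.ext l1), CommRingCat.hom_ext (RingHom.ext ?_)⟩
    intro x
    obtain ⟨x, rfl⟩ := hA.2 x
    have : (l.comp u).comp (Groth.SymAlg.liftHom s a ha) = c.inr.hom.comp (Groth.SymAlg.liftHom s a ha) := by
      refine Groth.SymAlg.ringHom_ext (fun r => ?_) fun e => ?_
      · simp [hu, l1, hc]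
      · simp only [RingHom.comp_apply, Groth.SymAlg.liftHom_ι]
        rw [hua, l2]
        exact LinearMap.congr_fun (hi.lift_comp f) e
    exact RingHom.congr_fun this x
  refine ⟨⟨w⟩, ⟨PushoutCocone.IsColimit.mk _ (fun c => (key c).choose) (fun c => (key c).choose_spec.1)
    (fun c => (key c).choose_spec.2) fun c m h1 h2 => ext _ _ (fun r => ?_) fun e => ?_⟩⟩
  · exact (congr(($h1).hom r)).trans (congr(($((key c).choose_spec.1)).hom r)).symm
  · rw [← hua]
    exact (congr(($h2).hom (a e))).trans (congr(($((key c).choose_spec.2)).hom (a e))).symm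

end Groth.Ega2Proj.SymBC
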