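/-
Base change of projective bundles.
-/
import Groth.Agent.Ega2Proj.SymBC
import Groth.Agent.Ega2Proj2.QMapBaseChange
import Groth.Agent.QCohMod.PullbackSections

set_option autoImplicit false
universe u
open CategoryTheory CategoryTheory.Limits AlgebraicGeometry Opposite TopologicalSpace TensorProduct

set_option backward.isDefEq.respectTransparency.types false

noncomputable section

namespace Groth.Ega2Proj.BundleBC

open Groth.QCohMod (res res_res res_app resFun BSec bres bstr toB bres_bres bres_bstr toB_res toB_smul)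
open Groth.SymAlg (liftHom liftHom_algebraMap liftHom_ι liftSec ringHom_ext bijective_liftSec)

/-- A ring map sending generators to the same degree respects all degrees. -/
theorem map_mem_of_generators {A B : Type u} [CommRing A] [CommRing B] {σ τ : Type*} [SetLike σ A]
    [AddSubgroupClass σ A] [SetLike τ B] [AddSubgroupClass τ B] (𝒜 : ℕ → σ) [GradedRing 𝒜] (ℬ : ℕ → τ)
    [GradedRing ℬ] (f : A →+* B) {G : Set A} (hG : Subring.closure G = ⊤)
    (h : ∀ a ∈ G, ∃ i, a ∈ 𝒜 i ∧ f a ∈ ℬ i) {d : ℕ} {x : A} (hx : x ∈ 𝒜 d) : f x ∈ ℬ d := by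
  classical
  have key : ∀ z : A, ∀ k, f (DirectSum.decompose 𝒜 z k : A) ∈ ℬ k := by
    intro z
    induction (show z ∈ Subring.closure G from hG ▸ Subring.mem_top z) using Subring.closure_induction with
    | mem a ha =>
      intro k
      obtain ⟨i, hi, hfi⟩ := h a ha
      rcases eq_or_ne i k with rfl | hik
      · rwa [DirectSum.decompose_of_mem_same 𝒜 hi]
      · rw [DirectSum.decompose_of_mem_ne 𝒜 hi hik, map_zero]; exact zero_mem _
    | zero => intro k; simp [zero_mem]
    | one =>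
      intro k
      rcases eq_or_ne 0 k with rfl | hk
      · rw [DirectSum.decompose_of_mem_same 𝒜 (SetLike.one_mem_graded 𝒜), map_one]
        exact SetLike.one_mem_graded ℬ
      · rw [DirectSum.decompose_of_mem_ne 𝒜 (SetLike.one_mem_graded 𝒜) hk, map_zero]; exact zero_mem _
    | add a b _ _ ha hb =>
      intro k
      rw [DirectSum.decompose_add, DirectSum.add_apply, AddMemClass.coe_add, map_add]
      exact add_mem (ha k) (hb k)
    | neg a _ ha =>
      intro k
      rw [DirectSum.decompose_neg, DFinsupp.neg_apply, NegMemClass.coe_neg, map_neg]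
      exact neg_mem (ha k)
    | mul a b _ _ ha hb =>
      intro k
      rw [DirectSum.decompose_mul, DirectSum.coe_mul_apply, map_sum]
      refine sum_mem fun c hc => ?_
      rw [map_mul, ← (Finset.mem_filter.1 hc).2]
      exact SetLike.mul_mem_graded (ha c.1) (hb c.2)
  simpa [DirectSum.decompose_of_mem_same 𝒜 hx] using key x d

variable {Y Y' : Scheme.{u}} (ψ : Y' ⟶ Y) {E : Y.Modules} {A : RelSpec.QCAlg Y} (B : RelSpec.QCAlg Y')
  (j' : (Scheme.Modules.pullback ψ).obj E ⟶ B.toModule)

/-- The image of a section of `E`. -/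
def img (U : Y.Opens) : Γ(E, U) →+ BSec B (ψ ⁻¹ᵁ U) :=
  AddMonoidHom.mk' (fun e => toB B (j'.app (ψ ⁻¹ᵁ U)
    (((Scheme.Modules.pullbackPushforwardAdjunction ψ).unit.app E).app U e))) fun a b =>
      (congrArg (fun z => toB B (j'.app (ψ ⁻¹ᵁ U) z))
        (map_add (((Scheme.Modules.pullbackPushforwardAdjunction ψ).unit.app E).app U).hom a b)).trans
        (map_add (j'.app (ψ ⁻¹ᵁ U)).hom _ _)

theorem img_smul (U : Y.Opens) (r : Γ(Y, U)) (e : Γ(E, U)) :
    img ψ B j' U (r • e) = bstr B _ (ψ.app U r) * img ψ B j' U e := by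
  refine Eq.trans ?_ (toB_smul B (ψ.app U r) _)
  refine congrArg (toB B) ?_
  refine (congrArg (j'.app (ψ ⁻¹ᵁ U))
    (((Scheme.Modules.pullbackPushforwardAdjunction ψ).unit.app E).app_smul r e)).trans ?_
  exact j'.app_smul (ψ.app U r) _

theorem img_res {U V : Y.Opens} (h : V ≤ U) (e : Γ(E, U)) :
    bres B (ψ.preimage_mono h) (img ψ B j' U e) = img ψ B j' V (res E h e) := by
  exact congrArg (toB B) ((res_app j' (ψ.preimage_mono h) _).trans
    (congrArg (j'.app (ψ ⁻¹ᵁ V)) (res_app ((Scheme.Modules.pullbackPushforwardAdjunction ψ).unit.app E) h e)))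

/-- The map out of the symmetric algebra of sections. -/
def imgLift (U : Y.Opens) : SymmetricAlgebra Γ(Y, U) Γ(E, U) →+* BSec B (ψ ⁻¹ᵁ U) :=
  liftHom ((bstr B _).comp (ψ.app U).hom) (img ψ B j' U) (img_smul ψ B j' U)

variable [E.IsQuasicoherent] {j : E ⟶ A.toModule} (hA : RelSpec.IsSymAlg E A j)

/-- The map on sections over an affine open. -/
def affMap (U : Y.Opens) (hU : IsAffineOpen U) : BSec A U →+* BSec B (ψ ⁻¹ᵁ U) :=
  (imgLift ψ B j' U).comp (RingEquiv.ofBijective _ (bijective_liftSec hA hU)).symm.toRingHom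

theorem affMap_liftSec {U : Y.Opens} (hU : IsAffineOpen U) (x : SymmetricAlgebra Γ(Y, U) Γ(E, U)) :
    affMap ψ B j' hA U hU (liftSec A j U x) = imgLift ψ B j' U x :=
  congrArg (imgLift ψ B j' U) ((RingEquiv.ofBijective _ (bijective_liftSec hA hU)).symm_apply_apply x)

theorem affMap_str {U : Y.Opens} (hU : IsAffineOpen U) (r : Γ(Y, U)) :
    affMap ψ B j' hA U hU (bstr A U r) = bstr B _ (ψ.app U r) := by
  rw [← Groth.SymAlg.liftSec_algebraMap A j U r, affMap_liftSec, imgLift, liftHom_algebraMap]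
  rfl

theorem affMap_j {U : Y.Opens} (hU : IsAffineOpen U) (e : Γ(E, U)) :
    affMap ψ B j' hA U hU (toB A (j.app U e)) = img ψ B j' U e := by
  rw [← Groth.SymAlg.liftSec_ι A j U e, affMap_liftSec, imgLift, liftHom_ι]

theorem affMap_res {U V : Y.Opens} (hU : IsAffineOpen U) (hV : IsAffineOpen V) (h : V ≤ U) (x : BSec A U) :
    bres B (ψ.preimage_mono h) (affMap ψ B j' hA U hU x) = affMap ψ B j' hA V hV (bres A h x) := by
  obtain ⟨x, rfl⟩ := (bijective_liftSec hA hU).2 x
  have : ((bres B (ψ.preimage_mono h)).comp (affMap ψ B j' hA U hU)).comp (liftSec A j U) =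
      ((affMap ψ B j' hA V hV).comp (bres A h)).comp (liftSec A j U) := by
    refine ringHom_ext (fun r => ?_) fun e => ?_
    · simp only [RingHom.comp_apply, Groth.SymAlg.liftSec_algebraMap]
      rw [affMap_str, bres_bstr, bres_bstr, affMap_str]
      exact congrArg _ (congr(($(ψ.naturality (homOfLE h).op)).hom r)).symm
    · simp only [RingHom.comp_apply, Groth.SymAlg.liftSec_ι]
      rw [affMap_j, img_res, ← toB_res, res_app, affMap_j]
  exact RingHom.congr_fun this x

/-- The map of presheaves. -/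
def pre : A.presheaf ⟶ ψ.base _* B.presheaf :=
  Functor.IsCoverDense.restrictHomEquivHom (G := Scheme.AffineZariskiSite.toOpensFunctor Y)
    (K := Opens.grothendieckTopology Y) (ℱ := A.presheaf)
    (ℱ' := (⟨ψ.base _* B.presheaf, TopCat.Sheaf.pushforward_sheaf_of_sheaf ψ.base B.isSheaf⟩ :
      TopCat.Sheaf CommRingCat.{u} Y.carrier))
    { app := fun U => CommRingCat.ofHom (affMap ψ B j' hA U.unop.1 U.unop.2)
      naturality := fun U V i => CommRingCat.hom_ext (RingHom.ext fun x => by
        have h := Scheme.AffineZariskiSite.toOpens_mono i.unop.le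
        exact (affMap_res ψ B j' hA U.unop.2 V.unop.2 h x).symm) }

theorem pre_app {U : Y.Opens} (hU : IsAffineOpen U) (x : BSec A U) :
    ((pre ψ B j' hA).app (op U)).hom x = affMap ψ B j' hA U hU x := by
  have h := (Functor.IsCoverDense.restrictHomEquivHom (G := Scheme.AffineZariskiSite.toOpensFunctor Y)
    (K := Opens.grothendieckTopology Y) (ℱ := A.presheaf)
    (ℱ' := (⟨ψ.base _* B.presheaf, TopCat.Sheaf.pushforward_sheaf_of_sheaf ψ.base B.isSheaf⟩ :
      TopCat.Sheaf CommRingCat.{u} Y.carrier))).symm_apply_apply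
    ({ app := fun U => CommRingCat.ofHom (affMap ψ B j' hA U.unop.1 U.unop.2)
       naturality := fun U V i => CommRingCat.hom_ext (RingHom.ext fun x => by
        have h := Scheme.AffineZariskiSite.toOpens_mono i.unop.le
        exact (affMap_res ψ B j' hA U.unop.2 V.unop.2 h x).symm) } :
      (Scheme.AffineZariskiSite.toOpensFunctor Y).op ⋙ A.presheaf ⟶
        (Scheme.AffineZariskiSite.toOpensFunctor Y).op ⋙ (ψ.base _* B.presheaf))
  exact congr(($(NatTrans.congr_app h (op ⟨U, hU⟩))).hom x)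

/-- The `ψ`-morphism of algebras. -/
def qHom : RelSpec.QHom ψ A B where
  app U := (pre ψ B j' hA).app (op U)
  naturality {U V} i := ((pre ψ B j' hA).naturality (homOfLE i).op).symm
  str_app U := by
    have h : A.str ≫ pre ψ B j' hA = ψ.c ≫ (TopCat.Presheaf.pushforward CommRingCat.{u} ψ.base).map B.str := by
      refine (Functor.IsCoverDense.restrictHomEquivHom (G := Scheme.AffineZariskiSite.toOpensFunctor Y)
        (K := Opens.grothendieckTopology Y) (ℱ := Y.presheaf)
        (ℱ' := (⟨ψ.base _* B.presheaf, TopCat.Sheaf.pushforward_sheaf_of_sheaf ψ.base B.isSheaf⟩ :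
          TopCat.Sheaf CommRingCat.{u} Y.carrier))).symm.injective ?_
      ext U : 2
      refine CommRingCat.hom_ext (RingHom.ext fun r => ?_)
      change ((pre ψ B j' hA).app (op U.unop.1)).hom (bstr A U.unop.1 r) = bstr B _ (ψ.app U.unop.1 r)
      rw [pre_app ψ B j' hA U.unop.2, affMap_str]
    exact NatTrans.congr_app h (op U)

/-- The `ψ`-morphism of symmetric algebras is a base change. -/
theorem isQBaseChange (hB : RelSpec.IsSymAlg ((Scheme.Modules.pullback ψ).obj E) B j') :
    RelSpec.IsQBaseChange (qHom ψ B j' hA) := by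
  intro U hU U' hU' hle
  haveI : ((Scheme.Modules.pullback ψ).obj E).IsQuasicoherent := inferInstance
  letI := Groth.QCohMod.sectionsAlg ψ hle
  letI : Module Γ(Y, U) Γ((Scheme.Modules.pullback ψ).obj E, U') :=
    Module.compHom _ (ψ.appLE U U' hle).hom
  haveI : IsScalarTower Γ(Y, U) Γ(Y', U') Γ((Scheme.Modules.pullback ψ).obj E, U') :=
    IsScalarTower.of_algebraMap_smul fun _ _ => rfl
  refine Groth.Ega2Proj.SymBC.isPushout_of_liftHom (Groth.LocFree.pullSecₗ ψ E hle)
    (Groth.LocFree.isBaseChange_pullSecₗ ψ E hle hU hU') _ _ _ _ _ _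
    (bijective_liftSec hA hU) (bijective_liftSec hB hU')
    ((qHom ψ B j' hA).appLE U U' hle).hom
    (fun r => congr(($((qHom ψ B j' hA).str_appLE U U' hle)).hom r)) fun e => ?_
  change (B.presheaf.map _).hom (((pre ψ B j' hA).app (op U)).hom (toB A (j.app U e))) = _
  rw [pre_app ψ B j' hA hU, affMap_j]
  exact Groth.QCohMod.res_app j' hle _

/-- EGA II 4.1.3: projective bundles commute with base change. -/
theorem exists_isPullback {P P' : Scheme.{u}} {𝒮 : RelProj.QCGrAlg Y} {j : E ⟶ 𝒮.toModule}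
    (hj : RelProj.IsGrSymAlg E 𝒮 j) {𝒮' : RelProj.QCGrAlg Y'}
    {j' : (Scheme.Modules.pullback ψ).obj E ⟶ 𝒮'.toModule}
    (hj' : RelProj.IsGrSymAlg ((Scheme.Modules.pullback ψ).obj E) 𝒮' j') {p : P ⟶ Y}
    {chart : ∀ (U : Y.Opens) (hU : IsAffineOpen U), ((p ⁻¹ᵁ U : P.Opens) : Scheme.{u}) ≅ Proj (𝒮.deg U hU)}
    (hP : RelProj.IsRelProj 𝒮 p chart) {p' : P' ⟶ Y'}
    {chart' : ∀ (U' : Y'.Opens) (hU' : IsAffineOpen U'), ((p' ⁻¹ᵁ U' : P'.Opens) : Scheme.{u}) ≅ Proj (𝒮'.deg U' hU')}
    (hP' : RelProj.IsRelProj 𝒮' p' chart') : ∃ g : P' ⟶ P, IsPullback g p' p ψ := by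
  let q := qHom ψ 𝒮'.toQCAlg j' hj.1
  let u : RelProj.QGrHom ψ 𝒮 𝒮' :=
    { q with
      map_mem := fun U hU U' hU' hle d x hx => by
        change (q.appLE U U' hle).hom x ∈ _
        refine map_mem_of_generators (𝒮.deg U hU) (𝒮'.deg U' hU') _
          (G := Set.range (bstr 𝒮.toQCAlg U) ∪ Set.range fun e => toB 𝒮.toQCAlg (j.app U e)) ?_ ?_ hx
        · refine top_le_iff.1 fun z hz => ?_
          clear hz
          obtain ⟨z, rfl⟩ := (bijective_liftSec hj.1 hU).2 z
          induction z using SymmetricAlgebra.induction with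
          | algebraMap r => exact Subring.subset_closure (Or.inl ⟨r, (Groth.SymAlg.liftSec_algebraMap _ j U r).symm⟩)
          | ι e => exact Subring.subset_closure (Or.inr ⟨e, (Groth.SymAlg.liftSec_ι _ j U e).symm⟩)
          | mul a b ha hb => rw [map_mul]; exact Subring.mul_mem _ ha hb
          | add a b ha hb => rw [map_add]; exact Subring.add_mem _ ha hb
        · rintro _ (⟨r, rfl⟩ | ⟨e, rfl⟩)
          · refine ⟨0, 𝒮.str_mem U hU r, ?_⟩
            have h := congr(($(q.str_appLE U U' hle)).hom r)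
            exact (congrArg (· ∈ 𝒮'.deg U' hU' 0) h).mpr (𝒮'.str_mem U' hU' _)
          · refine ⟨1, hj.2 U hU e, ?_⟩
            change (𝒮'.presheaf.map _).hom
              (((pre ψ 𝒮'.toQCAlg j' hj.1).app (op U)).hom (toB 𝒮.toQCAlg (j.app U e))) ∈ _
            rw [pre_app ψ 𝒮'.toQCAlg j' hj.1 hU, affMap_j]
            refine (congrArg (· ∈ 𝒮'.deg U' hU' 1) ?_).mpr (hj'.2 U' hU'
              (res _ hle (((Scheme.Modules.pullbackPushforwardAdjunction ψ).unit.app E).app U e)))
            exact Groth.QCohMod.res_app j' hle _ }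
  have hu : RelSpec.IsQBaseChange u.toQHom := isQBaseChange ψ 𝒮'.toQCAlg j' hj.1 hj'.1
  have htop := Groth.Ega2P2.domQ_eq_top_of_isQBaseChange (p' := p') (chart' := chart') u hu hP'
  obtain ⟨g, hg, -⟩ := Groth.Ega2P2.existsUnique_projQMap u hP hP' htop
  exact ⟨g, Groth.Ega2P2.isPullback_projQMap u hu hP hP' hg⟩

end Groth.Ega2Proj.BundleBC
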