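import Mathlib.AlgebraicGeometry.Gluing
import Mathlib.AlgebraicGeometry.OpenImmersion

/-!
# Glueing morphisms along charts with given overlaps
-/

universe u

open CategoryTheory CategoryTheory.Limits AlgebraicGeometry

namespace Groth.Ega2Proj

theorem existsUnique_of_charts {X Y : Scheme.{u}} {ι : Type u} {U : ι → Scheme.{u}} (c : ∀ i, U i ⟶ X)
    [∀ i, IsOpenImmersion (c i)] (hcov : ∀ x : X, ∃ i, x ∈ Set.range (c i).base) (m : ∀ i, U i ⟶ Y)
    (h : ∀ i j, ∃ (W : Scheme.{u}) (p : W ⟶ U i) (q : W ⟶ U j), IsOpenImmersion q ∧ p ≫ c i = q ≫ c j ∧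
      p ≫ m i = q ≫ m j ∧ Set.range (c i).base ∩ Set.range (c j).base ⊆ Set.range (q ≫ c j).base) :
    ∃! π : X ⟶ Y, ∀ i, c i ≫ π = m i := by
  have key : ∀ i j, pullback.fst (c i) (c j) ≫ m i = pullback.snd (c i) (c j) ≫ m j := by
    intro i j
    obtain ⟨W, p, q, hq, hc, hm, hr⟩ := h i j
    have hpb : IsPullback p q (c i) (c j) := by
      refine IsOpenImmersion.isPullback p q (c i) (c j) hc.symm ?_
      ext x
      constructor
      · intro hx
        obtain ⟨w, hw⟩ := hr ⟨hx, ⟨x, rfl⟩⟩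
        exact ⟨w, (c j).isOpenEmbedding.injective (by simpa using hw)⟩
      · rintro ⟨w, rfl⟩
        exact ⟨p.base w, by simpa using congrArg (fun (k : W ⟶ X) => k.base w) hc⟩
    rw [← cancel_epi hpb.isoPullback.hom, hpb.isoPullback_hom_fst_assoc, hpb.isoPullback_hom_snd_assoc, hm]
  let 𝒱 : X.OpenCover :=
    { I₀ := ι
      X := U
      f := c
      mem₀ := by
        rw [Scheme.presieve₀_mem_precoverage_iff]
        exact ⟨hcov, fun _ => inferInstance⟩ }
  refine ⟨𝒱.glueMorphisms m key, fun i => 𝒱.ι_glueMorphisms m key i, fun π hπ => ?_⟩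
  exact 𝒱.hom_ext _ _ fun i => (hπ i).trans (𝒱.ι_glueMorphisms m key i).symm

end Groth.Ega2Proj
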