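/-
Composite valuation rings and a valuative criterion using only valuation rings of the function field.
-/
import Mathlib.AlgebraicGeometry.ValuativeCriterion
import Mathlib.AlgebraicGeometry.FunctionField
import Mathlib.AlgebraicGeometry.Morphisms.Proper

set_option autoImplicit false
universe u v
open CategoryTheory CategoryTheory.Limits AlgebraicGeometry IsLocalRing

namespace Groth.Ega2Proj

theorem exists_valuationSubring_comap_eq {k : Type u} {L : Type v} [Field k] [Field L] (ε : k →+* L)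
    (A : ValuationSubring k) : ∃ C : ValuationSubring L, C.comap ε = A := by
  obtain ⟨C, hC, hloc⟩ := IsLocalRing.exists_factor_valuationRing (ε.comp A.subtype)
  refine ⟨C, ?_⟩
  refine SetLike.ext fun x => ⟨fun hx => ?_, fun hx => hC ⟨x, hx⟩⟩
  by_contra hxA
  rcases A.mem_or_inv_mem x with h | h
  · exact hxA h
  have hx0 : x ≠ 0 := fun h0 => hxA (h0 ▸ A.zero_mem)
  have hu : IsUnit ((ε.comp A.subtype).codRestrict C.toSubring hC ⟨x⁻¹, h⟩) := by
    refine isUnit_iff_exists_inv.mpr ⟨⟨ε x, hx⟩, Subtype.ext ?_⟩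
    change ε x⁻¹ * ε x = 1
    rw [← map_mul, inv_mul_cancel₀ hx0, map_one]
  obtain ⟨⟨y, hy⟩, hxy⟩ := (hloc.map_nonunit _ hu).exists_right_inv
  have hxy' : x⁻¹ * y = 1 := congrArg Subtype.val hxy
  refine hxA ?_
  have : y = x := by rw [inv_mul_eq_one₀ hx0] at hxy'; exact hxy'.symm
  exact this ▸ hy

/-- The composite of a valuation ring with a valuation ring of its residue field. -/
noncomputable def composite {F : Type u} [Field F] (B : ValuationSubring F)
    (C : ValuationSubring (ResidueField B)) : ValuationSubring F where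
  toSubring := (C.toSubring.comap (residue B)).map B.subtype
  mem_or_inv_mem' := by
    intro x
    have key : ∀ z : B, residue B z ∈ C → (z : F) ∈ (C.toSubring.comap (residue B)).map B.subtype :=
      fun z hz => ⟨z, hz, rfl⟩
    rcases B.mem_or_inv_mem x with h | h
    · rcases C.mem_or_inv_mem (residue B ⟨x, h⟩) with h' | h'
      · exact Or.inl (key ⟨x, h⟩ h')
      · by_cases hu : IsUnit (⟨x, h⟩ : B)
        · right
          obtain ⟨⟨y, hy⟩, hxy⟩ := hu.exists_right_inv
          have hxy' : x * y = 1 := congrArg Subtype.val hxy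
          have hy' : y = x⁻¹ := eq_inv_of_mul_eq_one_right hxy'
          have hr : residue B ⟨y, hy⟩ = (residue B ⟨x, h⟩)⁻¹ :=
            eq_inv_of_mul_eq_one_right (by rw [← map_mul, hxy, map_one])
          exact hy' ▸ key ⟨y, hy⟩ (hr ▸ h')
        · left
          refine key ⟨x, h⟩ ?_
          rw [(residue_eq_zero_iff _).mpr hu]
          exact C.zero_mem
    · rcases C.mem_or_inv_mem (residue B ⟨x⁻¹, h⟩) with h' | h'
      · exact Or.inr (key ⟨x⁻¹, h⟩ h')
      · by_cases hu : IsUnit (⟨x⁻¹, h⟩ : B)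
        · left
          obtain ⟨⟨y, hy⟩, hxy⟩ := hu.exists_right_inv
          have hxy' : x⁻¹ * y = 1 := congrArg Subtype.val hxy
          have hy' : y = x := by rw [eq_inv_of_mul_eq_one_right hxy', inv_inv]
          have hr : residue B ⟨y, hy⟩ = (residue B ⟨x⁻¹, h⟩)⁻¹ :=
            eq_inv_of_mul_eq_one_right (by rw [← map_mul, hxy, map_one])
          exact hy' ▸ key ⟨y, hy⟩ (hr ▸ h')
        · right
          refine key ⟨x⁻¹, h⟩ ?_
          rw [(residue_eq_zero_iff _).mpr hu]
          exact C.zero_mem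

theorem mem_composite_iff {F : Type u} [Field F] (B : ValuationSubring F)
    (C : ValuationSubring (ResidueField B)) (x : F) :
    x ∈ composite B C ↔ ∃ h : x ∈ B, residue B ⟨x, h⟩ ∈ C := by
  constructor
  · rintro ⟨z, hz, rfl⟩; exact ⟨z.2, hz⟩
  · rintro ⟨h, h'⟩; exact ⟨⟨x, h⟩, h', rfl⟩

theorem composite_valuation_lt_one_iff {F : Type u} [Field F] (B : ValuationSubring F)
    (C : ValuationSubring (ResidueField B)) (x : F) (h : x ∈ B) (h' : residue B ⟨x, h⟩ ∈ C) :
    (composite B C).valuation x < 1 ↔ C.valuation (residue B ⟨x, h⟩) < 1 := by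
  have hxR : x ∈ composite B C := (mem_composite_iff B C x).mpr ⟨h, h'⟩
  refine ((ValuationSubring.valuation_lt_one_iff (composite B C) ⟨x, hxR⟩).symm.trans ?_).trans
    (ValuationSubring.valuation_lt_one_iff C ⟨residue B ⟨x, h⟩, h'⟩)
  rw [mem_maximalIdeal, mem_maximalIdeal]
  refine not_congr ⟨fun hu => ?_, fun hu => ?_⟩
  · obtain ⟨⟨y, hy⟩, hxy⟩ := hu.exists_right_inv
    obtain ⟨hyB, hyC⟩ := (mem_composite_iff B C y).mp hy
    have hxy' : x * y = 1 := congrArg Subtype.val hxy
    refine isUnit_iff_exists_inv.mpr ⟨⟨residue B ⟨y, hyB⟩, hyC⟩, Subtype.ext ?_⟩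
    change residue B ⟨x, h⟩ * residue B ⟨y, hyB⟩ = 1
    rw [← map_mul, show (⟨x, h⟩ : B) * ⟨y, hyB⟩ = 1 from Subtype.ext hxy', map_one]
  · obtain ⟨⟨c, hc⟩, hxc⟩ := hu.exists_right_inv
    have hxc' : residue B ⟨x, h⟩ * c = 1 := congrArg Subtype.val hxc
    have hu' : IsUnit (⟨x, h⟩ : B) := by
      by_contra hn
      rw [(residue_eq_zero_iff _).mpr hn, zero_mul] at hxc'
      exact zero_ne_one hxc'
    obtain ⟨⟨y, hy⟩, hxy⟩ := hu'.exists_right_inv
    have hxy' : x * y = 1 := congrArg Subtype.val hxy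
    have hr : residue B ⟨y, hy⟩ = c := by
      have : residue B ⟨x, h⟩ * residue B ⟨y, hy⟩ = 1 := by rw [← map_mul, hxy, map_one]
      exact mul_left_cancel₀ (left_ne_zero_of_mul_eq_one this) (this.trans hxc'.symm)
    have hyR : y ∈ composite B C := (mem_composite_iff B C y).mpr ⟨hy, hr ▸ hc⟩
    exact isUnit_iff_exists_inv.mpr ⟨⟨y, hyR⟩, Subtype.ext hxy'⟩

theorem composite_ne_top {F : Type u} [Field F] (B : ValuationSubring F)
    (C : ValuationSubring (ResidueField B)) (hC : C ≠ ⊤) : composite B C ≠ ⊤ := by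
  intro h
  refine hC (SetLike.ext fun c => ⟨fun _ => ValuationSubring.mem_top c, fun _ => ?_⟩)
  obtain ⟨z, rfl⟩ := residue_surjective c
  have hz : (z : F) ∈ composite B C := h ▸ ValuationSubring.mem_top (z : F)
  exact ((mem_composite_iff B C _).mp hz).2

end Groth.Ega2Proj
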