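import Groth.Agent.Ega2Proj.GradedBasic
import Mathlib.RingTheory.GradedAlgebra.HomogeneousLocalization

/-!
# The ring map `A → B_(f)`, `a ↦ φ a / f ^ deg a`
-/

universe u

open DirectSum

namespace Groth.Ega2Proj

variable {A B σ τ : Type*} [CommRing A] [CommRing B] [SetLike σ A] [AddSubgroupClass σ A]
  [SetLike τ B] [AddSubgroupClass τ B] (𝒜 : ℕ → σ) (ℬ : ℕ → τ) [GradedRing 𝒜] [GradedRing ℬ]
  {d : ℕ} {f : B} (hf : f ∈ ℬ d) (φ : A →+* B) (hφ : ∀ n, ∀ a ∈ 𝒜 n, φ a ∈ ℬ (n • d))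

/-- The degree-`n` component of `toAway`. -/
noncomputable def toAwayHom (n : ℕ) : 𝒜 n →+ HomogeneousLocalization.Away ℬ f where
  toFun a := HomogeneousLocalization.Away.mk ℬ hf n (φ a) (hφ n a a.2)
  map_zero' := by
    apply HomogeneousLocalization.val_injective
    simp [Localization.mk_zero]
  map_add' a b := by
    apply HomogeneousLocalization.val_injective
    simp only [HomogeneousLocalization.val_add, HomogeneousLocalization.Away.val_mk, AddMemClass.coe_add,
      map_add]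
    rw [Localization.add_mk_self]

theorem toAway_one : toAwayHom 𝒜 ℬ hf φ hφ 0 (GradedMonoid.GOne.one (A := fun i => 𝒜 i)) = 1 := by
  apply HomogeneousLocalization.val_injective
  change Localization.mk (φ 1) _ = _
  simp only [map_one, pow_zero, HomogeneousLocalization.val_one]
  exact Localization.mk_one

theorem toAway_mul {i j : ℕ} (a : 𝒜 i) (b : 𝒜 j) :
    toAwayHom 𝒜 ℬ hf φ hφ (i + j) (GradedMonoid.GMul.mul (A := fun i => 𝒜 i) a b) =
      toAwayHom 𝒜 ℬ hf φ hφ i a * toAwayHom 𝒜 ℬ hf φ hφ j b := by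
  apply HomogeneousLocalization.val_injective
  rw [HomogeneousLocalization.val_mul]
  change Localization.mk (φ ((a : A) * b)) _ = Localization.mk (φ a) _ * Localization.mk (φ b) _
  rw [Localization.mk_mul, map_mul]
  congr 1
  exact Subtype.ext (pow_add f i j)

/-- `a ↦ ∑ φ a_n / f ^ n`. -/
noncomputable def toAway : A →+* HomogeneousLocalization.Away ℬ f :=
  (DirectSum.toSemiring (toAwayHom 𝒜 ℬ hf φ hφ) (toAway_one 𝒜 ℬ hf φ hφ) (toAway_mul 𝒜 ℬ hf φ hφ)).comp
    (decomposeRingEquiv 𝒜).toRingHom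

theorem toAway_of_mem {n : ℕ} {a : A} (ha : a ∈ 𝒜 n) :
    toAway 𝒜 ℬ hf φ hφ a = HomogeneousLocalization.Away.mk ℬ hf n (φ a) (hφ n a ha) := by
  change DirectSum.toSemiring _ (toAway_one 𝒜 ℬ hf φ hφ) (toAway_mul 𝒜 ℬ hf φ hφ) (decompose 𝒜 a) = _
  rw [decompose_of_mem 𝒜 ha, DirectSum.toSemiring_of]
  rfl

theorem toAway_of_mem_val {n : ℕ} {a : A} (ha : a ∈ 𝒜 n) :
    (toAway 𝒜 ℬ hf φ hφ a).val = Localization.mk (φ a) ⟨f ^ n, pow_mem (Submonoid.mem_powers f) n⟩ := by
  rw [toAway_of_mem 𝒜 ℬ hf φ hφ ha]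
  rfl

/-- Two ring homomorphisms out of a graded ring agreeing on homogeneous elements are equal. -/
theorem ringHom_ext_homogeneous {S : Type*} [CommRing S] {g h : A →+* S}
    (e : ∀ (n : ℕ), ∀ a ∈ 𝒜 n, g a = h a) : g = h := by
  classical
  refine RingHom.ext fun a => ?_
  rw [← DirectSum.sum_support_decompose 𝒜 a, map_sum, map_sum]
  exact Finset.sum_congr rfl fun n _ => e n _ (SetLike.coe_mem _)

end Groth.Ega2Proj
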