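import Groth.Agent.Ega2Proj.ConeMaps
import Groth.Agent.Ega2Proj.ToAway
import Mathlib.Algebra.Polynomial.Laurent
import Mathlib.RingTheory.FiniteType
import Mathlib.AlgebraicGeometry.Morphisms.FiniteType
import Mathlib.AlgebraicGeometry.ResidueField

/-!
# Fibres of the cone retractions
-/

universe u

open CategoryTheory CategoryTheory.Limits AlgebraicGeometry TopologicalSpace Opposite
open scoped LaurentPolynomial

namespace Groth.Ega2Proj

/-- Ring maps out of Laurent polynomials agreeing on constants and `T` agree. -/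
theorem laurent_ringHom_ext {K S : Type*} [CommRing K] [CommRing S] {g h : K[T;T⁻¹] →+* S}
    (hC : ∀ a, g (LaurentPolynomial.C a) = h (LaurentPolynomial.C a))
    (hT : g (LaurentPolynomial.T 1) = h (LaurentPolynomial.T 1)) : g = h := by
  have hneg : g (LaurentPolynomial.T (-1)) = h (LaurentPolynomial.T (-1)) := by
    have e : LaurentPolynomial.T (-1) * LaurentPolynomial.T 1 = (1 : K[T;T⁻¹]) := by
      rw [← LaurentPolynomial.T_add]; simp
    have e1 : g (LaurentPolynomial.T (-1)) * g (LaurentPolynomial.T 1) = 1 := by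
      rw [← map_mul, e, map_one]
    have e2 : h (LaurentPolynomial.T (-1)) * h (LaurentPolynomial.T 1) = 1 := by
      rw [← map_mul, e, map_one]
    rw [← hT] at e2
    exact (left_inv_eq_right_inv e2 ((mul_comm _ _).trans e1)).symm
  have hall : ∀ n : ℤ, g (LaurentPolynomial.T n) = h (LaurentPolynomial.T n) := by
    intro n
    induction n using Int.induction_on with
    | zero => simp
    | succ i hi => rw [LaurentPolynomial.T_add, map_mul, map_mul, hi, hT]
    | pred i hi => rw [sub_eq_add_neg, LaurentPolynomial.T_add, map_mul, map_mul, hi, hneg]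
  refine RingHom.ext fun p => ?_
  induction p using LaurentPolynomial.induction_on' with
  | add a b ha hb => rw [map_add, map_add, ha, hb]
  | C_mul_T n a => rw [map_mul, map_mul, hC, hall]

/-- The fibre of an affine chart over a point. -/
theorem exists_fibre_iso {E P : Scheme.{u}} {A₀ S : CommRingCat.{u}} (π : E ⟶ P)
    (j : Spec A₀ ⟶ P) [IsOpenImmersion j] (c : Spec S ⟶ E) [IsOpenImmersion c] (α : A₀ ⟶ S)
    (hc : c ≫ π = Spec.map α ≫ j) (hpre : π ⁻¹ᵁ j.opensRange = c.opensRange)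
    (x : P) (hx : x ∈ j.opensRange) :
    ∃ ψ : A₀ ⟶ P.residueField x, ∀ (C : CommRingCat.{u}) (u : S ⟶ C) (v : P.residueField x ⟶ C),
      IsPushout α ψ u v →
        ∃ e : pullback π (P.fromSpecResidueField x) ≅ Spec C,
          e.hom ≫ Spec.map v = pullback.snd π (P.fromSpecResidueField x) := by
  have hr : Set.range (P.fromSpecResidueField x) ⊆ Set.range j := by
    rw [Scheme.range_fromSpecResidueField]
    exact Set.singleton_subset_iff.mpr hx
  refine ⟨Spec.preimage (IsOpenImmersion.lift j (P.fromSpecResidueField x) hr), fun C u v hpo => ?_⟩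
  have h1 : IsPullback c (Spec.map α) π j := (IsOpenImmersion.isPullback _ _ _ _ hc hpre).flip
  have h2 := isPullback_SpecMap_of_isPushout _ _ _ _ hpo
  have h3 := h2.paste_horiz h1
  rw [Spec.map_preimage, IsOpenImmersion.lift_fac] at h3
  exact ⟨h3.isoPullback.symm, by rw [Iso.symm_hom, IsPullback.isoPullback_inv_snd]⟩

section Laurent

variable {σ A : Type u} [CommRing A] [SetLike σ A] [AddSubgroupClass σ A] (𝒜 : ℕ → σ)
  [GradedRing 𝒜] {f : A} (hf : f ∈ 𝒜 1) {K : Type u} [CommRing K]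
  (ψ : HomogeneousLocalization.Away 𝒜 f →+* K)

/-- `a ↦ ψ (a / f ^ n) T ^ n` in degree `n`. -/
noncomputable def toLaurentHom (n : ℕ) : 𝒜 n →+ K[T;T⁻¹] :=
  (AddMonoidHom.mulRight (LaurentPolynomial.T (n : ℤ))).comp
    ((LaurentPolynomial.C.comp ψ).toAddMonoidHom.comp
      (toAwayHom 𝒜 𝒜 hf (RingHom.id A) (fun n a ha => by simpa using ha) n))

theorem toLaurentHom_one :
    toLaurentHom 𝒜 hf ψ 0 (GradedMonoid.GOne.one (A := fun i => 𝒜 i)) = 1 := by
  change LaurentPolynomial.C (ψ _) * LaurentPolynomial.T _ = _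
  erw [toAway_one 𝒜 𝒜 hf (RingHom.id A) (fun n a ha => by simpa using ha)]
  simp

theorem toLaurentHom_mul {i j : ℕ} (a : 𝒜 i) (b : 𝒜 j) :
    toLaurentHom 𝒜 hf ψ (i + j) (GradedMonoid.GMul.mul (A := fun i => 𝒜 i) a b) =
      toLaurentHom 𝒜 hf ψ i a * toLaurentHom 𝒜 hf ψ j b := by
  change LaurentPolynomial.C (ψ _) * LaurentPolynomial.T _ =
    (LaurentPolynomial.C (ψ _) * LaurentPolynomial.T _) *
      (LaurentPolynomial.C (ψ _) * LaurentPolynomial.T _)
  erw [toAway_mul 𝒜 𝒜 hf (RingHom.id A) (fun n a ha => by simpa using ha) a b]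
  rw [map_mul, map_mul, Nat.cast_add, LaurentPolynomial.T_add]
  ring

/-- `a ↦ ∑ ψ (a_n / f ^ n) T ^ n`. -/
noncomputable def toLaurent : A →+* K[T;T⁻¹] :=
  (DirectSum.toSemiring (toLaurentHom 𝒜 hf ψ) (toLaurentHom_one 𝒜 hf ψ)
    (toLaurentHom_mul 𝒜 hf ψ)).comp (DirectSum.decomposeRingEquiv 𝒜).toRingHom

theorem toLaurent_of_mem {n : ℕ} {a : A} (ha : a ∈ 𝒜 n) :
    toLaurent 𝒜 hf ψ a = LaurentPolynomial.C
      (ψ (HomogeneousLocalization.Away.mk 𝒜 hf n a (by simpa using ha))) *
        LaurentPolynomial.T (n : ℤ) := by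
  change DirectSum.toSemiring _ (toLaurentHom_one 𝒜 hf ψ) (toLaurentHom_mul 𝒜 hf ψ)
    (DirectSum.decompose 𝒜 a) = _
  rw [DirectSum.decompose_of_mem 𝒜 ha, DirectSum.toSemiring_of]
  rfl

theorem toLaurent_self : toLaurent 𝒜 hf ψ f = LaurentPolynomial.T 1 := by
  rw [toLaurent_of_mem 𝒜 hf ψ hf]
  have : HomogeneousLocalization.Away.mk 𝒜 hf 1 f (by simpa using hf) = 1 := by
    apply HomogeneousLocalization.val_injective
    rw [HomogeneousLocalization.Away.val_mk, HomogeneousLocalization.val_one]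
    convert Localization.mk_self (M := A) (⟨f, Submonoid.mem_powers f⟩ : Submonoid.powers f) using 2
    simp
  rw [this, map_one, map_one, one_mul, Nat.cast_one]

/-- The map `A_f → K[T, T⁻¹]`. -/
noncomputable def awayToLaurent : Localization.Away f →+* K[T;T⁻¹] :=
  Localization.awayLift (toLaurent 𝒜 hf ψ) f
    (by rw [toLaurent_self]; exact LaurentPolynomial.isUnit_T 1)

theorem awayToLaurent_algebraMap (a : A) :
    awayToLaurent 𝒜 hf ψ (algebraMap A _ a) = toLaurent 𝒜 hf ψ a :=
  IsLocalization.Away.lift_eq f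
    (by rw [toLaurent_self]; exact LaurentPolynomial.isUnit_T 1 : IsUnit (toLaurent 𝒜 hf ψ f)) a

theorem val_mk_mul_pow {d n : ℕ} {g a : A} (hg : g ∈ 𝒜 d) (ha : a ∈ 𝒜 (n • d)) :
    (HomogeneousLocalization.Away.mk 𝒜 hg n a ha).val * algebraMap A (Localization.Away g) g ^ n =
      algebraMap A (Localization.Away g) a := by
  rw [← map_pow, HomogeneousLocalization.Away.val_mk, Localization.mk_eq_mk']
  exact IsLocalization.mk'_spec _ _ _

theorem awayToLaurent_val (z : HomogeneousLocalization.Away 𝒜 f) :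
    awayToLaurent 𝒜 hf ψ z.val = LaurentPolynomial.C (ψ z) := by
  obtain ⟨n, a, ha, rfl⟩ := HomogeneousLocalization.Away.mk_surjective 𝒜 hf z
  have h := congrArg (awayToLaurent 𝒜 hf ψ) (val_mk_mul_pow 𝒜 hf ha)
  rw [map_mul, map_pow, awayToLaurent_algebraMap, awayToLaurent_algebraMap, toLaurent_self,
    LaurentPolynomial.T_pow, mul_one, toLaurent_of_mem 𝒜 hf ψ (n := n) (by simpa using ha)] at h
  exact (LaurentPolynomial.isUnit_T _).mul_left_injective h

include hf in
theorem away_ringHom_ext {C : Type u} [CommRing C] {g h : Localization.Away f →+* C}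
    (hv : ∀ z : HomogeneousLocalization.Away 𝒜 f, g z.val = h z.val)
    (hT : g (algebraMap A _ f) = h (algebraMap A _ f)) : g = h := by
  refine IsLocalization.ringHom_ext (Submonoid.powers f) (ringHom_ext_homogeneous 𝒜 fun n a ha => ?_)
  simp only [RingHom.comp_apply]
  rw [← val_mk_mul_pow 𝒜 hf (n := n) (a := a) (by simpa using ha), map_mul, map_mul, map_pow,
    map_pow, hv, hT]

include hf in
theorem isPushout_laurent :
    IsPushout (CommRingCat.ofHom (algebraMap (HomogeneousLocalization.Away 𝒜 f) (Localization.Away f)))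
      (CommRingCat.ofHom ψ) (CommRingCat.ofHom (awayToLaurent 𝒜 hf ψ))
      (CommRingCat.ofHom (LaurentPolynomial.C : K →+* K[T;T⁻¹])) := by
  have hw : CommRingCat.ofHom (algebraMap (HomogeneousLocalization.Away 𝒜 f) (Localization.Away f)) ≫
      CommRingCat.ofHom (awayToLaurent 𝒜 hf ψ) =
      CommRingCat.ofHom ψ ≫ CommRingCat.ofHom (LaurentPolynomial.C : K →+* K[T;T⁻¹]) :=
    CommRingCat.hom_ext (RingHom.ext fun z => awayToLaurent_val 𝒜 hf ψ z)
  have hu : ∀ s : PushoutCocone (CommRingCat.ofHom (algebraMap (HomogeneousLocalization.Away 𝒜 f)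
      (Localization.Away f))) (CommRingCat.ofHom ψ), IsUnit (s.inl (algebraMap A _ f)) := fun s =>
    (IsLocalization.Away.algebraMap_isUnit f).map s.inl.hom
  refine ⟨⟨hw⟩, ⟨PushoutCocone.IsColimit.mk hw
    (fun s => CommRingCat.ofHom (LaurentPolynomial.eval₂ s.inr.hom (hu s).unit)) (fun s => ?_)
    (fun s => ?_) (fun s m h1 h2 => ?_)⟩⟩
  · refine CommRingCat.hom_ext (away_ringHom_ext 𝒜 hf (fun z => ?_) ?_)
    · change LaurentPolynomial.eval₂ _ _ (awayToLaurent 𝒜 hf ψ z.val) = _
      rw [awayToLaurent_val, LaurentPolynomial.eval₂_C]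
      exact (congr($(s.condition) z)).symm
    · change LaurentPolynomial.eval₂ _ _ (awayToLaurent 𝒜 hf ψ _) = _
      rw [awayToLaurent_algebraMap, toLaurent_self, LaurentPolynomial.eval₂_T, zpow_one]
      rfl
  · exact CommRingCat.hom_ext (RingHom.ext fun a => LaurentPolynomial.eval₂_C _ _ a)
  · refine CommRingCat.hom_ext (laurent_ringHom_ext (fun a => ?_) ?_)
    · refine Eq.trans ?_ (LaurentPolynomial.eval₂_C _ _ a).symm
      exact congr($h2 a)
    · refine Eq.trans ?_ ((LaurentPolynomial.eval₂_T _ _ 1).trans (by rw [zpow_one])).symm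
      rw [← toLaurent_self 𝒜 hf ψ, ← awayToLaurent_algebraMap 𝒜 hf ψ f]
      exact congr($h1 (algebraMap A (Localization.Away f) f))

include hf in
theorem finiteType_away_degree_one :
    (algebraMap (HomogeneousLocalization.Away 𝒜 f) (Localization.Away f)).FiniteType := by
  rw [RingHom.finiteType_algebraMap]
  let u := (IsLocalization.Away.algebraMap_isUnit (S := Localization.Away f) f).unit
  let w : (HomogeneousLocalization.Away 𝒜 f)[T;T⁻¹] →ₐ[HomogeneousLocalization.Away 𝒜 f]
      Localization.Away f :=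
    { LaurentPolynomial.eval₂ (algebraMap _ _) u with
      commutes' := fun a => LaurentPolynomial.eval₂_C _ _ a }
  have hwid : (w.toRingHom).comp (awayToLaurent 𝒜 hf (RingHom.id _)) = RingHom.id _ := by
    refine away_ringHom_ext 𝒜 hf (fun z => ?_) ?_
    · change w (awayToLaurent 𝒜 hf _ z.val) = _
      rw [awayToLaurent_val]
      exact LaurentPolynomial.eval₂_C _ _ z
    · change w (awayToLaurent 𝒜 hf _ _) = _
      rw [awayToLaurent_algebraMap, toLaurent_self]
      exact (LaurentPolynomial.eval₂_T _ _ 1).trans (by rw [zpow_one]; rfl)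
  exact Algebra.FiniteType.of_surjective w fun z => ⟨_, DFunLike.congr_fun hwid z⟩

end Laurent

theorem exists_degree_one_notMem {R A : Type u} [CommRing R] [CommRing A] [Algebra R A]
    {𝒜 : ℕ → Submodule R A} [GradedAlgebra 𝒜]
    (hgen : (HomogeneousIdeal.irrelevant 𝒜).toIdeal = Ideal.span (𝒜 1 : Set A)) {P : Ideal A}
    (hP : ¬ (HomogeneousIdeal.irrelevant 𝒜).toIdeal ≤ P) : ∃ f ∈ 𝒜 1, f ∉ P := by
  by_contra! h
  exact hP (hgen ▸ Ideal.span_le.mpr h)

theorem locallyOfFiniteType_retraction {R A : Type u} [CommRing R] [CommRing A] [Algebra R A]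
    (𝒜 : ℕ → Submodule R A) [GradedAlgebra 𝒜]
    (hgen : (HomogeneousIdeal.irrelevant 𝒜).toIdeal = Ideal.span (𝒜 1 : Set A))
    (π : (Cone.pointed 𝒜 : Scheme.{u}) ⟶ Proj 𝒜)
    (hπ : ∀ (d : ℕ) (f : A) (hd : 0 < d) (hf : f ∈ 𝒜 d),
      Cone.chart hf hd ≫ π =
        Spec.map (CommRingCat.ofHom (algebraMap (HomogeneousLocalization.Away 𝒜 f) (Localization.Away f))) ≫
          Proj.awayι 𝒜 f hf hd) : LocallyOfFiniteType π := by
  haveI : IsZariskiLocalAtSource @LocallyOfFiniteType.{u} :=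
    HasRingHomProperty.instIsZariskiLocalAtSource
  refine IsZariskiLocalAtSource.of_iSup_eq_top (P := @LocallyOfFiniteType.{u})
    (fun f : 𝒜 1 => (Cone.chart f.2 one_pos).opensRange) (eq_top_iff.mpr fun x _ => ?_) fun f => ?_
  · obtain ⟨f, hf, hfx⟩ := exists_degree_one_notMem hgen (P := ((Cone.pointed 𝒜).ι.base x).asIdeal)
      fun h => x.2 ((PrimeSpectrum.mem_zeroLocus _ _).mpr h)
    exact Opens.mem_iSup.mpr ⟨⟨f, hf⟩, (mem_range_chart 𝒜 hf one_pos x).mpr hfx⟩
  obtain ⟨f, hf⟩ := f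
  rw [← Scheme.Hom.isoOpensRange_inv_comp (Cone.chart hf one_pos), Category.assoc, hπ 1 f one_pos hf]
  have : LocallyOfFiniteType (Spec.map (CommRingCat.ofHom
      (algebraMap (HomogeneousLocalization.Away 𝒜 f) (Localization.Away f)))) :=
    HasRingHomProperty.Spec_iff.mpr (finiteType_away_degree_one 𝒜 hf)
  infer_instance

end Groth.Ega2Proj
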