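import Groth.Prelude.Def_Cone
import Groth.Prelude.Def_PCone
import Groth.Agent.Ega2Proj.ChartGlue
import Groth.Agent.Ega2Proj.GradedBasic
import Mathlib.AlgebraicGeometry.ProjectiveSpectrum.Functor
import Mathlib.AlgebraicGeometry.Morphisms.Affine

/-!
# The retraction of the pointed cone and the morphism of a graded homomorphism
-/

universe u

open CategoryTheory AlgebraicGeometry TopologicalSpace Opposite

namespace Groth.Ega2Proj

variable {R A : Type u} [CommRing R] [CommRing A] [Algebra R A] (𝒜 : ℕ → Submodule R A) [GradedAlgebra 𝒜]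

/-- Index of the standard charts. -/
def PosHom : Type u := {p : ℕ × A // 0 < p.1 ∧ p.2 ∈ 𝒜 p.1}

instance {d : ℕ} {f : A} (hf : f ∈ 𝒜 d) (hd : 0 < d) : IsOpenImmersion (Cone.chart hf hd) := by
  haveI : IsOpenImmersion (Spec.map (CommRingCat.ofHom (algebraMap A (Localization.Away f)))) :=
    IsOpenImmersion.of_isLocalization f
  haveI : IsOpenImmersion (Cone.chart hf hd ≫ (Cone.pointed 𝒜).ι) := by
    rw [Cone.chart, IsOpenImmersion.lift_fac]; infer_instance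
  exact IsOpenImmersion.of_comp _ (Cone.pointed 𝒜).ι

theorem chart_ι {d : ℕ} {f : A} (hf : f ∈ 𝒜 d) (hd : 0 < d) :
    Cone.chart hf hd ≫ (Cone.pointed 𝒜).ι =
      Spec.map (CommRingCat.ofHom (algebraMap A (Localization.Away f))) := IsOpenImmersion.lift_fac ..

theorem mem_range_chart {d : ℕ} {f : A} (hf : f ∈ 𝒜 d) (hd : 0 < d) (x : (Cone.pointed 𝒜 : Scheme.{u})) :
    x ∈ Set.range (Cone.chart hf hd).base ↔ f ∉ ((Cone.pointed 𝒜).ι.base x).asIdeal := by
  have h := PrimeSpectrum.localization_away_comap_range (Localization.Away f) f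
  constructor
  · rintro ⟨y, rfl⟩
    have hy : ((Cone.chart hf hd ≫ (Cone.pointed 𝒜).ι).base y) ∈
        (PrimeSpectrum.basicOpen f : Set (PrimeSpectrum A)) := by
      rw [chart_ι, ← h]; exact ⟨y, rfl⟩
    exact hy
  · intro hx
    have hx' : (Cone.pointed 𝒜).ι.base x ∈ (PrimeSpectrum.basicOpen f : Set (PrimeSpectrum A)) := hx
    rw [← h] at hx'
    obtain ⟨y, hy⟩ := hx'
    refine ⟨y, (Cone.pointed 𝒜).ι.isOpenEmbedding.injective ?_⟩
    rw [← hy]
    exact congrArg (fun k => k.base y) (chart_ι 𝒜 hf hd)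

theorem exists_chart (x : (Cone.pointed 𝒜 : Scheme.{u})) :
    ∃ i : PosHom 𝒜, i.1.2 ∉ ((Cone.pointed 𝒜).ι.base x).asIdeal := by
  by_contra! h
  exact x.2 ((PrimeSpectrum.mem_zeroLocus _ _).mpr fun a ha =>
    irrelevant_le_ideal 𝒜 (fun d hd a ha => h ⟨(d, a), hd, ha⟩) ha)

theorem exists_mem_basicOpen (x : Proj 𝒜) :
    ∃ (d : ℕ) (f : A) (_ : 0 < d) (_ : f ∈ 𝒜 d), x ∈ Proj.basicOpen 𝒜 f := by
  by_contra! h
  exact x.not_irrelevant_le fun z hz =>
    irrelevant_le_ideal 𝒜 (fun d hd a ha => not_not.mp (h d a hd ha)) hz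

theorem existsUnique_retraction :
    ∃! π : (Cone.pointed 𝒜 : Scheme.{u}) ⟶ Proj 𝒜,
      ∀ (d : ℕ) (f : A) (hd : 0 < d) (hf : f ∈ 𝒜 d),
        Cone.chart hf hd ≫ π =
          Spec.map (CommRingCat.ofHom (algebraMap (HomogeneousLocalization.Away 𝒜 f) (Localization.Away f))) ≫
            Proj.awayι 𝒜 f hf hd := by
  let c := fun i : PosHom 𝒜 => Cone.chart (𝒜 := 𝒜) i.2.2 i.2.1
  let m := fun i : PosHom 𝒜 => Spec.map (CommRingCat.ofHom
    (algebraMap (HomogeneousLocalization.Away 𝒜 i.1.2) (Localization.Away i.1.2))) ≫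
      Proj.awayι 𝒜 i.1.2 i.2.2 i.2.1
  obtain ⟨π, hπ, huni⟩ := existsUnique_of_charts c (fun x => by
      obtain ⟨i, hi⟩ := exists_chart 𝒜 x
      exact ⟨i, (mem_range_chart 𝒜 i.2.2 i.2.1 x).mpr hi⟩) m (fun i j => by
    obtain ⟨⟨d, f⟩, hd, hf⟩ := i
    obtain ⟨⟨e, g⟩, he, hg⟩ := j
    dsimp only at hd hf he hg
    let pf := Localization.awayLift (algebraMap A (Localization.Away (f * g))) f
      (isUnit_of_mul_isUnit_left (y := algebraMap A _ g) (by rw [← map_mul]; exact IsLocalization.Away.algebraMap_isUnit _))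
    let pg := Localization.awayLift (algebraMap A (Localization.Away (f * g))) g
      (isUnit_of_mul_isUnit_right (x := algebraMap A _ f) (by rw [← map_mul]; exact IsLocalization.Away.algebraMap_isUnit _))
    have hfg : f * g ∈ 𝒜 (d + e) := SetLike.mul_mem_graded hf hg
    have hpf : pf.comp (algebraMap A _) = algebraMap A _ := IsLocalization.Away.lift_comp f _
    have hpg : pg.comp (algebraMap A _) = algebraMap A _ := IsLocalization.Away.lift_comp g _
    have hc1 : Spec.map (CommRingCat.ofHom pf) ≫ Cone.chart hf hd = Cone.chart hfg (by omega) := by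
      rw [← cancel_mono (Cone.pointed 𝒜).ι, Category.assoc, chart_ι, chart_ι, ← Spec.map_comp,
        ← CommRingCat.ofHom_comp, hpf]
    have hc2 : Spec.map (CommRingCat.ofHom pg) ≫ Cone.chart hg he = Cone.chart hfg (by omega) := by
      rw [← cancel_mono (Cone.pointed 𝒜).ι, Category.assoc, chart_ι, chart_ι, ← Spec.map_comp,
        ← CommRingCat.ofHom_comp, hpg]
    have hm1 : Spec.map (CommRingCat.ofHom pf) ≫ Spec.map (CommRingCat.ofHom
        (algebraMap (HomogeneousLocalization.Away 𝒜 f) (Localization.Away f))) ≫ Proj.awayι 𝒜 f hf hd =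
        Spec.map (CommRingCat.ofHom (algebraMap (HomogeneousLocalization.Away 𝒜 (f * g)) _)) ≫
          Proj.awayι 𝒜 (f * g) hfg (by omega) := by
      rw [← Proj.SpecMap_awayMap_awayι 𝒜 hf hd hg rfl, ← Spec.map_comp_assoc, ← Spec.map_comp_assoc,
        ← CommRingCat.ofHom_comp, ← CommRingCat.ofHom_comp]
      congr 3
      exact RingHom.ext fun a => (HomogeneousLocalization.val_awayMap _ _ _ a).symm
    have hm2 : Spec.map (CommRingCat.ofHom pg) ≫ Spec.map (CommRingCat.ofHom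
        (algebraMap (HomogeneousLocalization.Away 𝒜 g) (Localization.Away g))) ≫ Proj.awayι 𝒜 g hg he =
        Spec.map (CommRingCat.ofHom (algebraMap (HomogeneousLocalization.Away 𝒜 (f * g)) _)) ≫
          Proj.awayι 𝒜 (f * g) hfg (by omega) := by
      rw [show Proj.awayι 𝒜 (f * g) hfg (by omega) = _ from (Proj.SpecMap_awayMap_awayι 𝒜 hg he hf (mul_comm f g)).symm,
        ← Spec.map_comp_assoc,
        ← Spec.map_comp_assoc, ← CommRingCat.ofHom_comp, ← CommRingCat.ofHom_comp]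
      congr 3
      exact RingHom.ext fun a => (HomogeneousLocalization.val_awayMap _ _ _ a).symm
    haveI : IsOpenImmersion (Spec.map (CommRingCat.ofHom pg) ≫ Cone.chart hg he) := hc2 ▸ inferInstance
    refine ⟨_, Spec.map (CommRingCat.ofHom pf), Spec.map (CommRingCat.ofHom pg),
      IsOpenImmersion.of_comp _ (Cone.chart hg he), hc1.trans hc2.symm, hm1.trans hm2.symm, ?_⟩
    rintro x ⟨h1, h2⟩
    change x ∈ Set.range (Spec.map (CommRingCat.ofHom pg) ≫ Cone.chart hg he).base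
    rw [hc2, mem_range_chart]
    exact fun h => (((Cone.pointed 𝒜).ι.base x).isPrime.mem_or_mem h).elim
      ((mem_range_chart 𝒜 hf hd x).mp h1) ((mem_range_chart 𝒜 hg he x).mp h2))
  exact ⟨π, fun d f hd hf => hπ ⟨(d, f), hd, hf⟩, fun π' hπ' => huni π' fun i => hπ' _ _ i.2.1 i.2.2⟩

section Retraction

variable (π : (Cone.pointed 𝒜 : Scheme.{u}) ⟶ Proj 𝒜)
  (hπ : ∀ (d : ℕ) (f : A) (hd : 0 < d) (hf : f ∈ 𝒜 d),
    Cone.chart hf hd ≫ π =
      Spec.map (CommRingCat.ofHom (algebraMap (HomogeneousLocalization.Away 𝒜 f) (Localization.Away f))) ≫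
        Proj.awayι 𝒜 f hf hd)

include hπ

theorem retraction_notMem_iff {d : ℕ} {f : A} (hd : 0 < d) (hf : f ∈ 𝒜 d)
    (x : (Cone.pointed 𝒜 : Scheme.{u})) :
    f ∉ (π.base x).asHomogeneousIdeal ↔ f ∉ ((Cone.pointed 𝒜).ι.base x).asIdeal := by
  obtain ⟨⟨⟨e, g⟩, he, hg⟩, hgx⟩ := exists_chart 𝒜 x
  dsimp only at he hg hgx
  obtain ⟨y, rfl⟩ := (mem_range_chart 𝒜 hg he x).mpr hgx
  have h1 : π.base ((Cone.chart hg he).base y) = (Proj.awayι 𝒜 g hg he).base
      ((Spec.map (CommRingCat.ofHom (algebraMap (HomogeneousLocalization.Away 𝒜 g) _))).base y) :=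
    congrArg (fun k => k.base y) (hπ e g he hg)
  have h2 : (Cone.pointed 𝒜).ι.base ((Cone.chart hg he).base y) =
      (Spec.map (CommRingCat.ofHom (algebraMap A (Localization.Away g)))).base y :=
    congrArg (fun k => k.base y) (chart_ι 𝒜 hg he)
  rw [h2, ← Proj.mem_basicOpen, h1]
  change (Spec.map (CommRingCat.ofHom _)).base y ∈ Proj.awayι 𝒜 g hg he ⁻¹ᵁ Proj.basicOpen 𝒜 f ↔ _
  rw [Proj.awayι_preimage_basicOpen 𝒜 hg he hf hd]
  change (HomogeneousLocalization.Away.isLocalizationElem hg hf).val ∉ y.asIdeal ↔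
    algebraMap A (Localization.Away g) f ∉ y.asIdeal
  refine not_congr ?_
  have hu : IsUnit (algebraMap A (Localization.Away g) g) := IsLocalization.Away.algebraMap_isUnit g
  have hv : (HomogeneousLocalization.Away.isLocalizationElem hg hf).val *
      algebraMap A (Localization.Away g) g ^ d = algebraMap A (Localization.Away g) f ^ e := by
    rw [← map_pow, ← map_pow, HomogeneousLocalization.Away.isLocalizationElem,
      HomogeneousLocalization.Away.val_mk, Localization.mk_eq_mk']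
    exact IsLocalization.mk'_spec _ _ _
  constructor
  · intro h
    refine y.isPrime.mem_of_pow_mem e ?_
    rw [← hv]; exact Ideal.mul_mem_right _ _ h
  · intro h
    refine (Ideal.mul_unit_mem_iff_mem _ (hu.pow d)).mp ?_
    rw [hv]; exact Ideal.pow_mem_of_mem _ h e he

theorem retraction_preimage {d : ℕ} {f : A} (hd : 0 < d) (hf : f ∈ 𝒜 d) :
    π ⁻¹ᵁ Proj.basicOpen 𝒜 f = (Cone.pointed 𝒜).ι ⁻¹ᵁ Cone.coneOpen f := by
  ext x
  exact retraction_notMem_iff 𝒜 π hπ hd hf x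

theorem retraction_isAffineHom : IsAffineHom π := by
  refine isAffineHom_of_forall_exists_isAffineOpen _ fun x => ?_
  obtain ⟨d, f, hd, hf, hx⟩ := exists_mem_basicOpen 𝒜 x
  refine ⟨Proj.basicOpen 𝒜 f, hx, Proj.isAffineOpen_basicOpen 𝒜 _ hf hd, ?_⟩
  have h : π ⁻¹ᵁ Proj.basicOpen 𝒜 f = (Cone.chart (𝒜 := 𝒜) hf hd).opensRange := by
    rw [retraction_preimage 𝒜 π hπ hd hf]
    ext z
    exact (mem_range_chart 𝒜 hf hd z).symm
  rw [h]
  exact isAffineOpen_opensRange _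

theorem retraction_asHomogeneousIdeal (p : (Cone.pointed 𝒜 : Scheme.{u})) :
    (π.base p).asHomogeneousIdeal = (((Cone.pointed 𝒜).ι.base p).asIdeal).homogeneousCore 𝒜 := by
  classical
  set P := ((Cone.pointed 𝒜).ι.base p).asIdeal
  have hP : P.IsPrime := ((Cone.pointed 𝒜).ι.base p).isPrime
  set x := π.base p
  have key : ∀ n, ∀ a ∈ 𝒜 n, (a ∈ x.asHomogeneousIdeal.toIdeal ↔ a ∈ P) := by
    intro n a ha
    obtain ⟨⟨⟨e, g⟩, he, hg⟩, hgp⟩ := exists_chart 𝒜 p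
    dsimp only at he hg hgp
    have hgx : g ∉ x.asHomogeneousIdeal.toIdeal := (retraction_notMem_iff 𝒜 π hπ he hg p).mpr hgp
    have h : a * g ∈ x.asHomogeneousIdeal.toIdeal ↔ a * g ∈ P :=
      not_iff_not.mp (retraction_notMem_iff 𝒜 π hπ (show 0 < n + e by omega) (SetLike.mul_mem_graded ha hg) p)
    exact ⟨fun h' => (hP.mem_or_mem (h.mp (Ideal.mul_mem_right _ _ h'))).resolve_right hgp,
      fun h' => (x.isPrime.mem_or_mem (h.mpr (Ideal.mul_mem_right _ _ h'))).resolve_right hgx⟩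
  refine HomogeneousIdeal.ext (le_antisymm ?_ ?_) <;> intro a ha <;>
    rw [← DirectSum.sum_support_decompose 𝒜 a] <;> refine Ideal.sum_mem _ fun n _ => ?_
  · exact Ideal.mem_homogeneousCore_of_homogeneous_of_mem ⟨n, SetLike.coe_mem _⟩
      ((key n _ (SetLike.coe_mem _)).mp (x.asHomogeneousIdeal.isHomogeneous n ha))
  · exact (key n _ (SetLike.coe_mem _)).mpr
      (Ideal.toIdeal_homogeneousCore_le 𝒜 P ((Ideal.homogeneousCore 𝒜 P).isHomogeneous n ha))

theorem retraction_surjective : Surjective π := by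
  refine ⟨fun x => ?_⟩
  let q : Spec (CommRingCat.of A) := ⟨x.asHomogeneousIdeal.toIdeal, x.isPrime⟩
  have hq : q ∈ Cone.pointed 𝒜 := fun h => x.not_irrelevant_le ((PrimeSpectrum.mem_zeroLocus _ _).mp h)
  refine ⟨⟨q, hq⟩, ProjectiveSpectrum.ext ?_⟩
  refine (retraction_asHomogeneousIdeal 𝒜 π hπ ⟨q, hq⟩).trans ?_
  exact Ideal.IsHomogeneous.toIdeal_homogeneousCore_eq_self (x.asHomogeneousIdeal.isHomogeneous) |> HomogeneousIdeal.ext

end Retraction

section PCone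

variable {𝒜}
variable {B : Type u} [CommRing B] [Algebra R B] {ℬ : ℕ → Submodule R B} [GradedAlgebra ℬ] (φ : 𝒜 →+*ᵍ ℬ)

theorem pchart_ι {d : ℕ} {f : A} (hf : f ∈ 𝒜 d) (hd : 0 < d) :
    PCone.chart φ hf hd ≫ (PCone.dom φ).ι = Proj.awayι ℬ (φ f) (φ.2 hf) hd := IsOpenImmersion.lift_fac ..

instance {d : ℕ} {f : A} (hf : f ∈ 𝒜 d) (hd : 0 < d) : IsOpenImmersion (PCone.chart φ hf hd) := by
  haveI : IsOpenImmersion (PCone.chart φ hf hd ≫ (PCone.dom φ).ι) := by rw [pchart_ι]; infer_instance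
  exact IsOpenImmersion.of_comp _ (PCone.dom φ).ι

theorem mem_range_pchart {d : ℕ} {f : A} (hf : f ∈ 𝒜 d) (hd : 0 < d) (x : (PCone.dom φ : Scheme.{u})) :
    x ∈ Set.range (PCone.chart φ hf hd).base ↔ (PCone.dom φ).ι.base x ∈ Proj.basicOpen ℬ (φ f) := by
  rw [← Proj.opensRange_awayι ℬ (φ f) (φ.2 hf) hd]
  constructor
  · rintro ⟨y, rfl⟩
    exact ⟨y, (congrArg (fun k => k.base y) (pchart_ι φ hf hd)).symm⟩
  · rintro ⟨y, hy⟩
    refine ⟨y, (PCone.dom φ).ι.isOpenEmbedding.injective ?_⟩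
    rw [← hy]
    exact congrArg (fun k => k.base y) (pchart_ι φ hf hd)

theorem exists_pchart (x : (PCone.dom φ : Scheme.{u})) :
    ∃ i : PosHom 𝒜, x ∈ Set.range (PCone.chart φ i.2.2 i.2.1).base := by
  obtain ⟨⟨f, d, hd, hf⟩, hx⟩ := TopologicalSpace.Opens.mem_iSup.mp x.2
  exact ⟨⟨(d, f), hd, hf⟩, (mem_range_pchart φ hf hd x).mpr hx⟩

theorem existsUnique_dom_map :
    ∃! p : (PCone.dom φ : Scheme.{u}) ⟶ Proj 𝒜,
      ∀ (d : ℕ) (f : A) (hd : 0 < d) (hf : f ∈ 𝒜 d),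
        PCone.chart φ hf hd ≫ p =
          Spec.map (CommRingCat.ofHom (HomogeneousLocalization.Away.map φ f)) ≫ Proj.awayι 𝒜 f hf hd := by
  let c := fun i : PosHom 𝒜 => PCone.chart φ i.2.2 i.2.1
  let m := fun i : PosHom 𝒜 => Spec.map (CommRingCat.ofHom (HomogeneousLocalization.Away.map φ i.1.2)) ≫
    Proj.awayι 𝒜 i.1.2 i.2.2 i.2.1
  obtain ⟨π, hπ, huni⟩ := existsUnique_of_charts c (exists_pchart φ) m (fun i j => by
    obtain ⟨⟨d, f⟩, hd, hf⟩ := i
    obtain ⟨⟨e, g⟩, he, hg⟩ := j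
    dsimp only at hd hf he hg
    have hfg : f * g ∈ 𝒜 (d + e) := SetLike.mul_mem_graded hf hg
    let qf := HomogeneousLocalization.awayMap ℬ (φ.2 hg) (map_mul φ f g)
    let qg := HomogeneousLocalization.awayMap ℬ (φ.2 hf) ((map_mul φ f g).trans (mul_comm _ _))
    have hc1 : Spec.map (CommRingCat.ofHom qf) ≫ PCone.chart φ hf hd = PCone.chart φ hfg (by omega) := by
      rw [← cancel_mono (PCone.dom φ).ι, Category.assoc, pchart_ι, pchart_ι]
      exact Proj.SpecMap_awayMap_awayι ℬ (φ.2 hf) hd (φ.2 hg) (map_mul φ f g)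
    have hc2 : Spec.map (CommRingCat.ofHom qg) ≫ PCone.chart φ hg he = PCone.chart φ hfg (by omega) := by
      rw [← cancel_mono (PCone.dom φ).ι, Category.assoc, pchart_ι, pchart_ι]
      exact Proj.SpecMap_awayMap_awayι ℬ (φ.2 hg) he (φ.2 hf) ((map_mul φ f g).trans (mul_comm _ _))
    have sq : ∀ {d e : ℕ} {f g : A} (hf : f ∈ 𝒜 d) (hg : g ∈ 𝒜 e) {x : A} (hx : x = f * g)
        (hx' : φ x = φ f * φ g),
        (HomogeneousLocalization.awayMap ℬ (φ.2 hg) hx').comp (HomogeneousLocalization.Away.map φ f) =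
          (HomogeneousLocalization.Away.map φ x).comp (HomogeneousLocalization.awayMap 𝒜 hg hx) := by
      intro d e f g hf hg x hx hx'
      refine RingHom.ext fun a => HomogeneousLocalization.val_injective _ ?_
      obtain ⟨n, a, ha, rfl⟩ := HomogeneousLocalization.Away.mk_surjective 𝒜 hf a
      simp only [RingHom.comp_apply, HomogeneousLocalization.Away.map_mk,
        HomogeneousLocalization.awayMap_mk, HomogeneousLocalization.Away.val_mk]
      simp [map_mul, map_pow]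
    have hm1 : Spec.map (CommRingCat.ofHom qf) ≫ Spec.map (CommRingCat.ofHom
        (HomogeneousLocalization.Away.map φ f)) ≫ Proj.awayι 𝒜 f hf hd =
        Spec.map (CommRingCat.ofHom (HomogeneousLocalization.Away.map φ (f * g))) ≫
          Proj.awayι 𝒜 (f * g) hfg (by omega) := by
      rw [← Proj.SpecMap_awayMap_awayι 𝒜 hf hd hg rfl, ← Spec.map_comp_assoc, ← Spec.map_comp_assoc,
        ← CommRingCat.ofHom_comp, ← CommRingCat.ofHom_comp, sq hf hg rfl]
    have hm2 : Spec.map (CommRingCat.ofHom qg) ≫ Spec.map (CommRingCat.ofHom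
        (HomogeneousLocalization.Away.map φ g)) ≫ Proj.awayι 𝒜 g hg he =
        Spec.map (CommRingCat.ofHom (HomogeneousLocalization.Away.map φ (f * g))) ≫
          Proj.awayι 𝒜 (f * g) hfg (by omega) := by
      rw [show Proj.awayι 𝒜 (f * g) hfg (by omega) = _ from (Proj.SpecMap_awayMap_awayι 𝒜 hg he hf (mul_comm f g)).symm,
        ← Spec.map_comp_assoc,
        ← Spec.map_comp_assoc, ← CommRingCat.ofHom_comp, ← CommRingCat.ofHom_comp, sq hg hf (mul_comm f g)]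
    haveI : IsOpenImmersion (Spec.map (CommRingCat.ofHom qg) ≫ PCone.chart φ hg he) := hc2 ▸ inferInstance
    refine ⟨_, Spec.map (CommRingCat.ofHom qf), Spec.map (CommRingCat.ofHom qg),
      IsOpenImmersion.of_comp _ (PCone.chart φ hg he), hc1.trans hc2.symm, hm1.trans hm2.symm, ?_⟩
    rintro x ⟨h1, h2⟩
    change x ∈ Set.range (Spec.map (CommRingCat.ofHom qg) ≫ PCone.chart φ hg he).base
    rw [hc2, mem_range_pchart, map_mul, Proj.basicOpen_mul]
    exact ⟨(mem_range_pchart φ hf hd x).mp h1, (mem_range_pchart φ hg he x).mp h2⟩)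
  exact ⟨π, fun d f hd hf => hπ ⟨(d, f), hd, hf⟩, fun π' hπ' => huni π' fun i => hπ' _ _ i.2.1 i.2.2⟩

variable (p : (PCone.dom φ : Scheme.{u}) ⟶ Proj 𝒜)
  (hp : ∀ (d : ℕ) (f : A) (hd : 0 < d) (hf : f ∈ 𝒜 d),
    PCone.chart φ hf hd ≫ p =
      Spec.map (CommRingCat.ofHom (HomogeneousLocalization.Away.map φ f)) ≫ Proj.awayι 𝒜 f hf hd)

include hp

theorem dom_map_preimage {d : ℕ} {f : A} (hd : 0 < d) (hf : f ∈ 𝒜 d) :
    p ⁻¹ᵁ Proj.basicOpen 𝒜 f = (PCone.dom φ).ι ⁻¹ᵁ Proj.basicOpen ℬ (φ f) := by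
  ext x
  obtain ⟨⟨⟨e, g⟩, he, hg⟩, y, rfl⟩ := exists_pchart φ x
  dsimp only at he hg y
  change (PCone.chart φ hg he ≫ p).base y ∈ Proj.basicOpen 𝒜 f ↔
    (PCone.chart φ hg he ≫ (PCone.dom φ).ι).base y ∈ Proj.basicOpen ℬ (φ f)
  rw [hp, pchart_ι]
  change (Spec.map (CommRingCat.ofHom _)).base y ∈ Proj.awayι 𝒜 g hg he ⁻¹ᵁ Proj.basicOpen 𝒜 f ↔
    y ∈ Proj.awayι ℬ (φ g) (φ.2 hg) he ⁻¹ᵁ Proj.basicOpen ℬ (φ f)
  rw [Proj.awayι_preimage_basicOpen 𝒜 hg he hf hd]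
  erw [Proj.awayι_preimage_basicOpen ℬ (φ.2 hg) he (φ.2 hf) hd]
  have e1 : HomogeneousLocalization.Away.map φ g (HomogeneousLocalization.Away.isLocalizationElem hg hf) =
      HomogeneousLocalization.Away.isLocalizationElem (φ.2 hg) (φ.2 hf) := by
    simp [HomogeneousLocalization.Away.isLocalizationElem, HomogeneousLocalization.Away.map_mk, map_pow]
  change HomogeneousLocalization.Away.map φ g (HomogeneousLocalization.Away.isLocalizationElem hg hf) ∉ y.asIdeal ↔ _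
  rw [e1]
  rfl

theorem dom_map_isAffineHom : IsAffineHom p := by
  refine isAffineHom_of_forall_exists_isAffineOpen _ fun x => ?_
  obtain ⟨d, f, hd, hf, hx⟩ := exists_mem_basicOpen 𝒜 x
  refine ⟨Proj.basicOpen 𝒜 f, hx, Proj.isAffineOpen_basicOpen 𝒜 _ hf hd, ?_⟩
  have h : p ⁻¹ᵁ Proj.basicOpen 𝒜 f = (PCone.chart φ hf hd).opensRange := by
    rw [dom_map_preimage φ p hp hd hf]
    ext z
    exact (mem_range_pchart φ hf hd z).symm
  rw [h]
  exact isAffineOpen_opensRange _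

theorem exists_section_of_retraction (ψ : ℬ →+*ᵍ 𝒜) (hψφ : ∀ a : A, ψ (φ a) = a)
    (hψ : HomogeneousIdeal.irrelevant 𝒜 ≤ (HomogeneousIdeal.irrelevant ℬ).map ψ) :
    ∃ j : Proj 𝒜 ⟶ (PCone.dom φ : Scheme.{u}), j ≫ (PCone.dom φ).ι = Proj.map ψ hψ ∧ j ≫ p = 𝟙 (Proj 𝒜) := by
  have hrange : Set.range (Proj.map ψ hψ).base ⊆ Set.range (PCone.dom φ).ι.base := by
    rw [Scheme.Opens.range_ι]
    rintro _ ⟨x, rfl⟩
    obtain ⟨d, hd, f, hf, hfx⟩ : ∃ d, 0 < d ∧ ∃ f ∈ 𝒜 d, f ∉ x.asHomogeneousIdeal := by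
      by_contra! h
      exact x.not_irrelevant_le fun z hz => irrelevant_le_ideal 𝒜 h hz
    refine TopologicalSpace.Opens.mem_iSup.mpr ⟨⟨f, d, hd, hf⟩, ?_⟩
    change x ∈ Proj.map ψ hψ ⁻¹ᵁ Proj.basicOpen ℬ (φ f)
    rw [Proj.map_preimage_basicOpen, Proj.mem_basicOpen, hψφ]
    exact hfx
  refine ⟨IsOpenImmersion.lift (PCone.dom φ).ι (Proj.map ψ hψ) hrange, IsOpenImmersion.lift_fac .., ?_⟩
  set j := IsOpenImmersion.lift (PCone.dom φ).ι (Proj.map ψ hψ) hrange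
  have step : ∀ (η : 𝒜 →+*ᵍ 𝒜) (_ : η = GradedRingHom.id 𝒜) (d : ℕ) (f : A) (hf : f ∈ 𝒜 d) (hd : 0 < d),
      Spec.map (CommRingCat.ofHom (HomogeneousLocalization.Away.map η f)) ≫ Proj.awayι 𝒜 f hf hd =
        Proj.awayι 𝒜 (η f) (η.2 hf) hd := by
    rintro η rfl d f hf hd
    simp only [HomogeneousLocalization.Away.map_id, GradedRingHom.id_apply]
    erw [Spec.map_id, Category.id_comp]
    try rfl
  refine (Proj.affineOpenCover 𝒜).openCover.hom_ext _ _ fun s => ?_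
  suffices key : ∀ (d : ℕ) (hd : 0 < d) (f : A) (hf : f ∈ 𝒜 d),
      Proj.awayι 𝒜 f hf hd ≫ j ≫ p = Proj.awayι 𝒜 f hf hd ≫ 𝟙 (Proj 𝒜) from key _ s.1.2 _ s.2.2
  intro d hd f hf
  change Proj.awayι 𝒜 f hf hd ≫ j ≫ p = Proj.awayι 𝒜 f hf hd ≫ 𝟙 (Proj 𝒜)
  have h1 : Proj.awayι 𝒜 (ψ (φ f)) (ψ.2 (φ.2 hf)) hd ≫ j =
      Spec.map (CommRingCat.ofHom (HomogeneousLocalization.Away.map ψ (φ f))) ≫ PCone.chart φ hf hd := by
    rw [← cancel_mono (PCone.dom φ).ι, Category.assoc, Category.assoc, IsOpenImmersion.lift_fac, pchart_ι]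
    exact Proj.awayι_comp_map ψ hψ hd _ (φ.2 hf)
  have h2 : (Proj.awayι 𝒜 (ψ (φ f)) (ψ.2 (φ.2 hf)) hd ≫ j) ≫ p =
      Proj.awayι 𝒜 (ψ (φ f)) (ψ.2 (φ.2 hf)) hd := by
    rw [h1, Category.assoc, hp, ← Spec.map_comp_assoc, ← CommRingCat.ofHom_comp,
      ← HomogeneousLocalization.Away.map_comp]
    exact step (ψ.comp φ) (GradedRingHom.ext hψφ) _ _ hf hd
  have transfer : ∀ (g : A) (hg : g ∈ 𝒜 d), g = f →
      (Proj.awayι 𝒜 g hg hd ≫ j) ≫ p = Proj.awayι 𝒜 g hg hd →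
      Proj.awayι 𝒜 f hf hd ≫ j ≫ p = Proj.awayι 𝒜 f hf hd ≫ 𝟙 (Proj 𝒜) := by
    rintro g hg rfl h
    rw [Category.comp_id, ← Category.assoc]
    exact h
  exact transfer _ _ (hψφ _) h2

end PCone

end Groth.Ega2Proj
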