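/-
EGA II 2.9 type result: if `Proj` of `B` maps isomorphically to `Proj` of the subring generated in degree one,
then `B_n = B_1 ^ n` for large `n`.
-/
import Groth.Agent.Ega2Proj.ConeMaps
import Mathlib.RingTheory.GradedAlgebra.FiniteType
import Mathlib.RingTheory.Finiteness.Ideal

set_option autoImplicit false
universe u
open CategoryTheory AlgebraicGeometry TopologicalSpace DirectSum

namespace Groth.Ega2Proj.DegOne

variable {B : Type u} [CommRing B]

/-- Elements carried into `G` by every product of `N` elements of `T`. -/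
def Mult (G : Subring B) (T : Finset B) : ℕ → Set B
  | 0 => G
  | N + 1 => {x | ∀ t ∈ T, t * x ∈ Mult G T N}

variable {G : Subring B} {T : Finset B}

theorem mult_add_mem : ∀ {N : ℕ} {x y : B}, x ∈ Mult G T N → y ∈ Mult G T N → x + y ∈ Mult G T N
  | 0, _, _, hx, hy => G.add_mem hx hy
  | N + 1, x, y, hx, hy => fun t ht => by rw [mul_add]; exact mult_add_mem (hx t ht) (hy t ht)

theorem mult_zero_mem : ∀ N : ℕ, (0 : B) ∈ Mult G T N
  | 0 => G.zero_mem
  | N + 1 => fun t _ => by rw [mul_zero]; exact mult_zero_mem N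

theorem mult_sum_mem {N : ℕ} {κ : Type*} (s : Finset κ) (f : κ → B) (h : ∀ i ∈ s, f i ∈ Mult G T N) :
    ∑ i ∈ s, f i ∈ Mult G T N := by
  classical
  induction s using Finset.induction_on with
  | empty => simpa using mult_zero_mem N
  | insert a s ha ih =>
    rw [Finset.sum_insert ha]
    exact mult_add_mem (h a (Finset.mem_insert_self a s)) (ih fun i hi => h i (Finset.mem_insert_of_mem hi))

theorem mult_succ (hT : ∀ t ∈ T, t ∈ G) : ∀ {N : ℕ} {x : B}, x ∈ Mult G T N → x ∈ Mult G T (N + 1)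
  | 0, _, hx => fun t ht => G.mul_mem (hT t ht) hx
  | N + 1, _, hx => fun t ht => mult_succ hT (hx t ht)

theorem mult_mono (hT : ∀ t ∈ T, t ∈ G) {N M : ℕ} (h : N ≤ M) {x : B} (hx : x ∈ Mult G T N) :
    x ∈ Mult G T M := by
  induction h with
  | refl => exact hx
  | step _ ih => exact mult_succ hT ih

theorem mult_mul_right : ∀ {M : ℕ} {x y : B}, x ∈ G → y ∈ Mult G T M → x * y ∈ Mult G T M
  | 0, _, _, hx, hy => G.mul_mem hx hy
  | M + 1, x, y, hx, hy => fun t ht => by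
    rw [mul_left_comm]
    exact mult_mul_right hx (hy t ht)

theorem mult_mul : ∀ {N M : ℕ} {x y : B}, x ∈ Mult G T N → y ∈ Mult G T M → x * y ∈ Mult G T (N + M)
  | 0, M, _, _, hx, hy => by rw [Nat.zero_add]; exact mult_mul_right hx hy
  | N + 1, M, x, y, hx, hy => by
    rw [Nat.succ_add]
    intro t ht
    rw [← mul_assoc]
    exact mult_mul (hx t ht) hy

theorem mem_mult_of_pow [DecidableEq B] (hT : ∀ t ∈ T, t ∈ G) : ∀ (K : ℕ) (e : B → ℕ) (x : B),
    ∑ t ∈ T, e t < K → (∀ t ∈ T, t ^ e t * x ∈ G) → x ∈ Mult G T K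
  | 0, e, x, h, _ => absurd h (Nat.not_lt_zero _)
  | K + 1, e, x, h, hx => fun t ht => by
    by_cases he : e t = 0
    · have := hx t ht
      rw [he, pow_zero, one_mul] at this
      exact mult_mono hT (Nat.zero_le K) (G.mul_mem (hT t ht) this)
    · refine mem_mult_of_pow hT K (Function.update e t (e t - 1)) _ ?_ fun t' ht' => ?_
      · rw [Finset.sum_update_of_mem ht]
        have hsum := Finset.add_sum_erase T e ht
        rw [← Finset.sdiff_singleton_eq_erase] at hsum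
        omega
      · rcases eq_or_ne t' t with rfl | hne
        · rw [Function.update_self, ← mul_assoc, ← pow_succ, Nat.sub_add_cancel (Nat.pos_of_ne_zero he)]
          exact hx t' ht'
        · rw [Function.update_of_ne hne, mul_left_comm]
          exact G.mul_mem (hT t ht) (hx t' ht')

variable {R : Type u} [CommRing R] [Algebra R B] (ℬ : ℕ → Submodule R B) [GradedAlgebra ℬ]

/-- A homogeneous element of the span of homogeneous elements is a homogeneous combination. -/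
theorem exists_sum_of_mem_span (s : Finset B) (e : B → ℕ) (hs : ∀ x ∈ s, x ∈ ℬ (e x)) {n : ℕ} {b : B}
    (hb : b ∈ ℬ n) (hbs : b ∈ Ideal.span (s : Set B)) :
    ∃ c : B → B, (∀ x ∈ s, e x ≤ n → c x ∈ ℬ (n - e x)) ∧ b = ∑ x ∈ s with e x ≤ n, c x * x := by
  classical
  obtain ⟨f, hf⟩ := Submodule.mem_span_finset'.1 hbs
  refine ⟨fun x => if hx : x ∈ s then (decompose ℬ (f ⟨x, hx⟩) (n - e x) : B) else 0,
    fun x hx _ => by simp [hx], ?_⟩
  rw [← decompose_of_mem_same ℬ hb, ← hf, decompose_sum, DFinsupp.finset_sum_apply,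
    AddSubmonoidClass.coe_finset_sum, Finset.sum_filter]
  refine Eq.trans ?_ (Finset.sum_coe_sort s _)
  refine Finset.sum_congr rfl fun x _ => ?_
  rw [smul_eq_mul, coe_decompose_mul_of_right_mem ℬ n (hs x.1 x.2)]
  simp

theorem irrelevant_component (s : Finset B) (hs : Algebra.adjoin (ℬ 0) (s : Set B) = ⊤)
    (e : B → ℕ) (hse : ∀ x ∈ s, x ∈ ℬ (e x)) {n : ℕ} (hn : 0 < n) {b : B} (hb : b ∈ ℬ n) :
    b ∈ Ideal.span (s : Set B) := by
  classical
  have key : ∀ z : B, ∃ c ∈ ℬ 0, z - c ∈ Ideal.span (s : Set B) := by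
    intro z
    induction (show z ∈ Algebra.adjoin (ℬ 0) (s : Set B) from hs ▸ Algebra.mem_top) using
      Algebra.adjoin_induction with
    | mem x hx => exact ⟨0, zero_mem _, by simpa using Ideal.subset_span hx⟩
    | algebraMap r => exact ⟨r.1, r.2, by
        rw [show algebraMap (ℬ 0) B r = (r : B) from rfl, sub_self]; exact Ideal.zero_mem _⟩
    | add x y _ _ hx hy =>
      obtain ⟨c, hc, hxc⟩ := hx
      obtain ⟨d, hd, hyd⟩ := hy
      exact ⟨c + d, add_mem hc hd, by simpa [add_sub_add_comm] using Ideal.add_mem _ hxc hyd⟩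
    | mul x y _ _ hx hy =>
      obtain ⟨c, hc, hxc⟩ := hx
      obtain ⟨d, hd, hyd⟩ := hy
      refine ⟨c * d, by simpa using SetLike.mul_mem_graded hc hd, ?_⟩
      rw [show x * y - c * d = (x - c) * y + c * (y - d) by ring]
      exact Ideal.add_mem _ (Ideal.mul_mem_right _ _ hxc) (Ideal.mul_mem_left _ _ hyd)
  obtain ⟨c, hc, hbc⟩ := key b
  have hhom : (Ideal.span (s : Set B)).IsHomogeneous ℬ :=
    Ideal.homogeneous_span ℬ _ fun x hx => ⟨e x, hse x hx⟩
  have h := hhom n hbc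
  rwa [decompose_sub, DirectSum.sub_apply, AddSubgroupClass.coe_sub, decompose_of_mem_same ℬ hb,
    decompose_of_mem_ne ℬ hc hn.ne, sub_zero] at h

/-- The algebraic core. -/
theorem exists_forall_mem_of_pow [Algebra.FiniteType (ℬ 0) B] (hG : ∀ x ∈ ℬ 0, x ∈ G)
    (hG1 : ∀ x ∈ ℬ 1, x ∈ G) (hrad : ∀ d, 0 < d → ∀ b ∈ ℬ d, b ∈ (Ideal.span (ℬ 1 : Set B)).radical)
    (hpow : ∀ t ∈ ℬ 1, ∀ d, ∀ x ∈ ℬ d, ∃ k : ℕ, t ^ k * x ∈ G) :
    ∃ n₀ : ℕ, ∀ n, n₀ ≤ n → ∀ b ∈ ℬ n, b ∈ G := by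
  classical
  obtain ⟨s, hs, hse⟩ := GradedAlgebra.exists_finset_adjoin_eq_top_and_homogeneous_ne_zero ℬ
  choose! e he0 he using hse
  have hcomp := fun {n : ℕ} (hn : 0 < n) {b : B} (hb : b ∈ ℬ n) => irrelevant_component ℬ s hs e he hn hb
  -- a finite set of degree one elements
  have hfin : ∀ x ∈ s, ∃ (k : ℕ) (T : Finset B), (T : Set B) ⊆ ℬ 1 ∧ x ^ k ∈ Ideal.span (T : Set B) := fun x hx => by
    obtain ⟨k, hk⟩ := hrad (e x) (Nat.pos_of_ne_zero (he0 x hx)) x (he x hx)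
    obtain ⟨T, hT, hxT⟩ := Submodule.mem_span_finite_of_mem_span hk
    exact ⟨k, T, hT, hxT⟩
  choose! k T₀ hT₀ hk using hfin
  let T := s.biUnion T₀
  have hT1 : ∀ t ∈ T, t ∈ ℬ 1 := fun t ht => by
    obtain ⟨x, hx, ht⟩ := Finset.mem_biUnion.1 ht
    exact hT₀ x hx ht
  have hTG : ∀ t ∈ T, t ∈ G := fun t ht => hG1 t (hT1 t ht)
  have hle : Ideal.span (s : Set B) ≤ (Ideal.span (T : Set B)).radical :=
    Ideal.span_le.2 fun x hx => ⟨k x, Ideal.span_mono (by
      exact fun t ht => Finset.mem_coe.2 (Finset.mem_biUnion.2 ⟨x, hx, ht⟩)) (hk x hx)⟩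
  obtain ⟨K, hK⟩ := Ideal.exists_pow_le_of_le_radical_of_fg hle ⟨s, rfl⟩
  let D := s.sup e
  have hpowdeg : ∀ (j : ℕ) (n : ℕ), j * D < n → ∀ b ∈ ℬ n, b ∈ Ideal.span (s : Set B) ^ j := by
    intro j
    induction j with
    | zero => intro n _ b _; simp
    | succ j ih =>
      intro n hn b hb
      obtain ⟨c, hc, rfl⟩ := exists_sum_of_mem_span ℬ s e he hb (hcomp (by omega) hb)
      rw [pow_succ]
      refine Ideal.sum_mem _ fun x hx => ?_
      obtain ⟨hx, hxn⟩ := Finset.mem_filter.1 hx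
      have hxD : e x ≤ D := Finset.le_sup hx
      refine Ideal.mul_mem_mul (ih (n - e x) ?_ _ (hc x hx hxn)) (Ideal.subset_span hx)
      rw [Nat.succ_mul] at hn
      omega
  -- bound on generators
  have hgen : ∀ x ∈ s, ∃ N, x ∈ Mult G T N := fun x hx => by
    choose! f hf using fun t (ht : t ∈ T) => hpow t (hT1 t ht) (e x) x (he x hx)
    exact ⟨(∑ t ∈ T, f t) + 1, mem_mult_of_pow hTG _ f x (Nat.lt_succ_self _) hf⟩
  choose! N hN using hgen
  let N₀ := s.sup N
  have hbound : ∀ m, ∀ b ∈ ℬ m, b ∈ Mult G T (m * N₀) := by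
    intro m
    induction m using Nat.strong_induction_on with
    | _ m ih =>
      intro b hb
      rcases Nat.eq_zero_or_pos m with rfl | hm
      · exact mult_mono hTG (Nat.zero_le _) (hG b hb)
      obtain ⟨c, hc, rfl⟩ := exists_sum_of_mem_span ℬ s e he hb (hcomp hm hb)
      refine mult_sum_mem _ _ fun x hx => ?_
      obtain ⟨hx, hxn⟩ := Finset.mem_filter.1 hx
      have hpos := Nat.pos_of_ne_zero (he0 x hx)
      refine mult_mono hTG ?_ (mult_mul (ih (m - e x) (by omega) _ (hc x hx hxn)) (hN x hx))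
      calc (m - e x) * N₀ + N x ≤ (m - e x) * N₀ + e x * N₀ :=
            Nat.add_le_add_left ((Finset.le_sup hx).trans (Nat.le_mul_of_pos_left _ hpos)) _
        _ = m * N₀ := by rw [← Nat.add_mul, Nat.sub_add_cancel hxn]
  let n₁ := K * D + 1
  have hdesc : ∀ j, ∀ b ∈ ℬ (n₁ + j), b ∈ Mult G T (n₁ * N₀ - j) := by
    intro j
    induction j with
    | zero => intro b hb; exact hbound n₁ b hb
    | succ j ih =>
      intro b hb
      have hbT : b ∈ Ideal.span (T : Set B) := hK (hpowdeg K _ (by omega) b hb)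
      obtain ⟨c, hc, rfl⟩ := exists_sum_of_mem_span ℬ T (fun _ => 1) hT1 hb hbT
      refine mult_sum_mem _ _ fun t ht => ?_
      obtain ⟨ht, -⟩ := Finset.mem_filter.1 ht
      have hct : c t ∈ Mult G T (n₁ * N₀ - j) := ih _ (hc t ht (by omega))
      rw [mul_comm (c t) t]
      obtain h0 | ⟨M, hM⟩ : n₁ * N₀ - j = 0 ∨ ∃ M, n₁ * N₀ - j = M + 1 := by
        rcases Nat.eq_zero_or_pos (n₁ * N₀ - j) with h | h
        · exact Or.inl h
        · exact Or.inr ⟨_, (Nat.sub_add_cancel h).symm⟩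
      · rw [h0] at hct
        rw [show n₁ * N₀ - (j + 1) = 0 by omega]
        exact G.mul_mem (hTG t ht) hct
      · rw [hM] at hct
        rw [show n₁ * N₀ - (j + 1) = M by omega]
        exact hct t ht
  refine ⟨n₁ + n₁ * N₀, fun n hn b hb => ?_⟩
  have := hdesc (n - n₁) b (by rwa [show n₁ + (n - n₁) = n by omega])
  rwa [show n₁ * N₀ - (n - n₁) = 0 by omega] at this

section Proj

variable {R A B : Type u} [CommRing R] [CommRing A] [Algebra R A] {𝒜 : ℕ → Submodule R A} [GradedAlgebra 𝒜]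
  [CommRing B] [Algebra R B] {ℬ : ℕ → Submodule R B} [GradedAlgebra ℬ] (φ : 𝒜 →+*ᵍ ℬ)

theorem away_map_surjective (p : (PCone.dom φ : Scheme.{u}) ⟶ Proj 𝒜)
    (hp : ∀ (d : ℕ) (f : A) (hd : 0 < d) (hf : f ∈ 𝒜 d),
      PCone.chart φ hf hd ≫ p =
        Spec.map (CommRingCat.ofHom (HomogeneousLocalization.Away.map φ f)) ≫ Proj.awayι 𝒜 f hf hd)
    [IsIso p] {d : ℕ} {f : A} (hd : 0 < d) (hf : f ∈ 𝒜 d) :
    Function.Surjective (HomogeneousLocalization.Away.map φ f) := by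
  let m := Spec.map (CommRingCat.ofHom (HomogeneousLocalization.Away.map φ f))
  let ι := Proj.awayι 𝒜 f hf hd
  have hcomp : IsOpenImmersion (m ≫ ι) := by
    rw [← hp d f hd hf]
    infer_instance
  haveI : IsOpenImmersion m := IsOpenImmersion.of_comp m ι
  have hsurj : Function.Surjective m.base := by
    intro y
    let x := (inv p).base (ι.base y)
    have hpx : p.base x = ι.base y := congrArg (fun k => k.base (ι.base y)) (IsIso.inv_hom_id p)
    have hxD : x ∈ p ⁻¹ᵁ Proj.basicOpen 𝒜 f := by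
      change p.base x ∈ Proj.basicOpen 𝒜 f
      rw [hpx, ← Proj.opensRange_awayι 𝒜 f hf hd]
      exact ⟨y, rfl⟩
    rw [dom_map_preimage φ p hp hd hf] at hxD
    obtain ⟨z, hz⟩ := (mem_range_pchart φ hf hd x).2 hxD
    refine ⟨z, ι.isOpenEmbedding.injective ?_⟩
    calc ι.base (m.base z) = (PCone.chart φ hf hd ≫ p).base z :=
          (congrArg (fun k => k.base z) (hp d f hd hf)).symm
      _ = p.base x := congrArg p.base hz
      _ = ι.base y := hpx
  haveI : Surjective m := ⟨hsurj⟩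
  haveI : IsIso m := (isIso_iff_isOpenImmersion_and_epi_base m).2 ⟨inferInstance,
    (TopCat.epi_iff_surjective _).2 hsurj⟩
  haveI : IsIso (CommRingCat.ofHom (HomogeneousLocalization.Away.map φ f)) := by
    haveI : IsIso (Scheme.Spec.map (CommRingCat.ofHom (HomogeneousLocalization.Away.map φ f)).op) :=
      inferInstanceAs (IsIso m)
    haveI := isIso_of_reflects_iso (CommRingCat.ofHom (HomogeneousLocalization.Away.map φ f)).op Scheme.Spec
    exact isIso_of_op _
  exact (ConcreteCategory.bijective_of_isIso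
    (CommRingCat.ofHom (HomogeneousLocalization.Away.map φ f))).2

theorem exists_pow_mul_mem_range (p : (PCone.dom φ : Scheme.{u}) ⟶ Proj 𝒜)
    (hp : ∀ (d : ℕ) (f : A) (hd : 0 < d) (hf : f ∈ 𝒜 d),
      PCone.chart φ hf hd ≫ p =
        Spec.map (CommRingCat.ofHom (HomogeneousLocalization.Away.map φ f)) ≫ Proj.awayι 𝒜 f hf hd)
    [IsIso p] {f : A} (hf : f ∈ 𝒜 1) {d : ℕ} {b : B} (hb : b ∈ ℬ d) :
    ∃ k : ℕ, φ f ^ k * b ∈ (φ : A →+* B).range := by
  obtain ⟨z, hz⟩ := away_map_surjective φ p hp one_pos hf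
    (HomogeneousLocalization.Away.mk ℬ (φ.2 hf) d b (by simpa using hb))
  obtain ⟨m, a, ha, rfl⟩ := HomogeneousLocalization.Away.mk_surjective 𝒜 hf z
  have h := congrArg HomogeneousLocalization.val hz
  rw [HomogeneousLocalization.Away.map_mk, HomogeneousLocalization.Away.val_mk,
    HomogeneousLocalization.Away.val_mk, Localization.mk_eq_mk_iff, Localization.r_iff_exists] at h
  obtain ⟨⟨_, j, rfl⟩, hj⟩ := h
  refine ⟨j + m, f ^ j * (f ^ d * a), ?_⟩
  simp only at hj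
  rw [map_mul, map_mul, map_pow, map_pow, pow_add, mul_assoc]
  exact hj

theorem mem_radical_span_of_dom_eq_top (hdom : PCone.dom φ = ⊤) (hgen : ∀ n : ℕ, 1 ≤ n → 𝒜 n = 𝒜 1 ^ n)
    (h1 : ∀ a ∈ 𝒜 1, φ a ∈ ℬ 1) {d : ℕ} (hd : 0 < d) {b : B} (hb : b ∈ ℬ d) :
    b ∈ (Ideal.span (ℬ 1 : Set B)).radical := by
  rw [Ideal.radical_eq_sInf, Ideal.mem_sInf]
  rintro J ⟨hJ, hJp⟩
  by_contra hbJ
  have hIJ : Ideal.span (ℬ 1 : Set B) ≤ (J.homogeneousCore ℬ).toIdeal :=
    Ideal.span_le.2 fun x hx => Ideal.mem_homogeneousCore_of_homogeneous_of_mem ⟨1, hx⟩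
      (hJ (Ideal.subset_span hx))
  have hbc : b ∉ (J.homogeneousCore ℬ).toIdeal := fun h => hbJ (J.toIdeal_homogeneousCore_le ℬ h)
  let y : ProjectiveSpectrum ℬ := ⟨J.homogeneousCore ℬ, hJp.homogeneousCore, fun h => hbc (h (by
    change (GradedRing.proj ℬ 0) b = 0
    rw [GradedRing.proj_apply, DirectSum.decompose_of_mem_ne ℬ hb hd.ne']))⟩
  obtain ⟨⟨f, e, he, hf⟩, hy⟩ := TopologicalSpace.Opens.mem_iSup.1 (show y ∈ PCone.dom φ from hdom ▸ trivial)
  refine hy ?_
  change φ f ∈ (J.homogeneousCore ℬ).toIdeal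
  have key : ∀ z ∈ 𝒜 1 ^ (e - 1) * 𝒜 1, φ z ∈ (J.homogeneousCore ℬ).toIdeal := fun z hz => by
    induction hz using Submodule.mul_induction_on' with
    | mem_mul_mem a _ c hc => rw [map_mul]; exact Ideal.mul_mem_left _ _ (hIJ (Ideal.subset_span (h1 c hc)))
    | add a _ c _ ha hc => rw [map_add]; exact Ideal.add_mem _ ha hc
  refine key f ?_
  rw [← pow_succ, show e - 1 + 1 = e by omega, ← hgen e he]
  exact hf

theorem map_mem_pow (h1 : ∀ a ∈ 𝒜 1, φ a ∈ ℬ 1) :
    ∀ n : ℕ, 1 ≤ n → ∀ a ∈ 𝒜 1 ^ n, φ a ∈ ℬ 1 ^ n := by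
  intro n hn
  induction n, hn using Nat.le_induction with
  | base => simpa only [pow_one] using h1
  | succ n hn ih =>
    intro a ha
    rw [pow_succ] at ha ⊢
    induction ha using Submodule.mul_induction_on' with
    | mem_mul_mem a ha c hc => rw [map_mul]; exact Submodule.mul_mem_mul (ih a ha) (h1 c hc)
    | add a _ c _ ha hc => rw [map_add]; exact add_mem ha hc

/-- If the map `Proj B → Proj A` is everywhere defined and an isomorphism, `A` generated in degree one with the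
same degree zero and one parts as `B`, then `B_n = B_1 ^ n` for `n` large. -/
theorem eventually_eq_pow [Algebra.FiniteType (ℬ 0) B]
    (h0 : Set.BijOn φ (𝒜 0) (ℬ 0)) (h1 : Set.BijOn φ (𝒜 1) (ℬ 1))
    (hgen : ∀ n : ℕ, 1 ≤ n → 𝒜 n = 𝒜 1 ^ n) (hdom : PCone.dom φ = ⊤)
    (p : (PCone.dom φ : Scheme.{u}) ⟶ Proj 𝒜)
    (hp : ∀ (d : ℕ) (f : A) (hd : 0 < d) (hf : f ∈ 𝒜 d),
      PCone.chart φ hf hd ≫ p =
        Spec.map (CommRingCat.ofHom (HomogeneousLocalization.Away.map φ f)) ≫ Proj.awayι 𝒜 f hf hd)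
    [IsIso p] : ∃ n₀ : ℕ, ∀ n : ℕ, n₀ ≤ n → ℬ n = ℬ 1 ^ n := by
  classical
  have h1' : ∀ a ∈ 𝒜 1, φ a ∈ ℬ 1 := fun a ha => h1.mapsTo ha
  obtain ⟨n₀, hn₀⟩ := exists_forall_mem_of_pow (G := (φ : A →+* B).range) ℬ
    (fun x hx => by obtain ⟨a, -, rfl⟩ := h0.surjOn hx; exact ⟨a, rfl⟩)
    (fun x hx => by obtain ⟨a, -, rfl⟩ := h1.surjOn hx; exact ⟨a, rfl⟩)
    (fun d hd b hb => mem_radical_span_of_dom_eq_top φ hdom hgen h1' hd hb)
    (fun t ht d x hx => by
      obtain ⟨f, hf, rfl⟩ := h1.surjOn ht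
      exact exists_pow_mul_mem_range φ p hp hf hx)
  refine ⟨n₀ + 1, fun n hn => le_antisymm (fun b hb => ?_) ?_⟩
  · obtain ⟨a, rfl⟩ := hn₀ n (by omega) b hb
    have e : φ a = φ (DirectSum.decompose 𝒜 a n : A) := by
      rw [map_directSumDecompose 𝒜 ℬ φ]
      exact (DirectSum.decompose_of_mem_same ℬ hb).symm
    change φ a ∈ _
    rw [e]
    exact map_mem_pow φ h1' n (by omega) _ (hgen n (by omega) ▸ SetLike.coe_mem _)
  · clear hn
    intro b hb
    induction hb using Submodule.pow_induction_on_left' with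
    | algebraMap r => exact SetLike.algebraMap_mem_graded ℬ r
    | add x y i _ _ hx hy => exact add_mem hx hy
    | mem_mul m hm i x _ hx => exact (show 1 + i = i.succ by omega) ▸ SetLike.mul_mem_graded hm hx

end Proj

end Groth.Ega2Proj.DegOne
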