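import Groth.Agent.Ega2Proj.Generators
import Mathlib.RingTheory.MvPolynomial.Basic
import Mathlib.RingTheory.FinitePresentation
import Mathlib.Algebra.Algebra.Operations

/-!
# Veronese-type generation statements for graded rings of finite type
-/

universe u

open DirectSum

namespace Groth.Ega2Proj

variable {R A : Type u} [CommRing R] [CommRing A] [Algebra R A] (𝒜 : ℕ → Submodule R A) [GradedAlgebra 𝒜]

theorem prod_pow_mem_deg {ι : Type*} [Fintype ι] {e : ι → A} {dg : ι → ℕ} (he : ∀ i, e i ∈ 𝒜 (dg i))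
    (α : ι → ℕ) : ∏ i, e i ^ α i ∈ 𝒜 (∑ i, α i * dg i) :=
  SetLike.prod_pow_mem_graded _ dg e α fun i _ => he i

/-- Homogeneous elements are combinations over degree zero of monomials of the same degree. -/
theorem mem_of_monomials {ι : Type*} [Fintype ι] {e : ι → A} {dg : ι → ℕ} (he : ∀ i, e i ∈ 𝒜 (dg i))
    (htop : Algebra.adjoin (𝒜 0) (Set.range e) = ⊤) {n : ℕ} {a : A} (ha : a ∈ 𝒜 n) (S : AddSubmonoid A)
    (hS : ∀ (c : A) (α : ι → ℕ), c ∈ 𝒜 0 → ∑ i, α i * dg i = n → c * ∏ i, e i ^ α i ∈ S) : a ∈ S := by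
  classical
  have h : a ∈ (MvPolynomial.aeval (R := 𝒜 0) e).range :=
    (Algebra.adjoin_range_eq_range_aeval (𝒜 0) e) ▸ (htop ▸ Algebra.mem_top)
  obtain ⟨p, hp⟩ := h
  rw [← decompose_of_mem_same 𝒜 ha, ← hp]
  change ((decompose 𝒜 (MvPolynomial.aeval (R := 𝒜 0) e p)) n : A) ∈ S
  rw [MvPolynomial.aeval_def, MvPolynomial.eval₂_eq', decompose_sum, DFinsupp.finset_sum_apply,
    AddSubmonoidClass.coe_finsetSum]
  refine sum_mem fun α _ => ?_
  have hm : algebraMap (𝒜 0) A (p.coeff α) * ∏ i, e i ^ α i ∈ 𝒜 (0 + ∑ i, α i * dg i) :=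
    SetLike.mul_mem_graded (MvPolynomial.coeff α p).2 (prod_pow_mem_deg 𝒜 he α)
  rw [zero_add] at hm
  by_cases h : ∑ i, α i * dg i = n
  · rw [← h, decompose_of_mem_same 𝒜 hm]
    exact hS _ _ (MvPolynomial.coeff α p).2 h
  · rw [decompose_of_mem_ne 𝒜 hm h]
    exact zero_mem _

variable [Algebra.FiniteType (𝒜 0) A]

theorem exists_indexed_generators :
    ∃ (N : ℕ) (e : Fin N → A) (dg : Fin N → ℕ), (∀ i, e i ∈ 𝒜 (dg i)) ∧ (∀ i, 0 < dg i) ∧
      Algebra.adjoin (𝒜 0) (Set.range e) = ⊤ := by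
  classical
  obtain ⟨s, hs, hs'⟩ := GradedAlgebra.exists_finset_adjoin_eq_top_and_homogeneous_ne_zero 𝒜
  choose dg hdg hmem using hs'
  let v := s.equivFin.symm
  refine ⟨s.card, fun i => (v i : A), fun i => dg _ (v i).2, fun i => hmem _ (v i).2,
    fun i => Nat.pos_of_ne_zero (hdg _ (v i).2), ?_⟩
  rw [show (fun i => (v i : A)) = Subtype.val ∘ v from rfl, Set.range_comp, v.range_eq_univ,
    Set.image_univ, Subtype.range_coe_subtype]
  exact hs

/-- For some period `q`, `𝒜 (n + q) = 𝒜 q * 𝒜 n` once `n` is large. -/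
theorem exists_period :
    ∃ q B : ℕ, 0 < q ∧ ∀ n, B ≤ n → 𝒜 (n + q) ≤ 𝒜 q * 𝒜 n := by
  classical
  obtain ⟨N, e, dg, he, hpos, htop⟩ := exists_indexed_generators 𝒜
  let q := ∏ i, dg i
  have hq : 0 < q := Finset.prod_pos fun i _ => hpos i
  refine ⟨q, N * q, hq, fun n hn a ha => ?_⟩
  refine mem_of_monomials 𝒜 he htop ha (𝒜 q * 𝒜 n).toAddSubmonoid fun c α hc hα => ?_
  obtain ⟨i, hi⟩ : ∃ i, q ≤ α i * dg i := by
    by_contra! h
    have h1 : ∑ i, α i * dg i ≤ ∑ _i : Fin N, q := Finset.sum_le_sum fun i _ => (h i).le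
    rw [hα, Finset.sum_const, Finset.card_univ, Fintype.card_fin, smul_eq_mul] at h1
    omega
  obtain ⟨k, hk⟩ : dg i ∣ q := Finset.dvd_prod_of_mem _ (Finset.mem_univ i)
  have hki : k ≤ α i := by rw [hk, mul_comm] at hi; exact Nat.le_of_mul_le_mul_right hi (hpos i)
  let β := Function.update α i (α i - k)
  have hβ : ∏ j, e j ^ α j = e i ^ k * ∏ j, e j ^ β j := by
    rw [← Finset.mul_prod_erase _ _ (Finset.mem_univ i), ← Finset.mul_prod_erase (f := fun j => e j ^ β j) _
      (Finset.mem_univ i), ← mul_assoc]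
    congr 1
    · simp only [β, Function.update_self]
      rw [← pow_add, Nat.add_sub_cancel' hki]
    · exact Finset.prod_congr rfl fun j hj => by simp [β, Function.update_of_ne (Finset.ne_of_mem_erase hj)]
  have hsum : ∑ j, β j * dg j = n := by
    have h1 : ∑ j, α j * dg j = k * dg i + ∑ j, β j * dg j := by
      rw [← Finset.add_sum_erase _ _ (Finset.mem_univ i), ← Finset.add_sum_erase (f := fun j => β j * dg j) _
        (Finset.mem_univ i), ← add_assoc]
      congr 1
      · simp only [β, Function.update_self]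
        rw [← add_mul, Nat.add_sub_cancel' hki]
      · exact Finset.sum_congr rfl fun j hj => by simp [β, Function.update_of_ne (Finset.ne_of_mem_erase hj)]
    have h2 : k * dg i = q := by rw [hk, mul_comm]
    omega
  change c * ∏ j, e j ^ α j ∈ 𝒜 q * 𝒜 n
  rw [hβ, ← mul_assoc]
  refine Submodule.mul_mem_mul ?_ (hsum ▸ prod_pow_mem_deg 𝒜 he β)
  have := SetLike.mul_mem_graded (A := 𝒜) hc (SetLike.pow_mem_graded k (he i))
  rwa [zero_add, smul_eq_mul, show k * dg i = q by rw [hk, mul_comm]] at this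

theorem mul_le_add (i j : ℕ) : 𝒜 i * 𝒜 j ≤ 𝒜 (i + j) :=
  Submodule.mul_le.mpr fun _ ha _ hb => SetLike.mul_mem_graded ha hb

theorem exists_deg_pow_eq : ∃ h : ℕ, 0 < h ∧ ∀ m, 0 < m → 𝒜 (m * h) = 𝒜 h ^ m := by
  obtain ⟨q, B, hq, hper⟩ := exists_period 𝒜
  refine ⟨q * (B + 1), Nat.mul_pos hq B.succ_pos, ?_⟩
  set h := q * (B + 1) with hh
  have iter : ∀ j n, B ≤ n → 𝒜 (n + (j + 1) * q) ≤ 𝒜 ((j + 1) * q) * 𝒜 n := by
    intro j
    induction j with
    | zero => intro n hn; simpa using hper n hn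
    | succ j ih =>
      intro n hn
      calc 𝒜 (n + (j + 1 + 1) * q) = 𝒜 (n + (j + 1) * q + q) := by congr 1; ring
        _ ≤ 𝒜 q * 𝒜 (n + (j + 1) * q) := hper _ (by omega)
        _ ≤ 𝒜 q * (𝒜 ((j + 1) * q) * 𝒜 n) := mul_le_mul_right (ih n hn) _
        _ ≤ 𝒜 ((j + 1 + 1) * q) * 𝒜 n := by
          rw [← mul_assoc]
          refine mul_le_mul_left ((mul_le_add 𝒜 _ _).trans (le_of_eq ?_)) _
          congr 1; ring
  intro m hm
  induction m, hm using Nat.le_induction with
  | base => simp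
  | succ m hm ih =>
    refine le_antisymm ?_ ?_
    · have hB : B ≤ m * h :=
        le_trans (le_trans B.le_succ (Nat.le_mul_of_pos_left _ hq)) (Nat.le_mul_of_pos_left _ hm)
      have h1 := iter B (m * h) hB
      have e : (B + 1) * q = h := by rw [hh, mul_comm]
      rw [e] at h1
      calc 𝒜 ((m + 1) * h) = 𝒜 (m * h + h) := by congr 1; ring
        _ ≤ 𝒜 h * 𝒜 (m * h) := h1
        _ = 𝒜 h ^ (m + 1) := by rw [ih, pow_succ' (𝒜 h) m]
    · rw [pow_succ, ← ih]
      exact (mul_le_add 𝒜 _ _).trans (le_of_eq (by congr 1; ring))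

theorem exists_module_period {M : Type u} [AddCommGroup M] [Module R M] [Module A M] [IsScalarTower R A M]
    (ℳ : ℕ → Submodule R M) [DirectSum.Decomposition ℳ] [SetLike.GradedSMul 𝒜 ℳ] [Module.Finite A M] :
    ∃ (n₁ h : ℕ), 0 < h ∧ ∀ n : ℕ, n₁ ≤ n → ℳ (n + h) = (𝒜 h : Submodule R A) • (ℳ n : Submodule R M) := by
  classical
  obtain ⟨q, B, hq, hper⟩ := exists_period 𝒜
  obtain ⟨F, hF⟩ := (Module.Finite.fg_top : (⊤ : Submodule A M).FG)
  let D := F.sup fun x => (decompose ℳ x).support.sup id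
  refine ⟨B + D, q, hq, fun n hn => le_antisymm (fun y hy => ?_) ?_⟩
  · let S : AddSubmonoid M := ((𝒜 q : Submodule R A) • (ℳ n : Submodule R M)).toAddSubmonoid
    suffices h : ∀ z ∈ Submodule.span A (F : Set M), ∀ r : A, ((decompose ℳ (r • z) (n + q) : M)) ∈ S by
      have h1 := h y (hF ▸ Submodule.mem_top) 1
      rwa [one_smul, decompose_of_mem_same ℳ hy] at h1
    intro z hz
    induction hz using Submodule.span_induction with
    | mem x hx =>
      intro r
      rw [← DirectSum.sum_support_decompose ℳ x, Finset.smul_sum, decompose_sum, DFinsupp.finset_sum_apply,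
        AddSubmonoidClass.coe_finsetSum]
      refine sum_mem fun j hj => ?_
      have hjD : j ≤ D := le_trans (Finset.le_sup (f := id) hj) (Finset.le_sup (f := fun x => (decompose ℳ x).support.sup id) hx)
      rw [← DirectSum.sum_support_decompose 𝒜 r, Finset.sum_smul, decompose_sum, DFinsupp.finset_sum_apply,
        AddSubmonoidClass.coe_finsetSum]
      refine sum_mem fun i _ => ?_
      have hmem : (decompose 𝒜 r i : A) • (decompose ℳ x j : M) ∈ ℳ (i + j) :=
        SetLike.GradedSMul.smul_mem (A := 𝒜) (B := ℳ) (i := i) (j := j) (SetLike.coe_mem (decompose 𝒜 r i))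
          (SetLike.coe_mem (decompose ℳ x j))
      by_cases hij : i + j = n + q
      · rw [hij] at hmem
        rw [decompose_of_mem_same ℳ hmem]
        obtain ⟨k, rfl⟩ : ∃ k, i = k + q := ⟨i - q, by omega⟩
        refine Submodule.mul_induction_on (hper k (by omega) (SetLike.coe_mem (decompose 𝒜 r (k + q))))
          (fun a ha b hb => ?_) (fun a b ha hb => ?_)
        · change (a * b) • (decompose ℳ x j : M) ∈ (𝒜 q : Submodule R A) • (ℳ n : Submodule R M)
          rw [mul_smul]
          refine Submodule.smul_mem_smul ha ?_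
          have hkj : k + j = n := by omega
          rw [← hkj]
          exact SetLike.GradedSMul.smul_mem (A := 𝒜) (B := ℳ) (i := k) (j := j) hb (SetLike.coe_mem (decompose ℳ x j))
        · rw [add_smul]; exact add_mem ha hb
      · rw [decompose_of_mem_ne ℳ hmem hij]; exact zero_mem _
    | zero => intro r; simp
    | add a b _ _ ha hb =>
      intro r
      rw [smul_add, decompose_add, DirectSum.add_apply, AddMemClass.coe_add]
      exact add_mem (ha r) (hb r)
    | smul c a _ ha => intro r; rw [smul_smul]; exact ha _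
  · refine Submodule.smul_le.mpr fun a ha b hb => ?_
    rw [add_comm]
    exact SetLike.GradedSMul.smul_mem ha hb

section Sub

variable {B : Type u} [CommRing B] [Algebra R B] (ℬ : ℕ → Submodule R B) [GradedAlgebra ℬ]
  {d : ℕ} (φ : B →ₐ[R] A) (hφ : Function.Injective φ)
  (hdeg : ∀ n : ℕ, Submodule.map φ.toLinearMap (ℬ n) = 𝒜 (n * d))

include hφ hdeg

theorem veronese_finiteType (hd : 0 < d) : Algebra.FiniteType (ℬ 0) B := by
  classical
  obtain ⟨N, e, dg, he, hpos, htop⟩ := exists_indexed_generators 𝒜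
  have pre : ∀ (m : ℕ) (a : A), a ∈ 𝒜 (m * d) → ∃ b ∈ ℬ m, φ b = a := fun m a ha => by
    have hm : a ∈ Submodule.map φ.toLinearMap (ℬ m) := (hdeg m).ge ha
    exact hm
  have mon : ∀ α : Fin N → Fin (d + 1), ∃ b : B,
      d ∣ ∑ i, (α i : ℕ) * dg i → φ b = ∏ i, e i ^ (α i : ℕ) := by
    intro α
    by_cases h : d ∣ ∑ i, (α i : ℕ) * dg i
    · obtain ⟨m, hm⟩ := h
      obtain ⟨b, -, hb⟩ := pre m _ (by
        rw [show m * d = ∑ i, (α i : ℕ) * dg i by rw [hm, mul_comm]]
        exact prod_pow_mem_deg 𝒜 he _)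
      exact ⟨b, fun _ => hb⟩
    · exact ⟨0, fun h' => absurd h' h⟩
  choose g hg using mon
  refine ⟨Finset.univ.image g, top_le_iff.mp fun b _ => ?_⟩
  set T := Algebra.adjoin (ℬ 0) ((Finset.univ.image g : Finset B) : Set B)
  let S : Subring A := T.toSubring.map φ.toRingHom
  have key : ∀ (k : ℕ) (α : Fin N → ℕ), ∑ i, α i = k → d ∣ ∑ i, α i * dg i → ∏ i, e i ^ α i ∈ S := by
    intro k
    induction k using Nat.strong_induction_on with
    | _ k ih =>
      intro α hk hdvd
      by_cases hsmall : ∀ i, α i ≤ d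
      · exact ⟨g (fun i => ⟨α i, Nat.lt_succ_of_le (hsmall i)⟩),
          Algebra.subset_adjoin (Finset.mem_image_of_mem _ (Finset.mem_univ _)), hg _ hdvd⟩
      · push Not at hsmall
        obtain ⟨i, hi⟩ := hsmall
        let β := Function.update α i (α i - d)
        have hβi : β i = α i - d := Function.update_self ..
        have hβj : ∀ j ∈ Finset.univ.erase i, β j = α j :=
          fun j hj => Function.update_of_ne (Finset.ne_of_mem_erase hj) ..
        have hprod : ∏ j, e j ^ α j = e i ^ d * ∏ j, e j ^ β j := by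
          rw [← Finset.mul_prod_erase _ _ (Finset.mem_univ i), ← Finset.mul_prod_erase (f := fun j => e j ^ β j) _
            (Finset.mem_univ i), ← mul_assoc, hβi, ← pow_add, Nat.add_sub_cancel' hi.le,
            Finset.prod_congr rfl (fun j hj => congrArg (e j ^ ·) (hβj j hj))]
        have hsumd : ∑ j, α j * dg j = d * dg i + ∑ j, β j * dg j := by
          rw [← Finset.add_sum_erase _ _ (Finset.mem_univ i), ← Finset.add_sum_erase (f := fun j => β j * dg j) _
            (Finset.mem_univ i), ← add_assoc, hβi, ← add_mul, Nat.add_sub_cancel' hi.le,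
            Finset.sum_congr rfl (fun j hj => congrArg (· * dg j) (hβj j hj))]
        have hsum : ∑ j, α j = d + ∑ j, β j := by
          rw [← Finset.add_sum_erase _ _ (Finset.mem_univ i), ← Finset.add_sum_erase (f := β) _
            (Finset.mem_univ i), ← add_assoc, hβi, Nat.add_sub_cancel' hi.le, Finset.sum_congr rfl hβj]
        rw [hprod]
        refine mul_mem ?_ (ih (∑ j, β j) (by omega) β rfl ?_)
        · let α₀ : Fin N → Fin (d + 1) := Pi.single i ⟨d, Nat.lt_succ_self d⟩
          have hα₀ : ∀ j, (α₀ j : ℕ) = Pi.single (M := fun _ => ℕ) i d j := fun j => by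
            rcases eq_or_ne j i with rfl | hj
            · simp [α₀]
            · simp [α₀, hj]
          have hp : ∏ j, e j ^ (α₀ j : ℕ) = e i ^ d := by
            simp only [hα₀]
            rw [Finset.prod_eq_single i (fun j _ hj => by simp [hj]) (fun h => absurd (Finset.mem_univ i) h)]
            simp
          have hs : ∑ j, (α₀ j : ℕ) * dg j = d * dg i := by
            simp only [hα₀]
            rw [Finset.sum_eq_single i (fun j _ hj => by simp [hj]) (fun h => absurd (Finset.mem_univ i) h)]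
            simp
          exact ⟨g α₀, Algebra.subset_adjoin (Finset.mem_image_of_mem _ (Finset.mem_univ _)),
            (hg α₀ (hs ▸ dvd_mul_right _ _)).trans hp⟩
        · rw [hsumd] at hdvd
          exact (Nat.dvd_add_right (dvd_mul_right _ _)).mp hdvd
  have hom : ∀ (m : ℕ), ∀ x ∈ ℬ m, x ∈ T := by
    intro m x hx
    have hxA : φ x ∈ 𝒜 (m * d) := (hdeg m).le ⟨x, hx, rfl⟩
    have := mem_of_monomials 𝒜 he htop hxA S.toAddSubmonoid fun c α hc hα => by
      show c * ∏ i, e i ^ α i ∈ S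
      refine mul_mem ?_ (key _ α rfl (hα ▸ dvd_mul_left _ _))
      obtain ⟨c', hc', hcc⟩ := pre 0 c (by simpa using hc)
      exact ⟨c', Subalgebra.algebraMap_mem T ⟨c', hc'⟩, hcc⟩
    obtain ⟨y, hy, hyx⟩ := this
    exact hφ hyx ▸ hy
  rw [← DirectSum.sum_support_decompose ℬ b]
  exact sum_mem fun m _ => hom m _ (SetLike.coe_mem _)

end Sub

end Groth.Ega2Proj
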