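/-
For gradings by additive subgroups of finite type over degree zero: some degree d generates the Veronese subring.
-/
import Groth.Prelude.Def_RelProj
import Groth.Agent.Ega2Proj.Veronese

set_option autoImplicit false
universe u
open DirectSum
open scoped Pointwise

namespace Groth.Ega2Proj.DegPow

variable {R A : Type u} [CommRing R] [CommRing A] [Algebra R A] (𝒜 : ℕ → AddSubgroup A) [GradedRing 𝒜]
  (h0 : ∀ r : R, algebraMap R A r ∈ 𝒜 0)

/-- The pieces as modules. -/
def piece (n : ℕ) : Submodule R A where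
  carrier := 𝒜 n
  add_mem' := (𝒜 n).add_mem
  zero_mem' := (𝒜 n).zero_mem
  smul_mem' r x hx := by
    show r • x ∈ 𝒜 n
    rw [Algebra.smul_def]
    simpa using SetLike.mul_mem_graded (h0 r) hx

/-- The grading by modules. -/
noncomputable instance graded : GradedAlgebra (piece 𝒜 h0) where
  one_mem := SetLike.one_mem_graded 𝒜
  mul_mem := fun _ _ _ _ ha hb => SetLike.mul_mem_graded (A := 𝒜) ha hb
  decompose' := fun a => DirectSum.decompose 𝒜 a
  left_inv := (DirectSum.decompose 𝒜).left_inv
  right_inv := (DirectSum.decompose 𝒜).right_inv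

theorem piece_toAddSubmonoid (n : ℕ) :
    (piece 𝒜 h0 n).toAddSubmonoid = (AddSubgroup.toIntSubmodule (𝒜 n)).toAddSubmonoid := rfl

include h0 in
theorem exists_deg [Algebra.FiniteType R A] :
    ∃ h : ℕ, 0 < h ∧ ∀ d, 0 < d → h ∣ d →
      (∀ n : ℕ, 0 < n → AddSubgroup.toIntSubmodule (𝒜 (n * d)) = AddSubgroup.toIntSubmodule (𝒜 d) ^ n) ∧
      ∃ T : Finset A, (↑T : Set A) ⊆ (𝒜 d : Set A) ∧
        AddSubgroup.toIntSubmodule (𝒜 d) = AddSubgroup.toIntSubmodule (𝒜 0) * Submodule.span ℤ (↑T : Set A) := by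
  classical
  let P := piece 𝒜 h0
  haveI : IsScalarTower R (P 0) A := ⟨fun r x a => smul_mul_assoc r (x : A) a⟩
  haveI : Algebra.FiniteType (P 0) A := Algebra.FiniteType.of_restrictScalars_finiteType R _ _
  obtain ⟨h, hh, hpow⟩ := exists_deg_pow_eq P
  obtain ⟨N, e, dg, he, hpos, htop⟩ := exists_indexed_generators P
  refine ⟨h, hh, fun d hd hdvd => ⟨fun n hn => ?_, ?_⟩⟩
  · obtain ⟨k, rfl⟩ := hdvd
    have hk : 0 < k := Nat.pos_of_mul_pos_left hd
    have e1 : P (n * (h * k)) = P (h * k) ^ n := by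
      rw [show n * (h * k) = (k * n) * h by ring, hpow _ (Nat.mul_pos hk hn), pow_mul, ← hpow k hk, mul_comm k h]
    apply Submodule.toAddSubmonoid_injective
    rw [← piece_toAddSubmonoid 𝒜 h0, show (piece 𝒜 h0 (n * (h * k))) = _ from e1,
      Submodule.pow_toAddSubmonoid _ hn.ne', Submodule.pow_toAddSubmonoid _ hn.ne']
    rfl
  · let M : Finset A := ((Finset.univ : Finset (Fin N → Fin (d + 1))).filter
      fun α => ∑ i, (α i : ℕ) * dg i = d).image fun α => ∏ i, e i ^ (α i : ℕ)
    refine ⟨M, ?_, le_antisymm ?_ ?_⟩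
    · intro t ht
      obtain ⟨α, hα, rfl⟩ := Finset.mem_image.1 ht
      have := prod_pow_mem_deg P he (fun i => (α i : ℕ))
      rw [(Finset.mem_filter.1 hα).2] at this
      exact this
    · intro a ha
      refine mem_of_monomials P he htop (show a ∈ P d from ha)
        ((AddSubgroup.toIntSubmodule (𝒜 0) * Submodule.span ℤ (↑M : Set A))).toAddSubmonoid fun c α hc hα => ?_
      refine Submodule.mul_mem_mul (show c ∈ AddSubgroup.toIntSubmodule (𝒜 0) from hc) (Submodule.subset_span ?_)
      have hle : ∀ i, α i < d + 1 := fun i => by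
        have h1 : α i * dg i ≤ d := hα ▸ Finset.single_le_sum (f := fun j => α j * dg j)
          (fun j _ => Nat.zero_le _) (Finset.mem_univ i)
        have h2 : α i ≤ α i * dg i := Nat.le_mul_of_pos_right _ (hpos i)
        omega
      exact Finset.mem_image.2 ⟨fun i => ⟨α i, hle i⟩, Finset.mem_filter.2 ⟨Finset.mem_univ _, hα⟩, rfl⟩
    · refine Submodule.mul_le.2 fun a ha b hb => ?_
      induction hb using Submodule.span_induction with
      | mem t ht =>
        obtain ⟨α, hα, rfl⟩ := Finset.mem_image.1 ht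
        have h1 := prod_pow_mem_deg P he (fun i => (α i : ℕ))
        rw [(Finset.mem_filter.1 hα).2] at h1
        have h2 := SetLike.mul_mem_graded (A := P) (show a ∈ P 0 from ha) h1
        rw [zero_add] at h2
        exact h2
      | zero => rw [mul_zero]; exact zero_mem _
      | add x y _ _ hx hy => rw [mul_add]; exact add_mem hx hy
      | smul m x _ hx => rw [mul_smul_comm]; exact Submodule.smul_mem _ m hx

end Groth.Ega2Proj.DegPow
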