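/-
Quasi-coherent modules over the direct-image algebra of an affine morphism are direct images.
-/
import Groth.Prelude.Def_RelSpec2
import Groth.Agent.LocFree.ExtPullback
import Groth.Agent.LocFree.AffineHom
import Groth.Agent.OmegaSheaf.IsoLocal
import Groth.Agent.QCohMod.QCQS
import Groth.Agent.SymAlg.Univ
import Groth.Agent.S6160
import Groth.Agent.S8302
import Groth.Agent.S8306

set_option autoImplicit false
universe u
open CategoryTheory CategoryTheory.Limits AlgebraicGeometry Opposite TopologicalSpace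

noncomputable section

namespace Groth.Ega2Proj.DirImgEss

open Groth.PicAux (pullSec)
open Groth.QCohMod (res res_self res_app res_smul)

variable {X S : Scheme.{u}} (f : X ⟶ S) [IsAffineHom f]

local notation "𝐁" => RelSpec.QCAlg.directImage f

theorem toOS_faithful : (AMod.toOS 𝐁).Faithful where
  map_injective {M N a b} h := by
    refine SheafOfModules.hom_ext (PresheafOfModules.hom_ext fun U => ?_)
    ext x
    exact congr(($h).val.app U x)

variable (M : AMod (RelSpec.QCAlg.directImage f))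

theorem exists_lift [((AMod.toOS 𝐁).obj M).IsQuasicoherent] {U : S.Opens} (hU : IsAffineOpen U) :
    ∃ w : Γ((Scheme.Modules.pullback f).obj ((AMod.toOS 𝐁).obj M), f ⁻¹ᵁ U) →+ M.val.obj (op U),
      (∀ (r : Γ(X, f ⁻¹ᵁ U)) x, w (r • x) = (show (AMod.ringSheaf 𝐁).obj.obj (op U) from r) • w x) ∧
      ∀ n : Γ((AMod.toOS 𝐁).obj M, U), w (pullSec f _ n) = n := by
  set N := (AMod.toOS 𝐁).obj M
  set G := (Scheme.Modules.pullback f).obj N
  letI := Groth.QCohMod.sectionsAlg f (le_refl (f ⁻¹ᵁ U))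
  letI : Module Γ(S, U) Γ(G, f ⁻¹ᵁ U) := Module.compHom _ (f.appLE U (f ⁻¹ᵁ U) le_rfl).hom
  haveI : IsScalarTower Γ(S, U) Γ(X, f ⁻¹ᵁ U) Γ(G, f ⁻¹ᵁ U) :=
    IsScalarTower.of_algebraMap_smul fun _ _ => rfl
  letI : Module Γ(X, f ⁻¹ᵁ U) (M.val.obj (op U)) :=
    inferInstanceAs (Module ((AMod.ringSheaf 𝐁).obj.obj (op U)) (M.val.obj (op U)))
  letI : Module Γ(S, U) (M.val.obj (op U)) := Module.compHom _ (f.appLE U (f ⁻¹ᵁ U) le_rfl).hom
  haveI : IsScalarTower Γ(S, U) Γ(X, f ⁻¹ᵁ U) (M.val.obj (op U)) :=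
    IsScalarTower.of_algebraMap_smul fun _ _ => rfl
  have hb := Groth.LocFree.isBaseChange_pullSecₗ f N (le_refl (f ⁻¹ᵁ U)) hU (hU.preimage f)
  let f0 : Γ(N, U) →ₗ[Γ(S, U)] M.val.obj (op U) :=
    { toFun := fun n => n
      map_add' := fun a b => rfl
      map_smul' := fun r n => by
        show (f.app U).hom r • (show M.val.obj (op U) from n) = (f.appLE U (f ⁻¹ᵁ U) le_rfl).hom r • _
        rw [Scheme.Hom.app_eq_appLE] }
  refine ⟨(hb.lift f0).toAddMonoidHom, fun r x => (hb.lift f0).map_smul r x, fun n => ?_⟩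
  have h := LinearMap.congr_fun (hb.lift_comp f0) n
  have e : (Groth.LocFree.pullSecₗ f N (le_refl (f ⁻¹ᵁ U))) n = pullSec f N n :=
    Groth.PicAux.res_self _ _
  exact (congrArg (hb.lift f0) e).symm.trans h

theorem exists_epi (hM : Coh.IsQCoh ((AMod.toOS 𝐁).obj M)) :
    ∃ p : (AMod.dirImg f).obj ((Scheme.Modules.pullback f).obj ((AMod.toOS 𝐁).obj M)) ⟶ M, Epi p := by
  set N := (AMod.toOS 𝐁).obj M
  haveI : N.IsQuasicoherent := hM
  set G := (Scheme.Modules.pullback f).obj N
  choose w hw1 hw2 using fun (U : S.Opens) (hU : IsAffineOpen U) => exists_lift f M hU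
  have hnat : ∀ (U V : S.Opens) (hU : IsAffineOpen U) (hV : IsAffineOpen V) (h : V ≤ U) (x : Γ(G, f ⁻¹ᵁ U)),
      M.val.map (homOfLE h).op (w U hU x) = w V hV (res G (f.preimage_mono h) x) := by
    intro U V hU hV h x
    letI := Groth.QCohMod.sectionsAlg f (le_refl (f ⁻¹ᵁ U))
    letI : Module Γ(S, U) Γ(G, f ⁻¹ᵁ U) := Module.compHom _ (f.appLE U (f ⁻¹ᵁ U) le_rfl).hom
    haveI : IsScalarTower Γ(S, U) Γ(X, f ⁻¹ᵁ U) Γ(G, f ⁻¹ᵁ U) :=
      IsScalarTower.of_algebraMap_smul fun _ _ => rfl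
    induction x using (Groth.LocFree.isBaseChange_pullSecₗ f N (le_refl (f ⁻¹ᵁ U)) hU (hU.preimage f)).inductionOn with
    | zero => rw [map_zero, map_zero, map_zero, map_zero]; rfl
    | tmul n =>
      have e : (Groth.LocFree.pullSecₗ f N (le_refl (f ⁻¹ᵁ U))) n = pullSec f N n :=
        Groth.PicAux.res_self _ _
      rw [e, hw2]
      have e2 : res G (f.preimage_mono h) (pullSec f N n) = pullSec f N (res N h n) :=
        Groth.PicAux.res_pullSec f N h n
      rw [e2, hw2]
      rfl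
    | smul r y hy =>
      rw [hw1, res_smul, hw1, PresheafOfModules.map_smul, hy]
      rfl
    | add y z hy hz => exact (congrArg _ (map_add (w U hU) y z)).trans ((map_add _ _ _).trans ((congrArg₂ (· + ·) hy hz).trans (((congrArg (w V hV) (map_add (res G (f.preimage_mono h)) y z)).trans (map_add (w V hV) _ _)).symm)))
  obtain ⟨φ, hφ⟩ := Groth.LocFree.exists_hom_of_affine (L := (Scheme.Modules.pushforward f).obj G) (M := N)
    (fun U hU =>
      { toFun := fun x => w U hU x
        map_add' := fun a b => map_add (w U hU) a b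
        map_smul' := fun r a => hw1 U hU ((f.app U).hom r) a })
    (fun U V hU hV h x => hnat U V hU hV h x)
  have hlin : ∀ (U : (Opens S)ᵒᵖ) (r : (AMod.ringSheaf 𝐁).obj.obj U)
      (m : ((AMod.dirImg f).obj G).val.obj U),
      φ.mapPresheaf.app U (r • m) = (r • (show M.val.obj U from φ.mapPresheaf.app U m) : M.val.obj U) := by
    rintro ⟨U⟩ r m
    refine Groth.CohTwo.eq_of_local N _ _ fun z hz => ?_
    obtain ⟨V, hV, hzV, hVU⟩ := exists_isAffineOpen_mem_and_subset (U := U) (x := z) hz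
    have hVU' : V ≤ U := hVU
    refine ⟨V, hVU', hzV, ?_⟩
    let mX : Γ(G, f ⁻¹ᵁ U) := m
    let rX : Γ(X, f ⁻¹ᵁ U) := r
    have h1 : res N hVU' (φ.app U (show Γ((Scheme.Modules.pushforward f).obj G, U) from (rX • mX : Γ(G, f ⁻¹ᵁ U)))) =
        w V hV (res G (f.preimage_mono hVU') (rX • mX)) :=
      (res_app φ hVU' _).trans (hφ V hV _)
    have h2 : res N hVU' (φ.app U (show Γ((Scheme.Modules.pushforward f).obj G, U) from mX)) =
        w V hV (res G (f.preimage_mono hVU') mX) :=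
      (res_app φ hVU' _).trans (hφ V hV _)
    refine h1.trans ?_
    rw [res_smul, hw1, ← h2]
    exact (PresheafOfModules.map_smul M.val (homOfLE hVU').op r _).symm
  let p : (AMod.dirImg f).obj G ⟶ M := ⟨PresheafOfModules.homMk φ.mapPresheaf hlin⟩
  haveI := toOS_faithful f
  refine ⟨p, (AMod.toOS 𝐁).epi_of_epi_map ?_⟩
  have e : (AMod.toOS 𝐁).map p = φ := rfl
  rw [e]
  refine Groth.OmegaSheaf.epi_of_affine_cover (N := N) φ fun x => ?_
  obtain ⟨U, hU, hx, -⟩ := exists_isAffineOpen_mem_and_subset (U := (⊤ : S.Opens)) (x := x) trivial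
  exact ⟨U, hU, hx, fun n => ⟨(pullSec f N n : Γ(G, f ⁻¹ᵁ U)), (hφ U hU _).trans (hw2 U hU n)⟩⟩

theorem exists_iso (hM : Coh.IsQCoh ((AMod.toOS 𝐁).obj M)) :
    ∃ F : X.Modules, Coh.IsQCoh F ∧ Nonempty ((AMod.dirImg f).obj F ≅ M) := by
  obtain ⟨hl, -, hr⟩ := Groth.Agent.S6160.result.{u} (AMod.strHom 𝐁)
  haveI : PreservesLimitsOfSize.{u, u} (AMod.toOS 𝐁) := hl
  haveI : (AMod.toOS 𝐁).ReflectsIsomorphisms := hr
  haveI : PreservesFiniteLimits (AMod.toOS 𝐁) :=
    PreservesLimitsOfSize.preservesFiniteLimits.{u, u} _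
  haveI : PreservesFiniteLimits (AMod.dirImg f) := by
    constructor
    intro J _ _
    haveI : PreservesLimitsOfShape J (AMod.dirImg f ⋙ AMod.toOS 𝐁) :=
      haveI : PreservesLimitsOfSize.{0, 0} (Scheme.Modules.pushforward f) :=
        (Scheme.Modules.pullbackPushforwardAdjunction f).rightAdjoint_preservesLimits
      inferInstanceAs (PreservesLimitsOfShape J (Scheme.Modules.pushforward f))
    haveI : ReflectsLimitsOfShape J (AMod.toOS 𝐁) := reflectsLimitsOfShape_of_reflectsIsomorphisms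
    exact preservesLimitsOfShape_of_reflects_of_preserves _ (AMod.toOS 𝐁)
  haveI : (AMod.dirImg f).PreservesZeroMorphisms := ⟨fun _ _ => rfl⟩
  haveI : (AMod.toOS 𝐁).PreservesZeroMorphisms := ⟨fun _ _ => rfl⟩
  set N := (AMod.toOS 𝐁).obj M
  haveI : N.IsQuasicoherent := hM
  set G := (Scheme.Modules.pullback f).obj N
  haveI : ((Scheme.Modules.pushforward f).obj G).IsQuasicoherent := Groth.QCohMod.isQCoh_pushforward G f
  obtain ⟨p, hp⟩ := exists_epi f M hM
  let K := kernel p
  have hK : Coh.IsQCoh ((AMod.toOS 𝐁).obj K) := by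
    haveI : ((AMod.toOS 𝐁).obj ((AMod.dirImg f).obj G)).IsQuasicoherent :=
      Groth.QCohMod.isQCoh_pushforward G f
    exact (Groth.QCohMod.isQCoh_iff_of_iso (PreservesKernel.iso (AMod.toOS 𝐁) p)).2 (Groth.QCohMod.isQCoh_kernel _)
  haveI : ((AMod.toOS 𝐁).obj K).IsQuasicoherent := hK
  let G' := (Scheme.Modules.pullback f).obj ((AMod.toOS 𝐁).obj K)
  obtain ⟨q, hq⟩ : ∃ q : (AMod.dirImg f).obj G' ⟶ K, Epi q := exists_epi f K hK
  have hG : Coh.IsQCoh G := (inferInstance : G.IsQuasicoherent)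
  have hG' : Coh.IsQCoh G' := (inferInstance : G'.IsQuasicoherent)
  obtain ⟨g, hg⟩ := (Groth.Agent.S8302.result f G' G hG' hG).2 (q ≫ kernel.ι p)
  refine ⟨cokernel g, (inferInstance : (cokernel g).IsQuasicoherent), ⟨?_⟩⟩
  let F := cokernel g
  let π := cokernel.π g
  let ι := Abelian.image.ι g
  haveI : Epi ((AMod.dirImg f).map π) :=
    Groth.Agent.S8306.result f G F hG (inferInstance : F.IsQuasicoherent) π
  haveI : Epi ((AMod.dirImg f).map (Abelian.factorThruImage g)) :=
    Groth.Agent.S8306.result f G' (Abelian.image g) hG' (Groth.QCohMod.isQCoh_image g) _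
  -- the kernel of the mapped projection
  have hker : IsLimit (KernelFork.ofι ((AMod.dirImg f).map ι) (f := (AMod.dirImg f).map π)
      (by rw [← Functor.map_comp, kernel.condition, Functor.map_zero])) :=
    KernelFork.mapIsLimit _ (kernelIsKernel π) (AMod.dirImg f)
  have hc1 := Abelian.epiIsCokernelOfKernel _ hker
  have hF : IsColimit (CokernelCofork.ofπ ((AMod.dirImg f).map π) (f := (AMod.dirImg f).map g)
      (by rw [← Functor.map_comp, cokernel.condition, Functor.map_zero])) :=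
    isCokernelEpiComp hc1 ((AMod.dirImg f).map (Abelian.factorThruImage g))
      ((congrArg (AMod.dirImg f).map (Abelian.image.fac g).symm).trans (Functor.map_comp _ _ _))
  have hMc : IsColimit (CokernelCofork.ofπ p (f := (AMod.dirImg f).map g)
      (by rw [hg, Category.assoc, kernel.condition, comp_zero])) :=
    isCokernelEpiComp (Abelian.epiIsCokernelOfKernel _ (kernelIsKernel p)) q (by rw [hg]; rfl)
  exact hF.coconePointUniqueUpToIso hMc

end Groth.Ega2Proj.DirImgEss
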