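import Groth.Agent.Ega2Proj.ConeMaps
import Groth.Agent.Ega2Proj.TwistPow
import Groth.Agent.PicAux.Pullback

/-!
# `Φ^* O(n) ≅ O(n)` on the domain of the morphism of a graded homomorphism
-/

universe u

open CategoryTheory AlgebraicGeometry Opposite TopologicalSpace DirectSum
open Groth.PicAux

namespace Groth.Ega2Proj

variable {R A : Type u} [CommRing R] [CommRing A] [Algebra R A] {𝒜 : ℕ → Submodule R A}
  [GradedAlgebra 𝒜] {B : Type u} [CommRing B] [Algebra R B] {ℬ : ℕ → Submodule R B}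
  [GradedAlgebra ℬ] {φ : 𝒜 →+*ᵍ ℬ} (p : (PCone.dom φ : Scheme.{u}) ⟶ Proj 𝒜)
  (hp : ∀ (d : ℕ) (f : A) (hd : 0 < d) (hf : f ∈ 𝒜 d),
    PCone.chart φ hf hd ≫ p =
      Spec.map (CommRingCat.ofHom (HomogeneousLocalization.Away.map φ f)) ≫ Proj.awayι 𝒜 f hf hd)

theorem eq_of_toSpecΓ_comp {X : Scheme.{u}} (V : X.Opens) {S : CommRingCat.{u}}
    {a b : S ⟶ Γ(X, V)} (h : V.toSpecΓ ≫ Spec.map a = V.toSpecΓ ≫ Spec.map b) : a = b := by
  have h' := congrArg Scheme.Hom.appTop h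
  simp only [Scheme.Hom.comp_appTop, Scheme.Opens.toSpecΓ_appTop] at h'
  have ha := Scheme.ΓSpecIso_naturality a
  have hb := Scheme.ΓSpecIso_naturality b
  rw [← cancel_epi (Scheme.ΓSpecIso S).hom, ← ha, ← hb,
    ← cancel_mono (Scheme.Opens.topIso V).inv]
  simpa only [Category.assoc] using h'

include hp in
/-- The functions of the induced morphism on the standard opens. -/
theorem dom_map_appLE {d : ℕ} {h : A} (hd : 0 < d) (hh : h ∈ 𝒜 d)
    (V : (PCone.dom φ : Scheme.{u}).Opens) (hV : V ≤ p ⁻¹ᵁ Proj.basicOpen 𝒜 h)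
    (hV' : V ≤ (PCone.dom φ).ι ⁻¹ᵁ Proj.basicOpen ℬ (φ h)) :
    Proj.awayToSection 𝒜 h ≫ p.appLE (Proj.basicOpen 𝒜 h) V hV =
      CommRingCat.ofHom (HomogeneousLocalization.Away.map φ h) ≫ Proj.awayToSection ℬ (φ h) ≫
        (PCone.dom φ).ι.appLE (Proj.basicOpen ℬ (φ h)) V hV' := by
  apply eq_of_toSpecΓ_comp V
  simp only [Spec.map_comp, Category.assoc]
  rw [← Category.assoc V.toSpecΓ, Scheme.Opens.toSpecΓ_SpecMap_appLE, ← Category.assoc V.toSpecΓ,
    Scheme.Opens.toSpecΓ_SpecMap_appLE, Category.assoc, Category.assoc]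
  change p.resLE (Proj.basicOpen 𝒜 h) V hV ≫ Proj.basicOpenToSpec 𝒜 h =
    (PCone.dom φ).ι.resLE (Proj.basicOpen ℬ (φ h)) V hV' ≫ Proj.basicOpenToSpec ℬ (φ h) ≫
      Spec.map (CommRingCat.ofHom (HomogeneousLocalization.Away.map φ h))
  rw [← Proj.basicOpenIsoSpec_hom 𝒜 h hh hd, ← Proj.basicOpenIsoSpec_hom ℬ (φ h) (φ.2 hh) hd,
    ← cancel_mono ((Proj.basicOpenIsoSpec 𝒜 h hh hd).inv ≫ (Proj.basicOpen 𝒜 h).ι)]
  simp only [Category.assoc, Iso.hom_inv_id_assoc, Scheme.Hom.resLE_comp_ι]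
  rw [Proj.basicOpenIsoSpec_inv_ι, ← hp d h hd hh, ← Category.assoc, ← Category.assoc]
  congr 1
  rw [← cancel_mono (PCone.dom φ).ι, Category.assoc, Category.assoc, pchart_ι,
    ← Proj.basicOpenIsoSpec_inv_ι, Iso.hom_inv_id_assoc, Scheme.Hom.resLE_comp_ι]

omit [GradedAlgebra 𝒜] in
theorem val_awayToSection {d k : ℕ} {h : A} [GradedAlgebra 𝒜] (hh : h ∈ 𝒜 d) (a : A)
    (ha : a ∈ 𝒜 (k • d)) (x : ProjectiveSpectrum 𝒜) (hx : x ∈ Proj.basicOpen 𝒜 h) :
    ((Proj.awayToSection 𝒜 h (HomogeneousLocalization.Away.mk 𝒜 hh k a ha)).1 ⟨x, hx⟩).val =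
      lfrac 𝒜 x a (h := h ^ k) (notMem_pow x hx k) := by
  refine (ProjectiveSpectrum.Proj.awayToSection_apply 𝒜 h _ ⟨x, hx⟩).trans ?_
  rw [HomogeneousLocalization.Away.val_mk, Localization.mk_eq_mk', IsLocalization.map_mk',
    lfrac, Localization.mk_eq_mk']
  rfl

theorem lfrac_congr_dom (x : ProjectiveSpectrum ℬ) {a a' h h' : B} (hx : h ∉ x.asHomogeneousIdeal)
    (hx' : h' ∉ x.asHomogeneousIdeal) (e : h' * a = h * a') :
    lfrac ℬ x a hx = lfrac ℬ x a' hx' :=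
  Localization.mk_eq_mk_iff.mpr (Localization.r_iff_exists.mpr ⟨1, by simp [e]⟩)

/-- A basis of `M` on the image is a basis of the restriction. -/
theorem gen_restrict_image {X : Scheme.{u}} {M : X.Modules} (U : X.Opens)
    {W : (U : Scheme.{u}).Opens} {s : Γ(M, U.ι ''ᵁ W)} (hs : Gen M (U.ι ''ᵁ W) s) :
    Gen (M.restrict U.ι) W s := by
  intro W' hW'
  exact (congrArg Function.Bijective (funext fun r => restrict_smul U W' r _)).mpr
    (hs _ (U.ι.image_mono hW'))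

/-- The numerator of `(f / g) ^ n` with denominator `(f g) ^ |n|`. -/
noncomputable def pnum (f g : A) (n : ℤ) : A :=
  f ^ (n.natAbs + n).toNat * g ^ ((n.natAbs : ℤ) - n).toNat

theorem pnum_mem {f g : A} (hf : f ∈ 𝒜 1) (hg : g ∈ 𝒜 1) (n : ℤ) :
    pnum f g n ∈ 𝒜 (n.natAbs • (1 + 1)) := by
  rw [pnum]
  have h := SetLike.mul_mem_graded (A := 𝒜) (pow_mem_deg hf (n.natAbs + n).toNat)
    (pow_mem_deg hg ((n.natAbs : ℤ) - n).toNat)
  convert h using 2
  simp only [smul_eq_mul]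
  omega

theorem lfrac_pnum {f g : A} (n : ℤ) (x : ProjectiveSpectrum 𝒜) (hf : f ∉ x.asHomogeneousIdeal)
    (hg : g ∉ x.asHomogeneousIdeal) (hfg : (f * g) ^ n.natAbs ∉ x.asHomogeneousIdeal) :
    lfrac 𝒜 x (pnum f g n) hfg =
      ((funit x hf ^ n * funit x hg ^ (-n) : (Twist.Loc 𝒜 x)ˣ) : Twist.Loc 𝒜 x) := by
  rw [show funit x hf ^ n = funit x hf ^ (((n.natAbs + n).toNat : ℤ) - n.natAbs) by congr 1; omega,
    show funit x hg ^ (-n) = funit x hg ^ ((((n.natAbs : ℤ) - n).toNat : ℤ) - n.natAbs) by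
      congr 1; omega,
    Units.val_mul, ← lfrac_pow_eq x hf _ _ (notMem_pow x hf _),
    ← lfrac_pow_eq x hg _ _ (notMem_pow x hg _), lfrac_mul_lfrac 𝒜 x]
  · simp only [pnum, mul_pow]
  · rwa [← mul_pow]

include hp in
theorem nonempty_pullback_iso_restrict
    (hgen : (HomogeneousIdeal.irrelevant 𝒜).toIdeal ≤ Ideal.span (𝒜 1 : Set A)) (n : ℤ) :
    Nonempty ((Scheme.Modules.pullback p).obj (Twist.twist 𝒜 n) ≅
      (Twist.twist ℬ n).restrict (PCone.dom φ).ι) := by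
  let W : (𝒜 1 : Set A) → (PCone.dom φ : Scheme.{u}).Opens := fun f =>
    p ⁻¹ᵁ Proj.basicOpen 𝒜 (f : A)
  have hW : iSup W = ⊤ := by
    rw [← Scheme.Hom.preimage_iSup, iSup_basicOpen_eq_top_of_span hgen, Scheme.Hom.preimage_top]
  have hWφ : ∀ f : (𝒜 1 : Set A), W f = (PCone.dom φ).ι ⁻¹ᵁ Proj.basicOpen ℬ (φ f) := fun f =>
    dom_map_preimage φ p hp one_pos f.2
  have hnv : ∀ f : (𝒜 1 : Set A), ∀ y : ProjectiveSpectrum ℬ, y ∈ (PCone.dom φ).ι ''ᵁ W f →
      φ (f : A) ∉ y.asHomogeneousIdeal := fun f y hy => by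
    rw [hWφ f] at hy
    exact (PCone.dom φ).ι.image_preimage_le _ hy
  obtain ⟨e, -⟩ := exists_iso_of_gen (L := (Scheme.Modules.pullback p).obj (Twist.twist 𝒜 n))
    (M := (Twist.twist ℬ n).restrict (PCone.dom φ).ι) hW
    (fun f => pullSec p _ (pwSec (N := n) f.2 n (by simp) fun _ hx => hx))
    (fun f => Gen.pull (f := p) (gen_pwSec _ _ _ _))
    (fun f => pwSec (N := n) (φ.2 f.2) n (by simp) (hnv f))
    (fun f => gen_restrict_image _ (gen_pwSec _ _ _ _)) fun f g r hr => by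
      have hfg : (f : A) * g ∈ 𝒜 (1 + 1) := SetLike.mul_mem_graded f.2 g.2
      have hU : Proj.basicOpen 𝒜 ((f : A) * g) =
          Proj.basicOpen 𝒜 (f : A) ⊓ Proj.basicOpen 𝒜 (g : A) := Proj.basicOpen_mul 𝒜 _ _
      have hVφ : W f ⊓ W g ≤ (PCone.dom φ).ι ⁻¹ᵁ Proj.basicOpen ℬ (φ ((f : A) * g)) := by
        rw [hWφ, hWφ, ← Scheme.Hom.preimage_inf, map_mul, Proj.basicOpen_mul]
      have hV : W f ⊓ W g ≤ p ⁻¹ᵁ Proj.basicOpen 𝒜 ((f : A) * g) := by
        rw [hU, Scheme.Hom.preimage_inf]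
      set z := HomogeneousLocalization.Away.mk 𝒜 hfg n.natAbs (pnum (f : A) g n)
        (pnum_mem f.2 g.2 n)
      set a := Proj.awayToSection 𝒜 ((f : A) * g) z
      -- the transition function on `Proj 𝒜`
      have hUf : Proj.basicOpen 𝒜 ((f : A) * g) ≤ Proj.basicOpen 𝒜 (f : A) := hU.le.trans inf_le_left
      have hUg : Proj.basicOpen 𝒜 ((f : A) * g) ≤ Proj.basicOpen 𝒜 (g : A) := hU.le.trans inf_le_right
      have htrans : res _ hUf (pwSec (N := n) f.2 n (by simp) fun _ hx => hx) =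
          a • res _ hUg (pwSec (N := n) g.2 n (by simp) fun _ hx => hx) := by
        refine wval_ext fun x hx => ?_
        refine Eq.trans ?_ (wval_smul a _ x hx).symm
        refine (wval_pwSec (N := n) f.2 n (by simp) (fun _ hx => hx) x (hUf hx)).trans ?_
        refine Eq.trans ?_ (congrArg _ (wval_pwSec (N := n) g.2 n (by simp) (fun _ hx => hx) x (hUg hx))).symm
        change _ = ((Proj.awayToSection 𝒜 ((f : A) * g) z).1 ⟨x, hx⟩).val * _
        rw [val_awayToSection hfg _ _ x hx, lfrac_pnum n x (hUf hx) (hUg hx), ← Units.val_mul]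
        congr 1
        rw [mul_assoc, ← zpow_add, neg_add_cancel, zpow_zero, mul_one]
      have hr' : r = p.appLE _ (W f ⊓ W g) hV a := by
        refine ((Gen.pull (f := p) (gen_pwSec (N := n) g.2 n (by simp) fun _ hx => hx)).smul_inj
          inf_le_right ?_).symm
        rw [← hr]
        have h1 := congrArg (fun t => res _ hV (pullSec p _ t)) htrans
        simp only [pullSec_smul, res_smul, ← res_pullSec, res_res] at h1
        exact h1.symm
      refine wval_ext fun y hy => ?_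
      refine Eq.trans ?_ (((congrArg (fun t => wval t y hy)
        (restrict_smul (PCone.dom φ) (W f ⊓ W g) r _))).trans (wval_smul _ _ y hy)).symm
      have hy' : y ∈ Proj.basicOpen ℬ (φ ((f : A) * g)) :=
        (PCone.dom φ).ι.image_preimage_le _ ((PCone.dom φ).ι.image_mono hVφ hy)
      have hyf : φ (f : A) ∉ y.asHomogeneousIdeal := fun hc =>
        hy' (by rw [map_mul]; exact y.asHomogeneousIdeal.toIdeal.mul_mem_right _ hc)
      have hyg : φ (g : A) ∉ y.asHomogeneousIdeal := fun hc =>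
        hy' (by rw [map_mul]; exact y.asHomogeneousIdeal.toIdeal.mul_mem_left _ hc)
      have hval : (r.1 ⟨y, hy⟩).val =
          ((funit y hyf ^ n * funit y hyg ^ (-n) : (Twist.Loc ℬ y)ˣ) : Twist.Loc ℬ y) := by
        rw [hr']
        have h2 := congr(($(dom_map_appLE p hp (by omega) hfg _ hV hVφ)).hom z)
        simp only [CommRingCat.hom_comp, RingHom.comp_apply] at h2
        rw [show p.appLE _ (W f ⊓ W g) hV a = _ from h2]
        rw [CommRingCat.hom_ofHom, HomogeneousLocalization.Away.map_mk, Scheme.Opens.ι_appLE]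
        change ((Proj.awayToSection ℬ (φ ((f : A) * g))
          (HomogeneousLocalization.Away.mk ℬ (φ.2 hfg) n.natAbs (φ (pnum (f : A) g n)) _)).1
            ⟨y, hy'⟩).val = _
        refine (val_awayToSection (𝒜 := ℬ) (h := φ ((f : A) * g)) (φ.2 hfg) _ _ y hy').trans ?_
        have hfgy : (φ (f : A) * φ (g : A)) ^ n.natAbs ∉ y.asHomogeneousIdeal := fun hc =>
          hy' (y.isPrime.mem_of_pow_mem n.natAbs (by rwa [map_mul]))
        refine (lfrac_congr_dom y _ hfgy ?_).trans (lfrac_pnum n y hyf hyg hfgy)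
        simp [pnum, map_mul, map_pow]
      refine (wval_pwSec (φ.2 f.2) n (by simp) (hnv f) y _).trans ?_
      refine Eq.trans ?_ (congrArg₂ (· * ·) hval.symm (wval_pwSec (φ.2 g.2) n (by simp) (hnv g) y _).symm)
      change _ = _ * _
      rw [← Units.val_mul, mul_assoc, ← zpow_add, neg_add_cancel, zpow_zero, mul_one]
  exact ⟨e⟩

end Groth.Ega2Proj
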