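/-
The coaction `a ↦ Σ aᵢ Xⁱ` of a graded ring.
-/
import Groth.Agent.SymAlg.GradCoeff
import Mathlib.RingTheory.GradedAlgebra.RingHom

set_option autoImplicit false

universe u

open Polynomial DirectSum

noncomputable section

namespace Groth.Ega2Proj.GrCoact

open Groth.SymAlg

variable {A σ : Type u} [CommRing A] [SetLike σ A] [AddSubgroupClass σ A] (𝒜 : ℕ → σ) [GradedRing 𝒜]

/-- `a ↦ Σ aᵢ Xⁱ`. -/
def co : A →+* A[X] :=
  (DirectSum.toSemiring (fun i => AddMonoidHom.mk' (fun a : 𝒜 i => monomial i (a : A))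
      fun a b => map_add (monomial i) (a : A) (b : A))
    (by exact monomial_zero_one)
    (fun {i j} a b => (monomial_mul_monomial i j (a : A) (b : A)).symm)).comp
      (DirectSum.decomposeRingEquiv 𝒜).toRingHom

theorem co_of_mem {i : ℕ} {a : A} (ha : a ∈ 𝒜 i) : co 𝒜 a = monomial i a := by
  have h : (DirectSum.decomposeRingEquiv 𝒜) a = DirectSum.of (fun i => 𝒜 i) i ⟨a, ha⟩ :=
    DirectSum.decompose_of_mem 𝒜 ha
  simp only [co, RingHom.comp_apply, RingEquiv.toRingHom_eq_coe, RingHom.coe_coe, h]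
  exact DirectSum.toSemiring_of (A := fun i => 𝒜 i) _ _ _ i ⟨a, ha⟩

theorem coeff_co (a : A) (i : ℕ) : (co 𝒜 a).coeff i = (DirectSum.decompose 𝒜 a i : A) := by
  classical
  induction a using DirectSum.Decomposition.inductionOn 𝒜 with
  | zero =>
    rw [map_zero, coeff_zero, DirectSum.decompose_zero]
    rfl
  | @homogeneous j m =>
    rw [co_of_mem 𝒜 m.2, coeff_monomial]
    split_ifs with h
    · subst h; rw [DirectSum.decompose_of_mem_same 𝒜 m.2]
    · rw [DirectSum.decompose_of_mem_ne 𝒜 m.2 h]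
  | add x y hx hy =>
    rw [map_add, coeff_add, hx, hy, DirectSum.decompose_add, DirectSum.add_apply, AddMemClass.coe_add]

theorem eval_co (a : A) : (co 𝒜 a).eval 1 = a := by
  classical
  induction a using DirectSum.Decomposition.inductionOn 𝒜 with
  | zero => rw [map_zero, eval_zero]
  | @homogeneous j m => rw [co_of_mem 𝒜 m.2, eval_monomial, one_pow, mul_one]
  | add x y hx hy => rw [map_add, eval_add, hx, hy]

theorem co_natural {B τ : Type u} [CommRing B] [SetLike τ B] [AddSubgroupClass τ B] {ℬ : ℕ → τ}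
    [GradedRing ℬ] (ψ : 𝒜 →+*ᵍ ℬ) (a : A) :
    co ℬ (ψ a) = (co 𝒜 a).map (ψ.toRingHom) := by
  classical
  induction a using DirectSum.Decomposition.inductionOn 𝒜 with
  | zero => simp
  | @homogeneous j m =>
    rw [co_of_mem 𝒜 m.2, map_monomial]
    exact co_of_mem ℬ (ψ.map_mem m.2)
  | add x y hx hy => rw [map_add, map_add, map_add, hx, hy, Polynomial.map_add]

end Groth.Ega2Proj.GrCoact
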