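/-
The inverse image of a quasi-coherent graded algebra.
-/
import Groth.Agent.Ega2Proj.AlgBaseChange
import Groth.Agent.Ega2Proj.GrCoact
import Groth.Agent.Ega2Proj2.ChartMaps
import Mathlib.Topology.Sheaves.SheafCondition.UniqueGluing

set_option autoImplicit false

universe u

open CategoryTheory CategoryTheory.Limits AlgebraicGeometry Opposite TopologicalSpace Polynomial

set_option backward.isDefEq.respectTransparency.types false

noncomputable section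

namespace Groth.Ega2Proj.GrBC

open Groth.SymAlg (wt mem_wt IsWt)

section sheaf

variable {S : Scheme.{u}} (B : RelSpec.QCAlg S)

/-- Sections. -/
abbrev Sec (W : S.Opens) : Type u := B.presheaf.obj (op W)

/-- Restriction. -/
abbrev rs {W W' : S.Opens} (h : W' ≤ W) : Sec B W →+* Sec B W' := (B.presheaf.map (homOfLE h).op).hom

theorem rs_rs {U V W : S.Opens} (h : V ≤ U) (h' : W ≤ V) (x : Sec B U) :
    rs B h' (rs B h x) = rs B (h'.trans h) x := by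
  change (B.presheaf.map _ ≫ B.presheaf.map _).hom x = _
  rw [← Functor.map_comp]
  rfl

theorem rs_self {U : S.Opens} (x : Sec B U) : rs B le_rfl x = x := by
  change (B.presheaf.map (𝟙 _)).hom x = x
  rw [B.presheaf.map_id]
  rfl

theorem map_rs_map_rs {U V W : S.Opens} (h : V ≤ U) (h' : W ≤ V) (x : (Sec B U)[X]) :
    (x.map (rs B h)).map (rs B h') = x.map (rs B (h'.trans h)) := by
  rw [Polynomial.map_map]
  exact congrArg (Polynomial.map · x) (RingHom.ext (rs_rs B h h'))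

theorem eq_of_local {W : S.Opens} (x y : Sec B W)
    (h : ∀ z ∈ W, ∃ (V : S.Opens) (hV : V ≤ W), z ∈ V ∧ rs B hV x = rs B hV y) : x = y := by
  choose V hVW hzV he using fun z : W => h z.1 z.2
  exact TopCat.Sheaf.eq_of_locally_eq' (F := (⟨B.presheaf, B.isSheaf⟩ : TopCat.Sheaf CommRingCat.{u} S.carrier)) V W
    (fun z => homOfLE (hVW z)) (fun z hz => Opens.mem_iSup.2 ⟨⟨z, hz⟩, hzV _⟩) x y he

theorem poly_eq_of_local {W : S.Opens} (x y : (Sec B W)[X])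
    (h : ∀ z ∈ W, ∃ (V : S.Opens) (hV : V ≤ W), z ∈ V ∧ x.map (rs B hV) = y.map (rs B hV)) : x = y :=
  Polynomial.ext fun n => eq_of_local B _ _ fun z hz => by
    obtain ⟨V, hV, hzV, e⟩ := h z hz
    refine ⟨V, hV, hzV, ?_⟩
    have := congrArg (coeff · n) e
    simpa only [coeff_map] using this

theorem exists_glue {W : S.Opens} {ι : Type u} (V : ι → S.Opens) (hV : ∀ k, V k ≤ W)
    (hcov : ∀ z ∈ W, ∃ k, z ∈ V k) (x : ∀ k, Sec B (V k))
    (hx : ∀ k l, rs B (inf_le_left : V k ⊓ V l ≤ V k) (x k) = rs B (inf_le_right : V k ⊓ V l ≤ V l) (x l)) :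
    ∃ y : Sec B W, ∀ k, rs B (hV k) y = x k :=
  (TopCat.Sheaf.existsUnique_gluing' (F := (⟨B.presheaf, B.isSheaf⟩ : TopCat.Sheaf CommRingCat.{u} S.carrier)) V W
    (fun k => homOfLE (hV k)) (fun z hz => Opens.mem_iSup.2 (hcov z hz)) x hx).exists

end sheaf

variable {S S' : Scheme.{u}} (g : S' ⟶ S) (𝒮 : RelProj.QCGrAlg S)

/-- The underlying algebra. -/
abbrev B : RelSpec.QCAlg S' := AlgBC.qc g 𝒮.toQCAlg

/-- The comparison map on an affine pair. -/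
abbrev um (U : S.Opens) (U' : S'.Opens) (hle : U' ≤ g ⁻¹ᵁ U) :
    𝒮.presheaf.obj (op U) ⟶ (B g 𝒮).presheaf.obj (op U') :=
  (AlgBC.qHom g 𝒮.toQCAlg).appLE U U' hle

theorem str_um (U : S.Opens) (U' : S'.Opens) (hle : U' ≤ g ⁻¹ᵁ U) (r : Γ(S, U)) :
    (um g 𝒮 U U' hle).hom ((𝒮.str.app (op U)).hom r) =
      ((B g 𝒮).str.app (op U')).hom ((g.appLE U U' hle).hom r) :=
  congr(($((AlgBC.qHom g 𝒮.toQCAlg).str_appLE U U' hle)).hom r)

section pair

variable {U : S.Opens} (hU : IsAffineOpen U) {U' : S'.Opens} (hU' : IsAffineOpen U') (hle : U' ≤ g ⁻¹ᵁ U)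

include hU hU' in
theorem pair_isPushout : IsPushout (g.appLE U U' hle) (𝒮.str.app (op U))
    ((B g 𝒮).str.app (op U')) (um g 𝒮 U U' hle) :=
  AlgBC.isQBaseChange g 𝒮.toQCAlg U hU U' hU' hle

include hU hU' in
theorem pair_ext {C : Type u} [CommRing C] (a b : Sec (B g 𝒮) U' →+* C)
    (h1 : ∀ r, a (((B g 𝒮).str.app (op U')).hom r) = b (((B g 𝒮).str.app (op U')).hom r))
    (h2 : ∀ x, a ((um g 𝒮 U U' hle).hom x) = b ((um g 𝒮 U U' hle).hom x)) : a = b := by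
  have h := (pair_isPushout g 𝒮 hU hU' hle).hom_ext (W := CommRingCat.of C)
    (k := CommRingCat.ofHom a) (l := CommRingCat.ofHom b)
    (CommRingCat.hom_ext (RingHom.ext h1)) (CommRingCat.hom_ext (RingHom.ext h2))
  exact congrArg CommRingCat.Hom.hom h

include hU hU' in
theorem pair_eq_top (K : Subring (Sec (B g 𝒮) U'))
    (h1 : ∀ r, ((B g 𝒮).str.app (op U')).hom r ∈ K) (h2 : ∀ x, (um g 𝒮 U U' hle).hom x ∈ K) :
    K = ⊤ := by
  have hpo := pair_isPushout g 𝒮 hU hU' hle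
  let a : S'.presheaf.obj (op U') ⟶ CommRingCat.of K :=
    CommRingCat.ofHom (((B g 𝒮).str.app (op U')).hom.codRestrict K h1)
  let b : 𝒮.presheaf.obj (op U) ⟶ CommRingCat.of K :=
    CommRingCat.ofHom ((um g 𝒮 U U' hle).hom.codRestrict K h2)
  let σ := hpo.desc a b (CommRingCat.hom_ext (RingHom.ext fun r => Subtype.ext (str_um g 𝒮 U U' hle r).symm))
  have hid : K.subtype.comp σ.hom = RingHom.id _ :=
    pair_ext g 𝒮 hU hU' hle _ _
      (fun r => congrArg Subtype.val (congr(($(hpo.inl_desc a b _)).hom r)))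
      (fun x => congrArg Subtype.val (congr(($(hpo.inr_desc a b _)).hom x)))
  exact eq_top_iff.2 fun x _ => by
    have h := RingHom.congr_fun hid x
    exact (show ((σ.hom x : K) : Sec (B g 𝒮) U') = x from h) ▸ (σ.hom x).2

/-- The coaction on an affine pair. -/
def pco : Sec (B g 𝒮) U' →+* (Sec (B g 𝒮) U')[X] :=
  ((pair_isPushout g 𝒮 hU hU' hle).desc
    (CommRingCat.ofHom ((C : Sec (B g 𝒮) U' →+* _).comp ((B g 𝒮).str.app (op U')).hom))
    (CommRingCat.ofHom ((Polynomial.mapRingHom (um g 𝒮 U U' hle).hom).comp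
      (GrCoact.co (𝒮.deg U hU))))
    (CommRingCat.hom_ext (RingHom.ext fun r => by
      change C (((B g 𝒮).str.app (op U')).hom ((g.appLE U U' hle).hom r)) =
        (GrCoact.co (𝒮.deg U hU) ((𝒮.str.app (op U)).hom r)).map (um g 𝒮 U U' hle).hom
      rw [GrCoact.co_of_mem (𝒮.deg U hU) (𝒮.str_mem U hU r), monomial_zero_left, map_C, str_um]))).hom

theorem pco_str (r : Γ(S', U')) :
    pco g 𝒮 hU hU' hle (((B g 𝒮).str.app (op U')).hom r) = C (((B g 𝒮).str.app (op U')).hom r) :=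
  RingHom.congr_fun (congrArg CommRingCat.Hom.hom
    ((pair_isPushout g 𝒮 hU hU' hle).inl_desc _ _ _)) r

theorem pco_um (x : 𝒮.presheaf.obj (op U)) :
    pco g 𝒮 hU hU' hle ((um g 𝒮 U U' hle).hom x) =
      (GrCoact.co (𝒮.deg U hU) x).map (um g 𝒮 U U' hle).hom :=
  RingHom.congr_fun (congrArg CommRingCat.Hom.hom
    ((pair_isPushout g 𝒮 hU hU' hle).inr_desc _ _ _)) x

theorem isWt_pco : IsWt (pco g 𝒮 hU hU' hle) where
  eval a := by
    have h : (Polynomial.evalRingHom 1).comp (pco g 𝒮 hU hU' hle) = RingHom.id _ :=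
      pair_ext g 𝒮 hU hU' hle _ _
        (fun r => by rw [RingHom.comp_apply, pco_str]; simp)
        (fun x => by
          rw [RingHom.comp_apply, pco_um, Polynomial.coe_evalRingHom, eval_one_map, GrCoact.eval_co]
          rfl)
    exact RingHom.congr_fun h a
  coeff a i := by
    have h : Groth.SymAlg.wtRing (pco g 𝒮 hU hU' hle) = ⊤ := by
      refine pair_eq_top g 𝒮 hU hU' hle _ (fun r => ?_) (fun x => ?_)
      · refine Groth.SymAlg.mem_wtRing_of_mem _ (i := 0) ((mem_wt _).2 ?_)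
        rw [pco_str, monomial_zero_left]
      · intro j
        rw [pco_um, coeff_map, GrCoact.coeff_co]
        refine (mem_wt _).2 ?_
        rw [pco_um, GrCoact.co_of_mem (𝒮.deg U hU) (SetLike.coe_mem _), map_monomial]
    exact (h.ge (Subring.mem_top a)) i

end pair

theorem rs_um {U V : S.Opens} (hVU : V ≤ U) {U' V' : S'.Opens} (hle : U' ≤ g ⁻¹ᵁ U) (hV'U' : V' ≤ U')
    (hle' : V' ≤ g ⁻¹ᵁ V) (x : 𝒮.presheaf.obj (op U)) :
    rs (B g 𝒮) hV'U' ((um g 𝒮 U U' hle).hom x) =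
      (um g 𝒮 V V' hle').hom ((𝒮.presheaf.map (homOfLE hVU).op).hom x) :=
  (congr(($((AlgBC.qHom g 𝒮.toQCAlg).appLE_map hle hV'U')).hom x)).trans
    (congr(($((AlgBC.qHom g 𝒮.toQCAlg).map_appLE hVU hle')).hom x)).symm

theorem rs_str {U' V' : S'.Opens} (h : V' ≤ U') (r : Γ(S', U')) :
    rs (B g 𝒮) h (((B g 𝒮).str.app (op U')).hom r) =
      ((B g 𝒮).str.app (op V')).hom ((S'.presheaf.map (homOfLE h).op).hom r) :=
  (congr(($((B g 𝒮).str.naturality (homOfLE h).op)).hom r)).symm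

theorem pco_natural {U V : S.Opens} (hU : IsAffineOpen U) (hV : IsAffineOpen V) (hVU : V ≤ U)
    {U' V' : S'.Opens} (hU' : IsAffineOpen U') (hV' : IsAffineOpen V') (hV'U' : V' ≤ U')
    (hle : U' ≤ g ⁻¹ᵁ U) (hle' : V' ≤ g ⁻¹ᵁ V) (x : Sec (B g 𝒮) U') :
    pco g 𝒮 hV hV' hle' (rs (B g 𝒮) hV'U' x) = (pco g 𝒮 hU hU' hle x).map (rs (B g 𝒮) hV'U') := by
  have h : (pco g 𝒮 hV hV' hle').comp (rs (B g 𝒮) hV'U') =
      (Polynomial.mapRingHom (rs (B g 𝒮) hV'U')).comp (pco g 𝒮 hU hU' hle) := by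
    refine pair_ext g 𝒮 hU hU' hle _ _ (fun r => ?_) (fun a => ?_)
    · rw [RingHom.comp_apply, RingHom.comp_apply, pco_str, rs_str, pco_str, Polynomial.coe_mapRingHom,
        map_C, rs_str]
    · rw [RingHom.comp_apply, RingHom.comp_apply, pco_um, rs_um g 𝒮 hVU hle hV'U' hle', pco_um,
        Polynomial.coe_mapRingHom, Polynomial.map_map]
      have hc := GrCoact.co_natural (𝒮.deg U hU) (𝒮.res hU hV hVU) a
      refine (congrArg (Polynomial.map (um g 𝒮 V V' hle').hom) hc).trans ?_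
      rw [Polynomial.map_map]
      exact congrArg (Polynomial.map · _) (RingHom.ext fun y => (rs_um g 𝒮 hVU hle hV'U' hle' y).symm)
  exact RingHom.congr_fun h x

/-- The coactions of two affine pairs agree where both make sense. -/
theorem pco_compat {U₁ U₂ : S.Opens} (h₁ : IsAffineOpen U₁) (h₂ : IsAffineOpen U₂) {U' V' : S'.Opens}
    (hU' : IsAffineOpen U') (hV' : IsAffineOpen V') (hV'U' : V' ≤ U')
    (hle₁ : U' ≤ g ⁻¹ᵁ U₁) (hle₂ : V' ≤ g ⁻¹ᵁ U₂) (x : Sec (B g 𝒮) U') :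
    pco g 𝒮 h₂ hV' hle₂ (rs (B g 𝒮) hV'U' x) = (pco g 𝒮 h₁ hU' hle₁ x).map (rs (B g 𝒮) hV'U') := by
  refine poly_eq_of_local _ _ _ fun z hz => ?_
  obtain ⟨W, hW, hzW, hWle⟩ := exists_isAffineOpen_mem_and_subset (x := g z) (U := U₁ ⊓ U₂)
    ⟨hle₁ (hV'U' hz), hle₂ hz⟩
  obtain ⟨W', hW', hzW', hW'le⟩ := exists_isAffineOpen_mem_and_subset (x := z) (U := V' ⊓ g ⁻¹ᵁ W)
    ⟨hz, hzW⟩
  have e1 : W' ≤ V' := fun y hy => (hW'le hy).1
  have e2 : W' ≤ g ⁻¹ᵁ W := fun y hy => (hW'le hy).2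
  refine ⟨W', e1, hzW', ?_⟩
  rw [map_rs_map_rs,
    ← pco_natural g 𝒮 h₂ hW (fun y hy => (hWle hy).2) hV' hW' e1 hle₂ e2, rs_rs,
    pco_natural g 𝒮 h₁ hW (fun y hy => (hWle hy).1) hU' hW' (e1.trans hV'U') hle₁ e2]

theorem exists_pair {U' : S'.Opens} {z : S'} (hz : z ∈ U') :
    ∃ (U : S.Opens) (_ : IsAffineOpen U) (V' : S'.Opens) (_ : IsAffineOpen V'),
      z ∈ V' ∧ V' ≤ U' ∧ V' ≤ g ⁻¹ᵁ U := by
  obtain ⟨U, hU, hzU, -⟩ := exists_isAffineOpen_mem_and_subset (x := g z) (U := (⊤ : S.Opens)) trivial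
  obtain ⟨V', hV', hzV', hle⟩ := exists_isAffineOpen_mem_and_subset (x := z) (U := U' ⊓ g ⁻¹ᵁ U)
    ⟨hz, hzU⟩
  exact ⟨U, hU, V', hV', hzV', fun y hy => (hle hy).1, fun y hy => (hle hy).2⟩

/-- `p` is the coaction applied to `x`. -/
def IsCo {U' : S'.Opens} (x : Sec (B g 𝒮) U') (p : (Sec (B g 𝒮) U')[X]) : Prop :=
  ∀ (U : S.Opens) (hU : IsAffineOpen U) (V' : S'.Opens) (hV' : IsAffineOpen V') (h : V' ≤ U')
    (hle : V' ≤ g ⁻¹ᵁ U), p.map (rs (B g 𝒮) h) = pco g 𝒮 hU hV' hle (rs (B g 𝒮) h x)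

variable {g 𝒮} in
theorem IsCo.unique {U' : S'.Opens} {x : Sec (B g 𝒮) U'} {p q : (Sec (B g 𝒮) U')[X]}
    (hp : IsCo g 𝒮 x p) (hq : IsCo g 𝒮 x q) : p = q := by
  refine poly_eq_of_local _ _ _ fun z hz => ?_
  obtain ⟨U, hU, V', hV', hzV', h, hle⟩ := exists_pair g hz
  exact ⟨V', h, hzV', (hp U hU V' hV' h hle).trans (hq U hU V' hV' h hle).symm⟩

theorem exists_isCo {U' : S'.Opens} (hU' : IsAffineOpen U') (x : Sec (B g 𝒮) U') :
    ∃ p, IsCo g 𝒮 x p := by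
  classical
  choose U hU V hV hzV hVU hle using fun z : U' => exists_pair g z.2
  obtain ⟨t, ht⟩ := hU'.isCompact.elim_finite_subcover (fun z : U' => (V z : Set S'))
    (fun z => (V z).2) fun z hz => Set.mem_iUnion.2 ⟨⟨z, hz⟩, hzV _⟩
  let q : ∀ k : t, (Sec (B g 𝒮) (V k))[X] := fun k => pco g 𝒮 (hU k) (hV k) (hle k) (rs _ (hVU k) x)
  have hcompat : ∀ (k l : t) (n : ℕ),
      rs (B g 𝒮) (inf_le_left : V k ⊓ V l ≤ V k) ((q k).coeff n) =
        rs (B g 𝒮) (inf_le_right : V k ⊓ V l ≤ V l) ((q l).coeff n) := by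
    intro k l n
    refine eq_of_local _ _ _ fun z hz => ?_
    obtain ⟨W, hW, W', hW', hzW', h, hle'⟩ := exists_pair g (U' := V k ⊓ V l) hz
    refine ⟨W', h, hzW', ?_⟩
    rw [rs_rs, rs_rs, ← coeff_map, ← coeff_map,
      ← pco_compat g 𝒮 (hU k) hW (hV k) hW' _ (hle k) hle', rs_rs,
      ← pco_compat g 𝒮 (hU l) hW (hV l) hW' _ (hle l) hle', rs_rs]
  have hcov : ∀ z ∈ U', ∃ k : t, z ∈ V k := fun z hz => by
    obtain ⟨k, hk⟩ := Set.mem_iUnion.1 (ht hz)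
    obtain ⟨hkt, hzk⟩ := Set.mem_iUnion.1 hk
    exact ⟨⟨k, hkt⟩, hzk⟩
  choose y hy using fun n => exists_glue (B g 𝒮) (fun k : t => V k) (fun k => hVU k) hcov
    (fun k => (q k).coeff n) fun k l => hcompat k l n
  let N := (t.attach.sup fun k => (q k).natDegree) + 1
  let p : (Sec (B g 𝒮) U')[X] := ∑ n ∈ Finset.range N, monomial n (y n)
  have hp : ∀ k : t, p.map (rs _ (hVU k)) = q k := by
    intro k
    have hk : (q k).natDegree < N :=
      Nat.lt_succ_of_le (Finset.le_sup (f := fun k : t => (q k).natDegree) (Finset.mem_attach _ k))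
    conv_rhs => rw [(q k).as_sum_range' N hk]
    simp only [p, Polynomial.map_sum, map_monomial]
    exact Finset.sum_congr rfl fun n _ => congrArg _ (hy n k)
  refine ⟨p, fun W hW V' hV' h hW' => poly_eq_of_local _ _ _ fun z hz => ?_⟩
  obtain ⟨k, hk⟩ := hcov z (h hz)
  obtain ⟨U₂, hU₂, W', hW'', hzW', hle₁, hle₂⟩ := exists_pair g (U' := V' ⊓ V k) ⟨hz, hk⟩
  refine ⟨W', fun y hy => (hle₁ hy).1, hzW', ?_⟩
  have hk' : W' ≤ V k := fun y hy => (hle₁ hy).2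
  rw [← pco_compat g 𝒮 hW hU₂ hV' hW'' (fun y hy => (hle₁ hy).1) hW' hle₂, rs_rs, map_rs_map_rs,
    ← map_rs_map_rs _ (hVU k) hk', hp k]
  simp only [q]
  rw [← pco_compat g 𝒮 (hU k) hU₂ (hV k) hW'' hk' (hle k) hle₂, rs_rs]

/-- The coaction over an affine open. -/
def co (U' : S'.Opens) (hU' : IsAffineOpen U') : Sec (B g 𝒮) U' →+* (Sec (B g 𝒮) U')[X] where
  toFun x := (exists_isCo g 𝒮 hU' x).choose
  map_one' := (exists_isCo g 𝒮 hU' 1).choose_spec.unique fun U hU V' hV' h hle => by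
    rw [Polynomial.map_one, map_one, map_one]
  map_mul' x y := (exists_isCo g 𝒮 hU' (x * y)).choose_spec.unique fun U hU V' hV' h hle => by
    rw [Polynomial.map_mul, (exists_isCo g 𝒮 hU' x).choose_spec U hU V' hV' h hle,
      (exists_isCo g 𝒮 hU' y).choose_spec U hU V' hV' h hle, map_mul, map_mul]
  map_zero' := (exists_isCo g 𝒮 hU' 0).choose_spec.unique fun U hU V' hV' h hle => by
    rw [Polynomial.map_zero, map_zero, map_zero]
  map_add' x y := (exists_isCo g 𝒮 hU' (x + y)).choose_spec.unique fun U hU V' hV' h hle => by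
    rw [Polynomial.map_add, (exists_isCo g 𝒮 hU' x).choose_spec U hU V' hV' h hle,
      (exists_isCo g 𝒮 hU' y).choose_spec U hU V' hV' h hle, map_add, map_add]

theorem isCo_co (U' : S'.Opens) (hU' : IsAffineOpen U') (x : Sec (B g 𝒮) U') :
    IsCo g 𝒮 x (co g 𝒮 U' hU' x) :=
  (exists_isCo g 𝒮 hU' x).choose_spec

theorem co_eq_pco {U : S.Opens} (hU : IsAffineOpen U) {U' : S'.Opens} (hU' : IsAffineOpen U')
    (hle : U' ≤ g ⁻¹ᵁ U) (x : Sec (B g 𝒮) U') : co g 𝒮 U' hU' x = pco g 𝒮 hU hU' hle x :=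
  (isCo_co g 𝒮 U' hU' x).unique fun U₂ hU₂ V' hV' h hle' =>
    (pco_compat g 𝒮 hU hU₂ hU' hV' h hle hle' x).symm

theorem co_natural {U' V' : S'.Opens} (hU' : IsAffineOpen U') (hV' : IsAffineOpen V') (h : V' ≤ U')
    (x : Sec (B g 𝒮) U') :
    co g 𝒮 V' hV' (rs (B g 𝒮) h x) = (co g 𝒮 U' hU' x).map (rs (B g 𝒮) h) :=
  (isCo_co g 𝒮 V' hV' _).unique fun U hU W' hW' h' hle => by
    rw [map_rs_map_rs, isCo_co g 𝒮 U' hU' x U hU W' hW' (h'.trans h) hle, rs_rs]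

theorem isWt_co (U' : S'.Opens) (hU' : IsAffineOpen U') : IsWt (co g 𝒮 U' hU') where
  eval a := by
    refine eq_of_local _ _ _ fun z hz => ?_
    obtain ⟨U, hU, V', hV', hzV', h, hle⟩ := exists_pair g hz
    refine ⟨V', h, hzV', ?_⟩
    have h1 := (isWt_pco g 𝒮 hU hV' hle).eval (rs (B g 𝒮) h a)
    rw [← isCo_co g 𝒮 U' hU' a U hU V' hV' h hle, Polynomial.eval_one_map] at h1
    exact h1
  coeff a i := by
    refine (mem_wt _).2 (poly_eq_of_local _ _ _ fun z hz => ?_)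
    obtain ⟨U, hU, V', hV', hzV', h, hle⟩ := exists_pair g hz
    refine ⟨V', h, hzV', ?_⟩
    rw [isCo_co g 𝒮 U' hU' _ U hU V' hV' h hle, map_monomial, ← coeff_map,
      isCo_co g 𝒮 U' hU' a U hU V' hV' h hle]
    exact (mem_wt _).1 ((isWt_pco g 𝒮 hU hV' hle).coeff (rs (B g 𝒮) h a) i)

/-- `g^*𝒮`. -/
def gr : RelProj.QCGrAlg S' where
  toQCAlg := B g 𝒮
  deg U' hU' i := wt (co g 𝒮 U' hU') i
  graded U' hU' := (isWt_co g 𝒮 U' hU').gradedRing
  map_mem {U' V'} hU' hV' h d x hx := by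
    refine (mem_wt _).2 ?_
    change co g 𝒮 V' hV' (rs (B g 𝒮) h x) = monomial d (rs (B g 𝒮) h x)
    rw [co_natural g 𝒮 hU' hV' h, (mem_wt _).1 hx, map_monomial]
  str_mem U' hU' r := (mem_wt _).2 ((isCo_co g 𝒮 U' hU' _).unique fun U hU V' hV' h hle => by
    rw [map_monomial, rs_str, pco_str, monomial_zero_left])

theorem mem_deg_iff {U : S.Opens} (hU : IsAffineOpen U) {U' : S'.Opens} (hU' : IsAffineOpen U')
    (hle : U' ≤ g ⁻¹ᵁ U) {i : ℕ} {x : Sec (B g 𝒮) U'} :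
    x ∈ (gr g 𝒮).deg U' hU' i ↔ pco g 𝒮 hU hU' hle x = monomial i x := by
  rw [← co_eq_pco g 𝒮 hU hU' hle]
  exact mem_wt _

/-- The canonical graded `g`-morphism. -/
def qGrHom : RelProj.QGrHom g 𝒮 (gr g 𝒮) where
  toQHom := AlgBC.qHom g 𝒮.toQCAlg
  map_mem U hU U' hU' hle {d x} hx := by
    refine (mem_deg_iff g 𝒮 hU hU' hle).2 ?_
    change pco g 𝒮 hU hU' hle ((um g 𝒮 U U' hle).hom x) = monomial d ((um g 𝒮 U U' hle).hom x)
    rw [pco_um, GrCoact.co_of_mem (𝒮.deg U hU) hx, map_monomial]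

theorem isQBaseChange : RelSpec.IsQBaseChange (qGrHom g 𝒮).toQHom := AlgBC.isQBaseChange g 𝒮.toQCAlg

end Groth.Ega2Proj.GrBC
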