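/-
Local-to-global for degree-one generation and finite type of the graded pieces.
-/
import Groth.Prelude.Def_RelProj
import Mathlib.RingTheory.LocalProperties.Basic

set_option autoImplicit false

universe u

open CategoryTheory CategoryTheory.Limits AlgebraicGeometry Opposite TopologicalSpace

set_option backward.isDefEq.respectTransparency.types false

noncomputable section

namespace Groth.Ega2Proj.GrLocal

variable {S : Scheme.{u}} (𝒯 : RelProj.QCGrAlg S) {U : S.Opens} (hU : IsAffineOpen U) (r : Γ(S, U))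

/-- The structure map. -/
abbrev st (U : S.Opens) : Γ(S, U) →+* 𝒯.presheaf.obj (op U) := (𝒯.str.app (op U)).hom

/-- Restriction to a basic open. -/
abbrev ρ : 𝒯.presheaf.obj (op U) →+* 𝒯.presheaf.obj (op (S.basicOpen r)) :=
  (𝒯.presheaf.map (homOfLE (S.basicOpen_le r)).op).hom

theorem ρ_st (s : Γ(S, U)) :
    ρ 𝒯 r (st 𝒯 U s) = st 𝒯 (S.basicOpen r) ((S.presheaf.map (homOfLE (S.basicOpen_le r)).op).hom s) :=
  (congr(($(𝒯.str.naturality (homOfLE (S.basicOpen_le r)).op)).hom s)).symm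

include hU in
theorem isUnit_ρ : IsUnit (ρ 𝒯 r (st 𝒯 U r)) := by
  let _inst := (ρ 𝒯 r).toAlgebra
  have := 𝒯.isQC U hU r
  exact IsLocalization.Away.algebraMap_isUnit (S := 𝒯.presheaf.obj (op (S.basicOpen r))) (st 𝒯 U r)

/-- The elements over `D(r)` which come, up to a power of `r`, from `K`. -/
def loc (K : AddSubgroup (𝒯.presheaf.obj (op U))) (hK : ∀ s, ∀ a ∈ K, st 𝒯 U s * a ∈ K) :
    AddSubgroup (𝒯.presheaf.obj (op (S.basicOpen r))) where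
  carrier := {y | ∃ (n : ℕ) (a : _), a ∈ K ∧ ρ 𝒯 r a = ρ 𝒯 r (st 𝒯 U r) ^ n * y}
  zero_mem' := ⟨0, 0, K.zero_mem, by simp⟩
  add_mem' := by
    rintro x y ⟨n, a, ha, hax⟩ ⟨m, b, hb, hby⟩
    refine ⟨n + m, st 𝒯 U (r ^ m) * a + st 𝒯 U (r ^ n) * b, add_mem (hK _ _ ha) (hK _ _ hb), ?_⟩
    simp only [map_add, map_mul, map_pow, hax, hby]
    ring
  neg_mem' := by
    rintro x ⟨n, a, ha, hax⟩
    exact ⟨n, -a, K.neg_mem ha, by rw [map_neg, hax, mul_neg]⟩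

theorem mem_loc_of_mem {K : AddSubgroup (𝒯.presheaf.obj (op U))} (hK : ∀ s, ∀ a ∈ K, st 𝒯 U s * a ∈ K)
    {a : 𝒯.presheaf.obj (op U)} (ha : a ∈ K) : ρ 𝒯 r a ∈ loc 𝒯 r K hK :=
  ⟨0, a, ha, by simp⟩

include hU in
theorem exists_deg_lift {i : ℕ} {y : 𝒯.presheaf.obj (op (S.basicOpen r))}
    (hy : y ∈ 𝒯.deg (S.basicOpen r) (hU.basicOpen r) i) :
    ∃ (n : ℕ) (a : _), a ∈ 𝒯.deg U hU i ∧ ρ 𝒯 r a = ρ 𝒯 r (st 𝒯 U r) ^ n * y := by
  classical
  let _inst := (ρ 𝒯 r).toAlgebra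
  have := 𝒯.isQC U hU r
  obtain ⟨n, a, ha⟩ := IsLocalization.Away.surj (S := 𝒯.presheaf.obj (op (S.basicOpen r))) (st 𝒯 U r) y
  change y * ρ 𝒯 r (st 𝒯 U r) ^ n = ρ 𝒯 r a at ha
  refine ⟨n, (DirectSum.decompose (𝒯.deg U hU) a i : 𝒯.presheaf.obj (op U)), SetLike.coe_mem _, ?_⟩
  have hmem : y * ρ 𝒯 r (st 𝒯 U r) ^ n ∈ 𝒯.deg (S.basicOpen r) (hU.basicOpen r) i := by
    have h0 : ρ 𝒯 r (st 𝒯 U r) ^ n ∈ 𝒯.deg (S.basicOpen r) (hU.basicOpen r) 0 := by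
      simpa only [nsmul_zero] using
        SetLike.pow_mem_graded (A := 𝒯.deg (S.basicOpen r) (hU.basicOpen r)) n
          (𝒯.map_mem hU (hU.basicOpen r) (S.basicOpen_le r) (𝒯.str_mem U hU r))
    simpa only [add_zero] using SetLike.mul_mem_graded (A := 𝒯.deg (S.basicOpen r) (hU.basicOpen r)) hy h0
  change (𝒯.res hU (hU.basicOpen r) (S.basicOpen_le r))
    (DirectSum.decompose (𝒯.deg U hU) a i : 𝒯.presheaf.obj (op U)) = _
  rw [GradedRingHom.map_directSumDecompose, RelProj.QCGrAlg.res_apply]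
  change (DirectSum.decompose (𝒯.deg (S.basicOpen r) (hU.basicOpen r)) (ρ 𝒯 r a) i :
    𝒯.presheaf.obj (op (S.basicOpen r))) = _
  rw [← ha, DirectSum.decompose_of_mem_same _ hmem, mul_comm]

include hU in
theorem smul_mem_loc {K : AddSubgroup (𝒯.presheaf.obj (op U))} (hK : ∀ s, ∀ a ∈ K, st 𝒯 U s * a ∈ K)
    (s : Γ(S, S.basicOpen r)) {y : 𝒯.presheaf.obj (op (S.basicOpen r))} (hy : y ∈ loc 𝒯 r K hK) :
    st 𝒯 (S.basicOpen r) s * y ∈ loc 𝒯 r K hK := by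
  obtain ⟨n, a, ha, hay⟩ := hy
  have := hU.isLocalization_basicOpen r
  obtain ⟨m, s', hs⟩ := IsLocalization.Away.surj (S := Γ(S, S.basicOpen r)) r s
  refine ⟨n + m, st 𝒯 U s' * a, hK _ _ ha, ?_⟩
  have hs' := congrArg (st 𝒯 (S.basicOpen r)) hs
  rw [map_mul, map_pow] at hs'
  erw [← ρ_st 𝒯 r s', ← ρ_st 𝒯 r r] at hs'
  rw [map_mul, hay, ← hs']
  ring

include hU in
/-- Membership is local. -/
theorem mem_of_local (K : AddSubgroup (𝒯.presheaf.obj (op U))) (hK : ∀ s, ∀ a ∈ K, st 𝒯 U s * a ∈ K)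
    (t : Set Γ(S, U)) (ht : Ideal.span t = ⊤) {x : 𝒯.presheaf.obj (op U)}
    (h : ∀ r ∈ t, ρ 𝒯 r x ∈ loc 𝒯 r K hK) : x ∈ K := by
  let J : Ideal Γ(S, U) :=
    { carrier := {s | st 𝒯 U s * x ∈ K}
      zero_mem' := by simp
      add_mem' := fun {a b} ha hb => by
        change st 𝒯 U (a + b) * x ∈ K
        rw [map_add, add_mul]
        exact add_mem ha hb
      smul_mem' := fun c s hs => by
        change st 𝒯 U (c * s) * x ∈ K
        rw [map_mul, mul_assoc]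
        exact hK _ _ hs }
  have hrad : ∀ r ∈ t, r ∈ J.radical := by
    intro r hr
    obtain ⟨n, a, ha, hax⟩ := h r hr
    let _inst := (ρ 𝒯 r).toAlgebra
    have := 𝒯.isQC U hU r
    have he : ρ 𝒯 r a = ρ 𝒯 r (st 𝒯 U r ^ n * x) := by rw [hax, map_mul, map_pow]
    obtain ⟨m, hm⟩ := IsLocalization.Away.exists_of_eq (S := 𝒯.presheaf.obj (op (S.basicOpen r))) (st 𝒯 U r) he
    refine ⟨m + n, ?_⟩
    change st 𝒯 U (r ^ (m + n)) * x ∈ K
    rw [map_pow, pow_add, mul_assoc, ← hm, ← map_pow]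
    exact hK _ _ ha
  have hJ : J.radical = ⊤ := top_unique (ht ▸ Ideal.span_le.2 hrad)
  have h1 : (1 : Γ(S, U)) ∈ J := (Ideal.eq_top_iff_one J).1 (Ideal.radical_eq_top.1 hJ)
  change st 𝒯 U 1 * x ∈ K at h1
  rwa [map_one, one_mul] at h1

include hU in
theorem exists_cover {Q : S.Opens → Prop} (hQ : ∀ z ∈ U, ∃ r : Γ(S, U), z ∈ S.basicOpen r ∧ Q (S.basicOpen r)) :
    ∃ t : Finset Γ(S, U), Ideal.span (t : Set Γ(S, U)) = ⊤ ∧ ∀ r ∈ t, Q (S.basicOpen r) := by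
  let s : Set Γ(S, U) := {r | Q (S.basicOpen r)}
  have hs : Ideal.span s = ⊤ := (hU.self_le_iSup_basicOpen_iff (s := s)).1 fun z hz => by
    obtain ⟨r, hzr, hr⟩ := hQ z hz
    exact Opens.mem_iSup.2 ⟨⟨r, hr⟩, hzr⟩
  obtain ⟨t, hts, ht⟩ := (Ideal.span_eq_top_iff_finite s).1 hs
  exact ⟨t, ht, fun r hr => hts hr⟩

include hU in
theorem closure_eq_top_of_local (t : Set Γ(S, U)) (ht : Ideal.span t = ⊤)
    (h : ∀ r ∈ t, Subring.closure ((𝒯.deg (S.basicOpen r) (hU.basicOpen r) 0 : Set (𝒯.presheaf.obj (op (S.basicOpen r)))) ∪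
      (𝒯.deg (S.basicOpen r) (hU.basicOpen r) 1 : Set _)) = ⊤) :
    Subring.closure ((𝒯.deg U hU 0 : Set (𝒯.presheaf.obj (op U))) ∪ (𝒯.deg U hU 1 : Set _)) = ⊤ := by
  let K := Subring.closure ((𝒯.deg U hU 0 : Set (𝒯.presheaf.obj (op U))) ∪ (𝒯.deg U hU 1 : Set _))
  have hst : ∀ s, st 𝒯 U s ∈ K := fun s => Subring.subset_closure (Or.inl (𝒯.str_mem U hU s))
  have hK : ∀ s, ∀ a ∈ K.toAddSubgroup, st 𝒯 U s * a ∈ K.toAddSubgroup := fun s a ha => K.mul_mem (hst s) ha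
  refine eq_top_iff.2 fun x _ => mem_of_local 𝒯 hU K.toAddSubgroup hK t ht fun r hr => ?_
  let L : Subring (𝒯.presheaf.obj (op (S.basicOpen r))) :=
    { loc 𝒯 r K.toAddSubgroup hK with
      one_mem' := by
        change (1 : 𝒯.presheaf.obj (op (S.basicOpen r))) ∈ loc 𝒯 r K.toAddSubgroup hK
        rw [← map_one (ρ 𝒯 r)]
        exact mem_loc_of_mem 𝒯 r hK K.one_mem
      mul_mem' := by
        rintro x y ⟨n, a, ha, hax⟩ ⟨m, b, hb, hby⟩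
        exact ⟨n + m, a * b, K.mul_mem ha hb, by rw [map_mul, hax, hby]; ring⟩ }
  have hle : Subring.closure ((𝒯.deg (S.basicOpen r) (hU.basicOpen r) 0 : Set (𝒯.presheaf.obj (op (S.basicOpen r)))) ∪
      (𝒯.deg (S.basicOpen r) (hU.basicOpen r) 1 : Set _)) ≤ L := by
    rw [Subring.closure_le]
    rintro y (hy | hy) <;> obtain ⟨n, a, ha, hay⟩ := exists_deg_lift 𝒯 hU r hy
    exacts [⟨n, a, Subring.subset_closure (Or.inl ha), hay⟩, ⟨n, a, Subring.subset_closure (Or.inr ha), hay⟩]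
  exact hle (by rw [h r hr]; trivial)

include hU in
theorem exists_gen_of_local (d : ℕ) (t : Finset Γ(S, U)) (ht : Ideal.span (t : Set Γ(S, U)) = ⊤)
    (h : ∀ r ∈ t, ∃ T : Finset (𝒯.presheaf.obj (op (S.basicOpen r))),
      (↑T : Set (𝒯.presheaf.obj (op (S.basicOpen r)))) ⊆ (𝒯.deg (S.basicOpen r) (hU.basicOpen r) d : Set _) ∧
        ∀ x ∈ 𝒯.deg (S.basicOpen r) (hU.basicOpen r) d, ∃ c : _ → Γ(S, S.basicOpen r),
          x = ∑ e ∈ T, st 𝒯 (S.basicOpen r) (c e) * e) :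
    ∃ T : Finset (𝒯.presheaf.obj (op U)),
      (↑T : Set (𝒯.presheaf.obj (op U))) ⊆ (𝒯.deg U hU d : Set _) ∧
      ∀ x ∈ 𝒯.deg U hU d, ∃ c : _ → Γ(S, U), x = ∑ e ∈ T, st 𝒯 U (c e) * e := by
  classical
  choose T hT hTgen using h
  choose n a ha hρ using fun (p : Σ r : t, T r.1 r.2) => exists_deg_lift 𝒯 hU p.1.1 (hT _ _ p.2.2)
  let _inst := (st 𝒯 U).toAlgebra
  let G := Finset.univ.image a
  let M : Submodule Γ(S, U) (𝒯.presheaf.obj (op U)) := Submodule.span _ (G : Set _)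
  have hK : ∀ s, ∀ b ∈ M.toAddSubgroup, st 𝒯 U s * b ∈ M.toAddSubgroup := fun s b hb => M.smul_mem s hb
  refine ⟨G, ?_, fun x hx => ?_⟩
  · intro y hy
    obtain ⟨p, -, rfl⟩ := Finset.mem_image.1 hy
    exact ha p
  have hxM : x ∈ M := mem_of_local 𝒯 hU M.toAddSubgroup hK t ht fun r hr => by
    obtain ⟨c, hc⟩ := hTgen r hr (ρ 𝒯 r x) (𝒯.map_mem hU (hU.basicOpen r) _ hx)
    rw [hc]
    refine sum_mem fun e he => smul_mem_loc 𝒯 hU r hK _ ?_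
    let p : Σ r : t, T r.1 r.2 := ⟨⟨r, hr⟩, ⟨e, he⟩⟩
    exact ⟨n p, a p, Submodule.subset_span (Finset.mem_coe.2 (Finset.mem_image_of_mem a (Finset.mem_univ p))), hρ p⟩
  obtain ⟨c, -, hc⟩ := Submodule.mem_span_finset.1 hxM
  exact ⟨c, hc.symm⟩

end Groth.Ega2Proj.GrLocal
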