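/-
Generation properties of the inverse image of a graded algebra.
-/
import Groth.Agent.Ega2Proj.GrBaseChange
import Groth.Agent.Ega2Proj.GrLocal

set_option autoImplicit false

universe u

open CategoryTheory CategoryTheory.Limits AlgebraicGeometry Opposite TopologicalSpace Polynomial

set_option backward.isDefEq.respectTransparency.types false

noncomputable section

namespace Groth.Ega2Proj.GrBC

variable {S S' : Scheme.{u}} (g : S' ⟶ S) (𝒮 : RelProj.QCGrAlg S)

theorem pair_closure_eq_top (h : 𝒮.IsGenDegOne) {U : S.Opens} (hU : IsAffineOpen U) {U' : S'.Opens}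
    (hU' : IsAffineOpen U') (hle : U' ≤ g ⁻¹ᵁ U) :
    Subring.closure (((gr g 𝒮).deg U' hU' 0 : Set ((gr g 𝒮).presheaf.obj (op U'))) ∪
      ((gr g 𝒮).deg U' hU' 1 : Set _)) = ⊤ := by
  refine pair_eq_top g 𝒮 hU hU' hle _ (fun r => Subring.subset_closure (Or.inl ((gr g 𝒮).str_mem U' hU' r)))
    fun x => ?_
  refine (Subring.closure_le (t := (Subring.closure _).comap (um g 𝒮 U U' hle).hom)).2 ?_
    ((h U hU).symm ▸ Subring.mem_top x)
  rintro y (hy | hy)
  · exact Subring.subset_closure (Or.inl ((qGrHom g 𝒮).map_mem U hU U' hU' hle hy))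
  · exact Subring.subset_closure (Or.inr ((qGrHom g 𝒮).map_mem U hU U' hU' hle hy))

theorem pair_exists_gen {d : ℕ} (h : 𝒮.IsFTDeg d) {U : S.Opens} (hU : IsAffineOpen U) {U' : S'.Opens}
    (hU' : IsAffineOpen U') (hle : U' ≤ g ⁻¹ᵁ U) :
    ∃ T : Finset ((gr g 𝒮).presheaf.obj (op U')),
      (↑T : Set ((gr g 𝒮).presheaf.obj (op U'))) ⊆ ((gr g 𝒮).deg U' hU' d : Set _) ∧
      ∀ x ∈ (gr g 𝒮).deg U' hU' d, ∃ c : (gr g 𝒮).presheaf.obj (op U') → Γ(S', U'),
        x = ∑ e ∈ T, ((gr g 𝒮).str.app (op U')).hom (c e) * e := by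
  classical
  obtain ⟨T, hT, hTgen⟩ := h U hU
  let st := ((B g 𝒮).str.app (op U')).hom
  let _inst : Algebra Γ(S', U') (Sec (B g 𝒮) U') := st.toAlgebra
  let u := (um g 𝒮 U U' hle).hom
  refine ⟨T.image u, ?_, fun x hx => ?_⟩
  · intro y hy
    obtain ⟨t, ht, rfl⟩ := Finset.mem_image.1 hy
    exact (qGrHom g 𝒮).map_mem U hU U' hU' hle (hT ht)
  let N : Submodule Γ(S', U') (Sec (B g 𝒮) U') := Submodule.span _ (T.image u : Set (Sec (B g 𝒮) U'))
  have hspan : (Algebra.adjoin Γ(S', U') (Set.range u)) = ⊤ := by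
    refine eq_top_iff.2 fun y _ => ?_
    exact (pair_eq_top g 𝒮 hU hU' hle (Algebra.adjoin Γ(S', U') (Set.range u)).toSubring
      (fun r => (Algebra.adjoin Γ(S', U') (Set.range u)).algebraMap_mem r)
      (fun a => Algebra.subset_adjoin ⟨a, rfl⟩)).ge (Subring.mem_top y)
  have hgen : Submodule.span Γ(S', U') (Set.range u) = ⊤ := by
    have h1 := congrArg Subalgebra.toSubmodule hspan
    rw [Algebra.adjoin_eq_span] at h1
    have hcl : (Submonoid.closure (Set.range u) : Set (Sec (B g 𝒮) U')) = Set.range u :=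
      subset_antisymm (Submonoid.closure_le (S := MonoidHom.mrange u.toMonoidHom) |>.2 fun _ hy => hy)
        Submonoid.subset_closure
    rw [hcl, Algebra.top_toSubmodule] at h1
    exact h1
  have key : ∀ y : Sec (B g 𝒮) U', (pco g 𝒮 hU hU' hle y).coeff d ∈ N := by
    intro y
    have hy : y ∈ Submodule.span Γ(S', U') (Set.range u) := hgen ▸ trivial
    induction hy using Submodule.span_induction with
    | mem y hy =>
      obtain ⟨a, rfl⟩ := hy
      rw [pco_um, coeff_map, GrCoact.coeff_co]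
      obtain ⟨c, hc⟩ := hTgen _ (SetLike.coe_mem (DirectSum.decompose (𝒮.deg U hU) a d))
      rw [hc, map_sum]
      refine sum_mem fun t ht => ?_
      rw [map_mul, str_um]
      exact N.smul_mem _ (Submodule.subset_span (Finset.mem_coe.2 (Finset.mem_image_of_mem u ht)))
    | zero => rw [map_zero, coeff_zero]; exact zero_mem _
    | add a b _ _ ha hb => rw [map_add, coeff_add]; exact add_mem ha hb
    | smul r a _ ha =>
      change (pco g 𝒮 hU hU' hle (st r * a)).coeff d ∈ N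
      rw [map_mul, pco_str, coeff_C_mul]
      exact N.smul_mem r ha
  have hxN := key x
  rw [(mem_deg_iff g 𝒮 hU hU' hle).1 hx, coeff_monomial, if_pos rfl] at hxN
  obtain ⟨c, -, hc⟩ := Submodule.mem_span_finset.1 hxN
  exact ⟨c, hc.symm⟩

theorem exists_pair_cover {U' : S'.Opens} (hU' : IsAffineOpen U') :
    ∃ t : Finset Γ(S', U'), Ideal.span (t : Set Γ(S', U')) = ⊤ ∧
      ∀ r ∈ t, ∃ (U : S.Opens) (_ : IsAffineOpen U), S'.basicOpen r ≤ g ⁻¹ᵁ U :=
  GrLocal.exists_cover hU' (Q := fun V => ∃ (U : S.Opens) (_ : IsAffineOpen U), V ≤ g ⁻¹ᵁ U) fun z hz => by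
    obtain ⟨U, hU, V', hV', hzV', hle₁, hle₂⟩ := exists_pair g hz
    obtain ⟨r, hr, hzr⟩ := hU'.exists_basicOpen_le ⟨z, hzV'⟩ hz
    exact ⟨r, hzr, U, hU, hr.trans hle₂⟩

theorem isGenDegOne (h : 𝒮.IsGenDegOne) : (gr g 𝒮).IsGenDegOne := fun U' hU' => by
  obtain ⟨t, ht, hQ⟩ := exists_pair_cover g hU'
  refine GrLocal.closure_eq_top_of_local (gr g 𝒮) hU' t ht fun r hr => ?_
  obtain ⟨U, hU, hle⟩ := hQ r hr
  exact pair_closure_eq_top g 𝒮 h hU (hU'.basicOpen r) hle

theorem isFTDeg {d : ℕ} (h : 𝒮.IsFTDeg d) : (gr g 𝒮).IsFTDeg d := fun U' hU' => by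
  obtain ⟨t, ht, hQ⟩ := exists_pair_cover g hU'
  refine GrLocal.exists_gen_of_local (gr g 𝒮) hU' d t ht fun r hr => ?_
  obtain ⟨U, hU, hle⟩ := hQ r hr
  exact pair_exists_gen g 𝒮 h hU (hU'.basicOpen r) hle

end Groth.Ega2Proj.GrBC
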