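/-
Direct image of a quasi-coherent graded algebra along an affine morphism; its relative `Proj`.
-/
import Groth.Prelude.Def_RelProj
import Mathlib.AlgebraicGeometry.Morphisms.Finite

set_option autoImplicit false
universe u
open CategoryTheory CategoryTheory.Limits AlgebraicGeometry Opposite TopologicalSpace

set_option backward.isDefEq.respectTransparency.types false

noncomputable section

namespace Groth.Ega2Proj.GrPush

variable {X Y : Scheme.{u}} (f : X ⟶ Y) [IsAffineHom f]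

theorem isQC_push (A : RelSpec.QCAlg X) :
    RelSpec.IsQC (f.base _* A.presheaf)
      (f.c ≫ (TopCat.Presheaf.pushforward CommRingCat.{u} f.base).map A.str) := by
  intro U hU r
  let inst : Algebra (A.presheaf.obj (op (f ⁻¹ᵁ U))) (A.presheaf.obj (op (f ⁻¹ᵁ Y.basicOpen r))) :=
    (A.presheaf.map (homOfLE (f.preimage_mono (Y.basicOpen_le r))).op).hom.toAlgebra
  change IsLocalization.Away ((A.str.app (op (f ⁻¹ᵁ U))).hom (f.app U r))
    (A.presheaf.obj (op (f ⁻¹ᵁ Y.basicOpen r)))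
  dsimp +instances [inst]
  rw! (castMode := .all) [f.preimage_basicOpen r]
  exact A.isQC _ (hU.preimage f) (f.app U r)

/-- `f_* 𝒮` for affine `f`. -/
def gr (𝒮 : RelProj.QCGrAlg X) : RelProj.QCGrAlg Y where
  presheaf := f.base _* 𝒮.presheaf
  isSheaf := TopCat.Sheaf.pushforward_sheaf_of_sheaf f.base 𝒮.isSheaf
  str := f.c ≫ (TopCat.Presheaf.pushforward CommRingCat.{u} f.base).map 𝒮.str
  isQC := isQC_push f 𝒮.toQCAlg
  deg U hU := 𝒮.deg (f ⁻¹ᵁ U) (hU.preimage f)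
  graded U hU := 𝒮.graded (f ⁻¹ᵁ U) (hU.preimage f)
  map_mem {U V} hU hV i := fun hx => 𝒮.map_mem (hU.preimage f) (hV.preimage f) (f.preimage_mono i) hx
  str_mem U hU r := 𝒮.str_mem (f ⁻¹ᵁ U) (hU.preimage f) _

variable {𝒮 : RelProj.QCGrAlg X}

theorem isGenDegOne (h : 𝒮.IsGenDegOne) : (gr f 𝒮).IsGenDegOne :=
  fun U hU => h (f ⁻¹ᵁ U) (hU.preimage f)

theorem isFTDeg [IsFinite f] {d : ℕ} (h : 𝒮.IsFTDeg d) : (gr f 𝒮).IsFTDeg d := by
  classical
  intro U hU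
  obtain ⟨T, hT, hspan⟩ := h (f ⁻¹ᵁ U) (hU.preimage f)
  let B := 𝒮.presheaf.obj (op (f ⁻¹ᵁ U))
  let σ : Γ(X, f ⁻¹ᵁ U) →+* B := (𝒮.str.app (op (f ⁻¹ᵁ U))).hom
  let φ : Γ(Y, U) →+* Γ(X, f ⁻¹ᵁ U) := (f.app U).hom
  algebraize [φ]
  letI : Algebra Γ(Y, U) B := (σ.comp φ).toAlgebra
  have hfin : φ.Finite := IsFinite.finite_app f U hU
  obtain ⟨G, hG⟩ := (hfin : Module.Finite Γ(Y, U) Γ(X, f ⁻¹ᵁ U)).fg_top
  let T' : Finset B := (G ×ˢ T).image fun q => σ q.1 * q.2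
  refine ⟨T', ?_, fun x hx => ?_⟩
  · intro y hy
    obtain ⟨⟨a, t⟩, hat, rfl⟩ := Finset.mem_image.mp hy
    have := SetLike.mul_mem_graded (𝒮.str_mem (f ⁻¹ᵁ U) (hU.preimage f) a)
      (hT (Finset.mem_product.mp hat).2)
    rwa [zero_add] at this
  obtain ⟨c, rfl⟩ := hspan x hx
  have key : ∀ t ∈ T, ∀ a : Γ(X, f ⁻¹ᵁ U), σ a * t ∈ Submodule.span Γ(Y, U) (T' : Set B) := by
    intro t ht a
    have ha : a ∈ Submodule.span Γ(Y, U) (G : Set Γ(X, f ⁻¹ᵁ U)) := hG ▸ Submodule.mem_top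
    induction ha using Submodule.span_induction with
    | mem g hg =>
      exact Submodule.subset_span
        (Finset.mem_image.mpr ⟨(g, t), Finset.mem_product.mpr ⟨hg, ht⟩, rfl⟩)
    | zero => rw [map_zero, zero_mul]; exact zero_mem _
    | add a b _ _ ha hb => rw [map_add, add_mul]; exact add_mem ha hb
    | smul r a _ ha =>
      have : σ (r • a) * t = r • (σ a * t) := by
        rw [Algebra.smul_def, Algebra.smul_def, map_mul, mul_assoc]; rfl
      rw [this]; exact Submodule.smul_mem _ r ha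
  obtain ⟨e, -, he⟩ := Submodule.mem_span_finset.mp (sum_mem fun t ht => key t ht (c t))
  refine ⟨e, he.symm.trans (Finset.sum_congr rfl fun t _ => ?_)⟩
  exact Algebra.smul_def (e t) t

variable {P : Scheme.{u}} {p : P ⟶ X}
  (chart : ∀ (U : X.Opens) (hU : IsAffineOpen U), (((p ⁻¹ᵁ U : P.Opens) : Scheme.{u}) ≅ Proj (𝒮.deg U hU)))

theorem chart_res_of_eq (hP : RelProj.IsRelProj 𝒮 p chart) {W V : X.Opens} (hW : IsAffineOpen W)
    (hV : IsAffineOpen V) (r : Γ(X, W)) (e : V = X.basicOpen r) (hle : V ≤ W)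
    (hirr : HomogeneousIdeal.irrelevant (𝒮.deg V hV) ≤
      (HomogeneousIdeal.irrelevant (𝒮.deg W hW)).map (𝒮.res hW hV hle)) :
    P.homOfLE (p.preimage_mono hle) ≫ (chart W hW).hom =
      (chart V hV).hom ≫ Proj.map (𝒮.res hW hV hle) hirr := by
  subst e
  exact hP.chart_res W hW r

/-- The relative `Proj` of `f_* 𝒮` is that of `𝒮`, composed with `f`. -/
theorem isRelProj (hP : RelProj.IsRelProj 𝒮 p chart) :
    RelProj.IsRelProj (gr f 𝒮) (p ≫ f) (fun U hU => chart (f ⁻¹ᵁ U) (hU.preimage f)) where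
  chart_over U hU := by
    have h1 : (gr f 𝒮).strZero U hU = f.app U ≫ 𝒮.strZero (f ⁻¹ᵁ U) (hU.preimage f) := rfl
    have h2 : Spec.map (f.app U) ≫ hU.fromSpec = (hU.preimage f).fromSpec ≫ f := by
      rw [Scheme.Hom.app_eq_appLE]
      exact IsAffineOpen.SpecMap_appLE_fromSpec f hU (hU.preimage f) le_rfl
    have h3 := congrArg (· ≫ f) (hP.chart_over (f ⁻¹ᵁ U) (hU.preimage f))
    simp only [Category.assoc] at h3
    have h4 : Spec.map (f.app U ≫ 𝒮.strZero (f ⁻¹ᵁ U) (hU.preimage f)) ≫ hU.fromSpec =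
        Spec.map (𝒮.strZero (f ⁻¹ᵁ U) (hU.preimage f)) ≫ (hU.preimage f).fromSpec ≫ f := by
      rw [Spec.map_comp, Category.assoc, h2]
    rw [h1]
    exact (congrArg (fun z => (chart (f ⁻¹ᵁ U) (hU.preimage f)).hom ≫
      Proj.toSpecZero (𝒮.deg (f ⁻¹ᵁ U) (hU.preimage f)) ≫ z) h4).trans h3
  chart_res U hU r :=
    chart_res_of_eq chart hP (hU.preimage f) ((hU.basicOpen r).preimage f) (f.app U r)
      (f.preimage_basicOpen r) (f.preimage_mono (Y.basicOpen_le r)) ((gr f 𝒮).irrelevant_le_map U hU r)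

theorem isProjective_comp_finite {Z : Scheme.{u}} {g : Z ⟶ X} [IsFinite f] (hg : RelProj.IsProjective g) :
    RelProj.IsProjective (g ≫ f) := by
  obtain ⟨𝒮, P, p, chart, e, hgen, hft, hP, rfl⟩ := hg
  exact ⟨gr f 𝒮, P, p ≫ f, fun U hU => chart (f ⁻¹ᵁ U) (hU.preimage f), e, isGenDegOne f hgen,
    isFTDeg f hft, isRelProj f chart hP, (Category.assoc _ _ _).symm⟩

end Groth.Ega2Proj.GrPush
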