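/-
Morphisms to Proj given by homomorphisms, and graded automorphisms acting by scalars.
-/
import Groth.Agent.Ega2Proj2.ProjLoc
import Groth.Agent.Ega2Proj2.RelProjBasic

set_option autoImplicit false

universe u

open CategoryTheory AlgebraicGeometry HomogeneousLocalization
open scoped HomogeneousIdeal

set_option backward.isDefEq.respectTransparency.types false

noncomputable section

namespace Groth.Ega2Proj.LineEx

variable {A B σ τ : Type u} [CommRing A] [SetLike σ A] [AddSubgroupClass σ A]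
  [CommRing B] [SetLike τ B] [AddSubgroupClass τ B]
  {𝒜 : ℕ → σ} {ℬ : ℕ → τ} [GradedRing 𝒜] [GradedRing ℬ]

theorem irr_of_inverse (ψ : 𝒜 →+*ᵍ ℬ) (θ : ℬ →+*ᵍ 𝒜) (h : ∀ x, ψ (θ x) = x) :
    ℬ₊ ≤ 𝒜₊.map ψ :=
  (HomogeneousIdeal.irrelevant_le _).2 fun k hk x hx => by
    rw [← h x]
    exact Ideal.mem_map_of_mem _ (HomogeneousIdeal.mem_irrelevant_of_mem _ hk (θ.map_mem hx))

/-- An endomorphism multiplying the elements of degree `k` by `c ^ k` is the identity on `Proj`. -/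
theorem map_eq_id_of_scale (s : ℬ →+*ᵍ ℬ) (hs : ℬ₊ ≤ ℬ₊.map s) {c : B} (hc : c ∈ ℬ 0)
    (h : ∀ k, ∀ x ∈ ℬ k, s x = c ^ k * x) : Proj.map s hs = 𝟙 _ := by
  refine (Proj.mapAffineOpenCover s hs).openCover.hom_ext _ _ fun (t : Σ i : PNat, ℬ i) => ?_
  change Proj.awayι ℬ (s _) (s.map_mem t.2.2) t.1.pos ≫ _ =
    Proj.awayι ℬ (s _) (s.map_mem t.2.2) t.1.pos ≫ _
  rw [Proj.awayι_comp_map _ _ t.1.pos _ t.2.2, Category.comp_id]
  have hcd : c ^ (t.1 : ℕ) ∈ ℬ 0 := by simpa using SetLike.pow_mem_graded (t.1 : ℕ) hc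
  have hx : s (t.2 : B) = (t.2 : B) * c ^ (t.1 : ℕ) := by rw [h _ _ t.2.2, mul_comm]
  refine Eq.trans ?_ (Proj.SpecMap_awayMap_awayι ℬ t.2.2 t.1.pos hcd hx)
  congr 3
  refine RingHom.ext fun q => val_injective _ ?_
  obtain ⟨n, x, hx', rfl⟩ := q.mk_surjective _ t.2.2
  rw [Away.map_mk, Away.val_mk]
  refine Eq.trans ?_ (val_awayMap_mk (f := (t.2 : B)) ℬ hcd hx (n • (t.1 : ℕ)) ⟨x, hx'⟩ n _).symm
  rw [h _ _ hx']
  have e : c ^ (n • (t.1 : ℕ)) = (c ^ (t.1 : ℕ)) ^ n := by rw [smul_eq_mul, pow_mul']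
  exact congrArg₂ Localization.mk (by rw [e, mul_comm]) rfl

variable {R R' : Type u} [CommRing R] [CommRing R']

/-- The homomorphism on `D₊(f)` induced by a homomorphism making `f` invertible. -/
def awayEval (χ : B →+* R) {f : B} (hf : IsUnit (χ f)) : Away ℬ f →+* R :=
  (IsLocalization.Away.lift (S := Localization.Away f) f (g := χ) hf).comp
    (algebraMap (Away ℬ f) (Localization.Away f))

theorem awayEval_mk (χ : B →+* R) {f : B} (hf : IsUnit (χ f)) {d : ℕ} (hfd : f ∈ ℬ d) (n : ℕ) (x : B)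
    (hx : x ∈ ℬ (n • d)) :
    awayEval (ℬ := ℬ) χ hf (.mk ℬ hfd n x hx) * χ f ^ n = χ x := by
  rw [awayEval, RingHom.comp_apply, HomogeneousLocalization.algebraMap_apply, Away.val_mk, Localization.mk_eq_mk',
    IsLocalization.Away.lift, IsLocalization.lift_mk', mul_comm, ← map_pow]
  refine (mul_left_comm _ _ _).trans ?_
  refine (congrArg (χ x * ·) ?_).trans (mul_one _)
  exact IsUnit.mul_liftRight_inv (f := (χ : B →* R).domRestrict (Submonoid.powers f)) _ (⟨f ^ n, n, rfl⟩ : Submonoid.powers f)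

theorem awayEval_unique (χ : B →+* R) {f : B} (hf : IsUnit (χ f)) {d : ℕ} (hfd : f ∈ ℬ d)
    {φ : Away ℬ f →+* R} (h : ∀ (n : ℕ) (x : B) (hx : x ∈ ℬ (n • d)), φ (.mk ℬ hfd n x hx) * χ f ^ n = χ x) :
    φ = awayEval χ hf := by
  refine RingHom.ext fun q => ?_
  obtain ⟨n, x, hx, rfl⟩ := q.mk_surjective _ hfd
  exact (hf.pow n).mul_left_injective ((h n x hx).trans (awayEval_mk χ hf hfd n x hx).symm)

/-- The morphism to `Proj` given by a homomorphism making `f` invertible. -/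
def pt (χ : B →+* R) {f : B} (hf : IsUnit (χ f)) {d : ℕ} (hfd : f ∈ ℬ d) (hd : 0 < d) :
    Spec (CommRingCat.of R) ⟶ Proj ℬ :=
  Spec.map (CommRingCat.ofHom (awayEval χ hf)) ≫ Proj.awayι ℬ f hfd hd

theorem pt_congr {χ χ' : B →+* R} (e : χ = χ') {f f' : B} (e' : f = f') {hf : IsUnit (χ f)}
    {hf' : IsUnit (χ' f')} {d : ℕ} {hfd : f ∈ ℬ d} {hfd' : f' ∈ ℬ d} {hd : 0 < d} :
    pt χ hf hfd hd = pt χ' hf' hfd' hd := by subst e e'; rfl

theorem spec_comp_pt (ρ : R →+* R') (χ : B →+* R) {f : B} (hf : IsUnit (χ f)) {d : ℕ} (hfd : f ∈ ℬ d)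
    (hd : 0 < d) :
    Spec.map (CommRingCat.ofHom ρ) ≫ pt χ hf hfd hd = pt (ρ.comp χ) (hf.map ρ) hfd hd := by
  rw [pt, pt, ← Spec.map_comp_assoc, ← CommRingCat.ofHom_comp]
  rw [awayEval_unique (ρ.comp χ) (hf.map ρ) hfd (φ := ρ.comp (awayEval χ hf)) fun n x hx => by
    rw [RingHom.comp_apply, RingHom.comp_apply, RingHom.comp_apply, ← map_pow, ← map_mul,
      awayEval_mk]]

theorem pt_comp_map (ψ : 𝒜 →+*ᵍ ℬ) (hψ : ℬ₊ ≤ 𝒜₊.map ψ) (χ : B →+* R) {f : A} (hf : IsUnit (χ (ψ f)))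
    {d : ℕ} (hfd : f ∈ 𝒜 d) (hd : 0 < d) :
    pt χ hf (ψ.map_mem hfd) hd ≫ Proj.map ψ hψ =
      pt (χ.comp ψ.toRingHom) (f := f) hf hfd hd := by
  rw [pt, pt, Category.assoc, Proj.awayι_comp_map _ _ hd _ hfd, ← Spec.map_comp_assoc,
    ← CommRingCat.ofHom_comp]
  rw [awayEval_unique (χ.comp ψ.toRingHom) hf hfd (φ := (awayEval χ hf).comp (Away.map ψ f))
    fun n x hx => by rw [RingHom.comp_apply, Away.map_mk]; exact awayEval_mk χ hf (ψ.map_mem hfd) n _ _]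

theorem pt_toSpecZero (χ : B →+* R) {f : B} (hf : IsUnit (χ f)) {d : ℕ} (hfd : f ∈ ℬ d) (hd : 0 < d) :
    pt χ hf hfd hd ≫ Proj.toSpecZero ℬ =
      Spec.map (CommRingCat.ofHom (χ.comp (SetLike.GradeZero.subring ℬ).subtype)) := by
  rw [pt, Category.assoc, Proj.awayι_toSpecZero, ← Spec.map_comp, ← CommRingCat.ofHom_comp]
  congr 2
  refine RingHom.ext fun a => ?_
  rw [RingHom.comp_apply, awayEval, RingHom.comp_apply, HomogeneousLocalization.algebraMap_apply, Groth.Ega2P2.val_fromZero,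
    Localization.mk_one_eq_algebraMap, IsLocalization.Away.lift_eq]
  rfl

theorem opensRange_pt (χ : B →+* R) {f : B} (hf : IsUnit (χ f)) {d : ℕ} (hfd : f ∈ ℬ d) (hd : 0 < d)
    (hb : Function.Bijective (awayEval (ℬ := ℬ) χ hf)) :
    ∃ _ : IsOpenImmersion (pt χ hf hfd hd),
      (pt χ hf hfd hd).opensRange = Proj.basicOpen ℬ f := by
  have : IsIso (CommRingCat.ofHom (awayEval (ℬ := ℬ) χ hf)) :=
    (ConcreteCategory.isIso_iff_bijective _).mpr hb
  refine ⟨by rw [pt]; infer_instance, ?_⟩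
  refine (Scheme.Hom.opensRange_comp_of_isIso _ _).trans ?_
  exact Proj.opensRange_awayι ℬ f hfd hd

end Groth.Ega2Proj.LineEx
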