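/-
The pointed projective cone over a general base and the locus at infinity (EGA II 8.3).
-/
import Groth.Agent.Ega2Proj2.ConeImm
import Groth.Agent.Ega2Proj2.ConeBasic
import Groth.Agent.Ega2Proj2.Vertex
import Groth.Agent.Ega2Proj2.RelProjMap
import Groth.Agent.Ega2Proj2.QMapOfHom

set_option autoImplicit false

universe u

open CategoryTheory CategoryTheory.Limits AlgebraicGeometry Opposite TopologicalSpace Polynomial
open scoped HomogeneousIdeal

set_option backward.isDefEq.respectTransparency.types false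

noncomputable section

namespace Groth.Ega2Proj.PolyCone

open Groth.Ega2P2

variable {Y : Scheme.{u}} {𝒮 𝒮h : RelProj.QCGrAlg Y} {ι : 𝒮.toQCAlg ⟶ 𝒮h.toQCAlg}
  {z : 𝒮h.presheaf.obj (op ⊤)} (h : RelCone.IsPolyOver 𝒮 𝒮h ι z)

local notation "ιAt" => RelProj.gradedHomAt ι h.graded

/-- The retraction of `ι` killing `z`, over an affine open. -/
def retr (U : Y.Opens) (hU : IsAffineOpen U) : 𝒮h.deg U hU →+*ᵍ 𝒮.deg U hU :=
  { Polynomial.constantCoeff.comp (h.polyEquiv U hU).symm.toRingHom with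
    map_mem := fun {k x} hx => by
      obtain ⟨a, ha, rfl⟩ := exists_coeff h hU hx
      change Polynomial.constantCoeff ((h.polyEquiv U hU).symm (h.polyEquiv U hU _)) ∈ _
      rw [RingEquiv.symm_apply_apply, map_sum, Finset.sum_eq_single 0]
      · simpa using ha 0
      · intro j _ hj
        rw [Polynomial.constantCoeff_apply, Polynomial.coeff_monomial, if_neg hj]
      · exact fun h' => (h' (Finset.mem_range.2 k.succ_pos)).elim }

theorem retr_polyEquiv (U : Y.Opens) (hU : IsAffineOpen U) (p : Polynomial (𝒮.presheaf.obj (op U))) :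
    retr h U hU (h.polyEquiv U hU p) = p.coeff 0 := by
  change Polynomial.constantCoeff ((h.polyEquiv U hU).symm (h.polyEquiv U hU p)) = _
  rw [RingEquiv.symm_apply_apply]
  rfl

theorem retr_ι (U : Y.Opens) (hU : IsAffineOpen U) (a : 𝒮.presheaf.obj (op U)) :
    retr h U hU (ιAt U hU a) = a := by
  rw [← polyEquiv_C h hU a, retr_polyEquiv, Polynomial.coeff_C_zero]

theorem retr_z (U : Y.Opens) (hU : IsAffineOpen U) :
    retr h U hU (RelCone.restrictTop 𝒮h z U) = 0 := by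
  have hX : h.polyEquiv U hU X = RelCone.restrictTop 𝒮h z U := by
    rw [RelCone.IsPolyOver.polyEquiv_apply, eval₂_X]
  rw [← hX, retr_polyEquiv, Polynomial.coeff_X_zero]

theorem retr_comp_ι (U : Y.Opens) (hU : IsAffineOpen U) :
    (retr h U hU).comp (ιAt U hU) = GradedRingHom.id (𝒮.deg U hU) :=
  DFunLike.ext _ _ fun a => retr_ι h U hU a

/-- Any graded retraction killing `z` is this one. -/
theorem gradedHomAt_eq_retr (θ : 𝒮h.toQCAlg ⟶ 𝒮.toQCAlg) (hθ : RelProj.IsGradedHom θ)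
    (hιθ : ι ≫ θ = 𝟙 _) (hθz : (θ.hom.app (op ⊤)).hom z = 0) (U : Y.Opens) (hU : IsAffineOpen U) :
    RelProj.gradedHomAt θ hθ U hU = retr h U hU := by
  refine DFunLike.ext _ _ fun x => ?_
  obtain ⟨p, rfl⟩ := (h.polyEquiv U hU).surjective x
  rw [retr_polyEquiv]
  change (θ.hom.app (op U)).hom (h.polyEquiv U hU p) = _
  induction p using Polynomial.induction_on' with
  | add p q hp hq => rw [map_add, map_add, hp, hq, coeff_add]
  | monomial n a =>
    have h1 : ∀ b, (θ.hom.app (op U)).hom (ιAt U hU b) = b := fun b => by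
      have h2 := congrArg (fun φ => (φ.hom.app (op U)).hom b) hιθ
      exact h2
    have h3 : (θ.hom.app (op U)).hom (RelCone.restrictTop 𝒮h z U) = 0 := by
      rw [RelCone.restrictTop, ← CommRingCat.comp_apply, θ.hom.naturality, CommRingCat.comp_apply,
        hθz, map_zero]
    rw [polyEquiv_monomial, map_mul, map_pow, h1, h3, coeff_monomial]
    rcases n with _ | n <;> simp

theorem sub_ι_retr_mem (U : Y.Opens) (hU : IsAffineOpen U) (x : 𝒮h.presheaf.obj (op U)) :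
    x - ιAt U hU (retr h U hU x) ∈ Ideal.span {RelCone.restrictTop 𝒮h z U} := by
  obtain ⟨p, rfl⟩ := (h.polyEquiv U hU).surjective x
  have hX : h.polyEquiv U hU X = RelCone.restrictTop 𝒮h z U := by
    rw [RelCone.IsPolyOver.polyEquiv_apply, eval₂_X]
  rw [retr_polyEquiv, ← polyEquiv_C h hU, ← map_sub, ← hX, Ideal.mem_span_singleton]
  exact map_dvd (h.polyEquiv U hU) (Polynomial.X_dvd_iff.2 (by simp))

/-- A point containing `z` and all `ι f` does not exist. -/
theorem exists_ι_notMem (U : Y.Opens) (hU : IsAffineOpen U) (y : Proj (𝒮h.deg U hU))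
    (hz : RelCone.restrictTop 𝒮h z U ∈ y.asHomogeneousIdeal) :
    ∃ (d : ℕ) (f : 𝒮.presheaf.obj (op U)), 0 < d ∧ f ∈ 𝒮.deg U hU d ∧
      ιAt U hU f ∉ y.asHomogeneousIdeal := by
  by_contra! hcon
  refine y.not_irrelevant_le ((HomogeneousIdeal.irrelevant_le _).2 fun k hk x hx => ?_)
  obtain ⟨a, ha, rfl⟩ := exists_coeff h hU hx
  rw [map_sum]
  refine sum_mem fun j _ => ?_
  rw [polyEquiv_monomial]
  rcases j with _ | j
  · exact Ideal.mul_mem_right _ _ (hcon k (a 0) hk (by simpa using ha 0))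
  · exact Ideal.mul_mem_left _ _ (Ideal.pow_mem_of_mem _ hz _ j.succ_pos)

variable {PC : Scheme.{u}} {pC : PC ⟶ Y}
  {chartC : ∀ (U : Y.Opens) (hU : IsAffineOpen U),
    (((pC ⁻¹ᵁ U : PC.Opens) : Scheme.{u}) ≅ Proj (𝒮h.deg U hU))}
  (hC : RelProj.IsRelProj 𝒮h pC chartC)

theorem pointedProjCone_eq_domQ :
    RelCone.pointedProjCone 𝒮 h pC chartC =
      RelProj.domQ (RelProj.QGrHom.ofHom ι h.graded) pC chartC := by
  refine le_antisymm (fun x hx => ?_) (fun x hx => ?_)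
  · obtain ⟨⟨U, hU⟩, y, hy, rfl⟩ := Opens.mem_iSup.mp hx
    refine Opens.mem_iSup.mpr ⟨⟨(⟨U, hU⟩, ⟨U, hU⟩), le_rfl⟩, y, ?_, rfl⟩
    rwa [ofHom_gradedAt_self ι h.graded U hU]
  · obtain ⟨⟨⟨⟨U, hU⟩, ⟨V, hV⟩⟩, hle⟩, y, hy, rfl⟩ := Opens.mem_iSup.mp hx
    obtain ⟨d, f, hd, hf, hfy⟩ := (mem_domOpen_iff _ hU hV hle y).mp hy
    refine Opens.mem_iSup.mpr ⟨⟨V, hV⟩, y, ?_, rfl⟩
    refine (RelCone.mem_domOpen _ y).mpr ⟨𝒮.res hU hV hle f,
      HomogeneousIdeal.mem_irrelevant_of_mem _ hd ((𝒮.res hU hV hle).map_mem hf), ?_⟩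
    exact fun hmem => hfy ((DFunLike.congr_fun (gradedHomAt_res ι h.graded U hU V hV hle) f).symm ▸ hmem)

include hC in
/-- The pointed projective cone in a chart. -/
theorem emb_mem_pointedProjCone_iff (U : Y.Opens) (hU : IsAffineOpen U) (y : Proj (𝒮h.deg U hU)) :
    (RelProj.emb pC chartC U hU).base y ∈ RelCone.pointedProjCone 𝒮 h pC chartC ↔
      ∃ (d : ℕ) (f : 𝒮.presheaf.obj (op U)), 0 < d ∧ f ∈ 𝒮.deg U hU d ∧
        ιAt U hU f ∉ y.asHomogeneousIdeal := by
  rw [pointedProjCone_eq_domQ, emb_mem_domQ_iff _ hC hU hU le_rfl, mem_domOpen_iff,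
    ofHom_gradedAt_self ι h.graded U hU]
  rfl

/-- The cone immersion at `ι f`. -/
theorem ι_mem_coneImmAux_iff (U : Y.Opens) (hU : IsAffineOpen U) (w : Spec (𝒮.presheaf.obj (op U)))
    {d : ℕ} (hd : 0 < d) {f : 𝒮.presheaf.obj (op U)} (hf : f ∈ 𝒮.deg U hU d) :
    ιAt U hU f ∈ ((coneImmAux h U hU).base w).asHomogeneousIdeal ↔ f ∈ w.asIdeal := by
  have h1 := SetLike.ext_iff.mp (Proj.awayι_preimage_basicOpen (𝒮h.deg U hU) (h.deg_z U hU) one_pos
    ((ιAt U hU).map_mem hf) hd)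
    ((Spec.map (CommRingCat.ofHom (h.awayZToBase U hU))).base w)
  have h2 : h.awayZToBase U hU (HomogeneousLocalization.Away.isLocalizationElem (h.deg_z U hU)
      ((ιAt U hU).map_mem hf)) = f := by
    rw [HomogeneousLocalization.Away.isLocalizationElem, awayZToBase_mk, pow_one]
    exact h.evalOne_ι U hU f
  constructor
  · intro hmem
    by_contra hfw
    refine h1.2 ?_ hmem
    change h.awayZToBase U hU _ ∉ w.asIdeal
    rwa [h2]
  · intro hfw
    by_contra hmem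
    have h3 : h.awayZToBase U hU _ ∉ w.asIdeal := h1.1 hmem
    rw [h2] at h3
    exact h3 hfw

theorem exists_pos_notMem_iff_vertexCompl (U : Y.Opens) (hU : IsAffineOpen U)
    (w : Spec (𝒮.presheaf.obj (op U))) :
    w ∈ RelCone.vertexCompl (𝒮.deg U hU) ↔
      ∃ (d : ℕ) (f : 𝒮.presheaf.obj (op U)), 0 < d ∧ f ∈ 𝒮.deg U hU d ∧ f ∉ w.asIdeal := by
  rw [mem_vertexCompl]
  constructor
  · rintro ⟨f, hf, hfw⟩
    by_contra! hcon
    exact hfw ((HomogeneousIdeal.toIdeal_irrelevant_le (𝒮.deg U hU)).mpr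
      (fun i hi x hx => hcon i x hi hx) hf)
  · rintro ⟨d, f, hd, hf, hfw⟩
    exact ⟨f, HomogeneousIdeal.mem_irrelevant_of_mem _ hd hf, hfw⟩

include hC in
/-- The pointed affine cone is the part of the affine cone in the pointed projective cone. -/
theorem coneImm_preimage_pointedProjCone {i : 𝒮.toQCAlg.spec ⟶ PC}
    (hi : RelCone.IsConeImm 𝒮 h pC chartC i) :
    i ⁻¹ᵁ RelCone.pointedProjCone 𝒮 h pC chartC = RelCone.pointedCone 𝒮 := by
  refine Opens.ext (Set.ext fun x => ?_)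
  obtain ⟨U, hU, w, rfl⟩ : ∃ (U : Y.Opens) (hU : IsAffineOpen U) (w : Spec (𝒮.presheaf.obj (op U))),
      (𝒮.toQCAlg.ι U hU).base w = x := (specCharts 𝒮.toQCAlg).exists_eq x
  have hx : i.base ((𝒮.toQCAlg.ι U hU).base w) =
      (RelProj.emb pC chartC U hU).base ((coneImmAux h U hU).base w) :=
    congr($((isConeImm_iff h i).mp hi U hU).base w)
  refine Iff.trans ?_ (mem_pointedCone_iff 𝒮 hU w).symm
  change i.base _ ∈ RelCone.pointedProjCone 𝒮 h pC chartC ↔ _
  rw [hx, emb_mem_pointedProjCone_iff h hC, exists_pos_notMem_iff_vertexCompl]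
  exact exists_congr fun d => exists_congr fun f => and_congr_right fun hd => and_congr_right
    fun hf => not_congr (ι_mem_coneImmAux_iff h U hU w hd hf)

include hC in
/-- Outside the pointed projective cone one is in the affine cone. -/
theorem mem_range_coneImm_of_notMem_pointedProjCone {i : 𝒮.toQCAlg.spec ⟶ PC}
    (hi : RelCone.IsConeImm 𝒮 h pC chartC i) {x : PC}
    (hx : x ∉ RelCone.pointedProjCone 𝒮 h pC chartC) : x ∈ Set.range i.base := by
  obtain ⟨U, hU, y, rfl⟩ : ∃ (U : Y.Opens) (hU : IsAffineOpen U) (y : Proj (𝒮h.deg U hU)),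
      (RelProj.emb pC chartC U hU).base y = x := (projCharts hC).exists_eq x
  rw [range_coneImm h hC hi]
  refine Opens.mem_iSup.mpr ⟨⟨U, hU⟩, y, fun hz => hx ?_, rfl⟩
  exact (emb_mem_pointedProjCone_iff h hC U hU y).2 (exists_ι_notMem h U hU y hz)

include hC in
theorem pointedProjCone_eq_compl (h0 : RelCone.StrZeroBij 𝒮)
    (aug : 𝒮.toQCAlg ⟶ RelSpec.QCAlg.unit Y) (haug : RelCone.IsAugmentation 𝒮 aug)
    (ε : Y ⟶ 𝒮.toQCAlg.spec) (hε : RelCone.IsVertex 𝒮 aug ε)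
    {i : 𝒮.toQCAlg.spec ⟶ PC} (hi : RelCone.IsConeImm 𝒮 h pC chartC i) :
    ((RelCone.pointedProjCone 𝒮 h pC chartC : PC.Opens) : Set PC) = (Set.range (ε ≫ i).base)ᶜ := by
  have hpt := pointedCone_eq_compl 𝒮 aug h0 haug hε
  ext x
  constructor
  · rintro hx ⟨s, rfl⟩
    have h1 : ε.base s ∈ i ⁻¹ᵁ RelCone.pointedProjCone 𝒮 h pC chartC := hx
    rw [coneImm_preimage_pointedProjCone h hC hi] at h1
    exact (hpt ▸ h1 : ε.base s ∈ (Set.range ε.base)ᶜ) ⟨s, rfl⟩
  · intro hx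
    by_contra hx'
    obtain ⟨w, rfl⟩ := mem_range_coneImm_of_notMem_pointedProjCone h hC hi hx'
    have h1 : w ∉ i ⁻¹ᵁ RelCone.pointedProjCone 𝒮 h pC chartC := hx'
    rw [coneImm_preimage_pointedProjCone h hC hi] at h1
    obtain ⟨s, rfl⟩ := of_not_not fun hn =>
      h1 ((hpt.ge hn : w ∈ ((RelCone.pointedCone 𝒮 : 𝒮.toQCAlg.spec.Opens) : Set _)))
    exact hx ⟨s, rfl⟩

variable (θ : 𝒮h.toQCAlg ⟶ 𝒮.toQCAlg) (hθ : RelProj.IsGradedHom θ)
  (hirr : ∀ (U : Y.Opens) (hU : IsAffineOpen U),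
    (𝒮.deg U hU)₊ ≤ ((𝒮h.deg U hU)₊).map (RelProj.gradedHomAt θ hθ U hU))
  {P : Scheme.{u}} {p : P ⟶ Y}
  {chart : ∀ (U : Y.Opens) (hU : IsAffineOpen U),
    (((p ⁻¹ᵁ U : P.Opens) : Scheme.{u}) ≅ Proj (𝒮.deg U hU))}
  (hP : RelProj.IsRelProj 𝒮 p chart)

include hC hP in
/-- The image of the affine cone is the complement of the locus at infinity. -/
theorem range_coneImm_eq_compl (hιθ : ι ≫ θ = 𝟙 _) (hθz : (θ.hom.app (op ⊤)).hom z = 0)
    {i : 𝒮.toQCAlg.spec ⟶ PC} (hi : RelCone.IsConeImm 𝒮 h pC chartC i) {j : P ⟶ PC}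
    (hj : RelProj.IsRelProjMap θ hθ hirr chartC chart j) :
    Set.range i.base = (Set.range j.base)ᶜ := by
  have hj' := (isRelProjMap_iff θ hθ hirr j).mp hj
  rw [range_coneImm h hC hi]
  ext x
  constructor
  · rintro hx ⟨v, rfl⟩
    obtain ⟨U, hU, w, rfl⟩ : ∃ (U : Y.Opens) (hU : IsAffineOpen U) (w : Proj (𝒮.deg U hU)),
        (RelProj.emb p chart U hU).base w = v := (projCharts hP).exists_eq v
    have hv : j.base ((RelProj.emb p chart U hU).base w) = (RelProj.emb pC chartC U hU).base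
        ((Proj.map (RelProj.gradedHomAt θ hθ U hU) (hirr U hU)).base w) :=
      congr($(hj' U hU).base w)
    rw [hv] at hx
    have h1 := ((globalOpen_inf hC z U hU).le ⟨hx, (projCharts hC).map_mem hU _⟩)
    obtain ⟨y, hy, hye⟩ := h1
    obtain rfl := (RelProj.emb pC chartC U hU).isOpenEmbedding.injective hye
    refine hy ?_
    change RelProj.gradedHomAt θ hθ U hU (RelCone.restrictTop 𝒮h z U) ∈ w.asHomogeneousIdeal
    rw [gradedHomAt_eq_retr h θ hθ hιθ hθz U hU, retr_z]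
    exact zero_mem _
  · intro hx
    obtain ⟨U, hU, y, rfl⟩ : ∃ (U : Y.Opens) (hU : IsAffineOpen U) (y : Proj (𝒮h.deg U hU)),
        (RelProj.emb pC chartC U hU).base y = x := (projCharts hC).exists_eq x
    refine Opens.mem_iSup.mpr ⟨⟨U, hU⟩, y, fun hz => hx ?_, rfl⟩
    let w : Proj (𝒮.deg U hU) :=
      { asHomogeneousIdeal := y.asHomogeneousIdeal.comap (ιAt U hU)
        isPrime := y.isPrime.comap _
        not_irrelevant_le := fun hle => by
          obtain ⟨d, f, hd, hf, hfy⟩ := exists_ι_notMem h U hU y hz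
          exact hfy (hle (HomogeneousIdeal.mem_irrelevant_of_mem _ hd hf)) }
    refine ⟨(RelProj.emb p chart U hU).base w, ?_⟩
    refine (congr($(hj' U hU).base w)).trans (congrArg (RelProj.emb pC chartC U hU).base ?_)
    refine ProjectiveSpectrum.ext (HomogeneousIdeal.ext (Ideal.ext fun x => ?_))
    change ιAt U hU (RelProj.gradedHomAt θ hθ U hU x) ∈ y.asHomogeneousIdeal ↔ x ∈ y.asHomogeneousIdeal
    rw [gradedHomAt_eq_retr h θ hθ hιθ hθz U hU]
    have h2 : x - ιAt U hU (retr h U hU x) ∈ y.asHomogeneousIdeal.toIdeal :=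
      Ideal.span_le.2 (Set.singleton_subset_iff.2 hz) (sub_ι_retr_mem h U hU x)
    exact ⟨fun h3 => by simpa using y.asHomogeneousIdeal.toIdeal.add_mem h2 h3,
      fun h3 => by simpa using y.asHomogeneousIdeal.toIdeal.sub_mem h3 h2⟩

end Groth.Ega2Proj.PolyCone
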