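/-
The rings of the projective closures of two mutually inverse line bundles over a trivialising open.
-/
import Groth.Agent.Ega2Proj.LineExchangeRing
import Groth.Agent.Ega2Proj.PolyCone
import Groth.Agent.PicAux.InverseInvertible
import Groth.Agent.PicAux.GenLocal
import Groth.Agent.SymAlg.Degree

set_option autoImplicit false

universe u

open CategoryTheory AlgebraicGeometry Opposite TopologicalSpace Polynomial
open scoped HomogeneousIdeal

set_option backward.isDefEq.respectTransparency.types false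

noncomputable section

namespace Groth.Ega2Proj.LineEx

open Groth.PicAux (Gen resX pairing tmulSec)
open Groth.QCohMod (BSec bstr toB bres)

variable {Y : Scheme.{u}}

/-- A bilinear pairing of two modules with values in the functions. -/
structure Pairing (L L' : Y.Modules) where
  /-- the value on sections -/
  app : ∀ W : Y.Opens, Γ(L, W) → Γ(L', W) → Γ(Y, W)
  add_left : ∀ W a a' b, app W (a + a') b = app W a b + app W a' b
  add_right : ∀ W a b b', app W a (b + b') = app W a b + app W a b'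
  smul_left : ∀ W r a b, app W (r • a) b = r * app W a b
  smul_right : ∀ W r a b, app W a (r • b) = r * app W a b
  res : ∀ {V W : Y.Opens} (h : V ≤ W) a b,
    resX Y h (app W a b) = app V (Groth.PicAux.res L h a) (Groth.PicAux.res L' h b)

namespace Pairing

variable {L L' : Y.Modules} (β : Pairing L L')

/-- The opposite pairing. -/
def swap : Pairing L' L where
  app W a b := β.app W b a
  add_left W a a' b := β.add_right W b a a'
  add_right W a b b' := β.add_left W b b' a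
  smul_left W r a b := β.smul_right W r b a
  smul_right W r a b := β.smul_left W r b a
  res h a b := β.res h b a

/-- Dual bases over an open. -/
structure Dual (U : Y.Opens) (a : Γ(L, U)) (b : Γ(L', U)) : Prop where
  left : Gen L U a
  right : Gen L' U b
  one : β.app U a b = 1

variable {β} {U : Y.Opens} {a : Γ(L, U)} {b : Γ(L', U)}

theorem Dual.swap' (h : β.Dual U a b) : β.swap.Dual U b a := ⟨h.right, h.left, h.one⟩

theorem Dual.res' (h : β.Dual U a b) {V : Y.Opens} (hV : V ≤ U) :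
    β.Dual V (Groth.PicAux.res L hV a) (Groth.PicAux.res L' hV b) :=
  ⟨h.left.res hV, h.right.res hV, by rw [← β.res, h.one, map_one]⟩

theorem Dual.eq_left (h : β.Dual U a b) (y : Γ(L, U)) : β.app U y b • a = y := by
  obtain ⟨r, hr⟩ := h.left.exists_coeff le_rfl y
  rw [Groth.PicAux.res_self] at hr
  rw [hr, β.smul_left, h.one, mul_one]

theorem Dual.eq_right (h : β.Dual U a b) (x : Γ(L', U)) : β.app U a x • b = x :=
  h.swap'.eq_left x

theorem Dual.trans_one (h : β.Dual U a b) {a' : Γ(L, U)} {b' : Γ(L', U)} (h' : β.Dual U a' b') :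
    β.app U a' b * β.app U a b' = 1 := by
  rw [← β.smul_left, h.eq_left, h'.one]

end Pairing

/-- The pairing of an isomorphism `L ⊗ L' ≅ 𝒪`. -/
def pairingOfIso {L L' : Y.Modules} (φ : CohB1.tensorMod L L' ≅ Coh.structureModule Y) : Pairing L L' where
  app _ a b := pairing φ.hom a b
  add_left W a a' b := by simp only [pairing, Groth.PicAux.tmulSec_add_left, map_add]; rfl
  add_right W a b b' := by simp only [pairing, Groth.PicAux.tmulSec_add_right, map_add]; rfl
  smul_left W r a b := by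
    simp only [pairing, Groth.PicAux.tmulSec_smul_left, Scheme.Modules.Hom.app_smul,
      Groth.PicAux.toFun_smul]
  smul_right W r a b := by
    simp only [pairing, Groth.PicAux.tmulSec_smul_right, Scheme.Modules.Hom.app_smul,
      Groth.PicAux.toFun_smul]
  res h a b := Groth.PicAux.resX_pairing φ.hom h a b

theorem exists_dual {L L' : Y.Modules} (φ : CohB1.tensorMod L L' ≅ Coh.structureModule Y)
    (hL' : PicF.IsInvertible L') (y : Y) :
    ∃ (U : Y.Opens) (a : Γ(L, U)) (b : Γ(L', U)), IsAffineOpen U ∧ y ∈ U ∧ (pairingOfIso φ).Dual U a b := by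
  obtain ⟨W, a, b, hyW, hab⟩ := Groth.PicAux.exists_pairing_eq_one φ y
  obtain ⟨W', hyW', hW'⟩ := hL' y
  obtain ⟨f, hf⟩ := (Groth.PicAux.nonempty_restrict_iso_iff W').1 hW'
  obtain ⟨U, hU, hyU, hUW⟩ := exists_isAffineOpen_mem_and_subset (x := y) (U := W ⊓ W') ⟨hyW, hyW'⟩
  have h1 : U ≤ W := le_trans hUW inf_le_left
  have h2 : U ≤ W' := le_trans hUW inf_le_right
  have one : (pairingOfIso φ).app U (Groth.PicAux.res L h1 a) (Groth.PicAux.res L' h1 b) = 1 := by
    rw [← Pairing.res]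
    exact (congrArg _ hab).trans (map_one _)
  refine ⟨U, _, _, hU, hyU, (Groth.PicAux.gen_of_pairing_eq_one φ a b hab).res h1, ?_, one⟩
  obtain ⟨r, hr⟩ := hf.exists_coeff h2 (Groth.PicAux.res L' h1 b)
  rw [hr] at one ⊢
  rw [(pairingOfIso φ).smul_right] at one
  exact (hf.res h2).smul_unit (IsUnit.of_mul_eq_one _ one)

section alg

variable {L : Y.Modules} [L.IsQuasicoherent] {A : RelSpec.QCAlg Y} {j : L ⟶ A.toModule}

/-- The image of a section in the algebra. -/
abbrev jAt (A : RelSpec.QCAlg Y) (j : L ⟶ A.toModule) (U : Y.Opens) (e : Γ(L, U)) : BSec A U :=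
  toB A (j.app U e)

variable (hA : RelSpec.IsSymAlg L A j) {U : Y.Opens} (hU : IsAffineOpen U) {R : Type u} [CommRing R]

theorem jAt_smul (r : Γ(Y, U)) (e : Γ(L, U)) : jAt A j U (r • e) = bstr A U r * jAt A j U e := by
  rw [jAt, Scheme.Modules.Hom.app_smul, Groth.QCohMod.toB_smul]

include hA hU in
theorem alg_hom_ext {f g : BSec A U →+* R} (h₀ : ∀ r, f (bstr A U r) = g (bstr A U r))
    (h₁ : ∀ e, f (jAt A j U e) = g (jAt A j U e)) : f = g := by
  refine RingHom.ext fun x => ?_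
  obtain ⟨q, rfl⟩ := (Groth.SymAlg.bijective_liftSec hA hU).2 x
  have : f.comp (Groth.SymAlg.liftSec A j U) = g.comp (Groth.SymAlg.liftSec A j U) :=
    Groth.SymAlg.ringHom_ext (fun r => by simpa using h₀ r) (fun e => by simpa using h₁ e)
  exact congr($this q)

/-- The homomorphism out of a symmetric algebra over an affine open. -/
def algLift (φ : Γ(Y, U) →+* R) (g : Γ(L, U) →+ R) (hg : ∀ r e, g (r • e) = φ r * g e) :
    BSec A U →+* R :=
  (Groth.SymAlg.liftHom φ g hg).comp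
    (RingEquiv.ofBijective _ (Groth.SymAlg.bijective_liftSec hA hU)).symm.toRingHom

variable (φ : Γ(Y, U) →+* R) (g : Γ(L, U) →+ R) (hg : ∀ r e, g (r • e) = φ r * g e)

theorem algLift_str (r : Γ(Y, U)) : algLift hA hU φ g hg (bstr A U r) = φ r := by
  rw [algLift, RingHom.comp_apply, ← Groth.SymAlg.liftHom_algebraMap φ g hg r]
  exact congrArg _ ((RingEquiv.symm_apply_eq _).2 (Groth.SymAlg.liftSec_algebraMap A j U r).symm)

theorem algLift_j (e : Γ(L, U)) : algLift hA hU φ g hg (jAt A j U e) = g e := by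
  rw [algLift, RingHom.comp_apply, ← Groth.SymAlg.liftHom_ι φ g hg e]
  exact congrArg _ ((RingEquiv.symm_apply_eq _).2 (Groth.SymAlg.liftSec_ι A j U e).symm)

end alg

section deg

variable {L : Y.Modules} [L.IsQuasicoherent] {𝒮 : RelProj.QCGrAlg Y} {j : L ⟶ 𝒮.toModule}
  (hS : RelProj.IsGrSymAlg L 𝒮 j) {L' : Y.Modules} {β : Pairing L L'}
  {U : Y.Opens} (hU : IsAffineOpen U) {a : Γ(L, U)} {b : Γ(L', U)} (hd : β.Dual U a b)

include hS hd in
theorem exists_eq_mul_pow {i : ℕ} {x : BSec 𝒮.toQCAlg U} (hx : x ∈ 𝒮.deg U hU i) :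
    ∃ c : Γ(Y, U), x = bstr 𝒮.toQCAlg U c * jAt 𝒮.toQCAlg j U a ^ i := by
  classical
  obtain ⟨q, rfl⟩ := (Groth.SymAlg.bijective_liftSec hS.1 hU).2 x
  have key : ∃ p : Polynomial Γ(Y, U),
      Groth.SymAlg.liftSec 𝒮.toQCAlg j U q = p.eval₂ (bstr 𝒮.toQCAlg U) (jAt 𝒮.toQCAlg j U a) := by
    clear hx
    induction q using SymmetricAlgebra.induction with
    | algebraMap r => exact ⟨C r, by rw [Groth.SymAlg.liftSec_algebraMap, eval₂_C]⟩
    | ι e =>
      refine ⟨C (β.app U e b) * X, ?_⟩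
      rw [Groth.SymAlg.liftSec_ι, eval₂_mul, eval₂_C, eval₂_X, ← jAt_smul, hd.eq_left]
    | mul q q' hq hq' =>
      obtain ⟨p, hp⟩ := hq
      obtain ⟨p', hp'⟩ := hq'
      exact ⟨p * p', by rw [map_mul, hp, hp', eval₂_mul]⟩
    | add q q' hq hq' =>
      obtain ⟨p, hp⟩ := hq
      obtain ⟨p', hp'⟩ := hq'
      exact ⟨p + p', by rw [map_add, hp, hp', eval₂_add]⟩
  obtain ⟨p, hp⟩ := key
  rw [hp] at hx ⊢
  have hmem : ∀ n, bstr 𝒮.toQCAlg U (p.coeff n) * jAt 𝒮.toQCAlg j U a ^ n ∈ 𝒮.deg U hU n := fun n => by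
    simpa using SetLike.mul_mem_graded (A := 𝒮.deg U hU) (i := 0) (𝒮.str_mem U hU (p.coeff n))
      (SetLike.pow_mem_graded n (hS.2 U hU a))
  refine ⟨p.coeff i, ?_⟩
  conv_lhs => rw [← DirectSum.decompose_of_mem_same (𝒮.deg U hU) hx]
  rw [eval₂_eq_sum, Polynomial.sum, DirectSum.decompose_sum, DFinsupp.finsetSum_apply,
    AddSubmonoidClass.coe_finsetSum, Finset.sum_eq_single i]
  · exact DirectSum.decompose_of_mem_same _ (hmem i)
  · exact fun k _ hk => DirectSum.decompose_of_mem_ne _ (hmem k) hk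
  · intro hi
    rw [notMem_support_iff.1 hi, map_zero, zero_mul, DirectSum.decompose_zero]
    rfl

end deg

section poly

variable {𝒮 𝒮h : RelProj.QCGrAlg Y} {ι : 𝒮.toQCAlg ⟶ 𝒮h.toQCAlg}
  {z : 𝒮h.presheaf.obj (op ⊤)} (hz : RelCone.IsPolyOver 𝒮 𝒮h ι z) {U : Y.Opens} (hU : IsAffineOpen U)
  {R : Type u} [CommRing R]

/-- The homomorphism out of `𝒮[z]` over an affine open. -/
def polyLift (φ : BSec 𝒮.toQCAlg U →+* R) (t : R) : BSec 𝒮h.toQCAlg U →+* R :=
  (Polynomial.eval₂RingHom φ t).comp (hz.polyEquiv U hU).symm.toRingHom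

theorem polyLift_ι (φ : BSec 𝒮.toQCAlg U →+* R) (t : R) (x : BSec 𝒮.toQCAlg U) :
    polyLift hz hU φ t ((ι.hom.app (op U)).hom x) = φ x := by
  have e : hz.polyEquiv U hU (C x) = (ι.hom.app (op U)).hom x := by
    rw [RelCone.IsPolyOver.polyEquiv_apply, eval₂_C]
  rw [← e]
  simp [polyLift]

theorem polyLift_z (φ : BSec 𝒮.toQCAlg U →+* R) (t : R) :
    polyLift hz hU φ t (RelCone.restrictTop 𝒮h z U) = t := by
  have e : hz.polyEquiv U hU X = RelCone.restrictTop 𝒮h z U := by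
    rw [RelCone.IsPolyOver.polyEquiv_apply, eval₂_X]
  rw [← e]
  simp [polyLift]

variable {L : Y.Modules} [L.IsQuasicoherent] {j : L ⟶ 𝒮.toModule} (hS : RelProj.IsGrSymAlg L 𝒮 j)

/-- The element `ι (j e)`. -/
abbrev hj (j : L ⟶ 𝒮.toModule) (ι : 𝒮.toQCAlg ⟶ 𝒮h.toQCAlg) (U : Y.Opens) (e : Γ(L, U)) :
    BSec 𝒮h.toQCAlg U :=
  (ι.hom.app (op U)).hom (jAt 𝒮.toQCAlg j U e)

theorem hj_smul (r : Γ(Y, U)) (e : Γ(L, U)) :
    hj j ι U (r • e) = bstr 𝒮h.toQCAlg U r * hj j ι U e := by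
  rw [hj, jAt_smul, map_mul, Groth.SymAlg.hom_app_str]

theorem hj_add (e e' : Γ(L, U)) : hj j ι U (e + e') = hj j ι U e + hj j ι U e' := by
  simp only [hj, jAt, map_add]
  exact map_add _ _ _

include hS hz hU in
theorem hj_mem (e : Γ(L, U)) : hj j ι U e ∈ 𝒮h.deg U hU 1 := hz.graded U hU 1 _ (hS.2 U hU e)

include hS hz hU in
theorem poly_hom_ext {f g : BSec 𝒮h.toQCAlg U →+* R}
    (h₀ : ∀ r, f (bstr 𝒮h.toQCAlg U r) = g (bstr 𝒮h.toQCAlg U r))
    (h₁ : ∀ e, f (hj j ι U e) = g (hj j ι U e))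
    (h₂ : f (RelCone.restrictTop 𝒮h z U) = g (RelCone.restrictTop 𝒮h z U)) : f = g := by
  have h3 : f.comp (ι.hom.app (op U)).hom = g.comp (ι.hom.app (op U)).hom :=
    alg_hom_ext hS.1 hU (fun r => by simpa [Groth.SymAlg.hom_app_str] using h₀ r) h₁
  refine RingHom.ext fun x => ?_
  obtain ⟨p, rfl⟩ := (hz.polyEquiv U hU).surjective x
  induction p using Polynomial.induction_on' with
  | add p q hp hq => rw [map_add, map_add, map_add, hp, hq]
  | monomial n c =>
    rw [Groth.Ega2P2.polyEquiv_monomial, map_mul, map_mul, map_pow, map_pow, h₂]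
    exact congrArg (· * _) (congr($h3 c))

/-- The homomorphism out of `Sym(L)[z]` over an affine open. -/
def hLift (φ : Γ(Y, U) →+* R) (g : Γ(L, U) →+ R) (hg : ∀ r e, g (r • e) = φ r * g e) (t : R) :
    BSec 𝒮h.toQCAlg U →+* R :=
  polyLift hz hU (algLift hS.1 hU φ g hg) t

variable (φ : Γ(Y, U) →+* R) (g : Γ(L, U) →+ R) (hg : ∀ r e, g (r • e) = φ r * g e) (t : R)

theorem hLift_str (r : Γ(Y, U)) : hLift hz hU hS φ g hg t (bstr 𝒮h.toQCAlg U r) = φ r := by
  rw [← Groth.SymAlg.hom_app_str ι, hLift, polyLift_ι, algLift_str]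

theorem hLift_j (e : Γ(L, U)) : hLift hz hU hS φ g hg t (hj j ι U e) = g e := by
  rw [hLift, hj, polyLift_ι, algLift_j]

theorem hLift_z : hLift hz hU hS φ g hg t (RelCone.restrictTop 𝒮h z U) = t := by
  rw [hLift, polyLift_z]

variable {L' : Y.Modules} {β : Pairing L L'} {a : Γ(L, U)} {b : Γ(L', U)} (hd : β.Dual U a b)

include hz hS hd in
theorem deg_induction {P : BSec 𝒮h.toQCAlg U → Prop} {k : ℕ} (h0 : P 0)
    (hadd : ∀ x y, P x → P y → P (x + y))
    (hmon : ∀ (c : Γ(Y, U)) (i m : ℕ), i + m = k →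
      P (bstr 𝒮h.toQCAlg U c * hj j ι U a ^ i * RelCone.restrictTop 𝒮h z U ^ m))
    {x : BSec 𝒮h.toQCAlg U} (hx : x ∈ 𝒮h.deg U hU k) : P x := by
  obtain ⟨c, hc, rfl⟩ := Groth.Ega2P2.exists_coeff hz hU hx
  rw [map_sum]
  refine Finset.sum_induction _ P hadd h0 fun m hm => ?_
  obtain ⟨r, hr⟩ := exists_eq_mul_pow hS hU hd (hc m)
  rw [Groth.Ega2P2.polyEquiv_monomial, hr]
  have e : RelProj.gradedHomAt ι hz.graded U hU (bstr 𝒮.toQCAlg U r * jAt 𝒮.toQCAlg j U a ^ (k - m)) =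
      bstr 𝒮h.toQCAlg U r * hj j ι U a ^ (k - m) := by
    change (ι.hom.app (op U)).hom _ = _
    rw [map_mul, map_pow, Groth.SymAlg.hom_app_str]
  exact e ▸ hmon r (k - m) m (by have := Finset.mem_range.1 hm; omega)

include hz in
theorem mon_mem (c : Γ(Y, U)) {u v : BSec 𝒮h.toQCAlg U} (hu : u ∈ 𝒮h.deg U hU 1)
    (hv : v ∈ 𝒮h.deg U hU 1) (i m : ℕ) :
    bstr 𝒮h.toQCAlg U c * u ^ i * v ^ m ∈ 𝒮h.deg U hU (i + m) := by
  simpa using SetLike.mul_mem_graded (A := 𝒮h.deg U hU) (SetLike.mul_mem_graded (A := 𝒮h.deg U hU)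
    (i := 0) (𝒮h.str_mem U hU c) (SetLike.pow_mem_graded i hu)) (SetLike.pow_mem_graded m hv)

end poly

end Groth.Ega2Proj.LineEx
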