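/-
The exchange isomorphism of the projective closures of two mutually inverse line bundles.
-/
import Groth.Agent.Ega2Proj.LineExchangeAlg
import Groth.Agent.Ega2Proj2.Glue

set_option autoImplicit false

universe u

open CategoryTheory AlgebraicGeometry Opposite TopologicalSpace
open scoped HomogeneousIdeal

set_option backward.isDefEq.respectTransparency.types false

noncomputable section

namespace Groth.Ega2Proj.LineEx

open Groth.QCohMod (BSec bstr toB bres)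
open Groth.Ega2P2 (projCharts emb_p opensRange_emb projMap_congr restrictTop_res irrelevant_le_map_site)

variable {Y : Scheme.{u}}

theorem map_res_emb_of_basic {𝒮 : RelProj.QCGrAlg Y} {P : Scheme.{u}} {p : P ⟶ Y}
    {chart : ∀ (U : Y.Opens) (hU : IsAffineOpen U), (((p ⁻¹ᵁ U : P.Opens) : Scheme.{u}) ≅ Proj (𝒮.deg U hU))}
    (hP : RelProj.IsRelProj 𝒮 p chart) {U V : Y.Opens} (hU : IsAffineOpen U) (hV : IsAffineOpen V)
    (i : V ≤ U) (hr : ∃ r : Γ(Y, U), Y.basicOpen r = V) :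
    Proj.map (𝒮.res hU hV i) (irrelevant_le_map_site 𝒮 (V := ⟨V, hV⟩) (U := ⟨U, hU⟩) hr) ≫
      RelProj.emb p chart U hU = RelProj.emb p chart V hV := by
  obtain ⟨r, rfl⟩ := hr
  exact RelProj.map_res_emb hP U hU r

variable {L L' : Y.Modules} [L.IsQuasicoherent] [L'.IsQuasicoherent] {β : Pairing L L'}
  {𝒮 𝒮h : RelProj.QCGrAlg Y} {ι : 𝒮.toQCAlg ⟶ 𝒮h.toQCAlg} {z : 𝒮h.presheaf.obj (op ⊤)}
  {hz : RelCone.IsPolyOver 𝒮 𝒮h ι z} {j : L ⟶ 𝒮.toModule} (hS : RelProj.IsGrSymAlg L 𝒮 j)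
  {𝒮' 𝒮h' : RelProj.QCGrAlg Y} {ι' : 𝒮'.toQCAlg ⟶ 𝒮h'.toQCAlg} {z' : 𝒮h'.presheaf.obj (op ⊤)}
  {hz' : RelCone.IsPolyOver 𝒮' 𝒮h' ι' z'} {j' : L' ⟶ 𝒮'.toModule}
  (hS' : RelProj.IsGrSymAlg L' 𝒮' j')

theorem res_str (𝒜 : RelProj.QCGrAlg Y) {U V : Y.Opens} (hU : IsAffineOpen U) (hV : IsAffineOpen V)
    (i : V ≤ U) (c : Γ(Y, U)) :
    𝒜.res hU hV i (bstr 𝒜.toQCAlg U c) = bstr 𝒜.toQCAlg V (Groth.PicAux.resX Y i c) :=
  Groth.QCohMod.bres_bstr 𝒜.toQCAlg i c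

omit [L.IsQuasicoherent] in
theorem res_hj {U V : Y.Opens} (hU : IsAffineOpen U) (hV : IsAffineOpen V) (i : V ≤ U) (e : Γ(L, U)) :
    𝒮h.res hU hV i (hj j ι U e) = hj j ι V (Groth.PicAux.res L i e) := by
  refine (congr($(ι.hom.naturality (homOfLE i).op).hom (jAt 𝒮.toQCAlg j U e))).symm.trans
    (congrArg (ι.hom.app (op V)).hom ?_)
  exact (Groth.PicAux.app_res j i e).symm

variable (hz) in
/-- Scaling of `𝒮[z]` over an open by a function. -/
def sigmaRing {U : Y.Opens} (hU : IsAffineOpen U) (c : Γ(Y, U)) :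
    BSec 𝒮h.toQCAlg U →+* BSec 𝒮h.toQCAlg U :=
  hLift hz hU hS (bstr 𝒮h.toQCAlg U)
    (AddMonoidHom.mk' (fun e => bstr 𝒮h.toQCAlg U c * hj j ι U e)
      fun e e' => by rw [hj_add, mul_add])
    (fun r e => by simp only [AddMonoidHom.mk'_apply, hj_smul]; ring)
    (bstr 𝒮h.toQCAlg U c * RelCone.restrictTop 𝒮h z U)

theorem sigmaRing_scale {U : Y.Opens} (hU : IsAffineOpen U) {a : Γ(L, U)} {b : Γ(L', U)}
    (hd : β.Dual U a b) (c : Γ(Y, U)) {k : ℕ} {x : BSec 𝒮h.toQCAlg U} (hx : x ∈ 𝒮h.deg U hU k) :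
    sigmaRing hz hS hU c x = bstr 𝒮h.toQCAlg U c ^ k * x := by
  refine deg_induction hz hU hS hd (P := fun x => sigmaRing hz hS hU c x = _ * x) (by rw [map_zero, mul_zero])
    (fun x y hx hy => by rw [map_add, hx, hy, mul_add]) (fun r i m him => ?_) hx
  rw [← him, map_mul, map_mul, map_pow, map_pow, sigmaRing, hLift_str, hLift_j, hLift_z]
  simp only [AddMonoidHom.mk'_apply]
  ring

variable (hz) in
/-- Scaling, as a graded homomorphism. -/
def sigma {U : Y.Opens} (hU : IsAffineOpen U) {a : Γ(L, U)} {b : Γ(L', U)} (hd : β.Dual U a b)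
    (c : Γ(Y, U)) : 𝒮h.deg U hU →+*ᵍ 𝒮h.deg U hU :=
  { sigmaRing hz hS hU c with
    map_mem := fun {k x} hx => by
      change sigmaRing hz hS hU c x ∈ _
      rw [sigmaRing_scale hS hU hd c hx]
      simpa using SetLike.mul_mem_graded (A := 𝒮h.deg U hU)
        (SetLike.pow_mem_graded (A := 𝒮h.deg U hU) k (i := 0) (𝒮h.str_mem U hU c)) hx }

theorem sigma_sigma {U : Y.Opens} (hU : IsAffineOpen U) {a : Γ(L, U)} {b : Γ(L', U)}
    (hd : β.Dual U a b) {c c' : Γ(Y, U)} (hc : c * c' = 1) (x : BSec 𝒮h.toQCAlg U) :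
    sigma hz hS hU hd c (sigma hz hS hU hd c' x) = x := by
  have hc1 : bstr 𝒮h.toQCAlg U c * bstr 𝒮h.toQCAlg U c' = 1 := by rw [← map_mul, hc, map_one]
  refine congr($(poly_hom_ext hz hU hS (f := (sigmaRing hz hS hU c).comp (sigmaRing hz hS hU c'))
    (g := RingHom.id _) (fun r => ?_) (fun e => ?_) ?_) x)
  all_goals simp only [RingHom.comp_apply, RingHom.id_apply, sigmaRing, hLift_str, hLift_j, hLift_z,
    AddMonoidHom.mk'_apply, map_mul]
  · rw [← mul_assoc, mul_comm (bstr _ _ c'), hc1, one_mul]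
  · rw [← mul_assoc, mul_comm (bstr _ _ c'), hc1, one_mul]

theorem sigma_irr {U : Y.Opens} (hU : IsAffineOpen U) {a : Γ(L, U)} {b : Γ(L', U)}
    (hd : β.Dual U a b) {c c' : Γ(Y, U)} (hc : c * c' = 1) :
    (𝒮h.deg U hU)₊ ≤ ((𝒮h.deg U hU)₊).map (sigma hz hS hU hd c) :=
  irr_of_inverse _ (sigma hz hS hU hd c') (sigma_sigma hS hU hd hc)

theorem map_sigma {U : Y.Opens} (hU : IsAffineOpen U) {a : Γ(L, U)} {b : Γ(L', U)}
    (hd : β.Dual U a b) {c c' : Γ(Y, U)} (hc : c * c' = 1) :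
    Proj.map (sigma hz hS hU hd c) (sigma_irr hS hU hd hc) = 𝟙 _ :=
  map_eq_id_of_scale _ _ (c := bstr 𝒮h.toQCAlg U c) (𝒮h.str_mem U hU c)
    fun _ _ hx => sigmaRing_scale hS hU hd c hx

variable (hz hz' β) in
/-- The exchange `z' ↦ T`, `T' ↦ z`. -/
def psiRing {U : Y.Opens} (hU : IsAffineOpen U) (a : Γ(L, U)) :
    BSec 𝒮h'.toQCAlg U →+* BSec 𝒮h.toQCAlg U :=
  hLift hz' hU hS' (bstr 𝒮h.toQCAlg U)
    (AddMonoidHom.mk' (fun x => bstr 𝒮h.toQCAlg U (β.app U a x) * RelCone.restrictTop 𝒮h z U)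
      fun x y => by rw [β.add_right, map_add, add_mul])
    (fun r x => by simp only [AddMonoidHom.mk'_apply, β.smul_right, map_mul]; ring)
    (hj j ι U a)

theorem psiRing_str {U : Y.Opens} (hU : IsAffineOpen U) (a : Γ(L, U)) (r : Γ(Y, U)) :
    psiRing β (z := z) (ι := ι) (j := j) hz' hS' hU a (bstr 𝒮h'.toQCAlg U r) = bstr 𝒮h.toQCAlg U r := by
  rw [psiRing, hLift_str]

theorem psiRing_j {U : Y.Opens} (hU : IsAffineOpen U) (a : Γ(L, U)) (x : Γ(L', U)) :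
    psiRing β (z := z) (ι := ι) (j := j) hz' hS' hU a (hj j' ι' U x) =
      bstr 𝒮h.toQCAlg U (β.app U a x) * RelCone.restrictTop 𝒮h z U := by
  rw [psiRing, hLift_j]
  rfl

theorem psiRing_z {U : Y.Opens} (hU : IsAffineOpen U) (a : Γ(L, U)) :
    psiRing β (z := z) (ι := ι) (j := j) hz' hS' hU a (RelCone.restrictTop 𝒮h' z' U) = hj j ι U a := by
  rw [psiRing, hLift_z]

variable (hz hz') in
/-- The exchange over a trivialising open, as a graded homomorphism. -/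
def psi {U : Y.Opens} (hU : IsAffineOpen U) {a : Γ(L, U)} {b : Γ(L', U)} (hd : β.Dual U a b) :
    𝒮h'.deg U hU →+*ᵍ 𝒮h.deg U hU :=
  { psiRing β (z := z) (ι := ι) (j := j) hz' hS' hU a with
    map_mem := fun {k x} hx => by
      change psiRing β (z := z) (ι := ι) (j := j) hz' hS' hU a x ∈ _
      refine deg_induction hz' hU hS' hd.swap' (P := fun x => psiRing β (z := z) (ι := ι) (j := j) hz' hS' hU a x ∈ _)
        (by rw [map_zero]; exact zero_mem _) (fun x y hx hy => by rw [map_add]; exact add_mem hx hy)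
        (fun r i m him => ?_) hx
      rw [map_mul, map_mul, map_pow, map_pow, psiRing_str, psiRing_j, psiRing_z, hd.one, map_one,
        one_mul, ← him]
      exact mon_mem hz hU r (hz.deg_z U hU) (hj_mem hz hU hS a) i m }

theorem psi_psi {U : Y.Opens} (hU : IsAffineOpen U) {a : Γ(L, U)} {b : Γ(L', U)} (hd : β.Dual U a b)
    (x : BSec 𝒮h.toQCAlg U) :
    psi hz hS hz' hS' hU hd (psi hz' hS' hz hS hU hd.swap' x) = x := by
  refine congr($(poly_hom_ext hz hU hS (f := (psiRing β (z := z) (ι := ι) (j := j) hz' hS' hU a).comp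
    (psiRing β.swap (z := z') (ι := ι') (j := j') hz hS hU b)) (g := RingHom.id _) (fun r => ?_) (fun e => ?_) ?_) x)
  · rw [RingHom.comp_apply, psiRing_str, psiRing_str]; rfl
  · rw [RingHom.comp_apply, psiRing_j, map_mul, psiRing_str, psiRing_z, ← hj_smul]
    exact congrArg (hj j ι U) (hd.eq_left e)
  · rw [RingHom.comp_apply, psiRing_z, psiRing_j, hd.one, map_one, one_mul]; rfl

theorem psi_irr {U : Y.Opens} (hU : IsAffineOpen U) {a : Γ(L, U)} {b : Γ(L', U)} (hd : β.Dual U a b) :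
    (𝒮h.deg U hU)₊ ≤ ((𝒮h'.deg U hU)₊).map (psi hz hS hz' hS' hU hd) :=
  irr_of_inverse _ (psi hz' hS' hz hS hU hd.swap') (psi_psi hS hS' hU hd)

theorem psi_comp_psi {U : Y.Opens} (hU : IsAffineOpen U) {a : Γ(L, U)} {b : Γ(L', U)}
    (hd : β.Dual U a b) :
    (psi hz hS hz' hS' hU hd).comp (psi hz' hS' hz hS hU hd.swap') = GradedRingHom.id (𝒮h.deg U hU) := by
  refine DFunLike.ext _ _ fun x => ?_
  rw [GradedRingHom.comp_apply, GradedRingHom.id_apply]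
  exact psi_psi hS hS' hU hd x

theorem map_psi_psi {U : Y.Opens} (hU : IsAffineOpen U) {a : Γ(L, U)} {b : Γ(L', U)}
    (hd : β.Dual U a b) :
    Proj.map (psi hz hS hz' hS' hU hd) (psi_irr hS hS' hU hd) ≫
      Proj.map (psi hz' hS' hz hS hU hd.swap') (psi_irr hS' hS hU hd.swap') = 𝟙 _ := by
  refine (Proj.map_comp _ _ (psi_irr hS' hS hU hd.swap') (psi_irr hS hS' hU hd)).symm.trans ?_
  exact (projMap_congr (psi_comp_psi hS hS' hU hd)).trans Proj.map_id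

theorem psi_eq_sigma_comp {U : Y.Opens} (hU : IsAffineOpen U) {a a' : Γ(L, U)} {b b' : Γ(L', U)}
    (hd : β.Dual U a b) (hd' : β.Dual U a' b') :
    psi hz hS hz' hS' hU hd' =
      (sigma hz hS hU hd (β.app U a' b)).comp (psi hz hS hz' hS' hU hd) := by
  refine DFunLike.ext _ _ fun x => congr($(poly_hom_ext hz' hU hS'
    (f := psiRing β (z := z) (ι := ι) (j := j) hz' hS' hU a')
    (g := (sigmaRing hz hS hU (β.app U a' b)).comp (psiRing β (z := z) (ι := ι) (j := j) hz' hS' hU a))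
    (fun r => ?_) (fun e => ?_) ?_) x)
  · rw [RingHom.comp_apply, psiRing_str, psiRing_str, sigmaRing, hLift_str]
  · rw [RingHom.comp_apply, psiRing_j, psiRing_j, map_mul, sigmaRing, hLift_str, hLift_z,
      ← mul_assoc, ← map_mul]
    congr 2
    conv_lhs => rw [← hd.eq_left a', β.smul_left]
    exact mul_comm _ _
  · rw [RingHom.comp_apply, psiRing_z, psiRing_z, sigmaRing, hLift_j]
    simp only [AddMonoidHom.mk'_apply]
    rw [← hj_smul, hd.eq_left]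

theorem res_comp_psi {U V : Y.Opens} (hU : IsAffineOpen U) (hV : IsAffineOpen V) (i : V ≤ U)
    {a : Γ(L, U)} {b : Γ(L', U)} (hd : β.Dual U a b) :
    (𝒮h.res hU hV i).comp (psi hz hS hz' hS' hU hd) =
      (psi hz hS hz' hS' hV (hd.res' i)).comp (𝒮h'.res hU hV i) := by
  refine DFunLike.ext _ _ fun x => congr($(poly_hom_ext hz' hU hS'
    (f := (𝒮h.res hU hV i).toRingHom.comp (psiRing β (z := z) (ι := ι) (j := j) hz' hS' hU a))
    (g := (psiRing β (z := z) (ι := ι) (j := j) hz' hS' hV (Groth.PicAux.res L i a)).comp (𝒮h'.res hU hV i).toRingHom)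
    (fun r => ?_) (fun e => ?_) ?_) x)
  all_goals simp only [RingHom.comp_apply, GradedRingHom.toRingHom_eq_toRingHom, GradedRingHom.coe_toRingHom]
  · rw [psiRing_str, res_str, res_str, psiRing_str]
  · rw [psiRing_j, map_mul, res_str, restrictTop_res hU hV i, res_hj, psiRing_j, β.res]
  · rw [psiRing_z, res_hj, restrictTop_res hU hV i, psiRing_z]

section glue

variable {PC : Scheme.{u}} {pC : PC ⟶ Y}
  {chartC : ∀ (U : Y.Opens) (hU : IsAffineOpen U), (((pC ⁻¹ᵁ U : PC.Opens) : Scheme.{u}) ≅ Proj (𝒮h.deg U hU))}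
  (hC : RelProj.IsRelProj 𝒮h pC chartC)
  {PC' : Scheme.{u}} {pC' : PC' ⟶ Y}
  {chartC' : ∀ (U : Y.Opens) (hU : IsAffineOpen U), (((pC' ⁻¹ᵁ U : PC'.Opens) : Scheme.{u}) ≅ Proj (𝒮h'.deg U hU))}
  (hC' : RelProj.IsRelProj 𝒮h' pC' chartC')

variable (hz hz' chartC') in
/-- The exchange in a chart. -/
def gMap {U : Y.Opens} (hU : IsAffineOpen U) {a : Γ(L, U)} {b : Γ(L', U)} (hd : β.Dual U a b) :
    Proj (𝒮h.deg U hU) ⟶ PC' :=
  Proj.map (psi hz hS hz' hS' hU hd) (psi_irr hS hS' hU hd) ≫ RelProj.emb pC' chartC' U hU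

include hC' in
theorem gMap_res {U V : Y.Opens} (hU : IsAffineOpen U) (hV : IsAffineOpen V) (i : V ≤ U)
    (hr : ∃ r : Γ(Y, U), Y.basicOpen r = V) {a : Γ(L, U)} {b : Γ(L', U)} (hd : β.Dual U a b)
    {a' : Γ(L, V)} {b' : Γ(L', V)} (hd' : β.Dual V a' b') :
    Proj.map (𝒮h.res hU hV i) (irrelevant_le_map_site 𝒮h (V := ⟨V, hV⟩) (U := ⟨U, hU⟩) hr) ≫
      gMap hz hS hz' hS' chartC' hU hd = gMap hz hS hz' hS' chartC' hV hd' := by
  have e1 : Proj.map (psi hz hS hz' hS' hV hd') (psi_irr hS hS' hV hd') =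
      Proj.map (psi hz hS hz' hS' hV (hd.res' i)) (psi_irr hS hS' hV (hd.res' i)) := by
    have hc := (hd.res' i).trans_one hd'
    refine (projMap_congr (psi_eq_sigma_comp hS hS' hV (hd.res' i) hd')
      (hg := HomogeneousIdeal.irrelevant_le_map_comp (psi_irr hS hS' hV (hd.res' i))
        (sigma_irr hS hV (hd.res' i) hc))).trans ?_
    refine (Proj.map_comp _ _ (psi_irr hS hS' hV (hd.res' i)) (sigma_irr hS hV (hd.res' i) hc)).trans ?_
    rw [map_sigma hS hV (hd.res' i) hc, Category.id_comp]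
  rw [gMap, gMap, e1, ← map_res_emb_of_basic hC' hU hV i hr]
  simp only [← Category.assoc]
  congr 1
  rw [← Proj.map_comp, ← Proj.map_comp]
  exact projMap_congr (res_comp_psi hS hS' hU hV i hd)

/-- A trivialising affine open with dual bases. -/
structure Idx (β : Pairing L L') where
  /-- the open -/
  U : Y.Opens
  hU : IsAffineOpen U
  /-- the first basis -/
  a : Γ(L, U)
  /-- the second basis -/
  b : Γ(L', U)
  hd : β.Dual U a b

variable (hcov : ∀ y : Y, ∃ (U : Y.Opens) (a : Γ(L, U)) (b : Γ(L', U)), IsAffineOpen U ∧ y ∈ U ∧ β.Dual U a b)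

include hC hcov in
theorem covers (x : PC) : ∃ i : Idx β, x ∈ Set.range (RelProj.emb pC chartC i.U i.hU).base := by
  obtain ⟨U, a, b, hU, hy, hd⟩ := hcov (pC.base x)
  exact ⟨⟨U, hU, a, b, hd⟩, (projCharts hC).mem_range hU hy⟩

include hC hC' hcov in
theorem existsUnique_exchange :
    ∃! Φ : PC ⟶ PC', ∀ i : Idx β,
      RelProj.emb pC chartC i.U i.hU ≫ Φ = gMap hz hS hz' hS' chartC' i.hU i.hd := by
  refine Groth.Ega2P2.fam_existsUnique (fun i : Idx β => Proj (𝒮h.deg i.U i.hU))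
    (fun i => RelProj.emb pC chartC i.U i.hU) (covers hC hcov)
    (fun i => gMap hz hS hz' hS' chartC' i.hU i.hd) fun i k xi xk hx => ?_
  have hi : pC.base ((RelProj.emb pC chartC i.U i.hU).base xi) ∈ i.U := (projCharts hC).map_mem i.hU xi
  have hk : pC.base ((RelProj.emb pC chartC i.U i.hU).base xi) ∈ k.U := by
    rw [hx]; exact (projCharts hC).map_mem k.hU xk
  obtain ⟨r, s, hrs, hy⟩ := exists_basicOpen_le_affine_inter i.hU k.hU _ ⟨hi, hk⟩
  have hlk : Y.basicOpen r ≤ k.U := hrs ▸ Y.basicOpen_le s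
  refine ⟨⟨Y.basicOpen r, i.hU.basicOpen r, _, _, i.hd.res' (Y.basicOpen_le r)⟩,
    Proj.map (𝒮h.res i.hU (i.hU.basicOpen r) (Y.basicOpen_le r))
      (irrelevant_le_map_site 𝒮h (V := ⟨_, i.hU.basicOpen r⟩) (U := ⟨_, i.hU⟩) ⟨r, rfl⟩),
    Proj.map (𝒮h.res k.hU (i.hU.basicOpen r) hlk)
      (irrelevant_le_map_site 𝒮h (V := ⟨_, i.hU.basicOpen r⟩) (U := ⟨_, k.hU⟩) ⟨s, hrs.symm⟩),
    map_res_emb_of_basic hC _ _ _ ⟨r, rfl⟩, map_res_emb_of_basic hC _ _ _ ⟨s, hrs.symm⟩,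
    gMap_res hS hS' hC' i.hU _ _ ⟨r, rfl⟩ i.hd _, gMap_res hS hS' hC' k.hU _ _ ⟨s, hrs.symm⟩ k.hd _,
    (projCharts hC).mem_range _ hy⟩

include hC hC' hcov in
theorem exists_exchange : ∃ Φ : PC ≅ PC', Φ.hom ≫ pC' = pC ∧ ∀ i : Idx β,
    RelProj.emb pC chartC i.U i.hU ≫ Φ.hom = gMap hz hS hz' hS' chartC' i.hU i.hd := by
  have hcov' : ∀ y : Y, ∃ (U : Y.Opens) (b : Γ(L', U)) (a : Γ(L, U)), IsAffineOpen U ∧ y ∈ U ∧
      β.swap.Dual U b a := fun y => by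
    obtain ⟨U, a, b, hU, hy, hd⟩ := hcov y
    exact ⟨U, b, a, hU, hy, hd.swap'⟩
  obtain ⟨f, hf, -⟩ := existsUnique_exchange (hz := hz) (hz' := hz') hS hS' hC hC' hcov
  obtain ⟨g, hg, -⟩ := existsUnique_exchange (hz := hz') (hz' := hz) hS' hS hC' hC hcov'
  have hfg : f ≫ g = 𝟙 PC := Groth.Ega2P2.fam_hom_ext _ _ (covers hC hcov) fun i : Idx β => by
    rw [reassoc_of% (hf i), gMap, Category.assoc, hg ⟨i.U, i.hU, i.b, i.a, i.hd.swap'⟩, gMap,
      ← Category.assoc, map_psi_psi, Category.id_comp, Category.comp_id]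
  have hgf : g ≫ f = 𝟙 PC' := Groth.Ega2P2.fam_hom_ext _ _ (covers hC' hcov') fun i : Idx β.swap => by
    rw [reassoc_of% (hg i), gMap, Category.assoc, hf ⟨i.U, i.hU, i.b, i.a, i.hd.swap'⟩, gMap,
      ← Category.assoc]
    refine Eq.trans (congrArg (· ≫ _) ?_) ((Category.id_comp _).trans (Category.comp_id _).symm)
    exact map_psi_psi hS' hS i.hU i.hd
  refine ⟨⟨f, g, hfg, hgf⟩, ?_, hf⟩
  refine Groth.Ega2P2.fam_hom_ext _ _ (covers hC hcov) fun i : Idx β => ?_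
  rw [reassoc_of% (hf i), gMap, Category.assoc, emb_p hC', emb_p hC,
    reassoc_of% (Groth.Ega2P2.map_toSpecZero _ (psi_irr hS hS' i.hU i.hd)), ← Spec.map_comp_assoc]
  congr 3
  refine CommRingCat.hom_ext (RingHom.ext fun r => Subtype.ext ?_)
  exact psiRing_str hS' i.hU i.a r

include hS hC in
/-- The pointed projective cone in a trivialising chart is `D₊(T)`. -/
theorem emb_mem_pointed_iff {U : Y.Opens} (hU : IsAffineOpen U) {a : Γ(L, U)} {b : Γ(L', U)}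
    (hd : β.Dual U a b) (y : Proj (𝒮h.deg U hU)) :
    (RelProj.emb pC chartC U hU).base y ∈ RelCone.pointedProjCone 𝒮 hz pC chartC ↔
      hj j ι U a ∉ y.asHomogeneousIdeal := by
  rw [PolyCone.emb_mem_pointedProjCone_iff hz hC U hU y]
  refine ⟨fun ⟨d, f, hd0, hf, hfy⟩ ha => hfy ?_, fun h => ⟨1, _, one_pos, hS.2 U hU a, h⟩⟩
  obtain ⟨c, rfl⟩ := exists_eq_mul_pow hS hU hd hf
  have e : RelProj.gradedHomAt ι hz.graded U hU
      (bstr 𝒮.toQCAlg U c * jAt 𝒮.toQCAlg j U a ^ d) = bstr 𝒮h.toQCAlg U c * hj j ι U a ^ d := by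
    change (ι.hom.app (op U)).hom _ = _
    rw [map_mul, map_pow, Groth.SymAlg.hom_app_str]
  exact e.symm ▸ Ideal.mul_mem_left _ _ (Ideal.pow_mem_of_mem _ ha _ hd0)

include hC in
/-- The affine cone in a chart is `D₊(z)`. -/
theorem emb_mem_range_coneImm_iff {i₀ : 𝒮.toQCAlg.spec ⟶ PC}
    (hi : RelCone.IsConeImm 𝒮 hz pC chartC i₀) {U : Y.Opens} (hU : IsAffineOpen U)
    (y : Proj (𝒮h.deg U hU)) :
    (RelProj.emb pC chartC U hU).base y ∈ Set.range i₀.base ↔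
      RelCone.restrictTop 𝒮h z U ∉ y.asHomogeneousIdeal := by
  rw [Groth.Ega2P2.range_coneImm hz hC hi]
  constructor
  · intro h
    obtain ⟨q, hq, e⟩ := (Groth.Ega2P2.globalOpen_inf hC z U hU).le ⟨h, (projCharts hC).map_mem hU y⟩
    obtain rfl := (RelProj.emb pC chartC U hU).isOpenEmbedding.injective e
    exact hq
  · exact fun h => Opens.mem_iSup.2 ⟨⟨U, hU⟩, y, h, rfl⟩

include hS hC hC' hcov in
theorem exchange_mem {Φ : PC ⟶ PC'} (hΦ : ∀ i : Idx β,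
      RelProj.emb pC chartC i.U i.hU ≫ Φ = gMap hz hS hz' hS' chartC' i.hU i.hd)
    {i₀ : 𝒮.toQCAlg.spec ⟶ PC} (hi : RelCone.IsConeImm 𝒮 hz pC chartC i₀)
    {i₀' : 𝒮'.toQCAlg.spec ⟶ PC'} (hi' : RelCone.IsConeImm 𝒮' hz' pC' chartC' i₀') (x : PC) :
    (Φ.base x ∈ Set.range i₀'.base ↔ x ∈ RelCone.pointedProjCone 𝒮 hz pC chartC) ∧
      (Φ.base x ∈ RelCone.pointedProjCone 𝒮' hz' pC' chartC' ↔ x ∈ Set.range i₀.base) := by
  have hcov' : ∀ y : Y, ∃ (U : Y.Opens) (b : Γ(L', U)) (a : Γ(L, U)), IsAffineOpen U ∧ y ∈ U ∧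
      β.swap.Dual U b a := fun y => by
    obtain ⟨U, a, b, hU, hy, hd⟩ := hcov y
    exact ⟨U, b, a, hU, hy, hd.swap'⟩
  obtain ⟨i, y, rfl⟩ := covers hC hcov x
  have e : Φ.base ((RelProj.emb pC chartC i.U i.hU).base y) = (RelProj.emb pC' chartC' i.U i.hU).base
      ((Proj.map (psi hz hS hz' hS' i.hU i.hd) (psi_irr hS hS' i.hU i.hd)).base y) :=
    congr($(hΦ i).base y)
  rw [e, emb_mem_range_coneImm_iff hC' hi' i.hU, emb_mem_range_coneImm_iff hC hi i.hU,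
    emb_mem_pointed_iff hS' hC' i.hU i.hd.swap', emb_mem_pointed_iff hS hC i.hU i.hd]
  have h1 : psi hz hS hz' hS' i.hU i.hd (RelCone.restrictTop 𝒮h' z' i.U) = hj j ι i.U i.a :=
    psiRing_z hS' i.hU i.a
  have h2 : psi hz hS hz' hS' i.hU i.hd (hj j' ι' i.U i.b) = RelCone.restrictTop 𝒮h z i.U :=
    (psiRing_j hS' i.hU i.a i.b).trans (by rw [i.hd.one, map_one, one_mul])
  rw [← h1, ← h2]
  exact ⟨Iff.rfl, Iff.rfl⟩

end glue

end Groth.Ega2Proj.LineEx
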