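/-
The pointed projective cone of a line bundle is the inverse line bundle.
-/
import Groth.Agent.Ega2Proj.LineExchange

set_option autoImplicit false

universe u

open CategoryTheory AlgebraicGeometry Opposite TopologicalSpace
open scoped HomogeneousIdeal

set_option backward.isDefEq.respectTransparency.types false

noncomputable section

namespace Groth.Ega2Proj.LineEx

open Groth.QCohMod (BSec bstr toB bres)
open Groth.Ega2P2 (projCharts emb_p specCharts projMap_congr restrictTop_res irrelevant_le_map_site)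

variable {Y : Scheme.{u}} {L L' : Y.Modules} [L.IsQuasicoherent] [L'.IsQuasicoherent] {β : Pairing L L'}
  {𝒮 𝒮h : RelProj.QCGrAlg Y} {ι : 𝒮.toQCAlg ⟶ 𝒮h.toQCAlg} {z : 𝒮h.presheaf.obj (op ⊤)}
  {hz : RelCone.IsPolyOver 𝒮 𝒮h ι z} {j : L ⟶ 𝒮.toModule} (hS : RelProj.IsGrSymAlg L 𝒮 j)
  {A : RelSpec.QCAlg Y} {j' : L' ⟶ A.toModule} (hA : RelSpec.IsSymAlg L' A j')

variable (hz β A j') in
/-- Dehomogenisation at `T`. -/
def chiRing {U : Y.Opens} (hU : IsAffineOpen U) (b : Γ(L', U)) : BSec 𝒮h.toQCAlg U →+* BSec A U :=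
  hLift hz hU hS (bstr A U)
    (AddMonoidHom.mk' (fun y => bstr A U (β.app U y b)) fun y y' => by rw [β.add_left, map_add])
    (fun r y => by simp only [AddMonoidHom.mk'_apply, β.smul_left, map_mul])
    (jAt A j' U b)

theorem chiRing_str {U : Y.Opens} (hU : IsAffineOpen U) (b : Γ(L', U)) (r : Γ(Y, U)) :
    chiRing β hz hS A j' hU b (bstr 𝒮h.toQCAlg U r) = bstr A U r := by rw [chiRing, hLift_str]

theorem chiRing_j {U : Y.Opens} (hU : IsAffineOpen U) (b : Γ(L', U)) (y : Γ(L, U)) :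
    chiRing β hz hS A j' hU b (hj j ι U y) = bstr A U (β.app U y b) := by
  rw [chiRing, hLift_j]
  rfl

theorem chiRing_z {U : Y.Opens} (hU : IsAffineOpen U) (b : Γ(L', U)) :
    chiRing β hz hS A j' hU b (RelCone.restrictTop 𝒮h z U) = jAt A j' U b := by rw [chiRing, hLift_z]

theorem chiRing_T {U : Y.Opens} (hU : IsAffineOpen U) {a : Γ(L, U)} {b : Γ(L', U)}
    (hd : β.Dual U a b) : chiRing β hz hS A j' hU b (hj j ι U a) = 1 := by
  rw [chiRing_j, hd.one, map_one]

theorem isUnit_chiRing_T {U : Y.Opens} (hU : IsAffineOpen U) {a : Γ(L, U)} {b : Γ(L', U)}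
    (hd : β.Dual U a b) : IsUnit (chiRing β hz hS A j' hU b (hj j ι U a)) :=
  (chiRing_T hS hU hd).symm ▸ isUnit_one

theorem awayEval_chi_mk {U : Y.Opens} (hU : IsAffineOpen U) {a : Γ(L, U)} {b : Γ(L', U)}
    (hd : β.Dual U a b) (n : ℕ) (x : BSec 𝒮h.toQCAlg U) (hx : x ∈ 𝒮h.deg U hU (n • 1)) :
    awayEval (ℬ := 𝒮h.deg U hU) (chiRing β hz hS A j' hU b) (isUnit_chiRing_T hS hU hd)
      (.mk _ (hj_mem hz hU hS a) n x hx) = chiRing β hz hS A j' hU b x := by
  have h := awayEval_mk (ℬ := 𝒮h.deg U hU) (chiRing β hz hS A j' hU b) (isUnit_chiRing_T hS hU hd)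
    (hj_mem hz hU hS a) n x hx
  rwa [chiRing_T hS hU hd, one_pow, mul_one] at h

include hA in
theorem awayEval_chi_bijective {U : Y.Opens} (hU : IsAffineOpen U) {a : Γ(L, U)} {b : Γ(L', U)}
    (hd : β.Dual U a b) :
    Function.Bijective (awayEval (ℬ := 𝒮h.deg U hU) (chiRing β hz hS A j' hU b)
      (isUnit_chiRing_T hS hU hd)) := by
  constructor
  · let T := hj j ι U a
    let al := algebraMap (BSec 𝒮h.toQCAlg U) (Localization.Away T)
    let w : Localization.Away T := IsLocalization.Away.invSelf T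
    have hw : al T * w = 1 := IsLocalization.Away.mul_invSelf T
    let τ : BSec A U →+* Localization.Away T := algLift hA hU (al.comp (bstr 𝒮h.toQCAlg U))
      (AddMonoidHom.mk' (fun x => al (bstr 𝒮h.toQCAlg U (β.app U a x) * RelCone.restrictTop 𝒮h z U) * w)
        fun x y => by rw [β.add_right, map_add, add_mul, map_add, add_mul])
      (fun r x => by
        simp only [AddMonoidHom.mk'_apply, β.smul_right, map_mul, RingHom.comp_apply]; ring)
    have key : ∀ (k : ℕ) (x : BSec 𝒮h.toQCAlg U), x ∈ 𝒮h.deg U hU k →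
        τ (chiRing β hz hS A j' hU b x) = al x * w ^ k := by
      intro k x hx
      refine deg_induction hz hU hS hd (P := fun x => τ (chiRing β hz hS A j' hU b x) = al x * w ^ k)
        (by simp) (fun x y hx hy => by rw [map_add, map_add, hx, hy, map_add, add_mul])
        (fun r i m him => ?_) hx
      simp only [map_mul, map_pow, chiRing_T hS hU hd, chiRing_str, chiRing_z, one_pow, map_one,
        mul_one]
      simp only [τ, algLift_str, algLift_j, ← him]
      simp only [AddMonoidHom.mk'_apply, RingHom.comp_apply, hd.one, map_one, one_mul, map_mul, map_pow,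
        pow_add, mul_pow]
      have e : al T ^ i * w ^ i = 1 := by rw [← mul_pow, hw, one_pow]
      linear_combination (-(al (bstr 𝒮h.toQCAlg U r) * al (RelCone.restrictTop 𝒮h z U) ^ m * w ^ m)) * e
    refine (injective_iff_map_eq_zero _).2 fun q hq => ?_
    obtain ⟨n, x, hx, rfl⟩ := q.mk_surjective _ (hj_mem hz hU hS a)
    rw [awayEval_chi_mk hS hU hd] at hq
    have h0 := key n x (by simpa using hx)
    rw [hq, map_zero] at h0
    have hx0 : al x = 0 := by
      have := congrArg (· * al T ^ n) h0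
      simp only [zero_mul, mul_assoc, ← mul_pow] at this
      rw [mul_comm w, hw, one_pow, mul_one] at this
      exact this.symm
    refine HomogeneousLocalization.val_injective _ ?_
    rw [HomogeneousLocalization.Away.val_mk, HomogeneousLocalization.val_zero, Localization.mk_eq_mk',
      IsLocalization.mk'_eq_mul_mk'_one]
    show al x * _ = 0
    rw [hx0, zero_mul]
  · intro y
    obtain ⟨q, rfl⟩ := (Groth.SymAlg.bijective_liftSec hA hU).2 y
    change _ ∈ (awayEval (ℬ := 𝒮h.deg U hU) (chiRing β hz hS A j' hU b) (isUnit_chiRing_T hS hU hd)).range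
    induction q using SymmetricAlgebra.induction with
    | algebraMap r =>
      refine ⟨.mk _ (hj_mem hz hU hS a) 0 (bstr 𝒮h.toQCAlg U r)
        (by simp only [zero_smul]; exact 𝒮h.str_mem U hU r), ?_⟩
      rw [awayEval_chi_mk hS hU hd, chiRing_str, Groth.SymAlg.liftSec_algebraMap]
    | ι e =>
      refine ⟨.mk _ (hj_mem hz hU hS a) 1
        (bstr 𝒮h.toQCAlg U (β.app U a e) * RelCone.restrictTop 𝒮h z U)
        (by
          have h := SetLike.mul_mem_graded (A := 𝒮h.deg U hU) (i := 0) (𝒮h.str_mem U hU (β.app U a e))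
            (hz.deg_z U hU)
          simpa using h), ?_⟩
      rw [awayEval_chi_mk hS hU hd, map_mul, chiRing_str, chiRing_z, ← jAt_smul, hd.eq_right,
        Groth.SymAlg.liftSec_ι]
    | mul p q hp hq => rw [map_mul]; exact mul_mem hp hq
    | add p q hp hq => rw [map_add]; exact add_mem hp hq

variable {PC : Scheme.{u}} {pC : PC ⟶ Y}
  {chartC : ∀ (U : Y.Opens) (hU : IsAffineOpen U), (((pC ⁻¹ᵁ U : PC.Opens) : Scheme.{u}) ≅ Proj (𝒮h.deg U hU))}
  (hC : RelProj.IsRelProj 𝒮h pC chartC)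

variable (hz A j' chartC) in
/-- The inverse line bundle mapped to the projective closure, over a trivialising open. -/
def coneMap {U : Y.Opens} (hU : IsAffineOpen U) {a : Γ(L, U)} {b : Γ(L', U)} (hd : β.Dual U a b) :
    Spec (A.presheaf.obj (op U)) ⟶ PC :=
  pt (ℬ := 𝒮h.deg U hU) (chiRing β hz hS A j' hU b) (isUnit_chiRing_T hS hU hd)
    (hj_mem hz hU hS a) one_pos ≫ RelProj.emb pC chartC U hU

theorem chiRing_eq_comp_sigma {U : Y.Opens} (hU : IsAffineOpen U) {a a' : Γ(L, U)} {b b' : Γ(L', U)}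
    (hd : β.Dual U a b) (hd' : β.Dual U a' b') :
    chiRing β hz hS A j' hU b' =
      (chiRing β hz hS A j' hU b).comp (sigma hz hS hU hd' (β.app U a b')).toRingHom := by
  change _ = (chiRing β hz hS A j' hU b).comp (sigmaRing hz hS hU (β.app U a b'))
  refine poly_hom_ext hz hU hS (fun r => ?_) (fun e => ?_) ?_
  · rw [RingHom.comp_apply, sigmaRing, hLift_str, chiRing_str, chiRing_str]
  · rw [RingHom.comp_apply, sigmaRing, hLift_j, AddMonoidHom.mk'_apply, map_mul, chiRing_str,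
      chiRing_j, chiRing_j, ← map_mul]
    congr 1
    conv_lhs => rw [← hd.eq_right b', β.smul_right]
  · rw [RingHom.comp_apply, sigmaRing, hLift_z, map_mul, chiRing_str, chiRing_z, chiRing_z, ← jAt_smul,
      hd.eq_right]

include hC in
theorem coneMap_res {U V : Y.Opens} (hU : IsAffineOpen U) (hV : IsAffineOpen V) (i : V ≤ U)
    (hr : ∃ r : Γ(Y, U), Y.basicOpen r = V) {a : Γ(L, U)} {b : Γ(L', U)} (hd : β.Dual U a b)
    {a' : Γ(L, V)} {b' : Γ(L', V)} (hd' : β.Dual V a' b') :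
    Spec.map (A.presheaf.map (homOfLE i).op) ≫ coneMap hz hS A j' chartC hU hd =
      coneMap hz hS A j' chartC hV hd' := by
  set c := β.app V (Groth.PicAux.res L i a) b'
  have hcc : c * β.app V a' (Groth.PicAux.res L' i b) = 1 := by
    rw [mul_comm]; exact (hd.res' i).trans_one hd'
  have hσ : sigma hz hS hV hd' c (hj j ι V a') = hj j ι V (Groth.PicAux.res L i a) := by
    change sigmaRing hz hS hV c (hj j ι V a') = _
    rw [sigmaRing, hLift_j, AddMonoidHom.mk'_apply, ← hj_smul, hd'.eq_left]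
  have h1 : (bres A i).comp (chiRing β hz hS A j' hU b) =
      (chiRing β hz hS A j' hV (Groth.PicAux.res L' i b)).comp (𝒮h.res hU hV i).toRingHom := by
    refine poly_hom_ext hz hU hS (fun r => ?_) (fun e => ?_) ?_
    all_goals simp only [RingHom.comp_apply, GradedRingHom.toRingHom_eq_toRingHom, GradedRingHom.coe_toRingHom]
    · rw [chiRing_str, res_str, chiRing_str]
      exact Groth.QCohMod.bres_bstr A i r
    · rw [chiRing_j, res_hj, chiRing_j, ← β.res]
      exact Groth.QCohMod.bres_bstr A i _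
    · rw [chiRing_z, restrictTop_res hU hV i, chiRing_z]
      exact (Groth.QCohMod.toB_res A i _).symm.trans (congrArg (toB A) (Groth.PicAux.app_res j' i b).symm)
  have h2 : pt (ℬ := 𝒮h.deg V hV) (chiRing β hz hS A j' hV b') (isUnit_chiRing_T hS hV hd')
      (hj_mem hz hV hS a') one_pos =
      pt (ℬ := 𝒮h.deg V hV) (chiRing β hz hS A j' hV (Groth.PicAux.res L' i b))
        (isUnit_chiRing_T hS hV (hd.res' i)) (hj_mem hz hV hS (Groth.PicAux.res L i a)) one_pos := by
    have hu : IsUnit (chiRing β hz hS A j' hV (Groth.PicAux.res L' i b)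
        (sigma hz hS hV hd' c (hj j ι V a'))) := hσ.symm ▸ isUnit_chiRing_T hS hV (hd.res' i)
    refine (pt_congr (chiRing_eq_comp_sigma hS hV (hd.res' i) hd') rfl (hf' := hu)
      (hfd' := hj_mem hz hV hS a')).trans ?_
    refine ((pt_comp_map _ (sigma_irr hS hV hd' hcc) _ hu (hj_mem hz hV hS a') one_pos).symm).trans ?_
    rw [map_sigma hS hV hd' hcc, Category.comp_id]
    exact pt_congr rfl hσ
  rw [coneMap, coneMap, h2, ← map_res_emb_of_basic hC hU hV i hr]
  simp only [← Category.assoc]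
  congr 1
  refine (spec_comp_pt (bres A i) _ _ _ _).trans ?_
  have hu : IsUnit (chiRing β hz hS A j' hV (Groth.PicAux.res L' i b) (𝒮h.res hU hV i (hj j ι U a))) := by
    rw [res_hj hU hV i]; exact isUnit_chiRing_T hS hV (hd.res' i)
  refine (pt_congr h1 rfl (hf' := hu) (hfd' := hj_mem hz hU hS a)).trans ?_
  refine ((pt_comp_map _ (irrelevant_le_map_site 𝒮h (V := ⟨V, hV⟩) (U := ⟨U, hU⟩) hr) _ hu
    (hj_mem hz hU hS a) one_pos).symm).trans ?_
  exact congrArg (· ≫ _) (pt_congr rfl (res_hj hU hV i a))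

include hC in
theorem coneMap_p {U : Y.Opens} (hU : IsAffineOpen U) {a : Γ(L, U)} {b : Γ(L', U)} (hd : β.Dual U a b) :
    coneMap hz hS A j' chartC hU hd ≫ pC = A.ι U hU ≫ A.π := by
  rw [coneMap, Category.assoc, emb_p hC, A.ι_π, ← Category.assoc, pt_toSpecZero]
  refine ((Category.assoc _ _ _).symm.trans ?_)
  refine congrArg (· ≫ hU.fromSpec) ((Spec.map_comp _ _).symm.trans (congrArg Spec.map ?_))
  exact CommRingCat.hom_ext (RingHom.ext fun r => chiRing_str hS hU b r)

include hA in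
theorem opensRange_coneMap {U : Y.Opens} (hU : IsAffineOpen U) {a : Γ(L, U)} {b : Γ(L', U)}
    (hd : β.Dual U a b) :
    ∃ _ : IsOpenImmersion (coneMap hz hS A j' chartC hU hd),
      Set.range (coneMap hz hS A j' chartC hU hd).base =
        (RelProj.emb pC chartC U hU).base ''
          {y | hj j ι U a ∉ y.asHomogeneousIdeal} := by
  obtain ⟨h1, h2⟩ := opensRange_pt (ℬ := 𝒮h.deg U hU) (chiRing β hz hS A j' hU b)
    (isUnit_chiRing_T hS hU hd) (hj_mem hz hU hS a) one_pos (awayEval_chi_bijective hS hA hU hd)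
  refine ⟨by rw [coneMap]; infer_instance, ?_⟩
  rw [coneMap, Scheme.Hom.comp_base, TopCat.coe_comp, Set.range_comp]
  exact congrArg _ (congrArg SetLike.coe h2)

variable (hcov : ∀ y : Y, ∃ (U : Y.Opens) (a : Γ(L, U)) (b : Γ(L', U)), IsAffineOpen U ∧ y ∈ U ∧ β.Dual U a b)

omit [L.IsQuasicoherent] [L'.IsQuasicoherent] in
include hcov in
theorem spec_covers (x : A.spec) : ∃ i : Idx β, x ∈ Set.range (A.ι i.U i.hU).base := by
  obtain ⟨U, a, b, hU, hy, hd⟩ := hcov (A.π.base x)
  exact ⟨⟨U, hU, a, b, hd⟩, (specCharts A).mem_range hU hy⟩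

include hS hA hC hcov in
theorem exists_cone_iso :
    ∃ e : A.spec ≅ ((RelCone.pointedProjCone 𝒮 hz pC chartC : PC.Opens) : Scheme.{u}),
      e.hom ≫ (RelCone.pointedProjCone 𝒮 hz pC chartC).ι ≫ pC = A.π := by
  obtain ⟨f, hf, -⟩ : ∃! f : A.spec ⟶ PC, ∀ i : Idx β,
      A.ι i.U i.hU ≫ f = coneMap hz hS A j' chartC i.hU i.hd := by
    refine Groth.Ega2P2.fam_existsUnique (fun i : Idx β => Spec (A.presheaf.obj (op i.U)))
      (fun i => A.ι i.U i.hU) (spec_covers hcov) _ fun i k xi xk hx => ?_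
    have hi : A.π.base ((A.ι i.U i.hU).base xi) ∈ i.U := (specCharts A).map_mem i.hU xi
    have hk : A.π.base ((A.ι i.U i.hU).base xi) ∈ k.U := by
      rw [hx]; exact (specCharts A).map_mem k.hU xk
    obtain ⟨r, s, hrs, hy⟩ := exists_basicOpen_le_affine_inter i.hU k.hU _ ⟨hi, hk⟩
    have hlk : Y.basicOpen r ≤ k.U := hrs ▸ Y.basicOpen_le s
    refine ⟨⟨Y.basicOpen r, i.hU.basicOpen r, _, _, i.hd.res' (Y.basicOpen_le r)⟩,
      Spec.map (A.presheaf.map (homOfLE (Y.basicOpen_le r)).op),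
      Spec.map (A.presheaf.map (homOfLE hlk).op),
      A.ι_res (U := ⟨i.U, i.hU⟩) (V := ⟨_, i.hU.basicOpen r⟩) (homOfLE ⟨r, rfl⟩),
      A.ι_res (U := ⟨k.U, k.hU⟩) (V := ⟨_, i.hU.basicOpen r⟩) (homOfLE ⟨s, hrs.symm⟩),
      coneMap_res hS hC i.hU _ _ ⟨r, rfl⟩ i.hd _, coneMap_res hS hC k.hU _ _ ⟨s, hrs.symm⟩ k.hd _,
      (specCharts A).mem_range _ hy⟩
  have hfp : f ≫ pC = A.π := Groth.Ega2P2.fam_hom_ext _ _ (spec_covers hcov) fun i : Idx β => by
    rw [reassoc_of% (hf i), coneMap_p hS hC i.hU i.hd]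
  have hrange : ∀ i : Idx β, Set.range (coneMap hz hS A j' chartC i.hU i.hd).base =
      (RelCone.pointedProjCone 𝒮 hz pC chartC : Set PC) ∩ (pC ⁻¹ᵁ i.U : PC.Opens) := by
    intro i
    obtain ⟨-, h⟩ := opensRange_coneMap (pC := pC) (chartC := chartC) hS hA i.hU i.hd
    rw [h]
    refine Set.ext fun x => ⟨?_, ?_⟩
    · rintro ⟨y, hy, rfl⟩
      exact ⟨(emb_mem_pointed_iff hS hC i.hU i.hd y).2 hy, (projCharts hC).map_mem i.hU y⟩
    · rintro ⟨hxE, hxU⟩
      obtain ⟨y, rfl⟩ := (projCharts hC).mem_range i.hU hxU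
      exact ⟨y, (emb_mem_pointed_iff hS hC i.hU i.hd y).1 hxE, rfl⟩
  have hsub : Set.range f.base ⊆ Set.range (RelCone.pointedProjCone 𝒮 hz pC chartC).ι.base := by
    rintro _ ⟨x, rfl⟩
    rw [Scheme.Opens.range_ι]
    obtain ⟨i, y, rfl⟩ := spec_covers hcov x
    exact ((hrange i).le ⟨y, (congr($(hf i).base y)).symm⟩).1
  let f₀ := IsOpenImmersion.lift (RelCone.pointedProjCone 𝒮 hz pC chartC).ι f hsub
  have hf₀ : f₀ ≫ (RelCone.pointedProjCone 𝒮 hz pC chartC).ι = f := IsOpenImmersion.lift_fac _ _ _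
  let E : Scheme.{u} := (RelCone.pointedProjCone 𝒮 hz pC chartC : PC.Opens)
  let c : ∀ i : Idx β, Spec (A.presheaf.obj (op i.U)) ⟶ E := fun i => A.ι i.U i.hU ≫ f₀
  have hc : ∀ i, c i ≫ (RelCone.pointedProjCone 𝒮 hz pC chartC).ι =
      coneMap hz hS A j' chartC i.hU i.hd := fun i => by
    simp only [c, Category.assoc, hf₀]
    exact hf i
  haveI hci : ∀ i, IsOpenImmersion (c i) := fun i => by
    obtain ⟨h, -⟩ := opensRange_coneMap (pC := pC) (chartC := chartC) hS hA i.hU i.hd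
    have : IsOpenImmersion (c i ≫ (RelCone.pointedProjCone 𝒮 hz pC chartC).ι) := by rw [hc i]; exact h
    exact IsOpenImmersion.of_comp (c i) (RelCone.pointedProjCone 𝒮 hz pC chartC).ι
  have hmem : ∀ (i : Idx β) (v : E), v ∈ Set.range (c i).base ↔
      pC.base ((RelCone.pointedProjCone 𝒮 hz pC chartC).ι.base v) ∈ i.U := by
    intro i v
    constructor
    · rintro ⟨y, rfl⟩
      exact ((hrange i).le ⟨y, (congr($(hc i).base y)).symm⟩).2
    · intro hv
      obtain ⟨y, hy⟩ := (hrange i).ge ⟨v.2, hv⟩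
      exact ⟨y, (RelCone.pointedProjCone 𝒮 hz pC chartC).ι.isOpenEmbedding.injective
        ((congr($(hc i).base y)).trans hy)⟩
  have hcovE : ∀ v : E, ∃ i, v ∈ Set.range (c i).base := fun v => by
    obtain ⟨U, a, b, hU, hy, hd⟩ := hcov (pC.base ((RelCone.pointedProjCone 𝒮 hz pC chartC).ι.base v))
    exact ⟨⟨U, hU, a, b, hd⟩, (hmem _ v).2 hy⟩
  have hiso : IsIso f₀ := by
    refine IsZariskiLocalAtTarget.of_openCover (P := MorphismProperty.isomorphisms Scheme)
      (Groth.Ega2P2.famCover _ c hcovE) fun i => ?_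
    have hp : IsPullback (𝟙 _) (A.ι i.U i.hU) (c i) f₀ := by
      refine IsOpenImmersion.isPullback _ _ _ _ (by simp [c]) ?_
      ext x
      change f₀.base x ∈ Set.range (c i).base ↔ x ∈ Set.range (A.ι i.U i.hU).base
      rw [hmem i]
      have e : pC.base ((RelCone.pointedProjCone 𝒮 hz pC chartC).ι.base (f₀.base x)) = A.π.base x := by
        rw [← hfp, ← hf₀]; rfl
      rw [e]
      refine ⟨fun h => (specCharts A).mem_range i.hU h, ?_⟩
      rintro ⟨y, rfl⟩
      exact (specCharts A).map_mem i.hU y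
    change IsIso (Limits.pullback.snd f₀ (c i))
    rw [← hp.flip.isoPullback_inv_snd]
    infer_instance
  exact ⟨asIso f₀, by rw [asIso_hom, ← Category.assoc, hf₀, hfp]⟩

end Groth.Ega2Proj.LineEx
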