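import Groth.Agent.Ega2Proj.Generators
import Mathlib.AlgebraicGeometry.ProjectiveSpectrum.Functor
import Mathlib.AlgebraicGeometry.Morphisms.ClosedImmersion

/-!
# Charts of `Proj.map`
-/

universe u

open CategoryTheory AlgebraicGeometry DirectSum

namespace Groth.Ega2Proj

variable {A B σ τ : Type u} [CommRing A] [SetLike σ A] [AddSubgroupClass σ A]
  [CommRing B] [SetLike τ B] [AddSubgroupClass τ B]
  {𝒜 : ℕ → σ} {ℬ : ℕ → τ} [GradedRing 𝒜] [GradedRing ℬ]
  (φ : 𝒜 →+*ᵍ ℬ) (hφ : HomogeneousIdeal.irrelevant ℬ ≤ (HomogeneousIdeal.irrelevant 𝒜).map φ)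

/-- The square of standard charts of `Proj.map φ` is cartesian. -/
theorem isPullback_awayι_map {d : ℕ} (hd : 0 < d) {f : A} (hf : f ∈ 𝒜 d) :
    IsPullback (Spec.map (CommRingCat.ofHom (HomogeneousLocalization.Away.map φ f)))
      (Proj.awayι ℬ (φ f) (φ.2 hf) hd) (Proj.awayι 𝒜 f hf hd) (Proj.map φ hφ) := by
  refine IsOpenImmersion.isPullback _ _ _ _ (Proj.awayι_comp_map φ hφ hd f hf) ?_
  rw [Proj.opensRange_awayι, Proj.opensRange_awayι, Proj.map_preimage_basicOpen]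

/-- A property local on the target holds for `Proj.map φ` if it holds for the maps of standard charts. -/
theorem proj_map_of_charts (P : MorphismProperty Scheme.{u}) [IsZariskiLocalAtTarget P]
    (h : ∀ (d : ℕ) (f : A), 0 < d → f ∈ 𝒜 d →
      P (Spec.map (CommRingCat.ofHom (HomogeneousLocalization.Away.map φ f)))) :
    P (Proj.map φ hφ) := by
  refine IsZariskiLocalAtTarget.of_openCover (Proj.affineOpenCover 𝒜).openCover fun s => ?_
  have hpb := isPullback_awayι_map φ hφ s.1.2 s.2.2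
  have h1 := h _ _ s.1.2 s.2.2
  rw [← hpb.flip.isoPullback_hom_snd, MorphismProperty.cancel_left_of_respectsIso P] at h1
  exact h1

theorem awayMap_surjective (hsurj : Function.Surjective φ) {d : ℕ} {f : A} (hf : f ∈ 𝒜 d) :
    Function.Surjective (HomogeneousLocalization.Away.map φ f) := by
  classical
  intro y
  obtain ⟨n, b, hb, rfl⟩ := HomogeneousLocalization.Away.mk_surjective ℬ (φ.2 hf) y
  obtain ⟨a, rfl⟩ := hsurj b
  refine ⟨HomogeneousLocalization.Away.mk 𝒜 hf n (decompose 𝒜 a (n • d) : A) (SetLike.coe_mem _), ?_⟩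
  rw [HomogeneousLocalization.Away.map_mk]
  ext
  simp only [HomogeneousLocalization.Away.val_mk]
  congr 1
  rw [GradedRingHom.map_directSumDecompose, decompose_of_mem_same ℬ hb]

theorem proj_map_isClosedImmersion_of_surjective (hsurj : Function.Surjective φ) :
    IsClosedImmersion (Proj.map φ hφ) :=
  proj_map_of_charts φ hφ @IsClosedImmersion fun _ _ _ hf =>
    IsClosedImmersion.spec_of_surjective _ (awayMap_surjective φ hsurj hf)

theorem proj_map_isAffineHom : IsAffineHom (Proj.map φ hφ) := by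
  refine isAffineHom_of_forall_exists_isAffineOpen _ fun x => ?_
  obtain ⟨s, y, rfl⟩ := (Proj.affineOpenCover 𝒜).openCover.exists_eq x
  refine ⟨Proj.basicOpen 𝒜 (s.2 : A), ?_, Proj.isAffineOpen_basicOpen 𝒜 _ s.2.2 s.1.2, ?_⟩
  · rw [← Proj.opensRange_awayι 𝒜 _ s.2.2 s.1.2]
    exact ⟨y, rfl⟩
  · rw [Proj.map_preimage_basicOpen]
    exact Proj.isAffineOpen_basicOpen ℬ _ (φ.2 s.2.2) s.1.2

theorem proj_map_denseRange (hker : ∀ a : A, φ a = 0 → IsNilpotent a) :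
    DenseRange (Proj.map φ hφ).base := by
  rw [DenseRange, (Proj.isBasis_basicOpen 𝒜).dense_iff]
  rintro U ⟨_, ⟨f, rfl⟩, rfl⟩ ⟨x, hx⟩
  obtain ⟨d, hd, a, ha, hxa, hle⟩ : ∃ (d : ℕ) (_ : 0 < d) (a : A), a ∈ 𝒜 d ∧
      a ∉ x.asHomogeneousIdeal ∧ Proj.basicOpen 𝒜 a ≤ Proj.basicOpen 𝒜 f := by
    rw [Proj.basicOpen_eq_iSup_proj] at hx
    obtain ⟨i, hi⟩ := TopologicalSpace.Opens.mem_iSup.mp hx
    obtain ⟨j, hj, hb⟩ := exists_pos_deg_notMem x
    obtain ⟨b, hbm, hbx⟩ := hb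
    refine ⟨i + j, by omega, GradedRing.proj 𝒜 i f * b,
      SetLike.mul_mem_graded (by rw [GradedRing.proj_apply]; exact SetLike.coe_mem _) hbm,
      fun hh => (x.isPrime.mem_or_mem hh).elim hi hbx, ?_⟩
    rw [Proj.basicOpen_eq_iSup_proj 𝒜 f, Proj.basicOpen_mul]
    exact le_trans inf_le_left (le_iSup (fun i => Proj.basicOpen 𝒜 (GradedRing.proj 𝒜 i f)) i)
  have hnil : ¬ IsNilpotent (φ a) := by
    rintro ⟨k, hk⟩
    rw [← map_pow] at hk
    obtain ⟨m, hm⟩ := hker _ hk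
    rw [← pow_mul] at hm
    exact hxa (x.isPrime.mem_of_pow_mem (k * m) (by rw [hm]; exact zero_mem _))
  obtain ⟨y, hy⟩ := exists_point_of_not_isNilpotent ℬ hd (φ.2 ha) hnil
  exact ⟨_, hle hy, y, rfl⟩
where
  exists_pos_deg_notMem (x : ProjectiveSpectrum 𝒜) : ∃ j, 0 < j ∧ ∃ b ∈ 𝒜 j, b ∉ x.asHomogeneousIdeal := by
    by_contra! h
    exact x.not_irrelevant_le fun z hz => irrelevant_le_ideal 𝒜 (fun d hd a ha => h d hd a ha) hz

theorem away_isReduced (hred : ∀ f ∈ (HomogeneousIdeal.irrelevant 𝒜).toIdeal, IsNilpotent f → f = 0)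
    {d : ℕ} (hd : 0 < d) {f : A} (hf : f ∈ 𝒜 d) :
    _root_.IsReduced (HomogeneousLocalization.Away 𝒜 f) := by
  refine ⟨fun z ⟨k, hk⟩ => ?_⟩
  obtain ⟨n, a, ha, rfl⟩ := HomogeneousLocalization.Away.mk_surjective 𝒜 hf z
  ext
  have h := congrArg HomogeneousLocalization.val hk
  simp only [HomogeneousLocalization.val_pow, HomogeneousLocalization.Away.val_mk,
    HomogeneousLocalization.val_zero, Localization.mk_eq_mk'] at h ⊢
  rw [← IsLocalization.mk'_pow, IsLocalization.mk'_eq_zero_iff] at h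
  rw [IsLocalization.mk'_eq_zero_iff]
  obtain ⟨⟨_, m, rfl⟩, hm⟩ := h
  refine ⟨⟨f, 1, pow_one f⟩, hred _
    (Ideal.mul_mem_right _ _ (HomogeneousIdeal.mem_irrelevant_of_mem 𝒜 hd hf)) ⟨k + m, ?_⟩⟩
  change (f * a) ^ (k + m) = 0
  change f ^ m * a ^ k = 0 at hm
  rw [mul_pow, pow_add, pow_add a,
    show f ^ k * f ^ m * (a ^ k * a ^ m) = f ^ k * a ^ m * (f ^ m * a ^ k) by ring, hm, mul_zero]

end Groth.Ega2Proj
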