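/-
Determinants of endomorphisms preserving a lattice preserve a finitely generated module of the field.
-/
import Groth.Agent.Chow.NormInt

set_option autoImplicit false
universe u v w

open Module

namespace Groth.Ega2Proj.NormModel

variable {A : Type u} {K : Type v} {V : Type w} [CommRing A] [Field K] [AddCommGroup V] [Module K V]
  [Algebra A K] [Module A V] [IsScalarTower A K V] [FiniteDimensional K V] [Nontrivial V]

theorem exists_fg_stable {k : ℕ} (v : Fin k → V) (hv : Submodule.span K (Set.range v) = ⊤) :
    ∃ (I : Submodule A K) (x : K), I.FG ∧ x ∈ I ∧ x ≠ 0 ∧ ∀ f : V →ₗ[K] V,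
      (∀ i, f (v i) ∈ Submodule.span A (Set.range v)) → ∀ y ∈ I, LinearMap.det f * y ∈ I := by
  classical
  let n := finrank K V
  let β : Basis (Fin n) K V := finBasis K V
  let w : (Fin n → Fin k) → K := fun σ => β.det fun j => v (σ j)
  let I : Submodule A K := Submodule.span A (Set.range w)
  obtain ⟨σ, hσ⟩ : ∃ σ, w σ ≠ 0 := by
    obtain ⟨b, hbv, hsp, hli⟩ := exists_linearIndependent K (Set.range v)
    rw [hv] at hsp
    let bb : Basis b K V := Basis.mk hli (by rw [Subtype.range_coe]; exact hsp.ge)
    haveI : Fintype b := FiniteDimensional.fintypeBasisIndex bb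
    let e : Fin n ≃ b := (Fintype.equivFinOfCardEq (finrank_eq_card_basis bb).symm).symm
    choose σ hσ using fun j => hbv (e j).2
    refine ⟨σ, ?_⟩
    change β.det (fun j => v (σ j)) ≠ 0
    have : (fun j => v (σ j)) = bb.reindex e.symm := funext fun j => by simp [bb, hσ]
    rw [this]
    exact IsUnit.ne_zero (β.isUnit_det (bb.reindex e.symm))
  refine ⟨I, w σ, Submodule.fg_span (Set.finite_range w), Submodule.subset_span ⟨σ, rfl⟩, hσ,
    fun f hf y hy => ?_⟩
  choose m hmv using fun i => (Submodule.mem_span_range_iff_exists_fun A).1 (hf i)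
  induction hy using Submodule.span_induction with
  | mem x hx =>
    obtain ⟨σ, rfl⟩ := hx
    change LinearMap.det f * β.det (fun j => v (σ j)) ∈ _
    rw [← β.det_comp f]
    have e : (f ∘ fun j => v (σ j)) = fun j => ∑ i, m (σ j) i • v i := by
      funext j
      rw [Function.comp_apply, hmv (σ j)]
    rw [e]
    change ((β.det.toMultilinearMap.restrictScalars A) fun j => ∑ i, m (σ j) i • v i) ∈ _
    rw [MultilinearMap.map_sum]
    refine sum_mem fun τ _ => ?_
    rw [MultilinearMap.map_smul_univ]
    exact Submodule.smul_mem _ _ (Submodule.subset_span ⟨τ, rfl⟩)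
  | zero => rw [mul_zero]; exact zero_mem _
  | add x y _ _ hx hy => rw [mul_add]; exact add_mem hx hy
  | smul a x _ hx => rw [mul_smul_comm]; exact Submodule.smul_mem _ a hx

/-- The multipliers of a submodule of an algebra. -/
def stab {A K : Type*} [CommRing A] [CommRing K] [Algebra A K] (I : Submodule A K) : Subalgebra A K where
  carrier := {a | ∀ y ∈ I, a * y ∈ I}
  mul_mem' {a b} ha hb y hy := by rw [mul_assoc]; exact ha _ (hb y hy)
  one_mem' y hy := by rw [one_mul]; exact hy
  add_mem' {a b} ha hb y hy := by rw [add_mul]; exact add_mem (ha y hy) (hb y hy)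
  zero_mem' y hy := by rw [zero_mul]; exact zero_mem _
  algebraMap_mem' r y hy := by rw [← Algebra.smul_def]; exact Submodule.smul_mem _ r hy

theorem isNoetherian_stab [IsNoetherianRing A] (I : Submodule A K) (hI : I.FG) {x : K} (hx : x ∈ I)
    (hx0 : x ≠ 0) : IsNoetherian A (stab I) := by
  haveI : Module.Finite A I := Module.Finite.iff_fg.2 hI
  let φ : stab I →ₗ[A] I :=
    { toFun := fun a => ⟨(a : K) * x, a.2 x hx⟩
      map_add' := fun a b => Subtype.ext (add_mul _ _ _)
      map_smul' := fun r a => Subtype.ext (smul_mul_assoc r (a : K) x) }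
  exact isNoetherian_of_injective φ fun a b h =>
    Subtype.ext (mul_right_cancel₀ hx0 (congrArg (fun z : I => (z : K)) h))

end Groth.Ega2Proj.NormModel
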