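/-
The rings generated by the norms along a finite surjective morphism to a reduced Noetherian scheme,
inside the products of the local rings at generic points (EGA II 6.6).
-/
import Groth.Agent.Chow.NormRestrict
import Groth.Agent.Ega2Proj.NormLattice

set_option autoImplicit false

universe u

open CategoryTheory AlgebraicGeometry Opposite TopologicalSpace

set_option backward.isDefEq.respectTransparency.types false

noncomputable section

namespace Groth.Ega2Proj.NormModel

open Groth.PicAux Groth.Chow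

variable {X' X : Scheme.{u}} (g : X' ⟶ X) [IsNoetherian X]

/-- The generic points inside an open. -/
abbrev GenPt (U : X.Opens) : Type u := {η : X // IsGen η ∧ η ∈ U}

/-- The product of the local rings at the generic points inside an open. -/
abbrev Bs (U : X.Opens) : Type u := ∀ η : GenPt U, X.presheaf.stalk η.1

/-- The common multiple of the generic ranks. -/
def deg : ℕ := ∏ η ∈ (finite_isGen (X := X)).toFinset, rk g η

theorem rk_dvd {η : X} (hη : IsGen η) : rk g η ∣ deg g :=
  Finset.dvd_prod_of_mem _ ((finite_isGen (X := X)).mem_toFinset.2 hη)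

/-- Restriction. -/
def resB {U V : X.Opens} (h : V ≤ U) : Bs U →+* Bs V :=
  Pi.ringHom fun η => Pi.evalRingHom _ (⟨η.1, η.2.1, h η.2.2⟩ : GenPt U)

/-- The germs at the generic points. -/
def evB (U : X.Opens) : Γ(X, U) →+* Bs U :=
  Pi.ringHom fun η => (X.presheaf.germ U η.1 η.2.2).hom

/-- The generic norm powers. -/
def nB (U : X.Opens) : Γ(X', g ⁻¹ᵁ U) →* Bs U :=
  Pi.monoidHom fun η => (powMonoidHom (deg g / rk g η.1)).comp
    ((Algebra.norm (X.presheaf.stalk η.1)).comp (pgerm g U η.1 η.2.2).toMonoidHom)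

theorem evB_apply {U : X.Opens} (r : Γ(X, U)) (η : GenPt U) :
    evB U r η = X.presheaf.germ U η.1 η.2.2 r := rfl

theorem nB_apply {U : X.Opens} (c : Γ(X', g ⁻¹ᵁ U)) (η : GenPt U) :
    nB g U c η = Algebra.norm (X.presheaf.stalk η.1) (pgerm g U η.1 η.2.2 c) ^ (deg g / rk g η.1) := rfl

theorem resB_evB {U V : X.Opens} (h : V ≤ U) (r : Γ(X, U)) : resB h (evB U r) = evB V (resX X h r) :=
  funext fun η => (germ_resX h η.2.2 r).symm

theorem resB_nB {U V : X.Opens} (h : V ≤ U) (c : Γ(X', g ⁻¹ᵁ U)) :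
    resB h (nB g U c) = nB g V (resX X' (g.preimage_mono h) c) := funext fun η => by
  rw [nB_apply, pgerm_res g h η.2.2]
  rfl

theorem evB_injective [IsReduced X] (U : X.Opens) : Function.Injective (evB U) := fun r r' h =>
  section_ext_gen fun η hη hηU => congrFun h ⟨η, hη, hηU⟩

/-- The ring generated by functions and norms. -/
def ringA (U : X.Opens) : Subring (Bs U) :=
  Subring.closure (Set.range (evB U) ∪ Set.range (nB g U))

/-- The structure map. -/
def evA (U : X.Opens) : Γ(X, U) →+* ringA g U :=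
  (evB U).codRestrict _ fun r => Subring.subset_closure (Or.inl ⟨r, rfl⟩)

/-- The norms. -/
def nA (U : X.Opens) : Γ(X', g ⁻¹ᵁ U) →* ringA g U :=
  (nB g U).codRestrict _ fun c => Subring.subset_closure (Or.inr ⟨c, rfl⟩)

theorem resB_mem {U V : X.Opens} (h : V ≤ U) (x : Bs U) (hx : x ∈ ringA g U) : resB h x ∈ ringA g V := by
  induction hx using Subring.closure_induction with
  | mem x hx =>
    rcases hx with ⟨r, rfl⟩ | ⟨c, rfl⟩
    · rw [resB_evB]; exact Subring.subset_closure (Or.inl ⟨_, rfl⟩)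
    · rw [resB_nB]; exact Subring.subset_closure (Or.inr ⟨_, rfl⟩)
  | zero => rw [map_zero]; exact zero_mem _
  | one => rw [map_one]; exact one_mem _
  | add x y _ _ hx hy => rw [map_add]; exact add_mem hx hy
  | neg x _ hx => rw [map_neg]; exact neg_mem hx
  | mul x y _ _ hx hy => rw [map_mul]; exact mul_mem hx hy

/-- Restriction of the rings generated by norms. -/
def resA {U V : X.Opens} (h : V ≤ U) : ringA g U →+* ringA g V :=
  ((resB h).comp (ringA g U).subtype).codRestrict _ fun x => resB_mem g h x.1 x.2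

theorem resA_evA {U V : X.Opens} (h : V ≤ U) (r : Γ(X, U)) : resA g h (evA g U r) = evA g V (resX X h r) :=
  Subtype.ext (resB_evB h r)

theorem resA_nA {U V : X.Opens} (h : V ≤ U) (c : Γ(X', g ⁻¹ᵁ U)) :
    resA g h (nA g U c) = nA g V (resX X' (g.preimage_mono h) c) :=
  Subtype.ext (resB_nB g h c)

variable [IsReduced X]

theorem evA_injective (U : X.Opens) : Function.Injective (evA g U) := fun _ _ h =>
  evB_injective U (congrArg Subtype.val h)

theorem isReduced_ringA (U : X.Opens) : _root_.IsReduced (ringA g U) := by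
  haveI : ∀ η : GenPt U, _root_.IsReduced (X.presheaf.stalk η.1) := fun η => inferInstance
  exact isReduced_of_injective (ringA g U).subtype Subtype.val_injective

theorem nA_app [IsFinite g] [Surjective g] (U : X.Opens) (a : Γ(X, U)) :
    nA g U (g.app U a) = evA g U a ^ deg g := by
  refine Subtype.ext (funext fun η => ?_)
  change nB g U (g.app U a) η = (evB U a η) ^ deg g
  rw [nB_apply, pgerm_app, norm_pstalk_algebraMap g η.2.1, ← pow_mul, Nat.mul_div_cancel' (rk_dvd g η.2.1)]
  rfl

theorem deg_pos [IsFinite g] [Surjective g] : 0 < deg g :=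
  Finset.prod_pos fun η hη => rk_pos g ((finite_isGen (X := X)).mem_toFinset.1 hη)

theorem exp_pos [IsFinite g] [Surjective g] {η : X} (hη : IsGen η) : 0 < deg g / rk g η :=
  Nat.div_pos (Nat.le_of_dvd (deg_pos g) (rk_dvd g hη)) (rk_pos g hη)

section lattice

variable [IsFinite g] [Surjective g] {U : X.Opens} (hU : IsAffineOpen U)

include hU in
/-- The lattice of sections at a generic point. -/
theorem exists_lattice (η : GenPt U) :
    letI : Algebra Γ(X, U) (X.presheaf.stalk η.1) := (X.presheaf.germ U η.1 η.2.2).hom.toAlgebra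
    letI : Module Γ(X, U) (PStalk g η.1) :=
      Module.compHom _ (algebraMap Γ(X, U) (X.presheaf.stalk η.1))
    ∃ (k : ℕ) (v : Fin k → PStalk g η.1), Submodule.span (X.presheaf.stalk η.1) (Set.range v) = ⊤ ∧
      (∀ (s : Γ(X', g ⁻¹ᵁ U)) (i : Fin k),
        pgerm g U η.1 η.2.2 s * v i ∈ Submodule.span Γ(X, U) (Set.range v)) ∧
      ∀ (J : Ideal Γ(X, U)) (s : Γ(X', g ⁻¹ᵁ U)), s ∈ J.map (g.app U).hom → ∀ i : Fin k,
        pgerm g U η.1 η.2.2 s * v i ∈ J • Submodule.span Γ(X, U) (Set.range v) := by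
  letI : Algebra Γ(X, U) (X.presheaf.stalk η.1) := (X.presheaf.germ U η.1 η.2.2).hom.toAlgebra
  letI : Module Γ(X, U) (PStalk g η.1) :=
    Module.compHom _ (algebraMap Γ(X, U) (X.presheaf.stalk η.1))
  haveI : IsScalarTower Γ(X, U) (X.presheaf.stalk η.1) (PStalk g η.1) :=
    IsScalarTower.of_algebraMap_smul fun _ _ => rfl
  letI := secAlg g U
  haveI : Module.Finite Γ(X, U) Γ(X', g ⁻¹ᵁ U) := g.finite_app U hU
  obtain ⟨k, b, hb⟩ := Module.Finite.exists_fin (R := Γ(X, U)) (M := Γ(X', g ⁻¹ᵁ U))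
  let v : Fin k → PStalk g η.1 := fun i => pgerm g U η.1 η.2.2 (b i)
  have happ : ∀ (a : Γ(X, U)) (s : Γ(X', g ⁻¹ᵁ U)),
      pgerm g U η.1 η.2.2 (g.app U a * s) = a • pgerm g U η.1 η.2.2 s := fun a s => by
    rw [map_mul, pgerm_app, ← Algebra.smul_def]
    rfl
  have hmem : ∀ s : Γ(X', g ⁻¹ᵁ U), pgerm g U η.1 η.2.2 s ∈ Submodule.span Γ(X, U) (Set.range v) := by
    intro s
    have hs : s ∈ Submodule.span Γ(X, U) (Set.range b) := hb ▸ trivial
    induction hs using Submodule.span_induction with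
    | mem x hx => obtain ⟨i, rfl⟩ := hx; exact Submodule.subset_span ⟨i, rfl⟩
    | zero => rw [map_zero]; exact zero_mem _
    | add x y _ _ hx hy => rw [map_add]; exact add_mem hx hy
    | smul a x _ hx =>
      rw [Algebra.smul_def]
      change pgerm g U η.1 η.2.2 (g.app U a * x) ∈ _
      rw [happ]
      exact Submodule.smul_mem _ _ hx
  obtain ⟨k', b', hb'⟩ := exists_span_pgerm g hU
  refine ⟨k, v, eq_top_iff.2 ?_, fun s i => ?_, fun J s hs i => ?_⟩
  · rw [← hb' η.1 η.2.2, Submodule.span_le]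
    rintro _ ⟨i, rfl⟩
    exact Submodule.span_le_restrictScalars Γ(X, U) (X.presheaf.stalk η.1) _ (hmem (b' i))
  · rw [← map_mul]; exact hmem _
  · rw [← map_mul]
    have key : ∀ t ∈ J.map (g.app U).hom,
        pgerm g U η.1 η.2.2 t ∈ J • Submodule.span Γ(X, U) (Set.range v) := by
      intro t ht
      rw [Ideal.map] at ht
      suffices h : ∀ y, pgerm g U η.1 η.2.2 (t * y) ∈ J • Submodule.span Γ(X, U) (Set.range v) by
        simpa using h 1
      induction ht using Submodule.span_induction with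
      | mem x hx =>
        obtain ⟨a, ha, rfl⟩ := hx
        intro y
        rw [happ]
        exact Submodule.smul_mem_smul ha (hmem y)
      | zero => intro y; rw [zero_mul, map_zero]; exact zero_mem _
      | add x y _ _ hx hy => intro z; rw [add_mul, map_add]; exact add_mem (hx z) (hy z)
      | smul a x _ hx => intro y; rw [smul_eq_mul, mul_comm a x, mul_assoc]; exact hx _
    exact key _ (Ideal.mul_mem_right _ _ hs)

include hU in
/-- The ring generated by norms over an affine open is finite. -/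
theorem finite_evA : (evA g U).Finite := by
  haveI : IsNoetherianRing Γ(X, U) := IsLocallyNoetherian.component_noetherian ⟨U, hU⟩
  haveI : Finite (GenPt U) := ((finite_isGen (X := X)).subset fun η (h : IsGen η ∧ η ∈ U) => h.1).to_subtype
  letI algS : ∀ η : GenPt U, Algebra Γ(X, U) (X.presheaf.stalk η.1) :=
    fun η => (X.presheaf.germ U η.1 η.2.2).hom.toAlgebra
  have hstab : ∀ η : GenPt U, ∃ T : Subalgebra Γ(X, U) (X.presheaf.stalk η.1),
      IsNoetherian Γ(X, U) T ∧ ∀ c, nB g U c η ∈ T := by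
    intro η
    letI : Module Γ(X, U) (PStalk g η.1) :=
      Module.compHom _ (algebraMap Γ(X, U) (X.presheaf.stalk η.1))
    haveI : IsScalarTower Γ(X, U) (X.presheaf.stalk η.1) (PStalk g η.1) :=
      IsScalarTower.of_algebraMap_smul fun _ _ => rfl
    obtain ⟨k, v, hv, hpres, -⟩ := exists_lattice g hU η
    letI := (isField_stalk_gen η.2.1).toField
    haveI := nontrivial_pstalk g η.1
    obtain ⟨I, x, hI, hx, hx0, hdet⟩ := exists_fg_stable (A := Γ(X, U)) v hv
    refine ⟨stab I, isNoetherian_stab I hI hx hx0, fun c => ?_⟩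
    rw [nB_apply]
    exact pow_mem (fun y hy => by
      rw [Algebra.norm_apply]
      exact hdet _ (fun i => hpres c i) y hy) _
  choose T hT hTn using hstab
  letI : Algebra Γ(X, U) (ringA g U) := (evA g U).toAlgebra
  have hmem : ∀ x ∈ ringA g U, ∀ η, x η ∈ T η := by
    intro x hx
    induction hx using Subring.closure_induction with
    | mem x hx =>
      rcases hx with ⟨r, rfl⟩ | ⟨c, rfl⟩
      · exact fun η => (T η).algebraMap_mem r
      · exact fun η => hTn η c
    | zero => exact fun η => zero_mem _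
    | one => exact fun η => one_mem _
    | add x y _ _ hx hy => exact fun η => add_mem (hx η) (hy η)
    | neg x _ hx => exact fun η => neg_mem (hx η)
    | mul x y _ _ hx hy => exact fun η => mul_mem (hx η) (hy η)
  let φ : ringA g U →ₗ[Γ(X, U)] (∀ η : GenPt U, T η) :=
    { toFun := fun x η => ⟨x.1 η, hmem x.1 x.2 η⟩
      map_add' := fun a b => rfl
      map_smul' := fun r a => rfl }
  haveI : IsNoetherian Γ(X, U) (∀ η : GenPt U, T η) := isNoetherian_pi
  haveI := isNoetherian_of_injective φ fun a b h =>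
    Subtype.ext (funext fun η => congrArg (fun z : T η => (z : X.presheaf.stalk η.1)) (congrFun h η))
  exact (inferInstance : Module.Finite Γ(X, U) (ringA g U))

include hU in
/-- A norm vanishes where the function vanishes on the whole fibre. -/
theorem nA_mem_of_forall_mem {c : Γ(X', g ⁻¹ᵁ U)} {q : Ideal Γ(X, U)} (P : Ideal (ringA g U))
    [hP : P.IsPrime] (hPq : P.comap (evA g U) = q)
    (hc : ∀ Q : Ideal Γ(X', g ⁻¹ᵁ U), Q.IsPrime → Q.comap (g.app U).hom = q → c ∈ Q) :
    nA g U c ∈ P := by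
  classical
  have hq : q.IsPrime := hPq ▸ Ideal.comap_isPrime _ P
  obtain ⟨u, hu, m, huc⟩ : ∃ u, u ∉ q ∧ ∃ m : ℕ, g.app U u * c ^ m ∈ q.map (g.app U).hom := by
    by_contra! h
    let M : Submonoid Γ(X', g ⁻¹ᵁ U) :=
      Submonoid.map (g.app U).hom q.primeCompl ⊔ Submonoid.powers c
    have hdisj : Disjoint ((q.map (g.app U).hom : Ideal Γ(X', g ⁻¹ᵁ U)) : Set Γ(X', g ⁻¹ᵁ U)) M := by
      rw [Set.disjoint_left]
      intro x hx hxM
      obtain ⟨_, ⟨u, hu, rfl⟩, _, ⟨m, rfl⟩, rfl⟩ := Submonoid.mem_sup.1 hxM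
      exact h u hu m hx
    obtain ⟨Q, hQ, hle, hQM⟩ := Ideal.exists_le_prime_disjoint _ M hdisj
    have hQq : Q.comap (g.app U).hom = q := by
      refine le_antisymm (fun r hr => ?_) (Ideal.map_le_iff_le_comap.1 hle)
      by_contra hrq
      exact Set.disjoint_left.1 hQM hr (Submonoid.mem_sup_left ⟨r, hrq, rfl⟩)
    exact Set.disjoint_left.1 hQM (hc Q hQ hQq) (Submonoid.mem_sup_right ⟨1, pow_one c⟩)
  set w := g.app U u * c ^ m
  haveI : Finite (GenPt U) := ((finite_isGen (X := X)).subset fun η (h : IsGen η ∧ η ∈ U) => h.1).to_subtype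
  haveI := Fintype.ofFinite (GenPt U)
  have hpoly : ∀ η : GenPt U, ∃ P : Polynomial Γ(X, U), P.Monic ∧
      P.eval₂ (X.presheaf.germ U η.1 η.2.2).hom (nB g U w η) = 0 ∧ ∀ i < P.natDegree, P.coeff i ∈ q := by
    intro η
    letI : Algebra Γ(X, U) (X.presheaf.stalk η.1) := (X.presheaf.germ U η.1 η.2.2).hom.toAlgebra
    letI : Module Γ(X, U) (PStalk g η.1) :=
      Module.compHom _ (algebraMap Γ(X, U) (X.presheaf.stalk η.1))
    haveI : IsScalarTower Γ(X, U) (X.presheaf.stalk η.1) (PStalk g η.1) :=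
      IsScalarTower.of_algebraMap_smul fun _ _ => rfl
    obtain ⟨k, v, hv, -, hJ⟩ := exists_lattice g hU η
    letI := (isField_stalk_gen η.2.1).toField
    haveI := nontrivial_pstalk g η.1
    obtain ⟨P, hP1, hP2, hP3⟩ := exists_monic_det_of_lattice (A := Γ(X, U)) v hv q
      (Algebra.lmul (X.presheaf.stalk η.1) (PStalk g η.1)
        (pgerm g U η.1 η.2.2 (w ^ (deg g / rk g η.1))))
      (fun i => hJ q _ (Ideal.pow_mem_of_mem _ huc _ (exp_pos g η.2.1)) i)
    refine ⟨P, hP1, ?_, hP3⟩
    rw [← Algebra.norm_apply, map_pow, map_pow] at hP2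
    exact hP2
  choose p hp1 hp2 hp3 using hpoly
  let P1 := ∏ η, p η
  have h0 : Polynomial.eval₂ (evA g U) (nA g U w) P1 = 0 := by
    refine Subtype.ext (funext fun η => ?_)
    have : (Polynomial.eval₂ (evA g U) (nA g U w) P1).1 η =
        Polynomial.eval₂ (X.presheaf.germ U η.1 η.2.2).hom (nB g U w η) P1 :=
      Polynomial.hom_eval₂ P1 (evA g U) ((Pi.evalRingHom _ η).comp (ringA g U).subtype) (nA g U w)
    rw [this, Polynomial.eval₂_finsetProd]
    exact Finset.prod_eq_zero (Finset.mem_univ η) (hp2 η)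
  let π := Ideal.Quotient.mk P
  let σ : Γ(X, U) ⧸ q →+* ringA g U ⧸ P :=
    Ideal.Quotient.lift q (π.comp (evA g U)) fun r hr => Ideal.Quotient.eq_zero_iff_mem.2
      (show r ∈ P.comap (evA g U) from hPq.symm ▸ hr)
  have hred : P1.map (Ideal.Quotient.mk q) = Polynomial.X ^ (∑ η, (p η).natDegree) := by
    rw [Polynomial.map_prod, ← Finset.prod_pow_eq_pow_sum]
    refine Finset.prod_congr rfl fun η _ => Polynomial.ext fun i => ?_
    rw [Polynomial.coeff_map, Polynomial.coeff_X_pow]
    rcases lt_trichotomy i (p η).natDegree with hi | hi | hi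
    · rw [if_neg hi.ne]; exact Ideal.Quotient.eq_zero_iff_mem.2 (hp3 η i hi)
    · rw [if_pos hi, hi, (hp1 η).coeff_natDegree, map_one]
    · rw [if_neg hi.ne', Polynomial.coeff_eq_zero_of_natDegree_lt hi, map_zero]
  have hw : nA g U w ∈ P := by
    have h1 : π (nA g U w) ^ (∑ η, (p η).natDegree) = 0 := by
      have h2 := congrArg π h0
      rw [map_zero, Polynomial.hom_eval₂, show π.comp (evA g U) = σ.comp (Ideal.Quotient.mk q) from
        RingHom.ext fun r => rfl, ← Polynomial.eval₂_map, hred, Polynomial.eval₂_X_pow] at h2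
      exact h2
    rw [← map_pow] at h1
    exact hP.mem_of_pow_mem _ (Ideal.Quotient.eq_zero_iff_mem.1 h1)
  rw [map_mul, map_pow, nA_app] at hw
  rcases hP.mem_or_mem hw with h | h
  · exact absurd (hPq ▸ (hP.mem_of_pow_mem _ h : evA g U u ∈ P)) hu
  · exact hP.mem_of_pow_mem _ h

include hU in
/-- The rings generated by norms localize. -/
theorem isLocalization_resA (f : Γ(X, U)) :
    letI := (resA g (X.basicOpen_le f)).toAlgebra
    IsLocalization.Away (evA g U f) (ringA g (X.basicOpen f)) := by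
  letI := (resA g (X.basicOpen_le f)).toAlgebra
  have hu : IsUnit (evA g (X.basicOpen f) (resX X (X.basicOpen_le f) f)) :=
    (RingedSpace.isUnit_res_basicOpen _ f).map _
  have hev : algebraMap (ringA g U) (ringA g (X.basicOpen f)) (evA g U f) =
      evA g (X.basicOpen f) (resX X (X.basicOpen_le f) f) := resA_evA g _ f
  have hsurj : ∀ (x : Bs (X.basicOpen f)) (_ : x ∈ ringA g (X.basicOpen f)), ∃ (n : ℕ) (a : ringA g U),
      x * evB (X.basicOpen f) (resX X (X.basicOpen_le f) f) ^ n = resB (X.basicOpen_le f) a.1 := by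
    intro x hx
    induction hx using Subring.closure_induction with
    | mem x hx =>
      rcases hx with ⟨r, rfl⟩ | ⟨c, rfl⟩
      · let _ : Algebra Γ(X, U) Γ(X, X.basicOpen f) := (resX X (X.basicOpen_le f)).toAlgebra
        haveI : IsLocalization.Away f Γ(X, X.basicOpen f) := hU.isLocalization_basicOpen f
        obtain ⟨n, a, ha⟩ := IsLocalization.Away.surj f r
        refine ⟨n, evA g U a, ?_⟩
        change evB _ r * evB _ (resX X _ f) ^ n = resB _ (evB U a)
        rw [resB_evB, ← map_pow, ← map_mul]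
        exact congrArg (evB _) ha
      · let i : g ⁻¹ᵁ X.basicOpen f ⟶ g ⁻¹ᵁ U := homOfLE (g.preimage_mono (X.basicOpen_le f))
        letI : Algebra Γ(X', g ⁻¹ᵁ U) Γ(X', g ⁻¹ᵁ X.basicOpen f) := (X'.presheaf.map i.op).hom.toAlgebra
        haveI : IsLocalization.Away (g.app U f) Γ(X', g ⁻¹ᵁ X.basicOpen f) :=
          (hU.preimage g).isLocalization_of_eq_basicOpen _ i (g.preimage_basicOpen f)
        obtain ⟨n, s, hs⟩ := IsLocalization.Away.surj (g.app U f) c
        refine ⟨deg g * n, nA g U s, ?_⟩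
        change nB g _ c * evB _ (resX X _ f) ^ (deg g * n) = resB _ (nB g U s)
        have h2 : nB g _ (g.app (X.basicOpen f) (resX X (X.basicOpen_le f) f)) =
            evB _ (resX X (X.basicOpen_le f) f) ^ deg g := congrArg Subtype.val (nA_app g _ _)
        rw [resB_nB, pow_mul, ← h2, app_resX, ← map_pow, ← map_mul]
        exact congrArg (nB g _) hs
    | zero => exact ⟨0, 0, by simp⟩
    | one => exact ⟨0, 1, by simp⟩
    | add x y _ _ hx hy =>
      obtain ⟨n, a, ha⟩ := hx
      obtain ⟨m, b, hb⟩ := hy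
      refine ⟨n + m, a * evA g U f ^ m + b * evA g U f ^ n, ?_⟩
      change _ = resB _ (a.1 * evB U f ^ m + b.1 * evB U f ^ n)
      rw [map_add, map_mul, map_mul, map_pow, map_pow, resB_evB, ← ha, ← hb, pow_add, add_mul]
      ring
    | neg x _ hx =>
      obtain ⟨n, a, ha⟩ := hx
      exact ⟨n, -a, by rw [neg_mul, ha, ← map_neg]; rfl⟩
    | mul x y _ _ hx hy =>
      obtain ⟨n, a, ha⟩ := hx
      obtain ⟨m, b, hb⟩ := hy
      refine ⟨n + m, a * b, ?_⟩
      change _ = resB _ (a.1 * b.1)
      rw [map_mul, ← ha, ← hb, pow_add]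
      ring
  refine IsLocalization.Away.mk (evA g U f) (by rw [hev]; exact hu) (fun z => ?_) (fun a b hab => ?_)
  · obtain ⟨n, a, ha⟩ := hsurj z.1 z.2
    exact ⟨n, a, by rw [hev]; exact Subtype.ext ha⟩
  · refine ⟨1, Subtype.ext (funext fun η => ?_)⟩
    change (evB U f η) ^ 1 * a.1 η = (evB U f η) ^ 1 * b.1 η
    rw [pow_one]
    by_cases hη : η.1 ∈ X.basicOpen f
    · exact congrArg _ (congrFun (congrArg Subtype.val hab) ⟨η.1, η.2.1, hη⟩)
    · have : evB U f η = 0 := by
        letI := (isField_stalk_gen η.2.1).toField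
        by_contra h
        exact hη ((X.mem_basicOpen f η.1 η.2.2).2 (isUnit_iff_ne_zero.2 h))
      rw [this, zero_mul, zero_mul]

end lattice

end Groth.Ega2Proj.NormModel
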