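/-
The finite birational model generated by norms (EGA II 6.6).
-/
import Groth.Agent.Ega2Proj.NormModelRing
import Groth.Agent.Ega2Proj.AffGlue
import Groth.Agent.AlgSpBasic.EqualizerOpen

set_option autoImplicit false

universe u

open CategoryTheory AlgebraicGeometry Opposite TopologicalSpace

set_option backward.isDefEq.respectTransparency.types false

noncomputable section

namespace Groth.Ega2Proj.NormModel

open Groth.PicAux Groth.Chow

variable {X' X : Scheme.{u}} (g : X' ⟶ X) [IsNoetherian X] [IsReduced X] [IsFinite g] [Surjective g]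

/-- The rings over the affine opens. -/
def Fz : X.AffineZariskiSiteᵒᵖ ⥤ CommRingCat.{u} where
  obj U := CommRingCat.of (ringA g U.unop.1)
  map {U V} i := CommRingCat.ofHom (resA g (Scheme.AffineZariskiSite.toOpens_mono i.unop.le))
  map_id U := CommRingCat.hom_ext (RingHom.ext fun x => Subtype.ext rfl)
  map_comp i j := CommRingCat.hom_ext (RingHom.ext fun x => Subtype.ext rfl)

/-- The structure maps. -/
def αz : (Scheme.AffineZariskiSite.toOpensFunctor X).op ⋙ X.presheaf ⟶ Fz g where
  app U := CommRingCat.ofHom (evA g U.unop.1)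
  naturality U V i := CommRingCat.hom_ext (RingHom.ext fun r =>
    (resA_evA g (Scheme.AffineZariskiSite.toOpens_mono i.unop.le) r).symm)

theorem αz_coequifibered : (αz g).Coequifibered :=
  Scheme.AffineZariskiSite.coequifibered_iff_forall_isLocalizationAway.2 fun U f =>
    isLocalization_resA g U.2 f

/-- The model. -/
def model : Scheme.{u} := AffGlue.glued (Fz g) (αz g) (αz_coequifibered g)

/-- Its morphism to the base. -/
def proj : model g ⟶ X := AffGlue.proj (Fz g) (αz g) (αz_coequifibered g)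

instance isAffineHom_proj : IsAffineHom (proj g) :=
  inferInstanceAs (IsAffineHom (AffGlue.proj (Fz g) (αz g) (αz_coequifibered g)))

/-- The functions of the model over an affine open. -/
def sec {U : X.Opens} (hU : IsAffineOpen U) : Γ(model g, proj g ⁻¹ᵁ U) →+* ringA g U :=
  (AffGlue.secHom (Fz g) (αz g) (αz_coequifibered g) U hU).hom

theorem sec_bijective {U : X.Opens} (hU : IsAffineOpen U) : Function.Bijective (sec g hU) :=
  AffGlue.bijective_secHom (Fz g) (αz g) (αz_coequifibered g) U hU

theorem sec_app {U : X.Opens} (hU : IsAffineOpen U) (r : Γ(X, U)) :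
    sec g hU ((proj g).app U r) = evA g U r :=
  congr(($(AffGlue.str_secHom (Fz g) (αz g) (αz_coequifibered g) U hU)).hom r)

theorem sec_res_basicOpen {U V : X.Opens} (hU : IsAffineOpen U) (hV : IsAffineOpen V) (h : V ≤ U)
    (hb : ∃ f : Γ(X, U), X.basicOpen f = V) (x : Γ(model g, proj g ⁻¹ᵁ U)) :
    sec g hV (resX (model g) ((proj g).preimage_mono h) x) = resA g h (sec g hU x) :=
  congr(($(AffGlue.secHom_res (Fz g) (αz g) (αz_coequifibered g)
    (U := (⟨U, hU⟩ : X.AffineZariskiSite)) (V := (⟨V, hV⟩ : X.AffineZariskiSite)) (homOfLE hb))).hom x)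

theorem sec_res {U V : X.Opens} (hU : IsAffineOpen U) (hV : IsAffineOpen V) (h : V ≤ U)
    (x : Γ(model g, proj g ⁻¹ᵁ U)) :
    sec g hV (resX (model g) ((proj g).preimage_mono h) x) = resA g h (sec g hU x) := by
  refine Subtype.ext (funext fun η => ?_)
  obtain ⟨a, b, e, hηa⟩ := exists_basicOpen_le_affine_inter hV hU η.1 ⟨η.2.2, h η.2.2⟩
  have hWV : X.basicOpen a ≤ V := X.basicOpen_le a
  have hW : IsAffineOpen (X.basicOpen a) := hV.basicOpen a
  have h1 := sec_res_basicOpen g hV hW hWV ⟨a, rfl⟩ (resX (model g) ((proj g).preimage_mono h) x)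
  have h2 := sec_res_basicOpen g hU hW (hWV.trans h) ⟨b, e.symm⟩ x
  rw [resX_resX, h2] at h1
  exact (congrFun (congrArg Subtype.val h1) ⟨η.1, η.2.1, hηa⟩).symm

instance isFinite_proj : IsFinite (proj g) where
  finite_app U hU := by
    have h1 : ((sec g hU).comp ((proj g).app U).hom).Finite := by
      rw [show (sec g hU).comp ((proj g).app U).hom = evA g U from RingHom.ext (sec_app g hU)]
      exact finite_evA g hU
    let e := RingEquiv.ofBijective _ (sec_bijective g hU)
    have h2 := (RingHom.Finite.of_surjective e.symm.toRingHom e.symm.surjective).comp h1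
    rwa [← RingHom.comp_assoc, show e.symm.toRingHom.comp (sec g hU) = RingHom.id _ from
      RingHom.ext e.symm_apply_apply, RingHom.id_comp] at h2

theorem isReduced_model : IsReduced (model g) := by
  haveI : ∀ x : model g, _root_.IsReduced ((model g).presheaf.stalk x) := fun x => by
    obtain ⟨U, hU, hx, -⟩ :=
      exists_isAffineOpen_mem_and_subset (x := proj g x) (U := (⊤ : X.Opens)) trivial
    haveI := isReduced_ringA g U
    haveI : IsReduced (Spec (AffGlue.obj (Fz g) U hU)) :=
      inferInstanceAs (IsReduced (Spec (CommRingCat.of (ringA g U))))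
    obtain ⟨y, rfl⟩ : x ∈ (AffGlue.chart (Fz g) (αz g) (αz_coequifibered g) U hU).opensRange := by
      rw [← AffGlue.proj_preimage (Fz g) (αz g) (αz_coequifibered g) U hU]; exact hx
    exact isReduced_of_injective _ (asIso ((AffGlue.chart (Fz g) (αz g) (αz_coequifibered g) U hU).stalkMap y)).commRingCatIsoToRingEquiv.injective
  exact isReduced_of_isReduced_stalk _

/-- Where every norm is a function the model does not change anything. -/
theorem evA_surjective {U : X.Opens}
    (h : ∀ c : Γ(X', g ⁻¹ᵁ U), ∃ r : Γ(X, U), evB U r = nB g U c) : Function.Surjective (evA g U) := by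
  rintro ⟨x, hx⟩
  suffices ∃ r, evB U r = x by
    obtain ⟨r, hr⟩ := this
    exact ⟨r, Subtype.ext hr⟩
  induction hx using Subring.closure_induction with
  | mem x hx =>
    rcases hx with ⟨r, rfl⟩ | ⟨c, rfl⟩
    · exact ⟨r, rfl⟩
    · exact h c
  | zero => exact ⟨0, map_zero _⟩
  | one => exact ⟨1, map_one _⟩
  | add x y _ _ hx hy => obtain ⟨a, rfl⟩ := hx; obtain ⟨b, rfl⟩ := hy; exact ⟨a + b, map_add _ a b⟩
  | neg x _ hx => obtain ⟨a, rfl⟩ := hx; exact ⟨-a, map_neg _ a⟩
  | mul x y _ _ hx hy => obtain ⟨a, rfl⟩ := hx; obtain ⟨b, rfl⟩ := hy; exact ⟨a * b, map_mul _ a b⟩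

theorem isIso_proj_of_surjective (W : X.Opens)
    (hW : ∀ x ∈ W, ∃ U : X.Opens, IsAffineOpen U ∧ x ∈ U ∧ U ≤ W ∧ Function.Surjective (evA g U)) :
    IsIso (proj g ∣_ W) := by
  let ι := {U : X.Opens // IsAffineOpen U ∧ U ≤ W ∧ Function.Surjective (evA g U)}
  refine (IsZariskiLocalAtTarget.iff_of_iSup_eq_top (P := MorphismProperty.isomorphisms Scheme)
    (fun U : ι => W.ι ⁻¹ᵁ U.1) ?_).2 fun U => ?_
  · refine eq_top_iff.2 fun x _ => ?_
    obtain ⟨U, hU, hxU, hUW, hs⟩ := hW x.1 x.2
    exact Opens.mem_iSup.2 ⟨⟨U, hU, hUW, hs⟩, hxU⟩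
  · obtain ⟨U, hU, hUW, hs⟩ := U
    refine (MorphismProperty.arrow_mk_iso_iff _ (morphismRestrictRestrict (proj g) W (W.ι ⁻¹ᵁ U))).2 ?_
    rw [show W.ι ''ᵁ (W.ι ⁻¹ᵁ U) = U from
      (Scheme.Hom.image_preimage_eq_opensRange_inf W.ι U).trans
        (by rw [Scheme.Opens.opensRange_ι]; exact inf_eq_right.2 hUW)]
    haveI : IsAffine U.toScheme := hU
    haveI : IsAffine (proj g ⁻¹ᵁ U).toScheme := hU.preimage (proj g)
    refine Groth.AlgSpBasic.isIso_of_bijective_appTop _ ?_
    have hb : Function.Bijective ((proj g).app U).hom := by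
      refine ⟨fun a b e => evA_injective g U ?_, fun z => ?_⟩
      · rw [← sec_app g hU, ← sec_app g hU, e]
      · obtain ⟨r, hr⟩ := hs (sec g hU z)
        exact ⟨r, (sec_bijective g hU).1 ((sec_app g hU r).trans hr)⟩
    haveI h9 : IsIso ((proj g).app (U.ι ''ᵁ ⊤)) := by
      rw [Scheme.Opens.ι_image_top]
      exact (ConcreteCategory.isIso_iff_bijective _).2 hb
    haveI : IsIso ((proj g) ∣_ U).appTop := by
      rw [Scheme.Hom.appTop, morphismRestrict_app]
      exact IsIso.comp_isIso' h9 (Functor.map_isIso _ _)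
    exact ConcreteCategory.bijective_of_isIso _

end Groth.Ega2Proj.NormModel
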