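/-
The model generated by norms is an isomorphism over the good locus and is birational.
-/
import Groth.Agent.Ega2Proj.NormModelScheme

set_option autoImplicit false

universe u

open CategoryTheory AlgebraicGeometry Opposite TopologicalSpace

set_option backward.isDefEq.respectTransparency.types false

noncomputable section

namespace Groth.Ega2Proj.NormModel

open Groth.PicAux Groth.Chow

variable {X' X : Scheme.{u}} (g : X' ⟶ X) [IsNoetherian X] [IsReduced X] [IsFinite g] [Surjective g]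

/-- Over normal or free points the norms are functions. -/
theorem exists_evB_eq_nB {U : X.Opens}
    (hgood : ∀ z ∈ U, (IsDomain (X.presheaf.stalk z) ∧ IsIntegrallyClosed (X.presheaf.stalk z)) ∨
      ∃ (W : X.Opens) (n : ℕ) (b : Fin n → Γ(X', g ⁻¹ᵁ W)), z ∈ W ∧ SecBasis g W b)
    (c : Γ(X', g ⁻¹ᵁ U)) : ∃ r : Γ(X, U), evB U r = nB g U c := by
  have key : ∀ z : U, ∃ (W : X.Opens) (hWU : W ≤ U) (r : Γ(X, W)), z.1 ∈ W ∧
      ∀ (η : X) (hη : IsGen η) (hηW : η ∈ W),
        X.presheaf.germ W η hηW r = nB g U c ⟨η, hη, hWU hηW⟩ := by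
    intro z
    obtain ⟨a, ha, -, -⟩ :=
      exists_germ_norm g (hgood z.1 z.2) (deg_pos g) (fun η hη => rk_dvd g hη) z.2 c
    obtain ⟨V, hzV, r, rfl⟩ := TopCat.Presheaf.exists_germ_eq X.presheaf (x := z.1) a
    obtain ⟨O, hzO, hO⟩ := exists_nhd_isGen z.1
    refine ⟨U ⊓ V ⊓ O, inf_le_left.trans inf_le_left,
      resX X (inf_le_left.trans inf_le_right) r, ⟨⟨z.2, hzV⟩, hzO⟩, fun η hη hηW => ?_⟩
    have h1 := ha η hη (hO η hηW.2 hη)
    rw [stalkSpec_germ, pspec_pgerm] at h1
    rw [germ_resX (inf_le_left.trans inf_le_right)]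
    exact h1
  choose W hWU r hzW hr using key
  have hcompat : TopCat.Presheaf.IsCompatible X.presheaf W r := fun i j => by
    refine section_ext_gen fun η hη hηW => ?_
    change X.presheaf.germ _ η hηW (resX X inf_le_left (r i)) =
      X.presheaf.germ _ η hηW (resX X inf_le_right (r j))
    rw [germ_resX inf_le_left, germ_resX inf_le_right, hr i η hη hηW.1, hr j η hη hηW.2]
  obtain ⟨s, hs, -⟩ := X.sheaf.existsUnique_gluing' W U (fun i => homOfLE (hWU i))
    (fun x hx => Opens.mem_iSup.2 ⟨⟨x, hx⟩, hzW ⟨x, hx⟩⟩) r hcompat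
  refine ⟨s, funext fun η => ?_⟩
  have h1 : resX X (hWU ⟨η.1, η.2.2⟩) s = r ⟨η.1, η.2.2⟩ := hs ⟨η.1, η.2.2⟩
  rw [evB_apply, ← germ_resX (hWU ⟨η.1, η.2.2⟩) (hzW ⟨η.1, η.2.2⟩), h1]
  exact hr _ η.1 η.2.1 _

/-- The model is unchanged over the good locus. -/
theorem isIso_proj_of_good (W : X.Opens)
    (hgood : ∀ z ∈ W, (IsDomain (X.presheaf.stalk z) ∧ IsIntegrallyClosed (X.presheaf.stalk z)) ∨
      ∃ (T : X.Opens) (n : ℕ) (b : Fin n → Γ(X', g ⁻¹ᵁ T)), z ∈ T ∧ SecBasis g T b) :
    IsIso (proj g ∣_ W) :=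
  isIso_proj_of_surjective g W fun x hx => by
    obtain ⟨U, hU, hxU, hUW⟩ := exists_isAffineOpen_mem_and_subset (x := x) (U := W) hx
    exact ⟨U, hU, hxU, hUW, evA_surjective g
      fun c => exists_evB_eq_nB g (fun z hz => hgood z (hUW hz)) c⟩

/-- Near a generic point the model is unchanged. -/
theorem exists_surjective_nhd {η : X} (hη : IsGen η) :
    ∃ U : X.Opens, IsAffineOpen U ∧ η ∈ U ∧ Function.Surjective (evA g U) := by
  classical
  obtain ⟨O, hηO, hO⟩ := exists_nhd_isGen η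
  obtain ⟨U, hU, hηU, hUO⟩ := exists_isAffineOpen_mem_and_subset (x := η) (U := O) hηO
  have huniq : ∀ ζ : GenPt U, ζ.1 = η := fun ζ => (hη _ (hO ζ.1 (hUO ζ.2.2) ζ.2.1))
  letI : Algebra Γ(X, U) (ringA g U) := (evA g U).toAlgebra
  haveI : Module.Finite Γ(X, U) (ringA g U) := finite_evA g hU
  obtain ⟨k, x, hx⟩ := Module.Finite.exists_fin (R := Γ(X, U)) (M := ringA g U)
  let η₀ : GenPt U := ⟨η, hη, hηU⟩
  choose V hηV s hs using fun i => TopCat.Presheaf.exists_germ_eq X.presheaf (x := η) ((x i).1 η₀)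
  let T : X.Opens := U ⊓ Finset.univ.inf V
  have hηT : η ∈ T := ⟨hηU, by
    induction (Finset.univ : Finset (Fin k)) using Finset.induction_on with
    | empty => simp
    | insert a t _ ih => rw [Finset.inf_insert]; exact ⟨hηV a, ih⟩⟩
  obtain ⟨d, hdT, hηd⟩ := hU.exists_basicOpen_le (V := T) ⟨η, hηT⟩ hηU
  have hle : ∀ i, X.basicOpen d ≤ V i := fun i =>
    hdT.trans (inf_le_right.trans (Finset.inf_le (Finset.mem_univ i)))
  let ρ := resA g (X.basicOpen_le d)
  have hρ : ∀ z : ringA g U, ρ z ∈ (evA g (X.basicOpen d)).range := by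
    intro z
    have hz : z ∈ Submodule.span Γ(X, U) (Set.range x) := hx ▸ trivial
    induction hz using Submodule.span_induction with
    | mem y hy =>
      obtain ⟨i, rfl⟩ := hy
      refine ⟨resX X (hle i) (s i), Subtype.ext (funext fun ζ => ?_)⟩
      obtain ⟨ζ, hζ, hζd⟩ := ζ
      obtain rfl := huniq ⟨ζ, hζ, X.basicOpen_le d hζd⟩
      exact (germ_resX (hle i) hζd (s i)).trans (hs i)
    | zero => rw [map_zero]; exact zero_mem _
    | add a b _ _ ha hb => rw [map_add]; exact add_mem ha hb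
    | smul a y _ hy =>
      rw [Algebra.smul_def, map_mul]
      exact mul_mem ⟨_, (resA_evA g (X.basicOpen_le d) a).symm⟩ hy
  refine ⟨X.basicOpen d, hU.basicOpen d, hηd, fun z => ?_⟩
  letI : Algebra (ringA g U) (ringA g (X.basicOpen d)) := ρ.toAlgebra
  haveI : IsLocalization.Away (evA g U d) (ringA g (X.basicOpen d)) := isLocalization_resA g hU d
  obtain ⟨n, a, ha⟩ := IsLocalization.Away.surj (evA g U d) z
  obtain ⟨r, hr⟩ := hρ a
  obtain ⟨d', hd'⟩ : ∃ d' : Γ(X, X.basicOpen d), resX X (X.basicOpen_le d) d * d' = 1 :=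
    (RingedSpace.isUnit_res_basicOpen _ d).exists_right_inv
  refine ⟨r * d' ^ n, ?_⟩
  have hd : algebraMap (ringA g U) (ringA g (X.basicOpen d)) (evA g U d) =
      evA g (X.basicOpen d) (resX X (X.basicOpen_le d) d) := resA_evA g _ d
  change evA g _ (r * d' ^ n) = z
  rw [map_mul, hr]
  change algebraMap (ringA g U) _ a * _ = z
  rw [← ha, hd, mul_assoc, ← map_pow, ← map_mul, ← mul_pow, hd', one_pow, map_one, mul_one]

theorem exists_dense_isIso :
    ∃ V : X.Opens, Dense (V : Set X) ∧ Dense ((proj g ⁻¹ᵁ V : (model g).Opens) : Set (model g)) ∧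
      IsIso (proj g ∣_ V) := by
  let ι := {U : X.Opens // IsAffineOpen U ∧ Function.Surjective (evA g U)}
  let V : X.Opens := ⨆ U : ι, U.1
  have hgen : ∀ η, IsGen η → η ∈ V := fun η hη => by
    obtain ⟨U, hU, hηU, hs⟩ := exists_surjective_nhd g hη
    exact Opens.mem_iSup.2 ⟨⟨U, hU, hs⟩, hηU⟩
  refine ⟨V, fun x => ?_, fun z => ?_, isIso_proj_of_surjective g V fun x hx => ?_⟩
  · obtain ⟨η, hη, hηx⟩ := exists_isGen_specializes x
    exact closure_mono (Set.singleton_subset_iff.2 (hgen η hη)) (specializes_iff_mem_closure.1 hηx)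
  · obtain ⟨U, hU, hzU, -⟩ :=
      exists_isAffineOpen_mem_and_subset (x := proj g z) (U := (⊤ : X.Opens)) trivial
    have hP := hU.preimage (proj g)
    haveI : Finite (GenPt U) :=
      ((finite_isGen (X := X)).subset fun η (h : IsGen η ∧ η ∈ U) => h.1).to_subtype
    haveI := Fintype.ofFinite (GenPt U)
    let K : GenPt U → Ideal Γ(model g, proj g ⁻¹ᵁ U) := fun η =>
      RingHom.ker (((Pi.evalRingHom _ η).comp (ringA g U).subtype).comp (sec g hU))
    let p := hP.primeIdealOf ⟨z, hzU⟩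
    obtain ⟨η, hη⟩ : ∃ η, K η ≤ p.asIdeal := by
      have h : (Finset.univ : Finset (GenPt U)).inf K ≤ p.asIdeal := by
        intro a ha
        have : a = 0 := by
          refine (sec_bijective g hU).1 (Subtype.ext (funext fun η => ?_))
          rw [map_zero]
          exact Submodule.mem_finsetInf.1 ha η (Finset.mem_univ η)
        rw [this]
        exact zero_mem _
      obtain ⟨η, -, hη⟩ := (Ideal.IsPrime.inf_le' p.isPrime).1 h
      exact ⟨η, hη⟩
    letI := (isField_stalk_gen η.2.1).toField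
    let y' : PrimeSpectrum Γ(model g, proj g ⁻¹ᵁ U) :=
      ⟨K η, RingHom.ker_isPrime _⟩
    let y : model g := hP.fromSpec y'
    have hyz : y ⤳ z := by
      have h1 : hP.fromSpec p = z := hP.fromSpec_primeIdealOf ⟨z, hzU⟩
      have h2 : y ⤳ hP.fromSpec p :=
        ((PrimeSpectrum.le_iff_specializes y' p).1 hη).map hP.fromSpec.continuous
      exact h1 ▸ h2
    have hy : proj g y = η.1 := by
      have h1 : proj g y = hU.fromSpec (y'.comap ((proj g).appLE U _ le_rfl).hom) := by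
        change (hP.fromSpec ≫ proj g) y' = _
        rw [← hU.SpecMap_appLE_fromSpec (proj g) hP le_rfl]
        rfl
      rw [h1]
      refine Eq.trans (congrArg hU.fromSpec ?_) (hU.fromSpec_primeIdealOf ⟨η.1, η.2.2⟩)
      refine PrimeSpectrum.ext (Ideal.ext fun a => ?_)
      rw [hU.primeIdealOf_eq_map_closedPoint]
      change (sec g hU ((proj g).appLE U (proj g ⁻¹ᵁ U) le_rfl a)).1 η = 0 ↔
        X.presheaf.germ U η.1 η.2.2 a ∈ IsLocalRing.maximalIdeal _
      rw [IsLocalRing.mem_maximalIdeal, mem_nonunits_iff, isUnit_iff_ne_zero, not_not,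
        ← Scheme.Hom.app_eq_appLE, sec_app g hU]
      rfl
    exact closure_mono (Set.singleton_subset_iff.2
      (show y ∈ proj g ⁻¹ᵁ V from (show proj g y ∈ V from hy ▸ hgen η.1 η.2.1)))
      (specializes_iff_mem_closure.1 hyz)
  · obtain ⟨U, hxU⟩ := Opens.mem_iSup.1 hx
    exact ⟨U.1, U.2.1, hxU, le_iSup (fun U : ι => U.1) U, U.2.2⟩

end Groth.Ega2Proj.NormModel
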