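/-
Ampleness descends to the model generated by norms.
-/
import Groth.Agent.Ega2Proj.NormModelIso

set_option autoImplicit false

universe u

open CategoryTheory AlgebraicGeometry Opposite TopologicalSpace

set_option backward.isDefEq.respectTransparency.types false

noncomputable section

namespace Groth.Ega2Proj.NormModel

open Groth.PicAux Groth.Chow Groth.PropsBasic.Ample

variable {X' X : Scheme.{u}} (g : X' ⟶ X) [IsNoetherian X] [IsReduced X] [IsFinite g] [Surjective g]

/-- The norm as a function on the model. -/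
theorem exists_normFun {W : X.Opens} (hW : IsAffineOpen W) (c : Γ(X', g ⁻¹ᵁ W)) :
    ∃ r : Γ(model g, proj g ⁻¹ᵁ W), sec g hW r = nA g W c :=
  (sec_bijective g hW).2 _

theorem normFun_unit {W : X.Opens} (hW : IsAffineOpen W) {c : Γ(X', g ⁻¹ᵁ W)}
    {r : Γ(model g, proj g ⁻¹ᵁ W)} (hr : sec g hW r = nA g W c) {z : model g} (hz : proj g z ∈ W)
    (h : ∀ y, g y = proj g z → y ∈ X'.basicOpen c) : z ∈ (model g).basicOpen r := by
  let O : X.Opens := ⟨(g '' (X'.basicOpen c : Set X')ᶜ)ᶜ,
    (g.isClosedMap _ (X'.basicOpen c).isOpen.isClosed_compl).isOpen_compl⟩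
  have hzO : proj g z ∈ O := fun ⟨y, hy, hyz⟩ => hy (h y hyz)
  obtain ⟨A, hA, hzA, hAle⟩ :=
    exists_isAffineOpen_mem_and_subset (x := proj g z) (U := W ⊓ O) ⟨hz, hzO⟩
  have hAW : A ≤ W := hAle.trans inf_le_left
  have hc : g ⁻¹ᵁ A ≤ X'.basicOpen c := fun y hy => by_contra fun hy' => (hAle hy).2 ⟨y, hy', rfl⟩
  have h1 : IsUnit (resX X' (g.preimage_mono hAW) c) := by
    have h2 := (RingedSpace.isUnit_res_basicOpen _ c).map (resX X' hc)
    exact (resX_resX (X'.basicOpen_le c) hc c) ▸ h2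
  have h2 : IsUnit (resX (model g) ((proj g).preimage_mono hAW) r) := by
    let e := RingEquiv.ofBijective _ (sec_bijective g hA)
    have h4 : IsUnit (e (resX (model g) ((proj g).preimage_mono hAW) r)) := by
      change IsUnit (sec g hA _)
      rw [sec_res g hW hA hAW, hr, resA_nA]
      exact h1.map (nA g A)
    simpa using h4.map e.symm
  have h3 := Scheme.basicOpen_of_isUnit _ h2
  rw [show (model g).basicOpen (resX (model g) ((proj g).preimage_mono hAW) r) =
    proj g ⁻¹ᵁ A ⊓ (model g).basicOpen r from (model g).basicOpen_res r (homOfLE _).op] at h3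
  exact (h3.ge (show z ∈ proj g ⁻¹ᵁ A from hzA)).2

theorem normFun_not_unit {W : X.Opens} (hW : IsAffineOpen W) {c : Γ(X', g ⁻¹ᵁ W)}
    {r : Γ(model g, proj g ⁻¹ᵁ W)} (hr : sec g hW r = nA g W c) {z : model g} (hz : proj g z ∈ W)
    (h : ∀ y, g y = proj g z → y ∉ X'.basicOpen c) : z ∉ (model g).basicOpen r := by
  intro hzr
  have hP := hW.preimage (proj g)
  have hG := hW.preimage g
  let p := hP.primeIdealOf ⟨z, hz⟩
  let e := RingEquiv.ofBijective _ (sec_bijective g hW)
  let P : Ideal (ringA g W) := p.asIdeal.comap (e.symm : ringA g W →+* _)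
  haveI : P.IsPrime := Ideal.comap_isPrime _ _
  let q := hW.primeIdealOf ⟨proj g z, hz⟩
  have hq : P.comap (evA g W) = q.asIdeal := by
    have h1 : p.comap ((proj g).appLE W (proj g ⁻¹ᵁ W) le_rfl).hom = q :=
      IsAffineOpen.comap_primeIdealOf_appLE W hW _ hP le_rfl hz
    rw [← h1]
    refine Ideal.ext fun a => ?_
    change e.symm (evA g W a) ∈ p.asIdeal ↔ (proj g).appLE W (proj g ⁻¹ᵁ W) le_rfl a ∈ p.asIdeal
    rw [← Scheme.Hom.app_eq_appLE, ← sec_app g hW a, show e.symm (sec g hW ((proj g).app W a)) =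
      (proj g).app W a from e.symm_apply_apply _]
  have hmem : nA g W c ∈ P := by
    refine nA_mem_of_forall_mem g hW P hq fun Q hQ hQq => ?_
    let y : X' := hG.fromSpec ⟨Q, hQ⟩
    have hy : g y = proj g z := by
      have h1 : g y = hW.fromSpec ((⟨Q, hQ⟩ : PrimeSpectrum _).comap (g.appLE W _ le_rfl).hom) := by
        change (hG.fromSpec ≫ g) ⟨Q, hQ⟩ = _
        rw [← hW.SpecMap_appLE_fromSpec g hG le_rfl]
        rfl
      refine h1.trans (Eq.trans (congrArg hW.fromSpec ?_) (hW.fromSpec_primeIdealOf ⟨_, hz⟩))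
      refine PrimeSpectrum.ext ?_
      rw [PrimeSpectrum.comap_asIdeal, ← Scheme.Hom.app_eq_appLE]
      exact hQq
    by_contra hcQ
    refine h y hy ?_
    have h2 : (⟨Q, hQ⟩ : PrimeSpectrum _) ∈ PrimeSpectrum.basicOpen c := hcQ
    rw [← hG.fromSpec_preimage_basicOpen c] at h2
    exact h2
  have h5 : r ∈ p.asIdeal := by
    have : e.symm (nA g W c) = r := by rw [← hr]; exact e.symm_apply_apply r
    exact this ▸ hmem
  have h6 : p ∈ PrimeSpectrum.basicOpen r := by
    rw [← hP.fromSpec_preimage_basicOpen r]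
    change hP.fromSpec p ∈ (model g).basicOpen r
    rw [hP.fromSpec_primeIdealOf ⟨z, hz⟩]
    exact hzr
  exact h6 h5

/-- The norm of a section of an inverse image, as a section over the model. -/
theorem exists_norm_sec_model {M : X.Modules} (hM : PicF.IsInvertible M)
    (s : Γ((Scheme.Modules.pullback g).obj M, ⊤)) :
    ∃ t : Γ(CohB1.tensorPow ((Scheme.Modules.pullback (proj g)).obj M) (deg g), ⊤),
      (∀ z, (∀ y, g y = proj g z → y ∈ gloc s) → z ∈ gloc t) ∧
      (∀ z, (∀ y, g y = proj g z → y ∉ gloc s) → z ∉ gloc t) := by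
  classical
  have key : ∀ x : X, ∃ (W : X.Opens) (e : Γ(M, W)) (c : Γ(X', g ⁻¹ᵁ W)) (hW : IsAffineOpen W)
      (r : Γ(model g, proj g ⁻¹ᵁ W)),
      x ∈ W ∧ Gen M W e ∧ res _ le_top s = c • pullSec g M e ∧ sec g hW r = nA g W c := by
    intro x
    obtain ⟨W, e, hW, hxW, he⟩ := exists_affine_gen_mem hM x
    obtain ⟨c, hc⟩ := (he.pull g).exists_coeff le_rfl (res _ le_top s)
    rw [res_self] at hc
    obtain ⟨r, hr⟩ := exists_normFun g hW c
    exact ⟨W, e, c, hW, r, hxW, he, hc, hr⟩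
  choose W e c hW r hxW he hc hr using key
  have hcov : (⊤ : (model g).Opens) ≤ iSup fun x => proj g ⁻¹ᵁ W x := fun z _ =>
    Opens.mem_iSup.2 ⟨proj g z, hxW _⟩
  obtain ⟨t, ht, -⟩ := res_glue (M := CohB1.tensorPow ((Scheme.Modules.pullback (proj g)).obj M) (deg g))
    (U := ⊤) (fun x => proj g ⁻¹ᵁ W x) (fun _ => le_top) hcov
    (fun i => r i • powSec (pullSec (proj g) M (e i)) (deg g)) (fun i j => by
      let V := W i ⊓ W j
      have hVi : V ≤ W i := inf_le_left
      have hVj : V ≤ W j := inf_le_right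
      obtain ⟨a, ha⟩ := (he i).exists_coeff hVi (res M hVj (e j))
      have hci := congrArg (res _ (g.preimage_mono hVi)) (hc i)
      have hcj := congrArg (res _ (g.preimage_mono hVj)) (hc j)
      rw [res_res, res_smul, res_pullSec g M hVi] at hci
      rw [res_res, res_smul, res_pullSec g M hVj] at hcj
      rw [ha, pullSec_smul, ← mul_smul] at hcj
      have h1 : resX X' (g.preimage_mono hVi) (c i) =
          resX X' (g.preimage_mono hVj) (c j) * g.app V a := by
        refine (((he i).res hVi).pull g).smul_inj le_rfl ?_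
        rw [res_self]
        exact hci.symm.trans hcj
      change res _ ((proj g).preimage_mono hVi) (r i • powSec (pullSec (proj g) M (e i)) (deg g)) =
        res _ ((proj g).preimage_mono hVj) (r j • powSec (pullSec (proj g) M (e j)) (deg g))
      rw [res_smul, res_smul, res_powSec, res_powSec, res_pullSec (proj g) M hVi,
        res_pullSec (proj g) M hVj, ha, pullSec_smul, powSec_smul, ← mul_smul]
      congr 1
      let ι := {A : X.Opens // IsAffineOpen A ∧ A ≤ V}
      refine (model g).sheaf.eq_of_locally_eq' (fun A : ι => proj g ⁻¹ᵁ A.1) _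
        (fun A => homOfLE ((proj g).preimage_mono A.2.2)) (fun z hz => ?_) _ _ fun A => ?_
      · obtain ⟨A, hA, hzA, hAV⟩ := exists_isAffineOpen_mem_and_subset (x := proj g z) (U := V) hz
        exact Opens.mem_iSup.2 ⟨⟨A, hA, hAV⟩, hzA⟩
      obtain ⟨A, hA, hAV⟩ := A
      change resX (model g) ((proj g).preimage_mono hAV) _ = resX (model g) ((proj g).preimage_mono hAV) _
      refine (sec_bijective g hA).1 ?_
      rw [map_mul, map_pow, map_mul, map_pow, resX_resX, resX_resX, ← app_resX (proj g) hAV,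
        sec_res g (hW i) hA (hAV.trans hVi), sec_res g (hW j) hA (hAV.trans hVj), sec_app g hA,
        hr i, hr j, resA_nA, resA_nA, ← nA_app g, ← map_mul]
      congr 1
      have h2 := congrArg (resX X' (g.preimage_mono hAV)) h1
      rw [map_mul, resX_resX, resX_resX, ← app_resX g hAV] at h2
      exact h2)
  have hpt : ∀ (z : model g),
      (z ∈ gloc t ↔ z ∈ (model g).basicOpen (r (proj g z))) ∧
      ∀ y, g y = proj g z → (y ∈ gloc s ↔ y ∈ X'.basicOpen (c (proj g z))) := by
    intro z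
    set i := proj g z
    have ht' : gloc t ⊓ proj g ⁻¹ᵁ W i = (model g).basicOpen (r i) :=
      gloc_inf_eq_basicOpen (((he i).pull (proj g)).pow _) (ht i)
    have hs' : gloc s ⊓ g ⁻¹ᵁ W i = X'.basicOpen (c i) :=
      gloc_inf_eq_basicOpen ((he i).pull g) (hc i)
    refine ⟨?_, fun y hy => ?_⟩
    · rw [← ht']
      exact ⟨fun h => ⟨h, hxW i⟩, fun h => h.1⟩
    · rw [← hs']
      exact ⟨fun h => ⟨h, show g y ∈ W i from hy ▸ hxW i⟩, fun h => h.1⟩
  refine ⟨t, fun z h => ?_, fun z h h' => ?_⟩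
  · exact (hpt z).1.2 (normFun_unit g (hW _) (hr _) (hxW _) fun y hy => ((hpt z).2 y hy).1 (h y hy))
  · exact normFun_not_unit g (hW _) (hr _) (hxW _) (fun y hy => (((hpt z).2 y hy).not).1 (h y hy))
      ((hpt z).1.1 h')

/-- Ampleness descends to the model. -/
theorem isAmple_pullback_proj {L : X.Modules} (hL : PicF.IsInvertible L)
    (hA : CohB1.IsAmple ((Scheme.Modules.pullback g).obj L)) :
    CohB1.IsAmple ((Scheme.Modules.pullback (proj g)).obj L) := by
  refine ⟨isInvertible_pullback (proj g) hL, QuasiCompact.compactSpace_of_compactSpace (proj g),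
    fun z => ?_⟩
  obtain ⟨O, hO, hxO, -⟩ :=
    exists_isAffineOpen_mem_and_subset (x := proj g z) (U := (⊤ : X.Opens)) trivial
  obtain ⟨N, s, hZs, hsO, -⟩ := exists_affine_gloc_finite hA (g ⁻¹' {proj g z})
    (g.finite_preimage_singleton _) (g ⁻¹ᵁ O) (fun y hy => show g y ∈ O from hy ▸ hxO)
  obtain ⟨φ⟩ := pullback_tensorPow g L (N + 1)
  obtain ⟨t, h1, h2⟩ := exists_norm_sec_model g (isInvertible_tensorPow hL (N + 1)) (φ.inv.app ⊤ s)
  rw [gloc_map φ.inv] at h1 h2
  obtain ⟨ψ⟩ := pullback_tensorPow (proj g) L (N + 1)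
  obtain ⟨χ⟩ := nonempty_tensorPow_iso ψ (deg g)
  obtain ⟨u, hu⟩ := exists_gloc_transport (N + 1) (deg g) (χ.hom.app ⊤ t)
  rw [gloc_map χ.hom] at hu
  obtain ⟨n, hn⟩ := Nat.exists_eq_succ_of_ne_zero (Nat.mul_pos (Nat.succ_pos N) (deg_pos g)).ne'
  obtain ⟨v, hv⟩ : ∃ v : Γ(CohB1.tensorPow ((Scheme.Modules.pullback (proj g)).obj L) (n + 1), ⊤),
      gloc v = gloc u := by
    have key : ∀ A B : ℕ, A = B →
        ∀ w : Γ(CohB1.tensorPow ((Scheme.Modules.pullback (proj g)).obj L) A, ⊤),
        ∃ w' : Γ(CohB1.tensorPow ((Scheme.Modules.pullback (proj g)).obj L) B, ⊤), gloc w' = gloc w := by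
      rintro A _ rfl w
      exact ⟨w, rfl⟩
    exact key _ _ hn u
  refine ⟨n, homOfSection v, ?_, ?_⟩
  · change z ∈ gloc v
    rw [hv, hu]
    exact h1 z fun y hy => hZs hy
  · change IsAffineOpen (gloc v)
    have h3 : gloc v ≤ proj g ⁻¹ᵁ O := fun w hw => by
      by_contra hwO
      refine h2 w (fun y hy hys => hwO ?_) ?_
      · exact (hy ▸ hsO hys : proj g w ∈ O)
      · rwa [← hu, ← hv]
    rw [← inf_eq_left.2 h3]
    exact isAffineOpen_gloc_inf (isInvertible_tensorPow (isInvertible_pullback (proj g) hL) _)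
      (homOfSection v) (hO.preimage (proj g))

end Groth.Ega2Proj.NormModel
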