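import Groth.Agent.Ega2Proj.ConeFibre

/-!
# Fibres of the projective cone retraction
-/

universe u

open CategoryTheory CategoryTheory.Limits AlgebraicGeometry TopologicalSpace Opposite

namespace Groth.Ega2Proj

section chart

variable {σ A : Type u} [CommRing A] [SetLike σ A] [AddSubgroupClass σ A] (𝒜 : ℕ → σ)
  [GradedRing 𝒜] {τ B : Type u} [CommRing B] [SetLike τ B] [AddSubgroupClass τ B] (ℬ : ℕ → τ)
  [GradedRing ℬ] [Algebra A B] (φ : 𝒜 →+*ᵍ ℬ) (hφ : ∀ a : A, φ a = algebraMap A B a)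
  (z : B) (hz : z ∈ ℬ 1) (hhat : Function.Bijective (Polynomial.aeval (R := A) z))
  {f : A} (hf : f ∈ 𝒜 1)

local notation "A₀" => HomogeneousLocalization.Away 𝒜 f

theorem toAway_self : toAway 𝒜 𝒜 hf (RingHom.id A) (fun n a ha => by simpa using ha) f = 1 := by
  rw [toAway_of_mem 𝒜 𝒜 hf _ _ hf]
  apply HomogeneousLocalization.val_injective
  rw [HomogeneousLocalization.Away.val_mk, HomogeneousLocalization.val_one]
  have e : (⟨f ^ 1, pow_mem (Submonoid.mem_powers f) 1⟩ : Submonoid.powers f) =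
      ⟨f, Submonoid.mem_powers f⟩ := Subtype.ext (pow_one f)
  change Localization.mk (RingHom.id A f) (⟨f ^ 1, pow_mem (Submonoid.mem_powers f) 1⟩ : Submonoid.powers f) = 1
  rw [e]
  exact Localization.mk_self (M := A) (⟨f, Submonoid.mem_powers f⟩ : Submonoid.powers f)

include hφ hz hhat in
theorem exists_chart_lift {K : Type u} [CommRing K] (ψ : A₀ →+* K) :
    ∃ Θ : HomogeneousLocalization.Away ℬ (φ f) →+* Polynomial K,
      (∀ a, Θ (HomogeneousLocalization.Away.map φ f a) = Polynomial.C (ψ a)) ∧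
      Θ (HomogeneousLocalization.Away.mk ℬ (φ.2 hf) 1 z (by simpa using hz)) = Polynomial.X := by
  let e : Polynomial A ≃+* B := RingEquiv.ofBijective (Polynomial.aeval (R := A) z).toRingHom hhat
  let θ : B →+* Polynomial K := (Polynomial.eval₂RingHom (Polynomial.C.comp
    (ψ.comp (toAway 𝒜 𝒜 hf (RingHom.id A) (fun n a ha => by simpa using ha)))) Polynomial.X).comp
      e.symm.toRingHom
  have hθA : ∀ a, θ (φ a) = Polynomial.C
      (ψ (toAway 𝒜 𝒜 hf (RingHom.id A) (fun n a ha => by simpa using ha) a)) := fun a => by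
    have : e.symm (φ a) = Polynomial.C a := e.symm_apply_eq.mpr (by
      rw [hφ]; exact (Polynomial.aeval_C _ _).symm)
    change Polynomial.eval₂ _ _ (e.symm (φ a)) = _
    rw [this, Polynomial.eval₂_C]
    rfl
  have hθz : θ z = Polynomial.X := by
    have : e.symm z = Polynomial.X := e.symm_apply_eq.mpr (Polynomial.aeval_X _).symm
    change Polynomial.eval₂ _ _ (e.symm z) = _
    rw [this, Polynomial.eval₂_X]
  have hθf : θ (φ f) = 1 := by rw [hθA, toAway_self, map_one, map_one]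
  let Θ' : Localization.Away (φ f) →+* Polynomial K :=
    Localization.awayLift θ (φ f) (by rw [hθf]; exact isUnit_one)
  have hΘ' : ∀ b, Θ' (algebraMap B _ b) = θ b := fun b =>
    IsLocalization.Away.lift_eq (φ f) (by rw [hθf]; exact isUnit_one : IsUnit (θ (φ f))) b
  have hval : ∀ (n : ℕ) (b : B) (hb : b ∈ ℬ (n • 1)),
      Θ' (HomogeneousLocalization.Away.mk ℬ (φ.2 hf) n b hb).val = θ b := fun n b hb => by
    have h := congrArg Θ' (val_mk_mul_pow ℬ (φ.2 hf) hb)
    have e1 := hΘ' (φ f)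
    have e2 := hΘ' b
    rw [map_mul, map_pow] at h
    erw [e1, e2, hθf, one_pow, mul_one] at h
    exact h
  refine ⟨Θ'.comp (algebraMap _ _), fun a => ?_, ?_⟩
  · obtain ⟨n, a, ha, rfl⟩ := HomogeneousLocalization.Away.mk_surjective 𝒜 hf a
    rw [HomogeneousLocalization.Away.map_mk]
    change Θ' (HomogeneousLocalization.Away.mk ℬ (φ.2 hf) n (φ a) _).val = _
    rw [hval, hθA, toAway_of_mem 𝒜 𝒜 hf _ _ (n := n) (by simpa using ha)]
    rfl
  · change Θ' (HomogeneousLocalization.Away.mk ℬ (φ.2 hf) 1 z _).val = _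
    rw [hval, hθz]

include hφ hhat in
theorem surjective_eval₂_chart (hz : z ∈ ℬ 1) :
    Function.Surjective (Polynomial.eval₂RingHom (HomogeneousLocalization.Away.map φ f)
      (HomogeneousLocalization.Away.mk ℬ (φ.2 hf) 1 z (by simpa using hz))) := by
  intro y
  obtain ⟨n, b, hb, rfl⟩ := HomogeneousLocalization.Away.mk_surjective ℬ (φ.2 hf) y
  obtain ⟨p, rfl⟩ := hhat.2 b
  refine ⟨p.map (toAway 𝒜 𝒜 hf (RingHom.id A) (fun n a ha => by simpa using ha)), ?_⟩
  have key : (Polynomial.eval₂RingHom (HomogeneousLocalization.Away.map φ f)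
      (HomogeneousLocalization.Away.mk ℬ (φ.2 hf) 1 z (by simpa using hz))).comp
      (Polynomial.mapRingHom (toAway 𝒜 𝒜 hf (RingHom.id A) (fun n a ha => by simpa using ha))) =
      (toAway ℬ ℬ (φ.2 hf) (RingHom.id B) (fun n a ha => by simpa using ha)).comp
        (Polynomial.aeval (R := A) z).toRingHom := by
    refine Polynomial.ringHom_ext (fun a => ?_) ?_
    · have h2 : ((HomogeneousLocalization.Away.map φ f).comp
          (toAway 𝒜 𝒜 hf (RingHom.id A) (fun n a ha => by simpa using ha))) =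
          (toAway ℬ ℬ (φ.2 hf) (RingHom.id B) (fun n a ha => by simpa using ha)).comp
            (algebraMap A B) := ringHom_ext_homogeneous 𝒜 fun m c hc => by
        simp only [RingHom.comp_apply]
        rw [toAway_of_mem 𝒜 𝒜 hf _ _ hc, HomogeneousLocalization.Away.map_mk,
          toAway_of_mem ℬ ℬ (φ.2 hf) _ _ (n := m) (hφ c ▸ φ.2 hc)]
        apply HomogeneousLocalization.val_injective
        simp [hφ]
      simpa using DFunLike.congr_fun h2 a
    · simp only [RingHom.comp_apply, Polynomial.coe_mapRingHom, Polynomial.map_X,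
        Polynomial.coe_eval₂RingHom, Polynomial.eval₂_X, AlgHom.toRingHom_eq_coe, RingHom.coe_coe,
        Polynomial.aeval_X]
      rw [toAway_of_mem ℬ ℬ (φ.2 hf) _ _ hz]
      rfl
  refine (DFunLike.congr_fun key p).trans ?_
  rw [RingHom.comp_apply, toAway_of_mem ℬ ℬ (φ.2 hf) _ _ (n := n) (by simpa using hb)]
  rfl

include hφ hz hhat hf in
theorem exists_isPushout_chart {K : Type u} [CommRing K] (ψ : A₀ →+* K) :
    ∃ Θ : HomogeneousLocalization.Away ℬ (φ f) →+* Polynomial K,
      IsPushout (CommRingCat.ofHom (HomogeneousLocalization.Away.map φ f)) (CommRingCat.ofHom ψ)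
        (CommRingCat.ofHom Θ) (CommRingCat.ofHom (Polynomial.C : K →+* Polynomial K)) := by
  obtain ⟨Θ, hC, hX⟩ := exists_chart_lift 𝒜 ℬ φ hφ z hz hhat hf ψ
  have hsurj := surjective_eval₂_chart 𝒜 ℬ φ hφ z hhat hf hz
  have hw : CommRingCat.ofHom (HomogeneousLocalization.Away.map φ f) ≫ CommRingCat.ofHom Θ =
      CommRingCat.ofHom ψ ≫ CommRingCat.ofHom (Polynomial.C : K →+* Polynomial K) :=
    CommRingCat.hom_ext (RingHom.ext hC)
  refine ⟨Θ, ⟨hw⟩, ⟨PushoutCocone.IsColimit.mk hw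
    (fun s => CommRingCat.ofHom (Polynomial.eval₂RingHom s.inr.hom
      (s.inl (HomogeneousLocalization.Away.mk ℬ (φ.2 hf) 1 z (by simpa using hz)))))
    (fun s => ?_) (fun s => ?_) (fun s m h1 h2 => ?_)⟩⟩
  · refine CommRingCat.hom_ext ((RingHom.cancel_right hsurj).mp ?_)
    refine Polynomial.ringHom_ext (fun a => ?_) ?_
    · change Polynomial.eval₂ _ _ (Θ (Polynomial.eval₂ _ _ (Polynomial.C a))) = _
      rw [Polynomial.eval₂_C, hC, Polynomial.eval₂_C]
      refine (congr($(s.condition) a)).symm.trans ?_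
      exact congrArg s.inl.hom (Polynomial.eval₂_C _ _).symm
    · change Polynomial.eval₂ _ _ (Θ (Polynomial.eval₂ _ _ Polynomial.X)) = _
      rw [Polynomial.eval₂_X, hX, Polynomial.eval₂_X]
      exact congrArg s.inl.hom (Polynomial.eval₂_X _ _).symm
  · exact CommRingCat.hom_ext (RingHom.ext fun a => Polynomial.eval₂_C _ _)
  · refine CommRingCat.hom_ext (Polynomial.ringHom_ext (fun a => ?_) ?_)
    · refine Eq.trans ?_ (Polynomial.eval₂_C _ _).symm
      exact congr($h2 a)
    · refine Eq.trans ?_ (Polynomial.eval₂_X _ _).symm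
      rw [← hX]
      exact congr($h1 _)

end chart

variable {R A : Type u} [CommRing R] [CommRing A] [Algebra R A] (𝒜 : ℕ → Submodule R A)
  [GradedAlgebra 𝒜] {B : Type u} [CommRing B] [Algebra R B] (ℬ : ℕ → Submodule R B)
  [GradedAlgebra ℬ] [Algebra A B] (φ : 𝒜 →+*ᵍ ℬ) (hφ : ∀ a : A, φ a = algebraMap A B a)
  (z : B) (hz : z ∈ ℬ 1) (hhat : Function.Bijective (Polynomial.aeval (R := A) z))

include hφ hz hhat in
theorem locallyOfFiniteType_dom_map
    (hgen : (HomogeneousIdeal.irrelevant 𝒜).toIdeal = Ideal.span (𝒜 1 : Set A))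
    (p : (PCone.dom φ : Scheme.{u}) ⟶ Proj 𝒜)
    (hp : ∀ (d : ℕ) (g : A) (hd : 0 < d) (hg : g ∈ 𝒜 d),
      PCone.chart φ hg hd ≫ p =
        Spec.map (CommRingCat.ofHom (HomogeneousLocalization.Away.map φ g)) ≫ Proj.awayι 𝒜 g hg hd) :
    LocallyOfFiniteType p := by
  haveI : IsZariskiLocalAtSource @LocallyOfFiniteType.{u} :=
    HasRingHomProperty.instIsZariskiLocalAtSource
  refine IsZariskiLocalAtSource.of_iSup_eq_top (P := @LocallyOfFiniteType.{u})
    (fun g : 𝒜 1 => (PCone.chart φ g.2 one_pos).opensRange) (eq_top_iff.mpr fun x _ => ?_) fun g => ?_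
  · obtain ⟨g, hg, hgx⟩ := exists_degree_one_notMem hgen (p.base x).not_irrelevant_le
    have h : x ∈ p ⁻¹ᵁ Proj.basicOpen 𝒜 g := hgx
    rw [dom_map_preimage φ p hp one_pos hg] at h
    exact Opens.mem_iSup.mpr ⟨⟨g, hg⟩, (mem_range_pchart φ hg one_pos x).mpr h⟩
  obtain ⟨g, hg⟩ := g
  rw [← Scheme.Hom.isoOpensRange_inv_comp (PCone.chart φ hg one_pos), Category.assoc, hp 1 g one_pos hg]
  have : LocallyOfFiniteType (Spec.map (CommRingCat.ofHom (HomogeneousLocalization.Away.map φ g))) := by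
    refine HasRingHomProperty.Spec_iff.mpr ?_
    letI := (HomogeneousLocalization.Away.map φ g).toAlgebra
    change Algebra.FiniteType _ _
    exact Algebra.FiniteType.of_surjective
      (Polynomial.aeval (HomogeneousLocalization.Away.mk ℬ (φ.2 hg) 1 z (by simpa using hz)))
      (surjective_eval₂_chart 𝒜 ℬ φ hφ z hhat hg hz)
  infer_instance

end Groth.Ega2Proj
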