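/-
The relative Proj of an algebra generated in degree one by a module of finite type has polarisation data.
-/
import Groth.Agent.Ega2Proj.PolData
import Groth.Agent.Ega2Proj.GrLocal
import Groth.Agent.RelTwist.Taut

set_option autoImplicit false

universe u

open CategoryTheory CategoryTheory.Limits AlgebraicGeometry Opposite TopologicalSpace
open scoped HomogeneousIdeal

set_option backward.isDefEq.respectTransparency.types false

noncomputable section

namespace Groth.Ega2Proj.ProjPol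

open Groth.PicAux Groth.RelTw

variable {S P : Scheme.{u}} {𝒮 : RelProj.QCGrAlg S} {p : P ⟶ S}
  {chart : ∀ (U : S.Opens) (hU : IsAffineOpen U), (((p ⁻¹ᵁ U : P.Opens) : Scheme.{u}) ≅ Proj (𝒮.deg U hU))}
  (hP : RelProj.IsRelProj 𝒮 p chart)
  {O1 : P.Modules}
  {lam : ∀ (U : S.Opens) (hU : IsAffineOpen U),
    O1 ⟶ (Scheme.Modules.pushforward (RelProj.emb p chart U hU)).obj (GrTwist.twist (𝒮.deg U hU) 1)}
  (hO1 : RelProj.IsRelTwist 𝒮 p chart 1 O1 lam)

include hO1 in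
/-- An element of degree one gives a section of `O(1)`. -/
theorem exists_ph (U : S.Opens) (hU : IsAffineOpen U) {t : 𝒮.presheaf.obj (op U)} (ht : t ∈ 𝒮.deg U hU 1) :
    ∃ s : Γ(O1, p ⁻¹ᵁ U), ∀ (y : ProjectiveSpectrum (𝒮.deg U hU))
      (hy : RelProj.emb p chart U hU y ∈ p ⁻¹ᵁ U),
      pv lam U hU s y hy = algebraMap _ (GrTwist.Loc (𝒮.deg U hU) y) t := by
  obtain ⟨s, hs⟩ := (hO1.bijective U hU _ le_rfl).2
    (frac (n := ((1 : ℕ) : ℤ)) (e' := 0) ht SetLike.GradedOne.one_mem (by simp)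
      (RelProj.emb p chart U hU ⁻¹ᵁ (p ⁻¹ᵁ U))
      (fun x _ h => x.isPrime.ne_top ((Ideal.eq_top_iff_one _).mpr h)))
  refine ⟨s, fun y hy => ?_⟩
  rw [pv, hs]
  exact gval_global ht _ y hy

/-- The section of `O(1)` given by an element of degree one. -/
def ph (U : S.Opens) (hU : IsAffineOpen U) (t : 𝒮.deg U hU 1) : Γ(O1, p ⁻¹ᵁ U) :=
  (exists_ph hO1 U hU t.2).choose

theorem pv_ph (U : S.Opens) (hU : IsAffineOpen U) (t : 𝒮.deg U hU 1) (y : ProjectiveSpectrum (𝒮.deg U hU))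
    (hy : RelProj.emb p chart U hU y ∈ p ⁻¹ᵁ U) :
    pv lam U hU (ph hO1 U hU t) y hy = algebraMap _ (GrTwist.Loc (𝒮.deg U hU) y) (t : 𝒮.presheaf.obj (op U)) :=
  (exists_ph hO1 U hU t.2).choose_spec y hy

theorem st_mul_mem (U : S.Opens) (hU : IsAffineOpen U) (a : Γ(S, U)) {t : 𝒮.presheaf.obj (op U)}
    (ht : t ∈ 𝒮.deg U hU 1) : GrLocal.st 𝒮 U a * t ∈ 𝒮.deg U hU 1 := by
  simpa only [zero_add] using SetLike.mul_mem_graded (A := 𝒮.deg U hU) (𝒮.str_mem U hU a) ht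

/-- Scalar multiplication in degree one. -/
abbrev smulDeg (U : S.Opens) (hU : IsAffineOpen U) (a : Γ(S, U)) (t : 𝒮.deg U hU 1) : 𝒮.deg U hU 1 :=
  ⟨GrLocal.st 𝒮 U a * t, st_mul_mem U hU a t.2⟩

include hP in
theorem ph_smul (U : S.Opens) (hU : IsAffineOpen U) (a : Γ(S, U)) (t : 𝒮.deg U hU 1) :
    ph hO1 U hU (smulDeg U hU a t) = p.app U a • ph hO1 U hU t := by
  refine sec_ext lam hO1 hU le_rfl fun y hy => ?_
  rw [pv_ph]
  rw [pv_smul]
  rw [val_app_base hP U hU a y hy, pv_ph, ← map_mul]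

theorem ph_add (U : S.Opens) (hU : IsAffineOpen U) (a b : 𝒮.deg U hU 1) :
    ph hO1 U hU (a + b) = ph hO1 U hU a + ph hO1 U hU b := by
  refine sec_ext lam hO1 hU le_rfl fun y hy => ?_
  have : pv lam U hU (W := p ⁻¹ᵁ U) (ph hO1 U hU a + ph hO1 U hU b : Γ(O1, p ⁻¹ᵁ U)) y hy =
      pv lam U hU (W := p ⁻¹ᵁ U) (ph hO1 U hU a) y hy + pv lam U hU (W := p ⁻¹ᵁ U) (ph hO1 U hU b) y hy := by
    rw [pv, map_add]; rfl
  refine Eq.trans ?_ this.symm
  rw [pv_ph, pv_ph, pv_ph, ← map_add]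
  rfl

include hP in
theorem ph_res {U : S.Opens} (hU : IsAffineOpen U) (r : Γ(S, U)) (t : 𝒮.deg U hU 1)
    (hrt : GrLocal.ρ 𝒮 r t ∈ 𝒮.deg (S.basicOpen r) (hU.basicOpen r) 1) :
    pres p O1 (S.basicOpen_le r) (ph hO1 U hU t) = ph hO1 (S.basicOpen r) (hU.basicOpen r) ⟨_, hrt⟩ := by
  refine sec_ext lam hO1 (hU.basicOpen r) le_rfl fun y hy => ?_
  obtain ⟨hle, irr, hpt, hpv⟩ := exists_basic lam hP hO1 U hU _ (hU.basicOpen r) ⟨r, rfl⟩
  have hy' : RelProj.emb p chart U hU (ProjectiveSpectrum.comap (𝒮.res hU (hU.basicOpen r) hle) irr y) ∈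
      p ⁻¹ᵁ S.basicOpen r := (hpt y).symm ▸ hy
  rw [pv_ph, hpv _ _ y hy hy']
  refine (congrArg (GrTwist.locMap _ irr y) ((pv_res lam U hU (p.preimage_mono hle)
    (ph hO1 U hU t : Γ(O1, p ⁻¹ᵁ U)) _ hy').trans (pv_ph hO1 U hU t _ _))).trans ?_
  rw [GrTwist.locMap]
  exact Localization.localRingHom_to_map _ _ _ rfl _

/-- The linear map from degree one to sections. -/
theorem span_le (U : S.Opens) (hU : IsAffineOpen U) (hP : RelProj.IsRelProj 𝒮 p chart)
    (M : Submodule Γ(S, U) (PSec p O1 U)) (T : Finset (𝒮.presheaf.obj (op U)))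
    (hT : (↑T : Set (𝒮.presheaf.obj (op U))) ⊆ (𝒮.deg U hU 1 : Set _))
    (hM : ∀ t : 𝒮.deg U hU 1, (t : 𝒮.presheaf.obj (op U)) ∈ T → ph hO1 U hU t ∈ M)
    (c : 𝒮.presheaf.obj (op U) → Γ(S, U)) (s : 𝒮.deg U hU 1)
    (hs : (s : 𝒮.presheaf.obj (op U)) = ∑ t ∈ T, GrLocal.st 𝒮 U (c t) * t) : ph hO1 U hU s ∈ M := by
  classical
  have key : s = ∑ t ∈ T.attach, smulDeg U hU (c t.1) ⟨t.1, hT t.2⟩ := Subtype.ext (by
    rw [AddSubmonoidClass.coe_finset_sum]
    exact hs.trans (T.sum_attach (fun t => GrLocal.st 𝒮 U (c t) * t)).symm)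
  rw [key, show ph hO1 U hU (∑ t ∈ T.attach, smulDeg U hU (c t.1) ⟨t.1, hT t.2⟩) =
    ∑ t ∈ T.attach, ph hO1 U hU (smulDeg U hU (c t.1) ⟨t.1, hT t.2⟩) from
      map_sum (AddMonoidHom.mk' (ph hO1 U hU) (ph_add hO1 U hU)) _ _]
  refine Submodule.sum_mem _ fun t _ => ?_
  rw [ph_smul hP hO1]
  exact M.smul_mem _ (hM ⟨t.1, hT t.2⟩ t.2)

section chart

variable (U : S.Opens) (hU : IsAffineOpen U) (t : 𝒮.deg U hU 1)

variable (chart) in
/-- The standard piece. -/
abbrev dT : P.Opens :=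
  RelProj.emb p chart U hU ''ᵁ Proj.basicOpen (𝒮.deg U hU) (t : 𝒮.presheaf.obj (op U))

variable (chart) in
theorem leT : dT chart U hU t ≤ p ⁻¹ᵁ U :=
  image_le (chart := chart) U hU _

variable (chart) in
/-- Degree-zero fractions as functions on the standard piece. -/
def coordT : CommRingCat.of (HomogeneousLocalization.Away (𝒮.deg U hU) (t : 𝒮.presheaf.obj (op U))) ≅
    Γ(P, dT chart U hU t) :=
  Proj.basicOpenIsoAway (𝒮.deg U hU) (t : 𝒮.presheaf.obj (op U)) t.2 one_pos ≪≫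
    ((RelProj.emb p chart U hU).appIso (Proj.basicOpen (𝒮.deg U hU) (t : 𝒮.presheaf.obj (op U)))).symm

/-- The fraction `x / t^k`. -/
abbrev el (k : ℕ) {x : 𝒮.presheaf.obj (op U)} (hx : x ∈ 𝒮.deg U hU k) :
    HomogeneousLocalization.Away (𝒮.deg U hU) (t : 𝒮.presheaf.obj (op U)) :=
  HomogeneousLocalization.Away.mk (𝒮.deg U hU) t.2 k x (mk_mem_deg hx)

theorem val_coordT (k : ℕ) {x : 𝒮.presheaf.obj (op U)} (hx : x ∈ 𝒮.deg U hU k)
    (y : ProjectiveSpectrum (𝒮.deg U hU))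
    (hy : RelProj.emb p chart U hU y ∈ dT chart U hU t) :
    (((RelProj.emb p chart U hU).app (dT chart U hU t)
        ((coordT chart U hU t).hom (el U hU t k hx))).1 ⟨y, hy⟩).val =
      (Localization.mk x ⟨(t : 𝒮.presheaf.obj (op U)) ^ k,
          fun h => (mem_image_iff (chart := chart) U hU _ y).1 hy (y.isPrime.mem_of_pow_mem _ h)⟩ :
        GrTwist.Loc (𝒮.deg U hU) y) := by
  refine Eq.trans ?_ (awayToSection_mk_val t.2 k
    (mk_mem_deg hx) y ((mem_image_iff (chart := chart) U hU _ y).1 hy))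
  rw [show (coordT chart U hU t).hom (el U hU t k hx) =
      ((RelProj.emb p chart U hU).appIso _).inv ((Proj.awayToSection (𝒮.deg U hU) (t : 𝒮.presheaf.obj (op U)))
        (el U hU t k hx)) from rfl, ← CommRingCat.comp_apply, Scheme.Hom.appIso_inv_app]
  rfl

include hO1 in
theorem gen_dT : Gen O1 (dT chart U hU t) (res O1 (leT chart U hU t) (ph hO1 U hU t)) := by
  have h1 : ∀ x : ProjectiveSpectrum (𝒮.deg U hU),
      x ∈ Proj.basicOpen (𝒮.deg U hU) (t : 𝒮.presheaf.obj (op U)) →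
      (1 : 𝒮.presheaf.obj (op U)) ∉ x.asHomogeneousIdeal :=
    fun x _ h => x.isPrime.ne_top ((Ideal.eq_top_iff_one _).mpr h)
  obtain ⟨s, hs, hsg⟩ := exists_sec lam hO1 U hU (Proj.basicOpen (𝒮.deg U hU) (t : 𝒮.presheaf.obj (op U)))
    (frac (n := ((1 : ℕ) : ℤ)) (e' := 0) t.2 SetLike.GradedOne.one_mem (by simp) _ h1)
  have hg := hsg (gen_frac t.2 SetLike.GradedOne.one_mem _ _ h1 fun x hx => hx)
  refine Eq.subst (motive := fun x => Gen O1 (dT chart U hU t) x)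
    (sec_ext lam hO1 hU (image_le U hU _) fun y hy => ?_) hg
  rw [hs y hy ((mem_image_iff (chart := chart) U hU _ y).1 hy), pv_res, pv_ph]
  exact gval_global t.2 (Proj.basicOpen (𝒮.deg U hU) (t : 𝒮.presheaf.obj (op U))) y _

include hO1 in
theorem res_ph (g : 𝒮.deg U hU 1) :
    res O1 (leT chart U hU t) (ph hO1 U hU g) =
      ((coordT chart U hU t).hom (el U hU t 1 g.2) : Γ(P, dT chart U hU t)) •
        res O1 (leT chart U hU t) (ph hO1 U hU t) := by
  refine sec_ext lam hO1 hU (image_le U hU _) fun y hy => ?_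
  rw [pv_smul, val_coordT U hU t 1 g.2 y hy, pv_res, pv_res, pv_ph, pv_ph,
    ← Localization.mk_one_eq_algebraMap, ← Localization.mk_one_eq_algebraMap, Localization.mk_mul]
  refine (loc_mk_eq).mpr ⟨1, ?_⟩
  simp only [one_smul, Submonoid.smul_def, smul_eq_mul, Submonoid.coe_mul, Submonoid.coe_one, pow_one]
  ring

include hO1 in
theorem eq_coordT (g : 𝒮.deg U hU 1) (c : Γ(P, dT chart U hU t))
    (h : c • res O1 (leT chart U hU t) (ph hO1 U hU t) = res O1 (leT chart U hU t) (ph hO1 U hU g)) :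
    (coordT chart U hU t).hom (el U hU t 1 g.2) = c := by
  refine (gen_dT hO1 U hU t _ le_rfl).1 ?_
  have e := (res_ph hO1 U hU t g).symm.trans h.symm
  have e' := congrArg (res O1 (le_rfl : dT chart U hU t ≤ _)) e
  rw [res_smul, res_smul] at e'
  simpa using e'

end chart

include hP hO1 in
/-- The maximal locus. -/
theorem le_dT (hgen : 𝒮.IsGenDegOne) (U : S.Opens) (hU : IsAffineOpen U) (t : 𝒮.deg U hU 1) (V : P.Opens)
    (hV : V ≤ p ⁻¹ᵁ U) (hg : Gen O1 V (res O1 hV (ph hO1 U hU t))) : V ≤ dT chart U hU t := by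
  intro z hz
  obtain ⟨y, rfl⟩ := exists_emb_eq (chart := chart) U hU (hV hz)
  refine ⟨y, fun hty => ?_, rfl⟩
  obtain ⟨g, hg1, hgy⟩ := exists_frac_cover (irrelevant_le_span_one hgen U hU) y
  obtain ⟨c, hc⟩ := (hg V le_rfl).2 (res O1 hV (ph hO1 U hU ⟨g, hg1⟩))
  have h := congrArg (fun s => pv lam U hU s y hz) hc
  simp only [pv_smul, pv_res, pv_ph] at h
  generalize (((RelProj.emb p chart U hU).app V c).1 ⟨y, hz⟩).val = q at h
  induction q using Localization.induction_on with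
  | H ab =>
    obtain ⟨a, b⟩ := ab
    rw [← Localization.mk_one_eq_algebraMap, ← Localization.mk_one_eq_algebraMap, Localization.mk_mul] at h
    obtain ⟨u, hu⟩ := (loc_mk_eq).mp h
    simp only [Submonoid.smul_def, smul_eq_mul, Submonoid.coe_mul, Submonoid.coe_one, one_mul, mul_one] at hu
    have h1 : (u : 𝒮.presheaf.obj (op U)) * ((b : 𝒮.presheaf.obj (op U)) * g) ∈ y.asHomogeneousIdeal.toIdeal := by
      rw [← hu]
      exact Ideal.mul_mem_left _ _ (Ideal.mul_mem_left _ _ hty)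
    exact y.isPrime.mul_notMem u.2 (y.isPrime.mul_notMem b.2 hgy) h1

include hO1 in
/-- The functions on a standard piece are generated by the base and all the ratios. -/
theorem closure_eq_top_all (hgen : 𝒮.IsGenDegOne) (U : S.Opens) (hU : IsAffineOpen U) (t : 𝒮.deg U hU 1) :
    Subring.closure (Set.range (p.appLE U (dT chart U hU t) (leT chart U hU t)) ∪
      {c | ∃ g : 𝒮.deg U hU 1,
        c • res O1 (leT chart U hU t) (ph hO1 U hU t) =
          res O1 (leT chart U hU t) (ph hO1 U hU g)}) = ⊤ := by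
  classical
  obtain ⟨G, hG⟩ : ∃ G : Subring Γ(P, dT chart U hU t),
      Subring.closure (Set.range (p.appLE U (dT chart U hU t) (leT chart U hU t)) ∪
      {c | ∃ g : 𝒮.deg U hU 1,
        c • res O1 (leT chart U hU t) (ph hO1 U hU t) =
          res O1 (leT chart U hU t) (ph hO1 U hU g)}) = G := ⟨_, rfl⟩
  rw [hG]
  let co : HomogeneousLocalization.Away (𝒮.deg U hU) (t : 𝒮.presheaf.obj (op U)) →+* Γ(P, dT chart U hU t) :=
    (coordT chart U hU t).hom.hom
  let H : Subring _ := G.comap co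
  suffices h : ∀ (k : ℕ) (x : 𝒮.presheaf.obj (op U)) (hx : x ∈ 𝒮.deg U hU k), el U hU t k hx ∈ H by
    refine top_le_iff.1 fun F _ => ?_
    obtain ⟨q, rfl⟩ := (ConcreteCategory.bijective_of_isIso (coordT chart U hU t).hom).2 F
    obtain ⟨k, x, hx, rfl⟩ := HomogeneousLocalization.Away.mk_surjective (𝒮.deg U hU) t.2 q
    exact h k x (by rwa [smul_eq_mul, mul_one] at hx)
  have hval : ∀ (k : ℕ) (x : 𝒮.presheaf.obj (op U)) (hx : x ∈ 𝒮.deg U hU k),
      (el U hU t k hx).val = Localization.mk x ⟨(t : 𝒮.presheaf.obj (op U)) ^ k, Submonoid.mem_powers_iff _ _ |>.2 ⟨k, rfl⟩⟩ := fun k x hx => rfl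
  have hinj := HomogeneousLocalization.val_injective (𝒜 := 𝒮.deg U hU)
    (Submonoid.powers (t : 𝒮.presheaf.obj (op U)))
  have hzero : ∀ (k : ℕ), el U hU t k (zero_mem (𝒮.deg U hU k)) = 0 := fun k => hinj (by
    rw [hval, Localization.mk_zero, HomogeneousLocalization.val_zero])
  have hadd : ∀ (k : ℕ) (x x' : 𝒮.presheaf.obj (op U)) (hx : x ∈ 𝒮.deg U hU k) (hx' : x' ∈ 𝒮.deg U hU k),
      el U hU t k (add_mem hx hx') = el U hU t k hx + el U hU t k hx' := fun k x x' hx hx' => hinj (by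
    rw [HomogeneousLocalization.val_add, hval, hval, hval, Localization.add_mk_self])
  have hneg : ∀ (k : ℕ) (x : 𝒮.presheaf.obj (op U)) (hx : x ∈ 𝒮.deg U hU k),
      el U hU t k (neg_mem hx) = -el U hU t k hx := fun k x hx => hinj (by
    rw [HomogeneousLocalization.val_neg, hval, hval, Localization.neg_mk])
  have hone : ∀ g (hg : g ∈ 𝒮.deg U hU 1), el U hU t 1 hg ∈ H := fun g hg =>
    hG.le (Subring.subset_closure (Or.inr ⟨⟨g, hg⟩, (res_ph hO1 U hU t ⟨g, hg⟩).symm⟩))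
  intro k
  induction k with
  | zero =>
    intro x hx
    have hxt : x * (t : 𝒮.presheaf.obj (op U)) ∈ 𝒮.deg U hU 1 := by
      simpa only [zero_add] using SetLike.mul_mem_graded (A := 𝒮.deg U hU) hx t.2
    rw [show el U hU t 0 hx = el U hU t 1 hxt from hinj (by
      rw [hval, hval, Localization.mk_eq_mk_iff, Localization.r_iff_exists]
      exact ⟨1, by simp only [OneMemClass.coe_one, pow_one, pow_zero, one_mul]; ring⟩)]
    exact hone _ hxt
  | succ k ih =>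
    intro x hx
    have hcl : x ∈ Subring.closure
        ((𝒮.deg U hU 0 : Set (𝒮.presheaf.obj (op U))) ∪ (𝒮.deg U hU 1 : Set _)) := by
      rw [hgen U hU]; exact Subring.mem_top x
    have hspan := Groth.Ega2P2.mem_span_of_mem_closure (𝒜 := 𝒮.deg U hU)
      (fun _ h => h) (fun _ h => h) hcl (Nat.succ_pos k) hx
    let K : AddSubgroup (𝒮.presheaf.obj (op U)) :=
      { carrier := {g | el U hU t (k + 1)
          (SetLike.coe_mem (DirectSum.decompose (𝒮.deg U hU) g (k + 1))) ∈ H}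
        zero_mem' := by
          simp only [Set.mem_setOf_eq, DirectSum.decompose_zero, DirectSum.zero_apply, ZeroMemClass.coe_zero]
          exact (hzero (k + 1)).symm ▸ H.zero_mem
        add_mem' := fun {a b} ha hb => by
          simp only [Set.mem_setOf_eq, DirectSum.decompose_add, DirectSum.add_apply, AddMemClass.coe_add]
          exact (hadd (k + 1) _ _ (SetLike.coe_mem _) (SetLike.coe_mem _)).symm ▸ H.add_mem ha hb
        neg_mem' := fun {a} ha => by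
          simp only [Set.mem_setOf_eq, DirectSum.decompose_neg, DFinsupp.neg_apply, NegMemClass.coe_neg]
          exact (hneg (k + 1) _ (SetLike.coe_mem _)).symm ▸ H.neg_mem ha }
    have key : ∀ g (_ : g ∈ Ideal.span (𝒮.deg U hU 1 : Set (𝒮.presheaf.obj (op U)))) (c : _), c * g ∈ K := by
      intro g hg
      induction hg using Submodule.span_induction with
      | mem g hg =>
        intro c
        have e := decompose_smul_of_mem_right (𝒮.deg U hU) hg c k
        rw [smul_eq_mul] at e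
        have h := H.mul_mem (ih _ (SetLike.coe_mem (DirectSum.decompose (𝒮.deg U hU) c k))) (hone g hg)
        change el U hU t (k + 1) _ ∈ H
        refine Eq.subst (motive := fun q => q ∈ H) (hinj ?_) h
        rw [HomogeneousLocalization.val_mul, hval, hval, hval, Localization.mk_mul, e, smul_eq_mul]
        exact congrArg _ (Subtype.ext (by simp [pow_succ]))
      | zero => intro c; rw [mul_zero]; exact K.zero_mem
      | add a b _ _ iha ihb => intro c; rw [mul_add]; exact K.add_mem (iha c) (ihb c)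
      | smul a b _ ihb => intro c; rw [smul_eq_mul, ← mul_assoc]; exact ihb _
    have h := key x hspan 1
    rw [one_mul] at h
    change el U hU t (k + 1) _ ∈ H at h
    simpa only [DirectSum.decompose_of_mem_same (𝒮.deg U hU) hx] using h

include hP hO1 in
/-- The functions on a standard piece are generated by the base and the ratios. -/
theorem closure_eq_top (hgen : 𝒮.IsGenDegOne) (U : S.Opens) (hU : IsAffineOpen U) (t : 𝒮.deg U hU 1)
    (T : Finset (𝒮.presheaf.obj (op U)))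
    (hT : (↑T : Set (𝒮.presheaf.obj (op U))) ⊆ (𝒮.deg U hU 1 : Set _))
    (hTgen : ∀ x ∈ 𝒮.deg U hU 1, ∃ c : (𝒮.presheaf.obj (op U)) → Γ(S, U),
      x = ∑ t' ∈ T, GrLocal.st 𝒮 U (c t') * t') :
    Subring.closure (Set.range (p.appLE U (dT chart U hU t) (leT chart U hU t)) ∪
      {c | ∃ t' : 𝒮.deg U hU 1, (t' : 𝒮.presheaf.obj (op U)) ∈ T ∧
        c • res O1 (leT chart U hU t) (ph hO1 U hU t) =
          res O1 (leT chart U hU t) (ph hO1 U hU t')}) = ⊤ := by
  classical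
  refine top_le_iff.1 ((closure_eq_top_all hO1 hgen U hU t).ge.trans (Subring.closure_le.2 ?_))
  rintro d (⟨a, rfl⟩ | ⟨g, hd⟩)
  · exact Subring.subset_closure (Or.inl ⟨a, rfl⟩)
  obtain ⟨c, hc⟩ := hTgen g g.2
  have hkey : ∀ t' (ht' : t' ∈ T), (coordT chart U hU t).hom (el U hU t 1 (hT ht')) ∈
      {d | ∃ t'' : 𝒮.deg U hU 1, (t'' : 𝒮.presheaf.obj (op U)) ∈ T ∧
        d • res O1 (leT chart U hU t) (ph hO1 U hU t) = res O1 (leT chart U hU t) (ph hO1 U hU t'')} :=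
    fun t' ht' => ⟨⟨t', hT ht'⟩, ht', (res_ph hO1 U hU t ⟨t', hT ht'⟩).symm⟩
  have hsum : d = ∑ x ∈ T.attach, p.appLE U (dT chart U hU t) (leT chart U hU t) (c x.1) *
      (coordT chart U hU t).hom (el U hU t 1 (hT x.2)) := by
    refine (gen_dT hO1 U hU t).smul_inj le_rfl ?_
    rw [res_self, hd, Finset.sum_smul]
    have hg : g = ∑ x ∈ T.attach, smulDeg U hU (c x.1) ⟨x.1, hT x.2⟩ := Subtype.ext (by
      rw [AddSubmonoidClass.coe_finset_sum]
      exact hc.trans (T.sum_attach (fun t => GrLocal.st 𝒮 U (c t) * t)).symm)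
    refine (congrArg (res O1 (leT chart U hU t)) ((congrArg (ph hO1 U hU) hg).trans
      (map_sum (AddMonoidHom.mk' (ph hO1 U hU) (ph_add hO1 U hU)) _ _))).trans ?_
    refine (map_sum (AddMonoidHom.mk' (fun s => res O1 (leT chart U hU t) s) fun a b => res_add _ a b) _ _).trans ?_
    refine Finset.sum_congr rfl fun x _ => ?_
    change res O1 (leT chart U hU t) (ph hO1 U hU (smulDeg U hU (c x.1) ⟨x.1, hT x.2⟩)) = _
    rw [ph_smul hP hO1, mul_smul, ← res_ph hO1 U hU t ⟨x.1, hT x.2⟩]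
    exact res_smul (M := O1) (leT chart U hU t) _ _
  rw [hsum]
  exact Subring.sum_mem _ fun x _ => Subring.mul_mem _ (Subring.subset_closure (Or.inl ⟨_, rfl⟩))
    (Subring.subset_closure (Or.inr (hkey x.1 x.2)))

/-- The sections of a family in degree one. -/
def TT (U : S.Opens) (hU : IsAffineOpen U) (T : Finset (𝒮.presheaf.obj (op U))) : Set (PSec p O1 U) :=
  {s | ∃ t : 𝒮.deg U hU 1, (t : 𝒮.presheaf.obj (op U)) ∈ T ∧ ph hO1 U hU t = s}

variable (T : ∀ (U : S.Opens) (_ : IsAffineOpen U), Finset (𝒮.presheaf.obj (op U)))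
  (hT : ∀ U hU, (↑(T U hU) : Set (𝒮.presheaf.obj (op U))) ⊆ (𝒮.deg U hU 1 : Set _))
  (hTgen : ∀ U hU, ∀ x ∈ 𝒮.deg U hU 1, ∃ c : (𝒮.presheaf.obj (op U)) → Γ(S, U),
      x = ∑ t ∈ T U hU, GrLocal.st 𝒮 U (c t) * t)

include hT in
theorem finite_TT (U : S.Opens) (hU : IsAffineOpen U) : (TT hO1 U hU (T U hU)).Finite := by
  classical
  refine Set.Finite.subset (((T U hU).attach.image
    (fun t => (ph hO1 U hU ⟨t.1, hT U hU t.2⟩ : PSec p O1 U))).finite_toSet) ?_
  rintro _ ⟨t, ht, rfl⟩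
  exact Finset.mem_image.2 ⟨⟨_, ht⟩, Finset.mem_attach _ _, rfl⟩

include hP hT hTgen in
theorem ph_mem_span (U : S.Opens) (hU : IsAffineOpen U) (g : 𝒮.deg U hU 1) :
    (ph hO1 U hU g : PSec p O1 U) ∈ Submodule.span Γ(S, U) (TT hO1 U hU (T U hU)) := by
  obtain ⟨c, hc⟩ := hTgen U hU _ g.2
  exact span_le hO1 _ _ hP _ _ (hT _ _) (fun t ht => Submodule.subset_span (⟨t, ht, rfl⟩ : (ph hO1 U hU t : PSec p O1 U) ∈ TT hO1 U hU (T U hU))) c _ hc

include hP hT hTgen in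
theorem compat_TT (A : S.Opens) (hA : IsAffineOpen A) (r : Γ(S, A)) :
    Submodule.span Γ(S, S.basicOpen r) (pres p O1 (S.basicOpen_le r) '' TT hO1 A hA (T A hA)) =
      Submodule.span Γ(S, S.basicOpen r) (TT hO1 (S.basicOpen r) (hA.basicOpen r) (T _ (hA.basicOpen r))) := by
  have hmem : ∀ t : 𝒮.deg A hA 1, GrLocal.ρ 𝒮 r t ∈ 𝒮.deg (S.basicOpen r) (hA.basicOpen r) 1 :=
    fun t => 𝒮.map_mem hA (hA.basicOpen r) (S.basicOpen_le r) t.2
  refine le_antisymm (Submodule.span_le.2 ?_) (Submodule.span_le.2 ?_)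
  · rintro _ ⟨_, ⟨t, -, rfl⟩, rfl⟩
    rw [ph_res hP hO1 hA r t (hmem t)]
    exact ph_mem_span hP hO1 T hT hTgen _ _ _
  · rintro _ ⟨t', -, rfl⟩
    obtain ⟨n, a, ha, e⟩ := GrLocal.exists_deg_lift 𝒮 hA r t'.2
    have h1 := Groth.QCohMod.SubMod.res_mem_span (S.basicOpen_le r) _ _
      (ph_mem_span hP hO1 T hT hTgen A hA ⟨a, ha⟩)
    obtain ⟨u, hu⟩ : ∃ u : (Γ(S, S.basicOpen r))ˣ,
        (u : Γ(S, S.basicOpen r)) = (S.presheaf.map (homOfLE (S.basicOpen_le r)).op).hom r :=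
      AlgebraicGeometry.RingedSpace.isUnit_res_basicOpen S.toRingedSpace r
    have key : t' = smulDeg (S.basicOpen r) (hA.basicOpen r) ((↑u⁻¹ : Γ(S, S.basicOpen r)) ^ n)
        ⟨_, hmem ⟨a, ha⟩⟩ := Subtype.ext (by
      change (t' : 𝒮.presheaf.obj (op (S.basicOpen r))) = GrLocal.st 𝒮 _ _ * GrLocal.ρ 𝒮 r a
      rw [e, GrLocal.ρ_st, ← hu, map_pow, ← mul_assoc, ← mul_pow, ← map_mul,
        Units.inv_mul, map_one, one_pow, one_mul])
    rw [key, ph_smul hP hO1]
    refine Submodule.smul_mem _ ((↑u⁻¹ : Γ(S, S.basicOpen r)) ^ n) ?_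
    exact (ph_res hP hO1 hA r ⟨a, ha⟩ (hmem ⟨a, ha⟩)) ▸ h1

include hP hT hTgen in
theorem chart_TT (hgen : 𝒮.IsGenDegOne) (A : S.Opens) (hA : IsAffineOpen A) (z : P) (hz : p z ∈ A) :
    ∃ t ∈ TT hO1 A hA (T A hA), ∃ (W : P.Opens) (hW : W ≤ p ⁻¹ᵁ A),
      z ∈ W ∧ IsAffineOpen W ∧ Gen O1 W (res O1 hW (up p t)) ∧
      (∀ (V : P.Opens) (hV : V ≤ p ⁻¹ᵁ A), Gen O1 V (res O1 hV (up p t)) → V ≤ W) ∧
      Subring.closure (Set.range (p.appLE A W hW) ∪
        {c | ∃ t' ∈ TT hO1 A hA (T A hA), c • res O1 hW (up p t) = res O1 hW (up p t')}) = ⊤ := by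
  obtain ⟨y, rfl⟩ := exists_emb_eq (chart := chart) A hA hz
  obtain ⟨t, ht, hty⟩ : ∃ t : 𝒮.deg A hA 1, (t : 𝒮.presheaf.obj (op A)) ∈ T A hA ∧
      (t : 𝒮.presheaf.obj (op A)) ∉ y.asHomogeneousIdeal := by
    by_contra h
    push Not at h
    obtain ⟨f, hf, hfy⟩ := exists_frac_cover (irrelevant_le_span_one hgen A hA) y
    obtain ⟨c, rfl⟩ := hTgen A hA f hf
    exact hfy (y.asHomogeneousIdeal.toIdeal.sum_mem fun t' ht' =>
      Ideal.mul_mem_left _ _ (h ⟨t', hT A hA ht'⟩ ht'))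
  refine ⟨_, ⟨t, ht, rfl⟩, dT chart A hA t, leT chart A hA t, ⟨y, hty, rfl⟩,
    (Proj.isAffineOpen_basicOpen (𝒮.deg A hA) _ t.2 one_pos).image_of_isOpenImmersion _,
    gen_dT hO1 A hA t, le_dT hP hO1 hgen A hA t, top_le_iff.1 ?_⟩
  refine (closure_eq_top hP hO1 hgen A hA t _ (hT A hA) (hTgen A hA)).ge.trans (Subring.closure_mono ?_)
  refine Set.union_subset_union le_rfl ?_
  rintro c ⟨t', ht', hc⟩
  exact ⟨_, ⟨t', ht', rfl⟩, hc⟩

end Groth.Ega2Proj.ProjPol

namespace Groth.Ega2Proj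

/-- The relative Proj of an algebra generated in degree one by a module of finite type has polarisation data. -/
theorem Pol.of_isRelProj {S P : Scheme.{u}} {𝒮 : RelProj.QCGrAlg S} {p : P ⟶ S}
    {chart : ∀ (U : S.Opens) (hU : IsAffineOpen U), (((p ⁻¹ᵁ U : P.Opens) : Scheme.{u}) ≅ Proj (𝒮.deg U hU))}
    (hP : RelProj.IsRelProj 𝒮 p chart) (hgen : 𝒮.IsGenDegOne) (hft : 𝒮.IsFTDeg 1) : Nonempty (Pol p) := by
  choose T hT hTgen using hft
  have hO := Groth.RelTw.isRelTwist_relTwist hP 1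
  exact ⟨{
    L := _
    inv := Groth.RelTw.isInvertible _ hO hgen
    T := fun A hA => ProjPol.TT hO A hA (T A hA)
    fin := fun A hA => ProjPol.finite_TT hO T hT A hA
    compat := fun A hA r => ProjPol.compat_TT hP hO T hT hTgen A hA r
    chart := fun A hA z hz => ProjPol.chart_TT hP hO T hT hTgen hgen A hA z hz }⟩

end Groth.Ega2Proj
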