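/-
A closed subscheme of a relative Proj whose direct image of `O(1)` is of finite type has polarisation data.
-/
import Groth.Agent.Ega2Proj.ProjPol
import Groth.Agent.Ega2Proj.SymGen

set_option autoImplicit false

universe u

open CategoryTheory CategoryTheory.Limits AlgebraicGeometry Opposite TopologicalSpace

set_option backward.isDefEq.respectTransparency.types false

noncomputable section

namespace Groth.Ega2Proj.PolEmb

open Groth.PicAux Groth.RelTw Groth.Ega2Proj.ProjPol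

variable {S P X : Scheme.{u}} {𝒮 : RelProj.QCGrAlg S} {p : P ⟶ S}
  {chart : ∀ (U : S.Opens) (hU : IsAffineOpen U), (((p ⁻¹ᵁ U : P.Opens) : Scheme.{u}) ≅ Proj (𝒮.deg U hU))}
  (hP : RelProj.IsRelProj 𝒮 p chart)
  {O1 : P.Modules}
  {lam : ∀ (U : S.Opens) (hU : IsAffineOpen U),
    O1 ⟶ (Scheme.Modules.pushforward (RelProj.emb p chart U hU)).obj (GrTwist.twist (𝒮.deg U hU) 1)}
  (hO1 : RelProj.IsRelTwist 𝒮 p chart 1 O1 lam) (hgen : 𝒮.IsGenDegOne)
  (i : X ⟶ P) [IsClosedImmersion i]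

/-- The pulled back `O(1)`. -/
abbrev MM (O1 : P.Modules) : X.Modules := (Scheme.Modules.pullback i).obj O1

/-- The section given by an element of degree one. -/
def sg (U : S.Opens) (hU : IsAffineOpen U) (t : 𝒮.deg U hU 1) : PSec (i ≫ p) (MM i O1) U :=
  pullSec i O1 (ph hO1 U hU t)

theorem res_sg (U : S.Opens) (hU : IsAffineOpen U) (t : 𝒮.deg U hU 1) {V : X.Opens} {W : P.Opens}
    (hW : W ≤ p ⁻¹ᵁ U) (hV : V ≤ i ⁻¹ᵁ W) :
    res _ (hV.trans (i.preimage_mono hW) : V ≤ (i ≫ p) ⁻¹ᵁ U) (up (i ≫ p) (sg hO1 i U hU t)) =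
      res _ hV (pullSec i O1 (res O1 hW (ph hO1 U hU t))) := by
  rw [← res_pullSec, res_res]
  rfl

include hP hO1 hgen in
theorem le_preimage_dT (U : S.Opens) (hU : IsAffineOpen U) (t : 𝒮.deg U hU 1) (V : X.Opens)
    (hV : V ≤ (i ≫ p) ⁻¹ᵁ U) (hg : Gen (MM i O1) V (res _ hV (up (i ≫ p) (sg hO1 i U hU t)))) :
    V ≤ i ⁻¹ᵁ dT chart U hU t := by
  intro x hx
  obtain ⟨y, hy⟩ := exists_emb_eq (chart := chart) U hU (hV hx : p (i x) ∈ U)
  obtain ⟨g, hg1, hgy⟩ := exists_frac_cover (irrelevant_le_span_one hgen U hU) y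
  let γ : 𝒮.deg U hU 1 := ⟨g, hg1⟩
  let D := dT chart U hU γ
  have hxD : i x ∈ D := hy ▸ ⟨y, hgy, rfl⟩
  let c : Γ(P, D) := (coordT chart U hU γ).hom (el U hU γ 1 t.2)
  let V' := V ⊓ i ⁻¹ᵁ D
  have hbase := ((gen_dT hO1 U hU γ).pull i).res (inf_le_right : V' ≤ i ⁻¹ᵁ D)
  have h1 : res _ (inf_le_left : V' ≤ V) (res _ hV (up (i ≫ p) (sg hO1 i U hU t))) =
      resX X (inf_le_right : V' ≤ i ⁻¹ᵁ D) (i.app D c) •
        res _ (inf_le_right : V' ≤ i ⁻¹ᵁ D) (pullSec i O1 (res O1 (leT chart U hU γ) (ph hO1 U hU γ))) := by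
    rw [← res_smul, ← pullSec_smul, ← res_ph hO1 U hU γ t, res_res]
    exact res_sg hO1 i U hU t (leT chart U hU γ) inf_le_right
  have hu : IsUnit (resX X (inf_le_right : V' ≤ i ⁻¹ᵁ D) (i.app D c)) :=
    hbase.isUnit_of_smul (h1 ▸ hg.res (inf_le_left : V' ≤ V))
  have hbo : i x ∈ P.basicOpen c := by
    have := X.basicOpen_of_isUnit hu
    rw [show resX X (inf_le_right : V' ≤ i ⁻¹ᵁ D) (i.app D c) =
        X.presheaf.map (homOfLE (inf_le_right : V' ≤ i ⁻¹ᵁ D)).op (i.app D c) from rfl,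
      Scheme.basicOpen_res, ← Scheme.preimage_basicOpen] at this
    exact (this.ge ⟨hx, hxD⟩).2
  refine le_dT hP hO1 hgen U hU t (P.basicOpen c) ((P.basicOpen_le c).trans (leT chart U hU γ)) ?_ hbo
  rw [← res_res (M := O1) (leT chart U hU γ) (P.basicOpen_le c), res_ph hO1 U hU γ t, res_smul]
  exact ((gen_dT hO1 U hU γ).res (P.basicOpen_le c)).smul_unit
    (RingedSpace.isUnit_res_basicOpen P.toRingedSpace c)

open Groth.QCohMod in
include hP hO1 hgen in
/-- Polarisation data on the closed subscheme. -/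
theorem exists_pol [QuasiCompact (i ≫ p)]
    [((Scheme.Modules.pushforward (i ≫ p)).obj (MM i O1)).IsQuasicoherent]
    (hfin : ∀ A : S.Opens, IsAffineOpen A → Module.Finite Γ(S, A) (PSec (i ≫ p) (MM i O1) A)) :
    Nonempty (Pol (i ≫ p)) := by
  classical
  have hpt : ∀ (A : S.Opens) (hA : IsAffineOpen A) (x : ↥((i ≫ p) ⁻¹ᵁ A)),
      ∃ t : 𝒮.deg A hA 1, i x.1 ∈ dT chart A hA t := by
    intro A hA x
    obtain ⟨y, hy⟩ := exists_emb_eq (chart := chart) A hA (x.2 : p (i x.1) ∈ A)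
    obtain ⟨g, hg1, hgy⟩ := exists_frac_cover (irrelevant_le_span_one hgen A hA) y
    exact ⟨⟨g, hg1⟩, hy ▸ ⟨y, hgy, rfl⟩⟩
  choose tt htt using hpt
  have hcomp : ∀ (A : S.Opens) (hA : IsAffineOpen A), ∃ F : Finset ↥((i ≫ p) ⁻¹ᵁ A),
      ∀ x : X, (i ≫ p) x ∈ A → ∃ z ∈ F, i x ∈ dT chart A hA (tt A hA z) := by
    intro A hA
    obtain ⟨F, hF⟩ := ((i ≫ p).isCompact_preimage hA.isCompact).elim_finite_subcover
      (fun z : ↥((i ≫ p) ⁻¹ᵁ A) => ((i ⁻¹ᵁ dT chart A hA (tt A hA z) : X.Opens) : Set X))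
      (fun z => (i ⁻¹ᵁ dT chart A hA (tt A hA z)).2) (fun x hx => Set.mem_iUnion.2 ⟨⟨x, hx⟩, htt A hA _⟩)
    refine ⟨F, fun x hx => ?_⟩
    obtain ⟨z, hz, hxz⟩ := Set.mem_iUnion₂.1 (hF hx)
    exact ⟨z, hz, hxz⟩
  choose F hF using hcomp
  choose G hG using fun (A : S.Opens) (hA : IsAffineOpen A) => (hfin A hA).fg_top
  let T : ∀ A : S.Opens, IsAffineOpen A → Set (PSec (i ≫ p) (MM i O1) A) := fun A hA =>
    (↑(G A hA) : Set (PSec (i ≫ p) (MM i O1) A)) ∪ (fun z => sg hO1 i A hA (tt A hA z)) '' (F A hA)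
  have hT : ∀ A hA, Submodule.span Γ(S, A) (T A hA) = ⊤ := fun A hA =>
    top_le_iff.1 ((hG A hA).ge.trans (Submodule.span_mono Set.subset_union_left))
  refine ⟨{
    L := MM i O1
    inv := isInvertible_pullback i (Groth.RelTw.isInvertible lam hO1 hgen)
    T := T
    fin := fun A hA => (G A hA).finite_toSet.union ((F A hA).finite_toSet.image _)
    compat := fun A hA r => ?_
    chart := fun A hA z hz => ?_ }⟩
  · rw [hT _ (hA.basicOpen r)]
    refine top_le_iff.1 fun s _ => ?_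
    obtain ⟨n, s', hs'⟩ := Groth.QCohMod.exists_pow_smul_eq_res
      ((Scheme.Modules.pushforward (i ≫ p)).obj (MM i O1)) hA r s
    have h1 : Groth.QCohMod.res ((Scheme.Modules.pushforward (i ≫ p)).obj (MM i O1)) (S.basicOpen_le r) s' ∈
        Submodule.span Γ(S, S.basicOpen r) (pres (i ≫ p) (MM i O1) (S.basicOpen_le r) '' T A hA) :=
      SubMod.res_mem_span (S.basicOpen_le r) _ _ ((hT A hA).ge Submodule.mem_top)
    rw [hs'] at h1
    exact (Submodule.smul_mem_iff_of_isUnit _ ((RingedSpace.isUnit_res_basicOpen S.toRingedSpace r).pow n)).1 h1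
  · obtain ⟨z', hz', hzz⟩ := hF A hA z hz
    obtain ⟨t, ht⟩ : ∃ t, t = tt A hA z' := ⟨_, rfl⟩
    rw [← ht] at hzz
    obtain ⟨W, hWdef⟩ : ∃ W, W = i ⁻¹ᵁ dT chart A hA t := ⟨_, rfl⟩
    have hW : W ≤ (i ≫ p) ⁻¹ᵁ A := hWdef.le.trans (i.preimage_mono (leT chart A hA t))
    have hWa : IsAffineOpen W := hWdef ▸
      ((Proj.isAffineOpen_basicOpen (𝒮.deg A hA) _ t.2 one_pos).image_of_isOpenImmersion _).preimage i
    have hgW : Gen (MM i O1) W (Groth.PicAux.res _ hW (up (i ≫ p) (sg hO1 i A hA t))) := by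
      rw [res_sg hO1 i A hA t (leT chart A hA t) hWdef.le]
      exact ((gen_dT hO1 A hA t).pull i).res _
    refine ⟨sg hO1 i A hA t, Or.inr ⟨z', hz', by rw [ht]⟩, W, hW, hWdef ▸ hzz, hWa, hgW,
      fun V hV hg => hWdef ▸ le_preimage_dT hP hO1 hgen i A hA t V hV hg, ?_⟩
    obtain ⟨R, hR⟩ : ∃ R, Subring.closure (Set.range ((i ≫ p).appLE A W hW) ∪
        {c | ∃ t' ∈ T A hA, c • Groth.PicAux.res _ hW (up (i ≫ p) (sg hO1 i A hA t)) =
          Groth.PicAux.res _ hW (up (i ≫ p) t')}) = R := ⟨_, rfl⟩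
    rw [hR]
    have hsec : ∀ s : PSec (i ≫ p) (MM i O1) A, ∃ c ∈ R, c • Groth.PicAux.res _ hW (up (i ≫ p) (sg hO1 i A hA t)) =
        Groth.PicAux.res _ hW (up (i ≫ p) s) := by
      intro s
      have hs : s ∈ Submodule.span Γ(S, A) (T A hA) := (hT A hA).ge Submodule.mem_top
      induction hs using Submodule.span_induction with
      | mem s hs =>
        obtain ⟨c, hc⟩ := hgW.exists_coeff le_rfl (Groth.PicAux.res _ hW (up (i ≫ p) s))
        rw [Groth.PicAux.res_self] at hc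
        exact ⟨c, hR ▸ Subring.subset_closure (Or.inr ⟨s, hs, hc.symm⟩), hc.symm⟩
      | zero => exact ⟨0, R.zero_mem, by rw [zero_smul]; exact (map_zero _).symm⟩
      | add a b _ _ ha hb =>
        obtain ⟨c, hc, hc'⟩ := ha
        obtain ⟨d, hd, hd'⟩ := hb
        exact ⟨c + d, R.add_mem hc hd, by rw [add_smul, hc', hd']; exact (map_add _ _ _).symm⟩
      | smul a b _ hb =>
        obtain ⟨c, hc, hc'⟩ := hb
        refine ⟨(i ≫ p).appLE A W hW a * c, R.mul_mem (hR ▸ Subring.subset_closure (Or.inl ⟨a, rfl⟩)) hc, ?_⟩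
        rw [mul_smul, hc']
        exact (Groth.PicAux.res_smul (M := MM i O1) hW ((i ≫ p).app A a) (up (i ≫ p) b)).symm
    have hsurj : Function.Surjective (i.appLE (dT chart A hA t) W hWdef.le) := by
      subst hWdef
      rw [Scheme.Hom.appLE_eq_app]
      exact i.app_surjective
        _ ((Proj.isAffineOpen_basicOpen (𝒮.deg A hA) _ t.2 one_pos).image_of_isOpenImmersion _)
    refine top_le_iff.1 fun F' _ => ?_
    obtain ⟨q, rfl⟩ := hsurj F'
    suffices h : q ∈ R.comap (i.appLE (dT chart A hA t) W hWdef.le).hom from h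
    refine ((closure_eq_top_all hO1 hgen A hA t).ge.trans (Subring.closure_le.2 ?_)) (Subring.mem_top q)
    rintro d (⟨a, rfl⟩ | ⟨g, hd⟩)
    · refine hR ▸ Subring.subset_closure (Or.inl ⟨a, ?_⟩)
      exact congr(($(Scheme.Hom.appLE_comp_appLE i p A (dT chart A hA t) W (leT chart A hA t) hWdef.le)).hom a).symm
    · obtain ⟨c, hc, hc'⟩ := hsec (sg hO1 i A hA g)
      have : i.appLE (dT chart A hA t) W hWdef.le d = c := by
        refine hgW.smul_inj le_rfl ?_
        rw [Groth.PicAux.res_self, hc', res_sg hO1 i A hA t (leT chart A hA t) hWdef.le,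
          res_sg hO1 i A hA g (leT chart A hA t) hWdef.le, ← hd, pullSec_smul, Groth.PicAux.res_smul]
        rfl
      exact (this ▸ hc : i.appLE (dT chart A hA t) W hWdef.le d ∈ R)

end Groth.Ega2Proj.PolEmb

namespace Groth.Ega2Proj

open Groth.PicAux in
theorem isSeparated_of_isRelProj {S P : Scheme.{u}} {𝒮 : RelProj.QCGrAlg S} {p : P ⟶ S}
    {chart : ∀ (U : S.Opens) (hU : IsAffineOpen U), (((p ⁻¹ᵁ U : P.Opens) : Scheme.{u}) ≅ Proj (𝒮.deg U hU))}
    (hP : RelProj.IsRelProj 𝒮 p chart) : IsSeparated p := by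
  refine (IsZariskiLocalAtTarget.iff_of_iSup_eq_top (P := @IsSeparated) (fun U : S.affineOpens => U.1)
    (iSup_affineOpens_eq_top S)).mpr fun U => ?_
  have : IsSeparated ((p ∣_ U.1) ≫ U.1.ι) := by
    rw [morphismRestrict_ι, ← hP.chart_over U.1 U.2]
    infer_instance
  exact IsSeparated.of_comp (p ∣_ U.1) U.1.ι

/-- A proper morphism into a relative Proj of an algebra generated in degree one, with direct image of
`O(1)` of finite type, is projective. -/
theorem isProjective_of_immersion_finite {S P X : Scheme.{u}} {𝒮 : RelProj.QCGrAlg S} {p : P ⟶ S}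
    {chart : ∀ (U : S.Opens) (hU : IsAffineOpen U), (((p ⁻¹ᵁ U : P.Opens) : Scheme.{u}) ≅ Proj (𝒮.deg U hU))}
    (hP : RelProj.IsRelProj 𝒮 p chart) {O1 : P.Modules}
    {lam : ∀ (U : S.Opens) (hU : IsAffineOpen U),
      O1 ⟶ (Scheme.Modules.pushforward (RelProj.emb p chart U hU)).obj (GrTwist.twist (𝒮.deg U hU) 1)}
    (hO1 : RelProj.IsRelTwist 𝒮 p chart 1 O1 lam) (hgen : 𝒮.IsGenDegOne)
    (f : X ⟶ S) [IsProper f] (i : X ⟶ P) [IsImmersion i] (hi : i ≫ p = f)
    (hft : CohB1.IsFT ((Scheme.Modules.pushforward f).obj ((Scheme.Modules.pullback i).obj O1))) :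
    RelProj.IsProjective f := by
  subst hi
  have := isSeparated_of_isRelProj hP
  have : IsProper i := IsProper.of_comp i p
  have : IsClosedImmersion i := (IsClosedImmersion.iff_isProper_and_mono _).2 ⟨inferInstance, inferInstance⟩
  have : ((Scheme.Modules.pullback i).obj O1).IsQuasicoherent :=
    Groth.PicAux.isQCoh_of_isInvertible (Groth.PicAux.isInvertible_pullback i (Groth.RelTw.isInvertible lam hO1 hgen))
  have := Groth.QCohMod.isQCoh_pushforward (M := (Scheme.Modules.pullback i).obj O1) (i ≫ p)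
  obtain ⟨D⟩ := PolEmb.exists_pol hP hO1 hgen i fun A hA => Groth.QCohMod.finite_sections _ hft hA
  exact D.isProjective

end Groth.Ega2Proj
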