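/-
The fibre product of two morphisms with polarisation data has polarisation data.
-/
import Groth.Agent.Ega2Proj.PolData
import Groth.Agent.PicAux.TensorLift
import Groth.Agent.PicAux.Pullback
import Mathlib.AlgebraicGeometry.Morphisms.Flat
import Groth.Agent.Ega2Proj.ProjPol

set_option autoImplicit false

universe u

open CategoryTheory CategoryTheory.Limits AlgebraicGeometry Opposite TopologicalSpace

set_option backward.isDefEq.respectTransparency.types false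

noncomputable section

namespace Groth.Ega2Proj.PolProd

open Groth.PicAux

variable {R P Q T : Scheme.{u}} {f : P ⟶ T} {g : Q ⟶ T} {a : R ⟶ P} {b : R ⟶ Q}
  (sq : IsPullback a b f g) (D₁ : Pol f) (D₂ : Pol g)

variable (a b) in
/-- The module of the product. -/
abbrev LL : R.Modules :=
  CohB1.tensorMod ((Scheme.Modules.pullback a).obj D₁.L) ((Scheme.Modules.pullback b).obj D₂.L)

include sq in
theorem leB (A : T.Opens) : (a ≫ f) ⁻¹ᵁ A ≤ b ⁻¹ᵁ (g ⁻¹ᵁ A) := by rw [sq.w]; rfl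

theorem resX_app_congr {h h' : R ⟶ T} (e : h = h') {A : T.Opens} (le : h ⁻¹ᵁ A ≤ h' ⁻¹ᵁ A) (c : Γ(T, A)) :
    resX R le (h'.app A c) = h.app A c := by
  subst e
  exact resX_self _ _

/-- The section `s ⊠ t`. -/
def prodSec (A : T.Opens) (s : Γ(D₁.L, f ⁻¹ᵁ A)) (t : Γ(D₂.L, g ⁻¹ᵁ A)) :
    Γ(LL a b D₁ D₂, (a ≫ f) ⁻¹ᵁ A) :=
  tmulSec (pullSec a D₁.L s) (res _ (leB sq A) (pullSec b D₂.L t))

/-- `⊠` as a bilinear map. -/
def prodLin (A : T.Opens) :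
    PSec f D₁.L A →ₗ[Γ(T, A)] PSec g D₂.L A →ₗ[Γ(T, A)] PSec (a ≫ f) (LL a b D₁ D₂) A :=
  LinearMap.mk₂ _ (fun s t => prodSec sq D₁ D₂ A s t)
    (fun s s' t => by
      change prodSec sq D₁ D₂ A (up f s + up f s') t = _
      rw [prodSec, show pullSec a D₁.L (up f s + up f s') = pullSec a D₁.L (up f s) + pullSec a D₁.L (up f s')
        from map_add _ _ _]
      exact tmulSec_add_left _ _ _)
    (fun c s t => by
      change prodSec sq D₁ D₂ A (f.app A c • up f s) t = (a ≫ f).app A c • prodSec sq D₁ D₂ A s t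
      rw [prodSec, pullSec_smul]
      exact tmulSec_smul_left _ _ _)
    (fun s t t' => by
      change prodSec sq D₁ D₂ A s (up g t + up g t') = _
      rw [prodSec, show pullSec b D₂.L (up g t + up g t') = pullSec b D₂.L (up g t) + pullSec b D₂.L (up g t')
        from map_add _ _ _, res_add]
      exact tmulSec_add_right _ _ _)
    (fun c s t => by
      change prodSec sq D₁ D₂ A s (g.app A c • up g t) = (a ≫ f).app A c • prodSec sq D₁ D₂ A s t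
      rw [prodSec, pullSec_smul, res_smul]
      refine (tmulSec_smul_right _ _ _).trans ?_
      exact congrArg (fun r : Γ(R, (a ≫ f) ⁻¹ᵁ A) => r • prodSec sq D₁ D₂ A s t)
        (resX_app_congr sq.w (leB sq A) c))

theorem prodLin_apply (A : T.Opens) (s : PSec f D₁.L A) (t : PSec g D₂.L A) :
    up (a ≫ f) (prodLin sq D₁ D₂ A s t) = prodSec sq D₁ D₂ A s t := rfl

theorem res_prodSec {A : T.Opens} (s : Γ(D₁.L, f ⁻¹ᵁ A)) (t : Γ(D₂.L, g ⁻¹ᵁ A)) {W : R.Opens}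
    (hW : W ≤ (a ≫ f) ⁻¹ᵁ A) :
    res _ hW (prodSec sq D₁ D₂ A s t) =
      tmulSec (res _ (hW : W ≤ a ⁻¹ᵁ (f ⁻¹ᵁ A)) (pullSec a D₁.L s))
        (res _ (hW.trans (leB sq A)) (pullSec b D₂.L t)) := by
  rw [prodSec]
  refine (res_tmulSec hW _ _).trans ?_
  rw [res_res]

theorem pres_prodLin {A B : T.Opens} (h : B ≤ A) (s : PSec f D₁.L A) (t : PSec g D₂.L A) :
    pres (a ≫ f) _ h (prodLin sq D₁ D₂ A s t) = prodLin sq D₁ D₂ B (pres f _ h s) (pres g _ h t) := by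
  change res _ ((a ≫ f).preimage_mono h) (prodSec sq D₁ D₂ A s t) =
    prodSec sq D₁ D₂ B (res _ (f.preimage_mono h) (up f s)) (res _ (g.preimage_mono h) (up g t))
  rw [res_prodSec, prodSec, ← res_pullSec, ← res_pullSec, res_res]
  rfl

/-- The families of the product. -/
def TP (A : T.Opens) (hA : IsAffineOpen A) : Set (PSec (a ≫ f) (LL a b D₁ D₂) A) :=
  Set.image2 (fun s t => prodLin sq D₁ D₂ A s t) (D₁.T A hA) (D₂.T A hA)

theorem compat_TP (A : T.Opens) (hA : IsAffineOpen A) (r : Γ(T, A)) :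
    Submodule.span Γ(T, T.basicOpen r) (pres (a ≫ f) _ (T.basicOpen_le r) '' TP sq D₁ D₂ A hA) =
      Submodule.span Γ(T, T.basicOpen r) (TP sq D₁ D₂ (T.basicOpen r) (hA.basicOpen r)) := by
  have e : pres (a ≫ f) _ (T.basicOpen_le r) '' TP sq D₁ D₂ A hA =
      Set.image2 (fun s t => prodLin sq D₁ D₂ (T.basicOpen r) s t)
        (pres f D₁.L (T.basicOpen_le r) '' D₁.T A hA) (pres g D₂.L (T.basicOpen_le r) '' D₂.T A hA) := by
    rw [Set.image2_image_left, Set.image2_image_right, TP, Set.image_image2]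
    exact Set.image2_congr fun s _ t _ => pres_prodLin sq D₁ D₂ (T.basicOpen_le r) s t
  rw [e, TP, ← Submodule.map₂_span_span, ← Submodule.map₂_span_span, D₁.compat, D₂.compat]

include sq in
theorem chart_TP (A : T.Opens) (hA : IsAffineOpen A) (z : R) (hz : (a ≫ f) z ∈ A) :
    ∃ t ∈ TP sq D₁ D₂ A hA, ∃ (W : R.Opens) (hW : W ≤ (a ≫ f) ⁻¹ᵁ A),
      z ∈ W ∧ IsAffineOpen W ∧ Gen (LL a b D₁ D₂) W (res _ hW (up (a ≫ f) t)) ∧
      (∀ (V : R.Opens) (hV : V ≤ (a ≫ f) ⁻¹ᵁ A),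
        Gen (LL a b D₁ D₂) V (res _ hV (up (a ≫ f) t)) → V ≤ W) ∧
      Subring.closure (Set.range ((a ≫ f).appLE A W hW) ∪
        {c | ∃ t' ∈ TP sq D₁ D₂ A hA,
          c • res _ hW (up (a ≫ f) t) = res _ hW (up (a ≫ f) t')}) = ⊤ := by
  obtain ⟨t₁, ht₁, W₁, hW₁, hz₁, hW₁a, hg₁, hmax₁, hcl₁⟩ := D₁.chart A hA (a z) hz
  obtain ⟨t₂, ht₂, W₂, hW₂, hz₂, hW₂a, hg₂, hmax₂, hcl₂⟩ := D₂.chart A hA (b z) (leB sq A hz)
  obtain ⟨W, hWeq⟩ : ∃ W : R.Opens, W = a ⁻¹ᵁ W₁ ⊓ b ⁻¹ᵁ W₂ := ⟨_, rfl⟩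
  have hWa : W ≤ a ⁻¹ᵁ W₁ := hWeq.le.trans inf_le_left
  have hWb : W ≤ b ⁻¹ᵁ W₂ := hWeq.le.trans inf_le_right
  have hW : W ≤ (a ≫ f) ⁻¹ᵁ A := hWa.trans (a.preimage_mono hW₁)
  have hpiso := isIso_pushoutSection_of_isAffineOpen sq hW₂ hW₁ hWeq hA hW₂a hW₁a
  have hWaff : IsAffineOpen W := by
    have : IsAffine _ := hA
    have : IsAffine _ := hW₂a
    have : IsAffine _ := hW₁a
    exact .of_isIso (Scheme.Hom.isPullback_resLE sq hW₂ hW₁ hWeq).isoPullback.hom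
  have hres : ∀ (s₁ : Γ(D₁.L, f ⁻¹ᵁ A)) (s₂ : Γ(D₂.L, g ⁻¹ᵁ A)),
      res _ hW (prodSec sq D₁ D₂ A s₁ s₂) =
        tmulSec (res _ hWa (pullSec a D₁.L (res D₁.L hW₁ s₁))) (res _ hWb (pullSec b D₂.L (res D₂.L hW₂ s₂))) := by
    intro s₁ s₂
    rw [res_prodSec, ← res_pullSec, ← res_pullSec, res_res, res_res]
    rfl
  refine ⟨_, Set.mem_image2_of_mem ht₁ ht₂, W, hW, hWeq ▸ ⟨hz₁, hz₂⟩, hWaff, ?_, ?_, ?_⟩
  · rw [prodLin_apply, hres]
    exact ((hg₁.pull a).res hWa).tensor ((hg₂.pull b).res hWb)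
  · intro V hV hgen x hx
    rw [prodLin_apply] at hgen
    obtain ⟨U₁', e₁', hxU₁', he₁'⟩ := (isInvertible_iff_exists_gen D₁.L).1 D₁.inv (a x)
    obtain ⟨U₂', e₂', hxU₂', he₂'⟩ := (isInvertible_iff_exists_gen D₂.L).1 D₂.inv (b x)
    obtain ⟨U₁, hU₁, hU₁A, hxU₁⟩ : ∃ (U₁ : P.Opens) (_ : U₁ ≤ U₁'), U₁ ≤ f ⁻¹ᵁ A ∧ a x ∈ U₁ :=
      ⟨U₁' ⊓ f ⁻¹ᵁ A, inf_le_left, inf_le_right, hxU₁', hV hx⟩
    obtain ⟨U₂, hU₂, hU₂A, hxU₂⟩ : ∃ (U₂ : Q.Opens) (_ : U₂ ≤ U₂'), U₂ ≤ g ⁻¹ᵁ A ∧ b x ∈ U₂ :=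
      ⟨U₂' ⊓ g ⁻¹ᵁ A, inf_le_left, inf_le_right, hxU₂', leB sq A (hV hx)⟩
    obtain ⟨c₁, hc₁⟩ := (he₁'.res hU₁).exists_coeff le_rfl (res D₁.L hU₁A (up f t₁))
    obtain ⟨c₂, hc₂⟩ := (he₂'.res hU₂).exists_coeff le_rfl (res D₂.L hU₂A (up g t₂))
    rw [res_self] at hc₁ hc₂
    let V' := V ⊓ (a ⁻¹ᵁ U₁ ⊓ b ⁻¹ᵁ U₂)
    have hV'a : V' ≤ a ⁻¹ᵁ U₁ := inf_le_right.trans inf_le_left
    have hV'b : V' ≤ b ⁻¹ᵁ U₂ := inf_le_right.trans inf_le_right
    have hbase := (((he₁'.res hU₁).pull a).res hV'a).tensor (((he₂'.res hU₂).pull b).res hV'b)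
    have h1 : res _ (inf_le_left : V' ≤ V) (res _ hV (prodSec sq D₁ D₂ A (up f t₁) (up g t₂))) =
        (resX R hV'a (a.app U₁ c₁) * resX R hV'b (b.app U₂ c₂)) •
          tmulSec (res _ hV'a (pullSec a D₁.L (res D₁.L hU₁ e₁')))
            (res _ hV'b (pullSec b D₂.L (res D₂.L hU₂ e₂'))) := by
      rw [res_res, res_prodSec, mul_comm, mul_smul, ← tmulSec_smul_left, ← tmulSec_smul_right,
        ← res_smul, ← res_smul, ← pullSec_smul, ← pullSec_smul, ← hc₁, ← hc₂, ← res_pullSec, ← res_pullSec,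
        res_res, res_res]
      rfl
    have hu : IsUnit (resX R hV'a (a.app U₁ c₁)) :=
      isUnit_of_mul_isUnit_left (hbase.isUnit_of_smul (h1 ▸ hgen.res (inf_le_left : V' ≤ V)))
    have hx' : x ∈ V' := ⟨hx, hxU₁, hxU₂⟩
    have hbo : a x ∈ P.basicOpen c₁ := by
      have := R.basicOpen_of_isUnit hu
      rw [show resX R hV'a (a.app U₁ c₁) = R.presheaf.map (homOfLE hV'a).op (a.app U₁ c₁) from rfl,
        Scheme.basicOpen_res, ← Scheme.preimage_basicOpen] at this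
      exact (this.ge hx').2
    have hB : P.basicOpen c₁ ≤ W₁ := by
      refine hmax₁ _ ((P.basicOpen_le c₁).trans hU₁A) ?_
      rw [← res_res (M := D₁.L) hU₁A (P.basicOpen_le c₁), hc₁, res_smul]
      exact ((he₁'.res hU₁).res (P.basicOpen_le c₁)).smul_unit
        (RingedSpace.isUnit_res_basicOpen P.toRingedSpace c₁)
    have hu' : IsUnit (resX R hV'b (b.app U₂ c₂)) :=
      isUnit_of_mul_isUnit_right (hbase.isUnit_of_smul (h1 ▸ hgen.res (inf_le_left : V' ≤ V)))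
    have hbo' : b x ∈ Q.basicOpen c₂ := by
      have := R.basicOpen_of_isUnit hu'
      rw [show resX R hV'b (b.app U₂ c₂) = R.presheaf.map (homOfLE hV'b).op (b.app U₂ c₂) from rfl,
        Scheme.basicOpen_res, ← Scheme.preimage_basicOpen] at this
      exact (this.ge hx').2
    have hB' : Q.basicOpen c₂ ≤ W₂ := by
      refine hmax₂ _ ((Q.basicOpen_le c₂).trans hU₂A) ?_
      rw [← res_res (M := D₂.L) hU₂A (Q.basicOpen_le c₂), hc₂, res_smul]
      exact ((he₂'.res hU₂).res (Q.basicOpen_le c₂)).smul_unit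
        (RingedSpace.isUnit_res_basicOpen Q.toRingedSpace c₂)
    exact hWeq.ge ⟨hB hbo, hB' hbo'⟩
  · obtain ⟨G, hG⟩ : ∃ G, Subring.closure (Set.range ((a ≫ f).appLE A W hW) ∪
        {c | ∃ t' ∈ TP sq D₁ D₂ A hA, c • res _ hW (up (a ≫ f) (prodLin sq D₁ D₂ A t₁ t₂)) =
          res _ hW (up (a ≫ f) t')}) = G := ⟨_, rfl⟩
    rw [hG]
    have hl : Subring.map (a.appLE W₁ W hWa).hom ⊤ ≤ G := by
      rw [← hcl₁, RingHom.map_closure, Subring.closure_le, ← hG]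
      rintro _ ⟨c, ⟨r, rfl⟩ | ⟨t', ht', hc⟩, rfl⟩
      · exact Subring.subset_closure (Or.inl ⟨r, congr(($(Scheme.Hom.appLE_comp_appLE a f A W₁ W hW₁ hWa)).hom r).symm⟩)
      · refine Subring.subset_closure (Or.inr ⟨_, Set.mem_image2_of_mem ht' ht₂, ?_⟩)
        rw [prodLin_apply, prodLin_apply, hres, hres, ← hc, pullSec_smul, res_smul, tmulSec_smul_left]
        rfl
    have hr : Subring.map (b.appLE W₂ W hWb).hom ⊤ ≤ G := by
      rw [← hcl₂, RingHom.map_closure, Subring.closure_le, ← hG]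
      rintro _ ⟨c, ⟨r, rfl⟩ | ⟨t', ht', hc⟩, rfl⟩
      · refine Subring.subset_closure (Or.inl ⟨r, ?_⟩)
        have e : (a ≫ f).appLE A W hW = g.appLE A W₂ hW₂ ≫ b.appLE W₂ W hWb := by
          rw [Scheme.Hom.appLE_comp_appLE]
          congr 1 <;> exact sq.w
        exact congr(($e).hom r)
      · refine Subring.subset_closure (Or.inr ⟨_, Set.mem_image2_of_mem ht₁ ht', ?_⟩)
        rw [prodLin_apply, prodLin_apply, hres, hres, ← hc, pullSec_smul, res_smul, tmulSec_smul_right]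
        rfl
    refine top_le_iff.1 fun F _ => ?_
    obtain ⟨q, rfl⟩ := (ConcreteCategory.bijective_of_isIso (pushoutSection sq hW₂ hW₁ hWeq)).2 F
    let ps := pushoutSection sq hW₂ hW₁ hWeq
    let G' := G.comap ps.hom
    let l : Γ(P, W₁) ⟶ CommRingCat.of G' := CommRingCat.ofHom ((pushout.inl (f.appLE A W₁ hW₁) (g.appLE A W₂ hW₂)).hom.codRestrict G' fun x => by
      change ps.hom _ ∈ G
      rw [← CommRingCat.comp_apply, pushout.inl_desc]
      exact hl ⟨x, Subring.mem_top x, rfl⟩)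
    let r : Γ(Q, W₂) ⟶ CommRingCat.of G' := CommRingCat.ofHom ((pushout.inr (f.appLE A W₁ hW₁) (g.appLE A W₂ hW₂)).hom.codRestrict G' fun x => by
      change ps.hom _ ∈ G
      rw [← CommRingCat.comp_apply, pushout.inr_desc]
      exact hr ⟨x, Subring.mem_top x, rfl⟩)
    have hlr : f.appLE A W₁ hW₁ ≫ l = g.appLE A W₂ hW₂ ≫ r := CommRingCat.hom_ext (RingHom.ext fun x =>
      Subtype.ext (congr(($(pushout.condition (f := f.appLE A W₁ hW₁) (g := g.appLE A W₂ hW₂))).hom x)))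
    have key : pushout.desc l r hlr ≫ CommRingCat.ofHom G'.subtype = 𝟙 _ := by
      refine pushout.hom_ext ?_ ?_
      · rw [pushout.inl_desc_assoc, Category.comp_id]
        rfl
      · rw [pushout.inr_desc_assoc, Category.comp_id]
        rfl
    have hq : q ∈ G' := by
      have h1 : ((pushout.desc l r hlr q : G') : _) = q := congr(($key).hom q)
      exact h1 ▸ (pushout.desc l r hlr q).2
    exact hq

variable (a b) in
include sq D₁ D₂ in
/-- The product of polarisation data. -/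
theorem exists_pol : Nonempty (Pol (a ≫ f)) :=
  ⟨{ L := LL a b D₁ D₂
     inv := isInvertible_tensorMod (isInvertible_pullback a D₁.inv) (isInvertible_pullback b D₂.inv)
     T := TP sq D₁ D₂
     fin := fun A hA => (D₁.fin A hA).image2 _ (D₂.fin A hA)
     compat := compat_TP sq D₁ D₂
     chart := chart_TP sq D₁ D₂ }⟩

end Groth.Ega2Proj.PolProd

namespace Groth.Ega2Proj

theorem isProjective_iso_comp {X X' Y : Scheme.{u}} {f : X ⟶ Y} {f' : X' ⟶ Y} (i : X' ≅ X)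
    (h : i.hom ≫ f = f') (hf : RelProj.IsProjective f) : RelProj.IsProjective f' := by
  obtain ⟨𝒮, P, p, chart, e, hgen, hft, hP, hp⟩ := hf
  exact ⟨𝒮, P, p, chart, i ≪≫ e, hgen, hft, hP, by rw [Iso.trans_hom, Category.assoc, hp, h]⟩

/-- The fibre product of two projective morphisms is projective. -/
theorem isProjective_fibreProd {P Q R T : Scheme.{u}} {f : P ⟶ T} {g : Q ⟶ T} {a : R ⟶ P} {b : R ⟶ Q}
    (sq : IsPullback a b f g) (hf : RelProj.IsProjective f) (hg : RelProj.IsProjective g) :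
    RelProj.IsProjective (a ≫ f) := by
  obtain ⟨𝒮₁, P₁, p₁, chart₁, e₁, hgen₁, hft₁, hP₁, hp₁⟩ := hf
  obtain ⟨𝒮₂, P₂, p₂, chart₂, e₂, hgen₂, hft₂, hP₂, hp₂⟩ := hg
  obtain ⟨D₁⟩ := Pol.of_isRelProj hP₁ hgen₁ hft₁
  obtain ⟨D₂⟩ := Pol.of_isRelProj hP₂ hgen₂ hft₂
  have sq' : IsPullback (a ≫ e₁.hom) (b ≫ e₂.hom) p₁ p₂ :=
    sq.of_iso (Iso.refl _) e₁ e₂ (Iso.refl _) (by simp) (by simp) (by simp [hp₁]) (by simp [hp₂])
  have : IsProper p₁ := Groth.Chow.isProper_of_isProjective ⟨𝒮₁, P₁, p₁, chart₁, Iso.refl _, hgen₁, hft₁, hP₁, Category.id_comp _⟩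
  have : IsProper p₂ := Groth.Chow.isProper_of_isProjective ⟨𝒮₂, P₂, p₂, chart₂, Iso.refl _, hgen₂, hft₂, hP₂, Category.id_comp _⟩
  have : IsProper (a ≫ e₁.hom) := MorphismProperty.of_isPullback sq'.flip ‹IsProper p₂›
  obtain ⟨D⟩ := PolProd.exists_pol (a ≫ e₁.hom) (b ≫ e₂.hom) sq' D₁ D₂
  have h := D.isProjective
  rwa [Category.assoc, hp₁] at h

end Groth.Ega2Proj
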