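/-
The retraction of the pointed projective cone over a general base (EGA II 8.3.5).
-/
import Groth.Agent.Ega2Proj.PolyCone
import Groth.Agent.Ega2Proj2.QMapLocal

set_option autoImplicit false

universe u

open CategoryTheory CategoryTheory.Limits AlgebraicGeometry Opposite TopologicalSpace
open scoped HomogeneousIdeal

set_option backward.isDefEq.respectTransparency.types false

noncomputable section

namespace Groth.Ega2Proj.PolyCone

open Groth.Ega2P2

section ring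

variable {A B σ τ : Type u} [CommRing A] [SetLike σ A] [AddSubgroupClass σ A]
  [CommRing B] [SetLike τ B] [AddSubgroupClass τ B]
  {𝒜 : ℕ → σ} {ℬ : ℕ → τ} [GradedRing 𝒜] [GradedRing ℬ]

theorem amap_id (f : A) (hf : GradedRingHom.id 𝒜 f = f) :
    amap (GradedRingHom.id 𝒜) f f hf = RingHom.id _ := by
  refine RingHom.ext fun z => HomogeneousLocalization.val_injective _ ?_
  obtain ⟨z, rfl⟩ := HomogeneousLocalization.mk_surjective z
  rw [amap, HomogeneousLocalization.map_mk, HomogeneousLocalization.val_mk, RingHom.id_apply,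
    HomogeneousLocalization.val_mk]
  rfl

theorem amap_retraction (φ : 𝒜 →+*ᵍ ℬ) (θ : ℬ →+*ᵍ 𝒜) (e : θ.comp φ = GradedRingHom.id 𝒜) (f : A) :
    (amap θ (φ f) f (DFunLike.congr_fun e f)).comp (HomogeneousLocalization.Away.map φ f) =
      RingHom.id _ := by
  rw [← amap_rfl, amap_comp, amap_congr e, amap_id]

/-- A point of `Proj` is determined by the standard opens of positive degree containing it. -/
theorem proj_ext_pos {y y' : Proj 𝒜}
    (hy : ∀ (d : ℕ) (f : A), 0 < d → f ∈ 𝒜 d → (f ∈ y.asHomogeneousIdeal ↔ f ∈ y'.asHomogeneousIdeal)) :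
    y = y' := by
  have key : ∀ (y y' : Proj 𝒜), (∀ (d : ℕ) (f : A), 0 < d → f ∈ 𝒜 d →
      (f ∈ y.asHomogeneousIdeal ↔ f ∈ y'.asHomogeneousIdeal)) → ∀ n, ∀ a ∈ 𝒜 n,
      a ∈ y.asHomogeneousIdeal → a ∈ y'.asHomogeneousIdeal := by
    intro y y' hy n a ha hay
    obtain ⟨d, f, hd, hf, hfy⟩ : ∃ (d : ℕ) (f : A), 0 < d ∧ f ∈ 𝒜 d ∧ f ∉ y'.asHomogeneousIdeal := by
      by_contra! h
      exact y'.not_irrelevant_le ((HomogeneousIdeal.irrelevant_le _).2 fun k hk x hx => h k x hk hx)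
    have h1 := (hy (n + d) (a * f) (by omega) (SetLike.mul_mem_graded ha hf)).1
      (Ideal.mul_mem_right _ _ hay)
    exact (y'.isPrime.mem_or_mem h1).resolve_right hfy
  classical
  refine ProjectiveSpectrum.ext (HomogeneousIdeal.ext (le_antisymm ?_ ?_)) <;> intro a ha <;>
    rw [← DirectSum.sum_support_decompose 𝒜 a] <;> refine Ideal.sum_mem _ fun n _ => ?_
  · exact key y y' hy n _ (SetLike.coe_mem _) (y.asHomogeneousIdeal.isHomogeneous n ha)
  · exact key y' y (fun d f hd hf => (hy d f hd hf).symm) n _ (SetLike.coe_mem _)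
      (y'.asHomogeneousIdeal.isHomogeneous n ha)

end ring

variable {Y : Scheme.{u}} {𝒮 𝒮h : RelProj.QCGrAlg Y} {ι : 𝒮.toQCAlg ⟶ 𝒮h.toQCAlg}
  {z : 𝒮h.presheaf.obj (op ⊤)} (h : RelCone.IsPolyOver 𝒮 𝒮h ι z)
  {PC : Scheme.{u}} {pC : PC ⟶ Y}
  {chartC : ∀ (U : Y.Opens) (hU : IsAffineOpen U),
    (((pC ⁻¹ᵁ U : PC.Opens) : Scheme.{u}) ≅ Proj (𝒮h.deg U hU))}
  {P : Scheme.{u}} {p : P ⟶ Y}
  {chart : ∀ (U : Y.Opens) (hU : IsAffineOpen U),
    (((p ⁻¹ᵁ U : P.Opens) : Scheme.{u}) ≅ Proj (𝒮.deg U hU))}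
  (hC : RelProj.IsRelProj 𝒮h pC chartC) (hP : RelProj.IsRelProj 𝒮 p chart)

local notation "ιAt" => RelProj.gradedHomAt ι h.graded
local notation "qι" => RelProj.QGrHom.ofHom ι h.graded

variable (pC chartC p chart) in
/-- The equations of the retraction on the charts `Spec Ŝ(U)_(ι f)`. -/
def IsRetr (W : PC.Opens) (r : (W : Scheme.{u}) ⟶ P) : Prop :=
  ∀ (U : Y.Opens) (hU : IsAffineOpen U) (d : ℕ) (hd : 0 < d) (f : 𝒮.presheaf.obj (op U))
    (hf : f ∈ 𝒮.deg U hU d)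
    (g : Spec (CommRingCat.of (HomogeneousLocalization.Away (𝒮h.deg U hU) (ιAt U hU f))) ⟶ (W : Scheme.{u})),
    g ≫ W.ι = Proj.awayι (𝒮h.deg U hU) (ιAt U hU f) ((ιAt U hU).2 hf) hd ≫ RelProj.emb pC chartC U hU →
      g ≫ r = Spec.map (CommRingCat.ofHom (HomogeneousLocalization.Away.map (ιAt U hU) f)) ≫
        Proj.awayι (𝒮.deg U hU) f hf hd ≫ RelProj.emb p chart U hU

theorem isRetr_of_isProjQMapOn {W : PC.Opens} {r : (W : Scheme.{u}) ⟶ P}
    (hr : RelProj.IsProjQMapOn qι p chart pC chartC W r) : IsRetr h pC chartC p chart W r := by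
  intro U hU d hd f hf
  have key : ∀ (ψ : 𝒮.deg U hU →+*ᵍ 𝒮h.deg U hU)
      (_ : ψ = (qι).gradedAt U hU U hU le_rfl)
      (g : Spec (CommRingCat.of (HomogeneousLocalization.Away (𝒮h.deg U hU) (ψ f))) ⟶ (W : Scheme.{u})),
      g ≫ W.ι = Proj.awayι (𝒮h.deg U hU) (ψ f) (ψ.2 hf) hd ≫ RelProj.emb pC chartC U hU →
        g ≫ r = Spec.map (CommRingCat.ofHom (HomogeneousLocalization.Away.map ψ f)) ≫
          Proj.awayι (𝒮.deg U hU) f hf hd ≫ RelProj.emb p chart U hU := by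
    rintro ψ rfl g hg
    have hW : Set.range (RelProj.awayEmb qι pC chartC U hU U hU le_rfl hd f hf).base ⊆
        Set.range W.ι.base := by
      rw [RelProj.awayEmb, ← hg]
      rintro _ ⟨x, rfl⟩
      exact ⟨g.base x, rfl⟩
    refine Eq.trans ?_ (hr U hU U hU le_rfl d hd f hf hW)
    congr 1
    rw [← cancel_mono W.ι, IsOpenImmersion.lift_fac]
    exact hg
  exact fun g => key _ (ofHom_gradedAt_self ι h.graded U hU le_rfl).symm g

include hC in
/-- A retraction is determined by its equations on the pointed cone. -/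
theorem retr_hom_ext {r r' : ((RelCone.pointedProjCone 𝒮 h pC chartC : PC.Opens) : Scheme.{u}) ⟶ P}
    (hr : IsRetr h pC chartC p chart _ r) (hr' : IsRetr h pC chartC p chart _ r') : r = r' := by
  let W := RelCone.pointedProjCone 𝒮 h pC chartC
  let I := Σ (U : Y.Opens) (hU : PLift (IsAffineOpen U)), Σ k : PNat, 𝒮.deg U hU.down k
  let e : ∀ i : I, Spec (CommRingCat.of (HomogeneousLocalization.Away (𝒮h.deg i.1 i.2.1.down)
      (ιAt i.1 i.2.1.down (i.2.2.2 : 𝒮.presheaf.obj (op i.1))))) ⟶ (W : Scheme.{u}) := fun i =>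
    IsOpenImmersion.lift W.ι (Proj.awayι (𝒮h.deg i.1 i.2.1.down) _
        ((ιAt i.1 i.2.1.down).2 i.2.2.2.2) i.2.2.1.pos ≫ RelProj.emb pC chartC i.1 i.2.1.down) (by
      rw [Scheme.Opens.range_ι]
      rintro _ ⟨x, rfl⟩
      refine (emb_mem_pointedProjCone_iff h hC i.1 i.2.1.down _).2
        ⟨i.2.2.1, i.2.2.2, i.2.2.1.pos, i.2.2.2.2, ?_⟩
      exact (Proj.opensRange_awayι (𝒮h.deg i.1 i.2.1.down) _ ((ιAt i.1 i.2.1.down).2 i.2.2.2.2)
        i.2.2.1.pos).le ⟨x, rfl⟩)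
  have he : ∀ i, e i ≫ W.ι = _ := fun i => IsOpenImmersion.lift_fac _ _ _
  haveI : ∀ i, IsOpenImmersion (e i) := fun i => by
    haveI : IsOpenImmersion (e i ≫ W.ι) := by rw [he]; infer_instance
    exact IsOpenImmersion.of_comp _ W.ι
  refine fam_hom_ext _ e (fun w => ?_) fun i => ?_
  · obtain ⟨U, hU, y, hy⟩ : ∃ (U : Y.Opens) (hU : IsAffineOpen U) (y : Proj (𝒮h.deg U hU)),
        (RelProj.emb pC chartC U hU).base y = W.ι.base w := (projCharts hC).exists_eq _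
    obtain ⟨d, f, hd, hf, hfy⟩ := (emb_mem_pointedProjCone_iff h hC U hU y).1 (hy ▸ w.2)
    obtain ⟨x, hx⟩ := (Proj.opensRange_awayι (𝒮h.deg U hU) _ ((ιAt U hU).2 hf) hd).ge hfy
    refine ⟨⟨U, ⟨hU⟩, ⟨d, hd⟩, ⟨f, hf⟩⟩, x, W.ι.isOpenEmbedding.injective ?_⟩
    refine Eq.trans ?_ ((congrArg (RelProj.emb pC chartC U hU).base hx).trans hy)
    exact congr($(he (⟨U, ⟨hU⟩, ⟨d, hd⟩, ⟨f, hf⟩⟩ : I)).base x)
  · obtain ⟨U, ⟨hU⟩, k, f, hf⟩ := i
    exact (hr U hU k k.pos f hf (e ⟨U, ⟨hU⟩, k, f, hf⟩) (he ⟨U, ⟨hU⟩, k, f, hf⟩)).trans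
      (hr' U hU k k.pos f hf (e ⟨U, ⟨hU⟩, k, f, hf⟩) (he ⟨U, ⟨hU⟩, k, f, hf⟩)).symm

include hC hP in
theorem exists_isProjQMapOn :
    ∃ r : ((RelCone.pointedProjCone 𝒮 h pC chartC : PC.Opens) : Scheme.{u}) ⟶ P,
      RelProj.IsProjQMapOn qι p chart pC chartC (RelCone.pointedProjCone 𝒮 h pC chartC) r := by
  rw [pointedProjCone_eq_domQ]
  exact (existsUnique_projQMapOn qι hP hC).exists

include hC hP in
theorem isProjQMapOn_iff_isRetr
    (r : ((RelCone.pointedProjCone 𝒮 h pC chartC : PC.Opens) : Scheme.{u}) ⟶ P) :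
    RelProj.IsProjQMapOn qι p chart pC chartC (RelCone.pointedProjCone 𝒮 h pC chartC) r ↔
      IsRetr h pC chartC p chart _ r := by
  refine ⟨fun hr => isRetr_of_isProjQMapOn h hr, fun hr => ?_⟩
  obtain ⟨r₀, hr₀⟩ := exists_isProjQMapOn h hC hP
  rwa [retr_hom_ext h hC hr (isRetr_of_isProjQMapOn h hr₀)]

include hC hP in
theorem existsUnique_retr :
    ∃! r : ((RelCone.pointedProjCone 𝒮 h pC chartC : PC.Opens) : Scheme.{u}) ⟶ P,
      IsRetr h pC chartC p chart _ r := by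
  obtain ⟨r₀, hr₀⟩ := exists_isProjQMapOn h hC hP
  exact ⟨r₀, isRetr_of_isProjQMapOn h hr₀, fun r hr => retr_hom_ext h hC hr (isRetr_of_isProjQMapOn h hr₀)⟩

variable {r : ((RelCone.pointedProjCone 𝒮 h pC chartC : PC.Opens) : Scheme.{u}) ⟶ P}
  (hr : IsRetr h pC chartC p chart _ r)

include hC hP hr in
/-- The retraction is affine and lies over the base. -/
theorem retr_isAffineHom_and_comp :
    IsAffineHom r ∧ r ≫ p = (RelCone.pointedProjCone 𝒮 h pC chartC).ι ≫ pC := by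
  have key : ∀ (W : PC.Opens) (_ : W = RelProj.domQ qι pC chartC) (v : (W : Scheme.{u}) ⟶ P),
      RelProj.IsProjQMapOn qι p chart pC chartC W v → IsAffineHom v ∧ v ≫ p = W.ι ≫ pC := by
    rintro W rfl v hv
    exact ⟨isAffineHom_projQMapOn _ hP hC v hv,
      (projQMapOn_comp _ hP hC v hv).trans (by rw [Category.comp_id])⟩
  exact key _ (pointedProjCone_eq_domQ h) r ((isProjQMapOn_iff_isRetr h hC hP r).2 hr)

include hC hP hr in
/-- The retraction in the charts. -/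
theorem retr_mem_basicOpen_iff {U : Y.Opens} (hU : IsAffineOpen U) {d : ℕ} (hd : 0 < d)
    {f : 𝒮.presheaf.obj (op U)} (hf : f ∈ 𝒮.deg U hU d)
    (w : ((RelCone.pointedProjCone 𝒮 h pC chartC : PC.Opens) : Scheme.{u})) (y : Proj (𝒮h.deg U hU))
    (hwy : (RelCone.pointedProjCone 𝒮 h pC chartC).ι.base w = (RelProj.emb pC chartC U hU).base y) :
    r.base w ∈ (RelProj.emb p chart U hU) ''ᵁ Proj.basicOpen (𝒮.deg U hU) f ↔
      ιAt U hU f ∉ y.asHomogeneousIdeal := by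
  have key : ∀ (W : PC.Opens) (_ : W = RelProj.domQ qι pC chartC) (v : (W : Scheme.{u}) ⟶ P)
      (_ : RelProj.IsProjQMapOn qι p chart pC chartC W v) (w : (W : Scheme.{u})),
      W.ι.base w = (RelProj.emb pC chartC U hU).base y →
      (v.base w ∈ (RelProj.emb p chart U hU) ''ᵁ Proj.basicOpen (𝒮.deg U hU) f ↔
        ιAt U hU f ∉ y.asHomogeneousIdeal) := by
    rintro W rfl v hv w hw
    rw [mem_preimage_basicOpen_iff qι hC v hv hU hU le_rfl hd f hf w y hw,
      ofHom_gradedAt_self ι h.graded U hU]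
    rfl
  exact key _ (pointedProjCone_eq_domQ h) r ((isProjQMapOn_iff_isRetr h hC hP r).2 hr) w hwy

include hC hP hr in
theorem retr_surjective : Function.Surjective r.base := by
  intro x
  obtain ⟨U, hU, q, rfl⟩ : ∃ (U : Y.Opens) (hU : IsAffineOpen U) (q : Proj (𝒮.deg U hU)),
      (RelProj.emb p chart U hU).base q = x := (projCharts hP).exists_eq x
  obtain ⟨s, v, rfl⟩ : ∃ (s : Σ k : PNat, 𝒮.deg U hU k) (v : _),
      (Proj.awayι (𝒮.deg U hU) (s.2 : 𝒮.presheaf.obj (op U)) s.2.2 s.1.pos).base v = q :=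
    (Proj.affineOpenCover (𝒮.deg U hU)).openCover.exists_eq q
  obtain ⟨k, f, hf⟩ := s
  let W := RelCone.pointedProjCone 𝒮 h pC chartC
  have hW : Set.range (Proj.awayι (𝒮h.deg U hU) (ιAt U hU f) ((ιAt U hU).2 hf) k.pos ≫
      RelProj.emb pC chartC U hU).base ⊆ Set.range W.ι.base := by
    rw [Scheme.Opens.range_ι]
    rintro _ ⟨x, rfl⟩
    refine (emb_mem_pointedProjCone_iff h hC U hU _).2 ⟨k, f, k.pos, hf, ?_⟩
    exact (Proj.opensRange_awayι (𝒮h.deg U hU) _ ((ιAt U hU).2 hf) k.pos).le ⟨x, rfl⟩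
  have h1 := hr U hU k k.pos f hf (IsOpenImmersion.lift W.ι _ hW) (IsOpenImmersion.lift_fac _ _ _)
  have h2 : Spec.map (CommRingCat.ofHom (amap (retr h U hU) (ιAt U hU f) f (retr_ι h U hU f))) ≫
      Spec.map (CommRingCat.ofHom (HomogeneousLocalization.Away.map (ιAt U hU) f)) = 𝟙 _ := by
    rw [← Spec.map_comp, ← CommRingCat.ofHom_comp, amap_retraction _ _ (retr_comp_ι h U hU),
      CommRingCat.ofHom_id, Spec.map_id]
  refine ⟨(IsOpenImmersion.lift W.ι _ hW).base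
    ((Spec.map (CommRingCat.ofHom (amap (retr h U hU) (ιAt U hU f) f (retr_ι h U hU f)))).base v), ?_⟩
  refine (congr(($h1).base _)).trans ?_
  exact congrArg (fun t => (Proj.awayι (𝒮.deg U hU) f hf k.pos ≫ RelProj.emb p chart U hU).base t)
    (congr(($h2).base v))

include hC hP hr in
/-- The immersion at infinity is a section of the retraction. -/
theorem section_retr (θ : 𝒮h.toQCAlg ⟶ 𝒮.toQCAlg) (hθ : RelProj.IsGradedHom θ) (hιθ : ι ≫ θ = 𝟙 _)
    (hθz : (θ.hom.app (op ⊤)).hom z = 0)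
    (hirr : ∀ (U : Y.Opens) (hU : IsAffineOpen U),
      (𝒮.deg U hU)₊ ≤ ((𝒮h.deg U hU)₊).map (RelProj.gradedHomAt θ hθ U hU))
    (j : P ⟶ PC) (hj : RelProj.IsRelProjMap θ hθ hirr chartC chart j)
    (j' : P ⟶ ((RelCone.pointedProjCone 𝒮 h pC chartC : PC.Opens) : Scheme.{u}))
    (hj' : j' ≫ (RelCone.pointedProjCone 𝒮 h pC chartC).ι = j) : j' ≫ r = 𝟙 P := by
  have hjU := (isRelProjMap_iff θ hθ hirr j).mp hj
  refine emb_hom_ext hP fun U hU => ?_
  refine (Proj.affineOpenCover (𝒮.deg U hU)).openCover.hom_ext _ _ fun s => ?_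
  obtain ⟨k, f, hf⟩ := s
  change Proj.awayι (𝒮.deg U hU) f hf k.pos ≫ RelProj.emb p chart U hU ≫ j' ≫ r =
    Proj.awayι (𝒮.deg U hU) f hf k.pos ≫ RelProj.emb p chart U hU ≫ 𝟙 P
  let W := RelCone.pointedProjCone 𝒮 h pC chartC
  have hW : Set.range (Proj.awayι (𝒮h.deg U hU) (ιAt U hU f) ((ιAt U hU).2 hf) k.pos ≫
      RelProj.emb pC chartC U hU).base ⊆ Set.range W.ι.base := by
    rw [Scheme.Opens.range_ι]
    rintro _ ⟨x, rfl⟩
    refine (emb_mem_pointedProjCone_iff h hC U hU _).2 ⟨k, f, k.pos, hf, ?_⟩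
    exact (Proj.opensRange_awayι (𝒮h.deg U hU) _ ((ιAt U hU).2 hf) k.pos).le ⟨x, rfl⟩
  have h1 := hr U hU k k.pos f hf (IsOpenImmersion.lift W.ι _ hW) (IsOpenImmersion.lift_fac _ _ _)
  have he : RelProj.gradedHomAt θ hθ U hU = retr h U hU := gradedHomAt_eq_retr h θ hθ hιθ hθz U hU
  let m := Spec.map (CommRingCat.ofHom (amap (retr h U hU) (ιAt U hU f) f (retr_ι h U hU f)))
  have h3 : Proj.awayι (𝒮.deg U hU) f hf k.pos ≫ RelProj.emb p chart U hU ≫ j' =
      m ≫ IsOpenImmersion.lift W.ι _ hW := by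
    rw [← cancel_mono W.ι, Category.assoc, Category.assoc, Category.assoc, IsOpenImmersion.lift_fac,
      hj', hjU U hU, ← Category.assoc, ← Category.assoc]
    congr 1
    rw [awayι_comp_map_amap _ _ k.pos (ιAt U hU f) ((ιAt U hU).2 hf) f
      (he ▸ retr_ι h U hU f) hf, amap_congr he]
  rw [reassoc_of% h3, h1, Category.comp_id]
  refine (Spec.map_comp_assoc _ _ _).symm.trans ?_
  rw [← CommRingCat.ofHom_comp, amap_retraction _ _ (retr_comp_ι h U hU), CommRingCat.ofHom_id,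
    Spec.map_id, Category.id_comp]

include hC hP hr in
/-- The composite with the pointed affine cone is affine and surjective. -/
theorem retr_coneImm {i : 𝒮.toQCAlg.spec ⟶ PC} (hi : RelCone.IsConeImm 𝒮 h pC chartC i)
    (i' : ((RelCone.pointedCone 𝒮 : 𝒮.toQCAlg.spec.Opens) : Scheme.{u}) ⟶
      ((RelCone.pointedProjCone 𝒮 h pC chartC : PC.Opens) : Scheme.{u}))
    (hi' : i' ≫ (RelCone.pointedProjCone 𝒮 h pC chartC).ι = (RelCone.pointedCone 𝒮).ι ≫ i) :
    IsAffineHom (i' ≫ r) ∧ Function.Surjective (i' ≫ r).base := by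
  obtain ⟨haff, hcomp⟩ := retr_isAffineHom_and_comp h hC hP hr
  refine ⟨?_, fun x => ?_⟩
  · have e := coneImm_preimage_pointedProjCone h hC hi
    have he : i' = (𝒮.toQCAlg.spec.isoOfEq e.symm).hom ≫
        (i ∣_ RelCone.pointedProjCone 𝒮 h pC chartC) := by
      rw [← cancel_mono (RelCone.pointedProjCone 𝒮 h pC chartC).ι, hi', Category.assoc,
        morphismRestrict_ι, Scheme.isoOfEq_hom_ι_assoc]
    have := isAffineHom_coneImm h hC hi
    haveI : IsAffineHom (i ∣_ RelCone.pointedProjCone 𝒮 h pC chartC) :=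
      IsZariskiLocalAtTarget.restrict this _
    rw [he]
    infer_instance
  · obtain ⟨U, hU, q, rfl⟩ : ∃ (U : Y.Opens) (hU : IsAffineOpen U) (q : Proj (𝒮.deg U hU)),
        (RelProj.emb p chart U hU).base q = x := (projCharts hP).exists_eq x
    let w : Spec (𝒮.presheaf.obj (op U)) := ⟨q.asHomogeneousIdeal.toIdeal, q.isPrime⟩
    have hw : (𝒮.toQCAlg.ι U hU).base w ∈ RelCone.pointedCone 𝒮 := by
      refine (mem_pointedCone_iff 𝒮 hU w).2 ((exists_pos_notMem_iff_vertexCompl U hU w).2 ?_)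
      by_contra! hcon
      exact q.not_irrelevant_le ((HomogeneousIdeal.irrelevant_le _).2 fun k hk x hx => hcon k x hk hx)
    refine ⟨⟨_, hw⟩, ?_⟩
    change r.base (i'.base ⟨_, hw⟩) = _
    have hwy : (RelCone.pointedProjCone 𝒮 h pC chartC).ι.base (i'.base ⟨_, hw⟩) =
        (RelProj.emb pC chartC U hU).base ((coneImmAux h U hU).base w) :=
      (congr(($hi').base ⟨_, hw⟩)).trans (congr(($((isConeImm_iff h i).mp hi U hU)).base w))
    obtain ⟨q', hq'⟩ : ∃ q' : Proj (𝒮.deg U hU), (RelProj.emb p chart U hU).base q' =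
        r.base (i'.base ⟨_, hw⟩) := by
      refine (projCharts hP).mem_range hU ?_
      change (r ≫ p).base (i'.base ⟨_, hw⟩) ∈ U
      rw [hcomp]
      change pC.base ((RelCone.pointedProjCone 𝒮 h pC chartC).ι.base _) ∈ U
      rw [hwy]
      exact (projCharts hC).map_mem hU _
    rw [← hq']
    refine congrArg _ (proj_ext_pos fun d f hd hf => not_iff_not.1 ?_)
    have h1 := retr_mem_basicOpen_iff h hC hP hr hU hd hf _ _ hwy
    rw [← hq'] at h1
    refine Iff.trans ?_ (h1.trans (not_congr (ι_mem_coneImmAux_iff h U hU w hd hf)))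
    exact ⟨fun h2 => ⟨q', h2, rfl⟩,
      fun ⟨q'', h2, he⟩ => (RelProj.emb p chart U hU).isOpenEmbedding.injective he ▸ h2⟩

end Groth.Ega2Proj.PolyCone
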