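/-
Fibres of the retractions of pointed cones over a general base (EGA II 8.3.6).
-/
import Groth.Agent.Ega2Proj.PolyConeRetract
import Groth.Agent.Ega2Proj.PConeFibre

set_option autoImplicit false

universe u

open CategoryTheory CategoryTheory.Limits AlgebraicGeometry Opposite TopologicalSpace
open scoped HomogeneousIdeal LaurentPolynomial

set_option backward.isDefEq.respectTransparency.types false

noncomputable section

namespace Groth.Ega2Proj.PolyCone

open Groth.Ega2P2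

variable {Y : Scheme.{u}} {𝒮 𝒮h : RelProj.QCGrAlg Y} {ι : 𝒮.toQCAlg ⟶ 𝒮h.toQCAlg}
  {z : 𝒮h.presheaf.obj (op ⊤)} (h : RelCone.IsPolyOver 𝒮 𝒮h ι z)
  {PC : Scheme.{u}} {pC : PC ⟶ Y}
  {chartC : ∀ (U : Y.Opens) (hU : IsAffineOpen U),
    (((pC ⁻¹ᵁ U : PC.Opens) : Scheme.{u}) ≅ Proj (𝒮h.deg U hU))}
  {P : Scheme.{u}} {p : P ⟶ Y}
  {chart : ∀ (U : Y.Opens) (hU : IsAffineOpen U),
    (((p ⁻¹ᵁ U : P.Opens) : Scheme.{u}) ≅ Proj (𝒮.deg U hU))}
  (hC : RelProj.IsRelProj 𝒮h pC chartC) (hP : RelProj.IsRelProj 𝒮 p chart)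
  {U : Y.Opens} (hU : IsAffineOpen U)

local notation "ιAt" => RelProj.gradedHomAt ι h.graded

include hC hU in
theorem range_gE_subset {d : ℕ} (hd : 0 < d) {f : 𝒮.presheaf.obj (op U)} (hf : f ∈ 𝒮.deg U hU d) :
    Set.range (Proj.awayι (𝒮h.deg U hU) (ιAt U hU f) ((ιAt U hU).2 hf) hd ≫
      RelProj.emb pC chartC U hU).base ⊆
      Set.range (RelCone.pointedProjCone 𝒮 h pC chartC).ι.base := by
  rw [Scheme.Opens.range_ι]
  rintro _ ⟨x, rfl⟩
  refine (emb_mem_pointedProjCone_iff h hC U hU _).2 ⟨d, f, hd, hf, ?_⟩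
  exact (Proj.opensRange_awayι (𝒮h.deg U hU) _ ((ιAt U hU).2 hf) hd).le ⟨x, rfl⟩

/-- The standard chart of the pointed projective cone. -/
def gE {d : ℕ} (hd : 0 < d) {f : 𝒮.presheaf.obj (op U)} (hf : f ∈ 𝒮.deg U hU d) :
    Spec (CommRingCat.of (HomogeneousLocalization.Away (𝒮h.deg U hU) (ιAt U hU f))) ⟶
      ((RelCone.pointedProjCone 𝒮 h pC chartC : PC.Opens) : Scheme.{u}) :=
  IsOpenImmersion.lift _ _ (range_gE_subset h (pC := pC) (chartC := chartC) hC hU hd hf)

theorem gE_ι {d : ℕ} (hd : 0 < d) {f : 𝒮.presheaf.obj (op U)} (hf : f ∈ 𝒮.deg U hU d) :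
    gE h hC hU hd hf ≫ (RelCone.pointedProjCone 𝒮 h pC chartC).ι =
      Proj.awayι (𝒮h.deg U hU) (ιAt U hU f) ((ιAt U hU).2 hf) hd ≫ RelProj.emb pC chartC U hU :=
  IsOpenImmersion.lift_fac _ _ _

instance isOpenImmersion_gE {d : ℕ} (hd : 0 < d) {f : 𝒮.presheaf.obj (op U)}
    (hf : f ∈ 𝒮.deg U hU d) : IsOpenImmersion (gE h hC hU hd hf) := by
  haveI : IsOpenImmersion (gE h hC hU hd hf ≫ (RelCone.pointedProjCone 𝒮 h pC chartC).ι) := by
    rw [gE_ι]; infer_instance
  exact IsOpenImmersion.of_comp _ (RelCone.pointedProjCone 𝒮 h pC chartC).ι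

variable {r : ((RelCone.pointedProjCone 𝒮 h pC chartC : PC.Opens) : Scheme.{u}) ⟶ P}
  (hr : IsRetr h pC chartC p chart _ r)

theorem emb_mem_image_iff {A : RelProj.QCGrAlg Y} {Q : Scheme.{u}} {q : Q ⟶ Y}
    {ch : ∀ (U : Y.Opens) (hU : IsAffineOpen U),
      (((q ⁻¹ᵁ U : Q.Opens) : Scheme.{u}) ≅ Proj (A.deg U hU))}
    (O : (Proj (A.deg U hU)).Opens) (y : Proj (A.deg U hU)) :
    (RelProj.emb q ch U hU).base y ∈ RelProj.emb q ch U hU ''ᵁ O ↔ y ∈ O :=
  ⟨fun ⟨_, hy, he⟩ => (RelProj.emb q ch U hU).isOpenEmbedding.injective he ▸ hy, fun hy => ⟨y, hy, rfl⟩⟩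

theorem opensRange_awayι_emb {A : RelProj.QCGrAlg Y} {Q : Scheme.{u}} {q : Q ⟶ Y}
    {ch : ∀ (U : Y.Opens) (hU : IsAffineOpen U),
      (((q ⁻¹ᵁ U : Q.Opens) : Scheme.{u}) ≅ Proj (A.deg U hU))}
    {d : ℕ} (hd : 0 < d) (f : A.presheaf.obj (op U)) (hf : f ∈ A.deg U hU d) :
    (Proj.awayι (A.deg U hU) f hf hd ≫ RelProj.emb q ch U hU).opensRange =
      RelProj.emb q ch U hU ''ᵁ Proj.basicOpen (A.deg U hU) f := by
  rw [Scheme.Hom.opensRange_comp, Proj.opensRange_awayι]

include hC hP hr in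
theorem preimage_gE {d : ℕ} (hd : 0 < d) {f : 𝒮.presheaf.obj (op U)} (hf : f ∈ 𝒮.deg U hU d) :
    r ⁻¹ᵁ (Proj.awayι (𝒮.deg U hU) f hf hd ≫ RelProj.emb p chart U hU).opensRange =
      (gE h hC hU hd hf).opensRange := by
  have hcomp := (retr_isAffineHom_and_comp h hC hP hr).2
  have h1 := hr U hU d hd f hf (gE h hC hU hd hf) (gE_ι h hC hU hd hf)
  refine le_antisymm (fun w hw => ?_) ?_
  · rw [opensRange_awayι_emb] at hw
    obtain ⟨y, hy⟩ : ∃ y : Proj (𝒮h.deg U hU), (RelProj.emb pC chartC U hU).base y =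
        (RelCone.pointedProjCone 𝒮 h pC chartC).ι.base w := by
      refine (projCharts hC).mem_range hU ?_
      change ((RelCone.pointedProjCone 𝒮 h pC chartC).ι ≫ pC).base w ∈ U
      rw [← hcomp]
      obtain ⟨q', -, hq'⟩ := id hw
      change p.base (r.base w) ∈ U
      exact hq' ▸ (projCharts hP).map_mem hU q'
    have h2 := (retr_mem_basicOpen_iff h hC hP hr hU hd hf w y hy.symm).1 hw
    obtain ⟨x, hx⟩ := (Proj.opensRange_awayι (𝒮h.deg U hU) _ ((ιAt U hU).2 hf) hd).ge h2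
    refine ⟨x, (RelCone.pointedProjCone 𝒮 h pC chartC).ι.isOpenEmbedding.injective ?_⟩
    exact (congr(($(gE_ι h hC hU hd hf)).base x)).trans ((congrArg _ hx).trans hy)
  · rintro _ ⟨x, rfl⟩
    exact ⟨_, (congr(($h1).base x)).symm⟩

theorem algebraMap_evalOne_ι (f a : 𝒮.presheaf.obj (op U)) :
    ((algebraMap (𝒮.presheaf.obj (op U)) (Localization.Away f)).comp (h.evalOne U hU)) (ιAt U hU a) =
      algebraMap _ (Localization.Away f) a :=
  congrArg (algebraMap _ (Localization.Away f)) (h.evalOne_ι U hU a)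

/-- `x / (ι f)^k ↦ x(z := 1) / f^k`. -/
def toLoc {d : ℕ} {f : 𝒮.presheaf.obj (op U)} (_ : f ∈ 𝒮.deg U hU d) :
    HomogeneousLocalization.Away (𝒮h.deg U hU) (ιAt U hU f) →+* Localization.Away f :=
  (IsLocalization.Away.lift (ιAt U hU f)
      (g := (algebraMap _ (Localization.Away f)).comp (h.evalOne U hU)) ((algebraMap_evalOne_ι h hU f f).symm ▸
        IsLocalization.Away.algebraMap_isUnit f)).comp
    (algebraMap _ (Localization.Away (ιAt U hU f)))

theorem toLoc_mk {d : ℕ} {f : 𝒮.presheaf.obj (op U)} (hf : f ∈ 𝒮.deg U hU d) (k : ℕ)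
    (x : 𝒮h.presheaf.obj (op U)) (hx : x ∈ 𝒮h.deg U hU (k • d)) :
    toLoc h hU hf (HomogeneousLocalization.Away.mk (𝒮h.deg U hU) ((ιAt U hU).2 hf) k x hx) *
        algebraMap _ (Localization.Away f) f ^ k =
      algebraMap _ (Localization.Away f) (h.evalOne U hU x) := by
  have h1 := congrArg (IsLocalization.Away.lift (ιAt U hU f)
      (g := (algebraMap _ (Localization.Away f)).comp (h.evalOne U hU)) ((algebraMap_evalOne_ι h hU f f).symm ▸
        IsLocalization.Away.algebraMap_isUnit f))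
    (val_mk_mul_pow (𝒮h.deg U hU) ((ιAt U hU).2 hf) hx)
  rw [map_mul, map_pow, IsLocalization.Away.lift_eq, IsLocalization.Away.lift_eq] at h1
  exact (congrArg (fun t => _ * t ^ k) (algebraMap_evalOne_ι h hU f f).symm).trans h1

theorem toLoc_map {d : ℕ} {f : 𝒮.presheaf.obj (op U)} (hf : f ∈ 𝒮.deg U hU d) :
    (toLoc h hU hf).comp (HomogeneousLocalization.Away.map (ιAt U hU) f) =
      algebraMap (HomogeneousLocalization.Away (𝒮.deg U hU) f) (Localization.Away f) := by
  refine RingHom.ext fun q => ?_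
  obtain ⟨k, a, ha, rfl⟩ := HomogeneousLocalization.Away.mk_surjective (𝒮.deg U hU) hf q
  refine ((IsLocalization.Away.algebraMap_isUnit (S := Localization.Away f) f).pow k).mul_right_cancel ?_
  rw [RingHom.comp_apply, HomogeneousLocalization.Away.map_mk]
  refine (toLoc_mk h hU hf k (ιAt U hU a) ((ιAt U hU).2 ha)).trans ?_
  erw [h.evalOne_ι U hU a]
  exact (val_mk_mul_pow (𝒮.deg U hU) hf ha).symm

theorem toLoc_awayι {d : ℕ} (hd : 0 < d) {f : 𝒮.presheaf.obj (op U)} (hf : f ∈ 𝒮.deg U hU d) :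
    Spec.map (CommRingCat.ofHom (toLoc h hU hf)) ≫
        Proj.awayι (𝒮h.deg U hU) (ιAt U hU f) ((ιAt U hU).2 hf) hd =
      Spec.map (CommRingCat.ofHom (algebraMap _ (Localization.Away f))) ≫ coneImmAux h U hU := by
  let zU := RelCone.restrictTop 𝒮h z U
  have hone : ((algebraMap _ (Localization.Away f)).comp (h.evalOne U hU)) zU = 1 :=
    (congrArg (algebraMap _ (Localization.Away f)) (h.evalOne_z U hU)).trans (map_one _)
  have hfz : ((algebraMap _ (Localization.Away f)).comp (h.evalOne U hU)) (ιAt U hU f * zU) =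
      algebraMap _ (Localization.Away f) f := by
    rw [map_mul, hone, mul_one, algebraMap_evalOne_ι h hU f f]
  have hu : IsUnit (((algebraMap _ (Localization.Away f)).comp (h.evalOne U hU)) (ιAt U hU f * zU)) :=
    hfz.symm ▸ IsLocalization.Away.algebraMap_isUnit f
  let γ := (IsLocalization.Away.lift (ιAt U hU f * zU) (g := _) hu).comp
    (algebraMap (HomogeneousLocalization.Away (𝒮h.deg U hU) (ιAt U hU f * zU))
      (Localization.Away (ιAt U hU f * zU)))
  have hγ : ∀ (k : ℕ) {e : ℕ} (he : ιAt U hU f * zU ∈ 𝒮h.deg U hU e)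
      (x : 𝒮h.presheaf.obj (op U)) (hx : x ∈ 𝒮h.deg U hU (k • e)),
      γ (HomogeneousLocalization.Away.mk (𝒮h.deg U hU) he k x hx) *
        algebraMap _ (Localization.Away f) f ^ k =
      algebraMap _ (Localization.Away f) (h.evalOne U hU x) := fun k e he x hx => by
    have h1 := congrArg (IsLocalization.Away.lift (ιAt U hU f * zU) (g := _) hu)
      (val_mk_mul_pow (𝒮h.deg U hU) he hx)
    rw [map_mul, map_pow, IsLocalization.Away.lift_eq, IsLocalization.Away.lift_eq] at h1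
    exact (congrArg (fun t => _ * t ^ k) hfz.symm).trans h1
  clear_value γ
  have hunit := fun k => (IsLocalization.Away.algebraMap_isUnit (S := Localization.Away f) f).pow k
  have hβ : γ.comp (HomogeneousLocalization.awayMap (𝒮h.deg U hU) (h.deg_z U hU) rfl) = toLoc h hU hf := by
    refine RingHom.ext fun q => ?_
    obtain ⟨k, x, hx, rfl⟩ := HomogeneousLocalization.Away.mk_surjective (𝒮h.deg U hU) ((ιAt U hU).2 hf) q
    refine (hunit k).mul_right_cancel ?_
    rw [RingHom.comp_apply, HomogeneousLocalization.awayMap_mk]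
    refine (hγ k _ _ _).trans ?_
    rw [map_mul, map_pow, h.evalOne_z, one_pow, mul_one]
    exact (toLoc_mk h hU hf k x hx).symm
  have hα : γ.comp (HomogeneousLocalization.awayMap (𝒮h.deg U hU) ((ιAt U hU).2 hf)
      (mul_comm (ιAt U hU f) zU)) = (algebraMap _ (Localization.Away f)).comp (h.awayZToBase U hU) := by
    refine RingHom.ext fun q => ?_
    obtain ⟨k, x, hx, rfl⟩ := HomogeneousLocalization.Away.mk_surjective (𝒮h.deg U hU) (h.deg_z U hU) q
    refine (hunit k).mul_right_cancel ?_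
    rw [RingHom.comp_apply, HomogeneousLocalization.awayMap_mk]
    refine (hγ k _ _ _).trans ?_
    change ((algebraMap _ (Localization.Away f)).comp (h.evalOne U hU)) (x * ιAt U hU f ^ k) =
      algebraMap _ (Localization.Away f) (h.awayZToBase U hU
        (HomogeneousLocalization.Away.mk (𝒮h.deg U hU) (h.deg_z U hU) k x hx)) * _
    refine (map_mul _ x (ιAt U hU f ^ k)).trans (congrArg₂ (· * ·) ?_ ?_)
    · exact congrArg (algebraMap _ (Localization.Away f)) (awayZToBase_mk h hU k x hx).symm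
    · exact (map_pow _ _ _).trans (congrArg (· ^ k) (algebraMap_evalOne_ι h hU f f))
  rw [coneImmAux, ← hβ, ← Spec.map_comp_assoc, ← CommRingCat.ofHom_comp, ← hα, CommRingCat.ofHom_comp,
    CommRingCat.ofHom_comp, Spec.map_comp_assoc, Spec.map_comp_assoc, Proj.SpecMap_awayMap_awayι,
    Proj.SpecMap_awayMap_awayι]
  rfl

variable {i : 𝒮.toQCAlg.spec ⟶ PC} (hi : RelCone.IsConeImm 𝒮 h pC chartC i)
  {i' : ((RelCone.pointedCone 𝒮 : 𝒮.toQCAlg.spec.Opens) : Scheme.{u}) ⟶
    ((RelCone.pointedProjCone 𝒮 h pC chartC : PC.Opens) : Scheme.{u})}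
  (hi' : i' ≫ (RelCone.pointedProjCone 𝒮 h pC chartC).ι = (RelCone.pointedCone 𝒮).ι ≫ i)

include hU in
theorem range_loc_subset {d : ℕ} (hd : 0 < d) {f : 𝒮.presheaf.obj (op U)} (hf : f ∈ 𝒮.deg U hU d) :
    Set.range (Spec.map (CommRingCat.ofHom (algebraMap _ (Localization.Away f))) ≫
      𝒮.toQCAlg.ι U hU).base ⊆ Set.range (RelCone.pointedCone 𝒮).ι.base := by
  rw [Scheme.Opens.range_ι]
  rintro _ ⟨x, rfl⟩
  refine (mem_pointedCone_iff 𝒮 hU _).2 ((exists_pos_notMem_iff_vertexCompl U hU _).2 ⟨d, f, hd, hf, ?_⟩)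
  intro hx
  exact x.isPrime.ne_top (Ideal.eq_top_of_isUnit_mem _ hx (IsLocalization.Away.algebraMap_isUnit f))

/-- The standard chart of the pointed affine cone. -/
def gC {d : ℕ} (hd : 0 < d) {f : 𝒮.presheaf.obj (op U)} (hf : f ∈ 𝒮.deg U hU d) :
    Spec (CommRingCat.of (Localization.Away f)) ⟶
      ((RelCone.pointedCone 𝒮 : 𝒮.toQCAlg.spec.Opens) : Scheme.{u}) :=
  IsOpenImmersion.lift _ _ (range_loc_subset hU hd hf)

theorem gC_ι {d : ℕ} (hd : 0 < d) {f : 𝒮.presheaf.obj (op U)} (hf : f ∈ 𝒮.deg U hU d) :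
    gC hU hd hf ≫ (RelCone.pointedCone 𝒮).ι =
      Spec.map (CommRingCat.ofHom (algebraMap _ (Localization.Away f))) ≫ 𝒮.toQCAlg.ι U hU :=
  IsOpenImmersion.lift_fac _ _ _

instance isOpenImmersion_gC {d : ℕ} (hd : 0 < d) {f : 𝒮.presheaf.obj (op U)}
    (hf : f ∈ 𝒮.deg U hU d) : IsOpenImmersion (gC hU hd hf) := by
  haveI : IsOpenImmersion (Spec.map (CommRingCat.ofHom
      (algebraMap (𝒮.presheaf.obj (op U)) (Localization.Away f)))) := IsOpenImmersion.of_isLocalization f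
  haveI : IsOpenImmersion (gC hU hd hf ≫ (RelCone.pointedCone 𝒮).ι) := by
    rw [gC_ι]; infer_instance
  exact IsOpenImmersion.of_comp _ (RelCone.pointedCone 𝒮).ι

include hC hr hi hi' in
theorem gC_comp {d : ℕ} (hd : 0 < d) {f : 𝒮.presheaf.obj (op U)} (hf : f ∈ 𝒮.deg U hU d) :
    gC hU hd hf ≫ i' ≫ r =
      Spec.map (CommRingCat.ofHom (algebraMap (HomogeneousLocalization.Away (𝒮.deg U hU) f)
        (Localization.Away f))) ≫ Proj.awayι (𝒮.deg U hU) f hf hd ≫ RelProj.emb p chart U hU := by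
  have h1 : gC hU hd hf ≫ i' = Spec.map (CommRingCat.ofHom (toLoc h hU hf)) ≫ gE h hC hU hd hf := by
    rw [← cancel_mono (RelCone.pointedProjCone 𝒮 h pC chartC).ι, Category.assoc, hi', ← Category.assoc,
      gC_ι, Category.assoc, (isConeImm_iff h i).mp hi U hU, ← Category.assoc, ← toLoc_awayι h hU hd hf,
      Category.assoc, Category.assoc, gE_ι]
  rw [reassoc_of% h1, hr U hU d hd f hf _ (gE_ι h hC hU hd hf), ← Spec.map_comp_assoc,
    ← CommRingCat.ofHom_comp, toLoc_map]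

include hC hP hr hi hi' in
theorem preimage_gC {d : ℕ} (hd : 0 < d) {f : 𝒮.presheaf.obj (op U)} (hf : f ∈ 𝒮.deg U hU d) :
    (i' ≫ r) ⁻¹ᵁ (Proj.awayι (𝒮.deg U hU) f hf hd ≫ RelProj.emb p chart U hU).opensRange =
      (gC hU hd hf).opensRange := by
  refine le_antisymm (fun v hv => ?_) ?_
  · have hw : i'.base v ∈ (gE h hC hU hd hf).opensRange := by
      rw [← preimage_gE h hC hP hU hr hd hf]; exact hv
    obtain ⟨x, hx⟩ := hw
    have hιv : i.base ((RelCone.pointedCone 𝒮).ι.base v) = (RelProj.emb pC chartC U hU).base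
        ((Proj.awayι (𝒮h.deg U hU) (ιAt U hU f) ((ιAt U hU).2 hf) hd).base x) := by
      refine (congr(($hi').base v)).symm.trans ?_
      change (RelCone.pointedProjCone 𝒮 h pC chartC).ι.base (i'.base v) = _
      rw [← hx]
      exact congr(($(gE_ι h hC hU hd hf)).base x)
    obtain ⟨w, hw'⟩ : ∃ w : Spec (𝒮.presheaf.obj (op U)),
        (𝒮.toQCAlg.ι U hU).base w = (RelCone.pointedCone 𝒮).ι.base v := by
      refine (specCharts 𝒮.toQCAlg).mem_range hU ?_
      rw [← coneImm_comp_p h hC hi]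
      change pC.base (i.base _) ∈ U
      rw [hιv]
      exact (projCharts hC).map_mem hU _
    have hwy : (coneImmAux h U hU).base w =
        (Proj.awayι (𝒮h.deg U hU) (ιAt U hU f) ((ιAt U hU).2 hf) hd).base x := by
      apply (RelProj.emb pC chartC U hU).isOpenEmbedding.injective
      refine Eq.trans ?_ hιv
      rw [← hw']
      exact (congr(($((isConeImm_iff h i).mp hi U hU)).base w)).symm
    have hfw : f ∉ w.asIdeal := fun hfw => by
      have h2 := (ι_mem_coneImmAux_iff h U hU w hd hf).2 hfw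
      rw [hwy] at h2
      exact ((Proj.opensRange_awayι (𝒮h.deg U hU) _ ((ιAt U hU).2 hf) hd).le ⟨x, rfl⟩) h2
    obtain ⟨w', hw''⟩ : w ∈ Set.range
        (Spec.map (CommRingCat.ofHom (algebraMap _ (Localization.Away f)))).base :=
      (PrimeSpectrum.localization_away_comap_range (Localization.Away f) f).ge hfw
    refine ⟨w', (RelCone.pointedCone 𝒮).ι.isOpenEmbedding.injective ?_⟩
    exact (congr(($(gC_ι hU hd hf)).base w')).trans ((congrArg _ hw'').trans hw')
  · rintro _ ⟨x, rfl⟩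
    exact ⟨_, (congr(($(gC_comp h hC hU hr hi hi' hd hf)).base x)).symm⟩

omit hU

theorem exists_degree_one (hgen : 𝒮.IsGenDegOne) {U : Y.Opens} (hU : IsAffineOpen U)
    (y : Proj (𝒮.deg U hU)) :
    ∃ f ∈ 𝒮.deg U hU 1, f ∉ y.asHomogeneousIdeal := by
  classical
  by_contra! hcon
  refine y.not_irrelevant_le fun a ha => ?_
  suffices ∀ b : 𝒮.presheaf.obj (op U), ∃ c ∈ 𝒮.deg U hU 0, b - c ∈ y.asHomogeneousIdeal.toIdeal ⊓
      (HomogeneousIdeal.irrelevant (𝒮.deg U hU)).toIdeal by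
    obtain ⟨c, hc, hbc⟩ := this a
    have hc0 : c = 0 := by
      have h1 : c ∈ (HomogeneousIdeal.irrelevant (𝒮.deg U hU)).toIdeal := by
        simpa using Ideal.sub_mem _ ha hbc.2
      rw [mem_irrelevant_iff_decompose_zero, DirectSum.decompose_of_mem_same _ hc] at h1
      exact h1
    simpa [hc0] using hbc.1
  intro b
  have hb : b ∈ Subring.closure ((𝒮.deg U hU 0 : Set _) ∪ (𝒮.deg U hU 1 : Set _)) := hgen U hU ▸ trivial
  induction hb using Subring.closure_induction with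
  | mem x hx =>
    rcases hx with hx | hx
    · exact ⟨x, hx, by simp⟩
    · refine ⟨0, zero_mem _, ?_⟩
      rw [sub_zero]
      exact ⟨hcon x hx, HomogeneousIdeal.mem_irrelevant_of_mem _ one_pos hx⟩
  | zero => exact ⟨0, zero_mem _, by simp⟩
  | one => exact ⟨1, SetLike.GradedOne.one_mem, by simp⟩
  | add x y _ _ hx hy =>
    obtain ⟨c, hc, hc'⟩ := hx
    obtain ⟨e, he, he'⟩ := hy
    exact ⟨c + e, add_mem hc he, by simpa [add_sub_add_comm] using Ideal.add_mem _ hc' he'⟩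
  | neg x _ hx =>
    obtain ⟨c, hc, hc'⟩ := hx
    exact ⟨-c, neg_mem hc, by rw [show -x - -c = -(x - c) by ring]; exact neg_mem hc'⟩
  | mul x y _ _ hx hy =>
    obtain ⟨c, hc, hc'⟩ := hx
    obtain ⟨e, he, he'⟩ := hy
    refine ⟨c * e, by simpa using SetLike.mul_mem_graded (A := 𝒮.deg U hU) hc he, ?_⟩
    rw [show x * y - c * e = (x - c) * y + c * (y - e) by ring]
    exact Ideal.add_mem _ (Ideal.mul_mem_right _ _ hc') (Ideal.mul_mem_left _ _ he')

include hP in
/-- `Proj 𝒮` is covered by the standard opens of degree one. -/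
theorem exists_chart_degree_one (hgen : 𝒮.IsGenDegOne) (x : P) :
    ∃ (U : Y.Opens) (hU : IsAffineOpen U) (f : 𝒮.presheaf.obj (op U)) (hf : f ∈ 𝒮.deg U hU 1),
      x ∈ (Proj.awayι (𝒮.deg U hU) f hf one_pos ≫ RelProj.emb p chart U hU).opensRange := by
  obtain ⟨U, hU, y, rfl⟩ : ∃ (U : Y.Opens) (hU : IsAffineOpen U) (y : Proj (𝒮.deg U hU)),
      (RelProj.emb p chart U hU).base y = x := (projCharts hP).exists_eq x
  obtain ⟨f, hf, hfy⟩ := exists_degree_one hgen hU y
  refine ⟨U, hU, f, hf, ?_⟩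
  rw [opensRange_awayι_emb]
  exact (emb_mem_image_iff hU _ y).2 hfy

theorem aeval_bijective (hU : IsAffineOpen U) :
    letI := (ιAt U hU).toRingHom.toAlgebra
    Function.Bijective (Polynomial.aeval (R := 𝒮.presheaf.obj (op U)) (RelCone.restrictTop 𝒮h z U)) :=
  h.bij U hU

include hC hP hr in
theorem retr_fibre_line (hgen : 𝒮.IsGenDegOne) :
    LocallyOfFiniteType r ∧
      ∀ x : ↥P, ∃ e : pullback r (P.fromSpecResidueField x) ≅
          Spec (CommRingCat.of (Polynomial (P.residueField x))),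
        e.hom ≫ Spec.map (CommRingCat.ofHom (algebraMap (P.residueField x) (Polynomial (P.residueField x)))) =
          pullback.snd r (P.fromSpecResidueField x) := by
  haveI : IsZariskiLocalAtSource @LocallyOfFiniteType.{u} :=
    HasRingHomProperty.instIsZariskiLocalAtSource
  constructor
  · let I := Σ (U : Y.Opens) (hU : PLift (IsAffineOpen U)), 𝒮.deg U hU.down 1
    refine IsZariskiLocalAtSource.of_iSup_eq_top (P := @LocallyOfFiniteType.{u})
      (fun i : I => (gE h hC i.2.1.down one_pos i.2.2.2).opensRange)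
      (eq_top_iff.mpr fun w _ => ?_) fun i => ?_
    · obtain ⟨U, hU, f, hf, hx⟩ := exists_chart_degree_one hP hgen (r.base w)
      refine Opens.mem_iSup.mpr ⟨⟨U, ⟨hU⟩, f, hf⟩, ?_⟩
      exact (preimage_gE h hC hP hU hr one_pos hf).le hx
    obtain ⟨U, ⟨hU⟩, f, hf⟩ := i
    dsimp only
    rw [← Scheme.Hom.isoOpensRange_inv_comp (gE h hC hU one_pos hf), Category.assoc,
      hr U hU 1 one_pos f hf _ (gE_ι h hC hU one_pos hf)]
    have : LocallyOfFiniteType (Spec.map (CommRingCat.ofHom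
        (HomogeneousLocalization.Away.map (ιAt U hU) f))) := by
      refine HasRingHomProperty.Spec_iff.mpr ?_
      letI := (ιAt U hU).toRingHom.toAlgebra
      letI := (HomogeneousLocalization.Away.map (ιAt U hU) f).toAlgebra
      change Algebra.FiniteType _ _
      exact Algebra.FiniteType.of_surjective
        (Polynomial.aeval (HomogeneousLocalization.Away.mk (𝒮h.deg U hU) ((ιAt U hU).2 hf) 1
          (RelCone.restrictTop 𝒮h z U) (by simpa using h.deg_z U hU)))
        (surjective_eval₂_chart (𝒮.deg U hU) (𝒮h.deg U hU) (ιAt U hU) (fun _ => rfl) _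
          (aeval_bijective h hU) hf (h.deg_z U hU))
    infer_instance
  · intro x
    obtain ⟨U, hU, f, hf, hx⟩ := exists_chart_degree_one hP hgen x
    obtain ⟨ψ, hψ⟩ := exists_fibre_iso r (Proj.awayι (𝒮.deg U hU) f hf one_pos ≫ RelProj.emb p chart U hU)
      (gE h hC hU one_pos hf) _ (hr U hU 1 one_pos f hf _ (gE_ι h hC hU one_pos hf))
      (preimage_gE h hC hP hU hr one_pos hf) x hx
    letI := (ιAt U hU).toRingHom.toAlgebra
    obtain ⟨Θ, hΘ⟩ := exists_isPushout_chart (𝒮.deg U hU) (𝒮h.deg U hU) (ιAt U hU) (fun _ => rfl)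
      (RelCone.restrictTop 𝒮h z U) (h.deg_z U hU) (aeval_bijective h hU) hf ψ.hom
    exact hψ _ (CommRingCat.ofHom Θ) (CommRingCat.ofHom Polynomial.C) hΘ

include hC hP hr hi hi' in
theorem retr_coneImm_fibre (hgen : 𝒮.IsGenDegOne) :
    LocallyOfFiniteType (i' ≫ r) ∧
      ∀ x : ↥P, ∃ e : pullback (i' ≫ r) (P.fromSpecResidueField x) ≅
          Spec (CommRingCat.of (LaurentPolynomial (P.residueField x))),
        e.hom ≫ Spec.map (CommRingCat.ofHom (algebraMap (P.residueField x) (LaurentPolynomial (P.residueField x)))) =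
          pullback.snd (i' ≫ r) (P.fromSpecResidueField x) := by
  haveI : IsZariskiLocalAtSource @LocallyOfFiniteType.{u} :=
    HasRingHomProperty.instIsZariskiLocalAtSource
  constructor
  · let I := Σ (U : Y.Opens) (hU : PLift (IsAffineOpen U)), 𝒮.deg U hU.down 1
    refine IsZariskiLocalAtSource.of_iSup_eq_top (P := @LocallyOfFiniteType.{u})
      (fun i : I => (gC i.2.1.down one_pos i.2.2.2).opensRange)
      (eq_top_iff.mpr fun w _ => ?_) fun j => ?_
    · obtain ⟨U, hU, f, hf, hx⟩ := exists_chart_degree_one hP hgen ((i' ≫ r).base w)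
      refine Opens.mem_iSup.mpr ⟨⟨U, ⟨hU⟩, f, hf⟩, ?_⟩
      exact (preimage_gC h hC hP hU hr hi hi' one_pos hf).le hx
    obtain ⟨U, ⟨hU⟩, f, hf⟩ := j
    dsimp only
    rw [← Scheme.Hom.isoOpensRange_inv_comp (gC hU one_pos hf), Category.assoc,
      gC_comp h hC hU hr hi hi' one_pos hf]
    have : LocallyOfFiniteType (Spec.map (CommRingCat.ofHom
        (algebraMap (HomogeneousLocalization.Away (𝒮.deg U hU) f) (Localization.Away f)))) :=
      HasRingHomProperty.Spec_iff.mpr (finiteType_away_degree_one (𝒮.deg U hU) hf)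
    infer_instance
  · intro x
    obtain ⟨U, hU, f, hf, hx⟩ := exists_chart_degree_one hP hgen x
    obtain ⟨ψ, hψ⟩ := exists_fibre_iso (i' ≫ r)
      (Proj.awayι (𝒮.deg U hU) f hf one_pos ≫ RelProj.emb p chart U hU)
      (gC hU one_pos hf) _ (gC_comp h hC hU hr hi hi' one_pos hf)
      (preimage_gC h hC hP hU hr hi hi' one_pos hf) x hx
    exact hψ _ _ (CommRingCat.ofHom LaurentPolynomial.C) (isPushout_laurent (𝒮.deg U hU) hf ψ.hom)

end Groth.Ega2Proj.PolyCone
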