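/-
Functoriality of projective cones over a general base (EGA II 8.5).
-/
import Groth.Agent.Ega2Proj.PolyConeRetract
import Groth.Agent.Ega2Proj2.RelSpecMap

set_option autoImplicit false

universe u

open CategoryTheory CategoryTheory.Limits AlgebraicGeometry Opposite TopologicalSpace
open scoped HomogeneousIdeal

set_option backward.isDefEq.respectTransparency.types false

noncomputable section

namespace Groth.Ega2Proj.PolyCone

open Groth.Ega2P2

section ring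

variable {B τ : Type u} [CommRing B] [SetLike τ B] [AddSubgroupClass τ B] {ℬ : ℕ → τ} [GradedRing ℬ]

theorem amap_id_awayι {d : ℕ} (hd : 0 < d) (x y : B) (e : GradedRingHom.id ℬ x = y) (hx : x ∈ ℬ d)
    (hy : y ∈ ℬ d) :
    Spec.map (CommRingCat.ofHom (amap (GradedRingHom.id ℬ) x y e)) ≫ Proj.awayι ℬ x hx hd =
      Proj.awayι ℬ y hy hd := by
  obtain rfl : x = y := e
  rw [amap_id, CommRingCat.ofHom_id, Spec.map_id, Category.id_comp]

end ring

section charts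

variable {S S' : Scheme.{u}} {g : S' ⟶ S} {𝒜 : RelProj.QCGrAlg S} {ℬ : RelProj.QCGrAlg S'}
  {v : RelProj.QGrHom g 𝒜 ℬ} {P : Scheme.{u}} {p : P ⟶ S}
  {chart : ∀ (U : S.Opens) (hU : IsAffineOpen U),
    (((p ⁻¹ᵁ U : P.Opens) : Scheme.{u}) ≅ Proj (𝒜.deg U hU))}
  {P' : Scheme.{u}} {p' : P' ⟶ S'}
  {chart' : ∀ (U' : S'.Opens) (hU' : IsAffineOpen U'),
    (((p' ⁻¹ᵁ U' : P'.Opens) : Scheme.{u}) ≅ Proj (ℬ.deg U' hU'))}
  {U : S.Opens} {hU : IsAffineOpen U} {U' : S'.Opens} {hU' : IsAffineOpen U'} {hle : U' ≤ g ⁻¹ᵁ U}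
  {ψ : 𝒜.deg U hU →+*ᵍ ℬ.deg U' hU'} (hψ : v.gradedAt U hU U' hU' hle = ψ)
  {d : ℕ} (hd : 0 < d) {f : 𝒜.presheaf.obj (op U)} (hf : f ∈ 𝒜.deg U hU d)
  {x : ℬ.presheaf.obj (op U')} (e : ψ f = x) (hx : x ∈ ℬ.deg U' hU' d)

include hψ in
/-- The equation of `Proj(v)` on a chart at a prescribed element. -/
theorem qMapOn_chart {W : P'.Opens} {r : (W : Scheme.{u}) ⟶ P}
    (hr : RelProj.IsProjQMapOn v p chart p' chart' W r)
    (m : Spec (CommRingCat.of (HomogeneousLocalization.Away (ℬ.deg U' hU') x)) ⟶ (W : Scheme.{u}))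
    (hm : m ≫ W.ι = Proj.awayι (ℬ.deg U' hU') x hx hd ≫ RelProj.emb p' chart' U' hU') :
    m ≫ r = Spec.map (CommRingCat.ofHom (amap ψ f x e)) ≫ Proj.awayι (𝒜.deg U hU) f hf hd ≫
      RelProj.emb p chart U hU := by
  subst hψ
  subst e
  have hW : Set.range (RelProj.awayEmb v p' chart' U hU U' hU' hle hd f hf).base ⊆ Set.range W.ι.base := by
    rw [RelProj.awayEmb, ← hm]
    rintro _ ⟨y, rfl⟩
    exact ⟨m.base y, rfl⟩
  refine Eq.trans ?_ (hr U hU U' hU' hle d hd f hf hW)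
  congr 1
  rw [← cancel_mono W.ι, IsOpenImmersion.lift_fac]
  exact hm

include hψ in
/-- The equation of an everywhere defined `Proj(v)` on a chart at a prescribed element. -/
theorem qMap_chart {r : P' ⟶ P} (hr : RelProj.IsProjQMap v p chart p' chart' r) :
    Proj.awayι (ℬ.deg U' hU') x hx hd ≫ RelProj.emb p' chart' U' hU' ≫ r =
      Spec.map (CommRingCat.ofHom (amap ψ f x e)) ≫ Proj.awayι (𝒜.deg U hU) f hf hd ≫
        RelProj.emb p chart U hU := by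
  subst hψ
  subst e
  exact (Category.assoc _ _ _).symm.trans (hr.2 U hU U' hU' hle d hd f hf)

end charts

/-- A point of `G(v)` in a standard chart. -/
theorem mem_range_qLift {S S' : Scheme.{u}} {g : S' ⟶ S} {𝒜 : RelProj.QCGrAlg S}
    {ℬ : RelProj.QCGrAlg S'} {v : RelProj.QGrHom g 𝒜 ℬ} {P' : Scheme.{u}} {p' : P' ⟶ S'}
    {chart' : ∀ (U' : S'.Opens) (hU' : IsAffineOpen U'),
      (((p' ⁻¹ᵁ U' : P'.Opens) : Scheme.{u}) ≅ Proj (ℬ.deg U' hU'))}
    (i : ChartIdx (g := g) (𝒮 := 𝒜)) (w : ((RelProj.domQ v p' chart' : P'.Opens) : Scheme.{u}))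
    (hw : (RelProj.domQ v p' chart').ι.base w ∈
      Set.range (RelProj.awayEmb v p' chart' i.U i.hU i.U' i.hU' i.hle i.hd i.f i.hf).base) :
    w ∈ Set.range (qLift (p' := p') (chart' := chart') v i).base := by
  obtain ⟨x, hx⟩ := hw
  refine ⟨x, (RelProj.domQ v p' chart').ι.isOpenEmbedding.injective ?_⟩
  exact (congr(($(qLift_ι (p' := p') (chart' := chart') v i)).base x)).trans hx

variable {Y Y' : Scheme.{u}} {q : Y' ⟶ Y} {𝒮 : RelProj.QCGrAlg Y} {𝒮' : RelProj.QCGrAlg Y'}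
  (u : RelProj.QGrHom q 𝒮 𝒮')
  {𝒮h : RelProj.QCGrAlg Y} {ι : 𝒮.toQCAlg ⟶ 𝒮h.toQCAlg} {z : 𝒮h.presheaf.obj (op ⊤)}
  (h : RelCone.IsPolyOver 𝒮 𝒮h ι z)
  {𝒮h' : RelProj.QCGrAlg Y'} {ι' : 𝒮'.toQCAlg ⟶ 𝒮h'.toQCAlg} {z' : 𝒮h'.presheaf.obj (op ⊤)}
  (h' : RelCone.IsPolyOver 𝒮' 𝒮h' ι' z') (uh : RelProj.QGrHom q 𝒮h 𝒮h')
  (huh : ∀ U : Y.Opens, ι.hom.app (op U) ≫ uh.app U = u.app U ≫ ι'.hom.app (op (q ⁻¹ᵁ U)))
  (huhz : (uh.app ⊤).hom z = RelCone.restrictTop 𝒮h' z' (q ⁻¹ᵁ ⊤))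
  {U : Y.Opens} (hU : IsAffineOpen U) {U' : Y'.Opens} (hU' : IsAffineOpen U') (hle : U' ≤ q ⁻¹ᵁ U)

include huh in
theorem uh_ι (a : 𝒮.presheaf.obj (op U)) :
    uh.gradedAt U hU U' hU' hle (RelProj.gradedHomAt ι h.graded U hU a) =
      RelProj.gradedHomAt ι' h'.graded U' hU' (u.gradedAt U hU U' hU' hle a) := by
  refine (congrArg (𝒮h'.presheaf.map (homOfLE hle).op).hom (congr(($(huh U)).hom a))).trans ?_
  exact congr(($(ι'.hom.naturality (homOfLE hle).op)).hom ((u.app U).hom a)).symm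

include huhz in
theorem uh_z :
    uh.gradedAt U hU U' hU' hle (RelCone.restrictTop 𝒮h z U) = RelCone.restrictTop 𝒮h' z' U' := by
  refine (congr(($(uh.toQHom.map_appLE le_top hle)).hom z)).trans ?_
  change (𝒮h'.presheaf.map _).hom ((uh.app ⊤).hom z) = _
  rw [huhz, RelCone.restrictTop, RelCone.restrictTop, ← CommRingCat.comp_apply, ← Functor.map_comp]
  rfl

include huh huhz in
theorem retr_comp_uh :
    (retr h' U' hU').comp (uh.gradedAt U hU U' hU' hle) =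
      (u.gradedAt U hU U' hU' hle).comp (retr h U hU) := by
  refine DFunLike.ext _ _ fun x => ?_
  obtain ⟨p, rfl⟩ := (h.polyEquiv U hU).surjective x
  change retr h' U' hU' (uh.gradedAt U hU U' hU' hle (h.polyEquiv U hU p)) =
    u.gradedAt U hU U' hU' hle (retr h U hU (h.polyEquiv U hU p))
  induction p using Polynomial.induction_on' with
  | add p q hp hq => simp only [map_add, hp, hq]
  | monomial n a =>
    rw [polyEquiv_monomial, map_mul, map_mul, map_mul, map_mul, map_pow, map_pow, map_pow, map_pow,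
      uh_ι u h h' uh huh hU hU' hle, uh_z (z := z) (z' := z') uh huhz hU hU' hle, retr_ι, retr_z,
      retr_ι, retr_z, map_zero]

variable {PC PC' : Scheme.{u}} {pC : PC ⟶ Y}
  {chartC : ∀ (U : Y.Opens) (hU : IsAffineOpen U),
    (((pC ⁻¹ᵁ U : PC.Opens) : Scheme.{u}) ≅ Proj (𝒮h.deg U hU))}
  (hC : RelProj.IsRelProj 𝒮h pC chartC) {pC' : PC' ⟶ Y'}
  {chartC' : ∀ (U : Y'.Opens) (hU : IsAffineOpen U),
    (((pC' ⁻¹ᵁ U : PC'.Opens) : Scheme.{u}) ≅ Proj (𝒮h'.deg U hU))}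
  (hC' : RelProj.IsRelProj 𝒮h' pC' chartC')
  {Φh : ((RelProj.domQ uh pC' chartC' : PC'.Opens) : Scheme.{u}) ⟶ PC}
  (hΦh : RelProj.IsProjQMapOn uh pC chartC pC' chartC' (RelProj.domQ uh pC' chartC') Φh)

include hC' in
/-- An affine pair around a point of the target cone. -/
theorem exists_pair (x : PC') :
    ∃ (U : Y.Opens) (hU : IsAffineOpen U) (U' : Y'.Opens) (hU' : IsAffineOpen U')
      (_ : U' ≤ q ⁻¹ᵁ U) (y : Proj (𝒮h'.deg U' hU')), (RelProj.emb pC' chartC' U' hU').base y = x := by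
  obtain ⟨U, hU, hxU, -⟩ :=
    exists_isAffineOpen_mem_and_subset (x := q.base (pC'.base x)) (U := (⊤ : Y.Opens)) trivial
  obtain ⟨U', hU', hxU', hle⟩ :=
    exists_isAffineOpen_mem_and_subset (x := pC'.base x) (U := q ⁻¹ᵁ U) hxU
  obtain ⟨y, hy⟩ := (projCharts hC').mem_range hU' hxU'
  exact ⟨U, hU, U', hU', hle, y, hy⟩

include hC hC' hΦh huh in
theorem map_mem_pointed_iff (w : ((RelProj.domQ uh pC' chartC' : PC'.Opens) : Scheme.{u}))
    (y : Proj (𝒮h'.deg U' hU'))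
    (hwy : (RelProj.domQ uh pC' chartC').ι.base w = (RelProj.emb pC' chartC' U' hU').base y) :
    Φh.base w ∈ RelCone.pointedProjCone 𝒮 h pC chartC ↔
      ∃ (d : ℕ) (f : 𝒮.presheaf.obj (op U)), 0 < d ∧ f ∈ 𝒮.deg U hU d ∧
        RelProj.gradedHomAt ι' h'.graded U' hU' (u.gradedAt U hU U' hU' hle f) ∉ y.asHomogeneousIdeal := by
  have key : ∀ (d : ℕ), 0 < d → ∀ f ∈ 𝒮.deg U hU d,
      (Φh.base w ∈ RelProj.emb pC chartC U hU ''ᵁ
        Proj.basicOpen (𝒮h.deg U hU) (RelProj.gradedHomAt ι h.graded U hU f) ↔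
      RelProj.gradedHomAt ι' h'.graded U' hU' (u.gradedAt U hU U' hU' hle f) ∉ y.asHomogeneousIdeal) := by
    intro d hd f hf
    refine (mem_preimage_basicOpen_iff uh hC' Φh hΦh hU hU' hle hd _
      ((RelProj.gradedHomAt ι h.graded U hU).2 hf) w y hwy).trans ?_
    exact iff_of_eq (congrArg (fun a => a ∉ y.asHomogeneousIdeal) (uh_ι u h h' uh huh hU hU' hle f))
  obtain ⟨q₀, hq₀⟩ : ∃ q₀ : Proj (𝒮h.deg U hU), (RelProj.emb pC chartC U hU).base q₀ = Φh.base w := by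
    refine (projCharts hC).mem_range hU ?_
    change (Φh ≫ pC).base w ∈ U
    rw [projQMapOn_comp uh hC hC' Φh hΦh]
    change q.base (pC'.base ((RelProj.domQ uh pC' chartC').ι.base w)) ∈ U
    rw [hwy]
    exact hle ((projCharts hC').map_mem hU' y)
  have key' : ∀ (d : ℕ), 0 < d → ∀ f ∈ 𝒮.deg U hU d,
      (RelProj.gradedHomAt ι h.graded U hU f ∉ q₀.asHomogeneousIdeal ↔
      RelProj.gradedHomAt ι' h'.graded U' hU' (u.gradedAt U hU U' hU' hle f) ∉ y.asHomogeneousIdeal) := by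
    intro d hd f hf
    refine Iff.trans ?_ (key d hd f hf)
    rw [← hq₀]
    exact ⟨fun h2 => ⟨q₀, h2, rfl⟩,
      fun ⟨q₁, h2, he⟩ => (RelProj.emb pC chartC U hU).isOpenEmbedding.injective he ▸ h2⟩
  rw [← hq₀, emb_mem_pointedProjCone_iff h hC U hU]
  exact exists_congr fun d => exists_congr fun f => and_congr_right fun hd => and_congr_right
    fun hf => key' d hd f hf

/-- The trace on `Proj 𝒮'(U')` of a point of the pointed cone. -/
theorem exists_u_notMem {P' : Scheme.{u}} {p' : P' ⟶ Y'}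
    {chart' : ∀ (U : Y'.Opens) (hU : IsAffineOpen U),
      (((p' ⁻¹ᵁ U : P'.Opens) : Scheme.{u}) ≅ Proj (𝒮'.deg U hU))}
    (hP' : RelProj.IsRelProj 𝒮' p' chart') (htop : RelProj.domQ u p' chart' = ⊤)
    (y : Proj (𝒮h'.deg U' hU')) {d' : ℕ} (hd' : 0 < d') {f' : 𝒮'.presheaf.obj (op U')}
    (hf' : f' ∈ 𝒮'.deg U' hU' d')
    (hy : RelProj.gradedHomAt ι' h'.graded U' hU' f' ∉ y.asHomogeneousIdeal) :
    ∃ (d : ℕ) (f : 𝒮.presheaf.obj (op U)), 0 < d ∧ f ∈ 𝒮.deg U hU d ∧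
      RelProj.gradedHomAt ι' h'.graded U' hU' (u.gradedAt U hU U' hU' hle f) ∉ y.asHomogeneousIdeal := by
  let w : Proj (𝒮'.deg U' hU') :=
    { asHomogeneousIdeal := y.asHomogeneousIdeal.comap (RelProj.gradedHomAt ι' h'.graded U' hU')
      isPrime := y.isPrime.comap _
      not_irrelevant_le := fun hle' => hy (hle' (HomogeneousIdeal.mem_irrelevant_of_mem _ hd' hf')) }
  have hw : w ∈ RelCone.domOpen (u.gradedAt U hU U' hU' hle) := by
    rw [(domQ_eq_top_iff u hP').1 htop U hU U' hU' hle]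
    trivial
  obtain ⟨d, f, hd, hf, hfw⟩ := (mem_domOpen_iff u hU hU' hle w).1 hw
  exact ⟨d, f, hd, hf, hfw⟩

omit hU hU' hle

include hC hC' hΦh huh in
theorem image_preimage_pointed_le :
    (RelProj.domQ uh pC' chartC').ι ''ᵁ (Φh ⁻¹ᵁ RelCone.pointedProjCone 𝒮 h pC chartC) ≤
      RelCone.pointedProjCone 𝒮' h' pC' chartC' := by
  rintro x ⟨w, hw, rfl⟩
  obtain ⟨U, hU, U', hU', hle, y, hy⟩ := exists_pair (q := q) hC' ((RelProj.domQ uh pC' chartC').ι.base w)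
  obtain ⟨d, f, hd, hf, hfy⟩ :=
    (map_mem_pointed_iff u h h' uh huh hU hU' hle hC hC' hΦh w y hy.symm).1 hw
  exact hy ▸ (emb_mem_pointedProjCone_iff h' hC' U' hU' y).2
    ⟨d, _, hd, (u.gradedAt U hU U' hU' hle).2 hf, hfy⟩

include hC hC' hΦh huh huhz in
theorem domQ_top_and_eq {P' : Scheme.{u}} {p' : P' ⟶ Y'}
    {chart' : ∀ (U : Y'.Opens) (hU : IsAffineOpen U),
      (((p' ⁻¹ᵁ U : P'.Opens) : Scheme.{u}) ≅ Proj (𝒮'.deg U hU))}
    (hP' : RelProj.IsRelProj 𝒮' p' chart') (htop : RelProj.domQ u p' chart' = ⊤) :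
    RelProj.domQ uh pC' chartC' = ⊤ ∧
      (RelProj.domQ uh pC' chartC').ι ''ᵁ (Φh ⁻¹ᵁ RelCone.pointedProjCone 𝒮 h pC chartC) =
        RelCone.pointedProjCone 𝒮' h' pC' chartC' := by
  have hdom : RelProj.domQ uh pC' chartC' = ⊤ := by
    refine (domQ_eq_top_iff uh hC').2 fun U hU U' hU' hle => top_le_iff.1 fun y _ => ?_
    rw [mem_domOpen_iff uh hU hU' hle]
    by_cases hz : RelCone.restrictTop 𝒮h' z' U' ∈ y.asHomogeneousIdeal
    · obtain ⟨d', f', hd', hf', hy⟩ := exists_ι_notMem h' U' hU' y hz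
      obtain ⟨d, f, hd, hf, hfy⟩ := exists_u_notMem u h' hU hU' hle hP' htop y hd' hf' hy
      exact ⟨d, _, hd, (RelProj.gradedHomAt ι h.graded U hU).2 hf,
        (uh_ι u h h' uh huh hU hU' hle f).symm ▸ hfy⟩
    · exact ⟨1, _, one_pos, h.deg_z U hU, (uh_z uh huhz hU hU' hle).symm ▸ hz⟩
  refine ⟨hdom, le_antisymm (image_preimage_pointed_le u h h' uh huh hC hC' hΦh) fun x hx => ?_⟩
  have hx' : x ∈ RelProj.domQ uh pC' chartC' := hdom.ge trivial
  refine ⟨⟨x, hx'⟩, ?_, rfl⟩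
  obtain ⟨U, hU, U', hU', hle, y, hy⟩ := exists_pair (q := q) hC' x
  subst hy
  obtain ⟨d', f', hd', hf', hy'⟩ := (emb_mem_pointedProjCone_iff h' hC' U' hU' y).1 hx
  exact (map_mem_pointed_iff u h h' uh huh hU hU' hle hC hC' hΦh ⟨_, hx'⟩ y rfl).2
    (exists_u_notMem u h' hU hU' hle hP' htop y hd' hf' hy')

variable {i : 𝒮.toQCAlg.spec ⟶ PC} (hi : RelCone.IsConeImm 𝒮 h pC chartC i)
  {i' : 𝒮'.toQCAlg.spec ⟶ PC'} (hi' : RelCone.IsConeImm 𝒮' h' pC' chartC' i')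

include h hC' huhz hi' in
theorem range_coneImm_subset_domQ :
    Set.range i'.base ⊆ ((RelProj.domQ uh pC' chartC' : PC'.Opens) : Set PC') := by
  rintro _ ⟨v, rfl⟩
  have hmem : i'.base v ∈ Set.range i'.base := ⟨v, rfl⟩
  rw [range_coneImm h' hC' hi'] at hmem
  obtain ⟨U, hU, U', hU', hle, y, hy⟩ := exists_pair (q := q) hC' (i'.base v)
  rw [← hy] at hmem ⊢
  obtain ⟨y₁, hy₁, he⟩ := (globalOpen_inf hC' z' U' hU').le ⟨hmem, (projCharts hC').map_mem hU' y⟩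
  obtain rfl := (RelProj.emb pC' chartC' U' hU').isOpenEmbedding.injective he
  refine (emb_mem_domQ_iff uh hC' hU hU' hle y₁).2 ((mem_domOpen_iff uh hU hU' hle y₁).2 ?_)
  exact ⟨1, _, one_pos, h.deg_z U hU, show uh.gradedAt U hU U' hU' hle (RelCone.restrictTop 𝒮h z U) ∉ y₁.asHomogeneousIdeal from
    (uh_z uh huhz hU hU' hle).symm ▸ (show RelCone.restrictTop 𝒮h' z' U' ∉ y₁.asHomogeneousIdeal from hy₁)⟩

include h h' huh huhz in
theorem awayZToBase_comp_uh {U : Y.Opens} (hU : IsAffineOpen U) {U' : Y'.Opens} (hU' : IsAffineOpen U')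
    (hle : U' ≤ q ⁻¹ᵁ U) :
    (h'.awayZToBase U' hU').comp (amap (uh.gradedAt U hU U' hU' hle) _ _
        (uh_z uh huhz hU hU' hle)) =
      (u.toQHom.appLE U U' hle).hom.comp (h.awayZToBase U hU) := by
  refine away_hom_ext h hU fun k a ha => ?_
  rw [RingHom.comp_apply, RingHom.comp_apply, awayZToBase_iotaDiv]
  have e : amap (uh.gradedAt U hU U' hU' hle) _ _ (uh_z uh huhz hU hU' hle) (iotaDiv h hU a ha) =
      iotaDiv h' hU' (u.gradedAt U hU U' hU' hle a) ((u.gradedAt U hU U' hU' hle).map_mem ha) := by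
    apply HomogeneousLocalization.val_injective
    rw [iotaDiv, iotaDiv, HomogeneousLocalization.Away.val_mk, amap, HomogeneousLocalization.Away.mk,
      HomogeneousLocalization.map_mk, HomogeneousLocalization.val_mk]
    refine congrArg₂ Localization.mk (uh_ι u h h' uh huh hU hU' hle a) (Subtype.ext ?_)
    change uh.gradedAt U hU U' hU' hle (RelCone.restrictTop 𝒮h z U ^ k) =
      RelCone.restrictTop 𝒮h' z' U' ^ k
    rw [map_pow, uh_z uh huhz hU hU' hle]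
  rw [e, awayZToBase_iotaDiv]
  rfl

include hC hC' hΦh huh huhz hi hi' in
theorem coneImm_comm {Φc : 𝒮'.toQCAlg.spec ⟶ 𝒮.toQCAlg.spec} (hΦc : RelSpec.IsSpecQMap u.toQHom Φc)
    (i'' : 𝒮'.toQCAlg.spec ⟶ ((RelProj.domQ uh pC' chartC' : PC'.Opens) : Scheme.{u}))
    (hi'' : i'' ≫ (RelProj.domQ uh pC' chartC').ι = i') : i'' ≫ Φh = Φc ≫ i := by
  let J := {V : Y.affineOpens × Y'.affineOpens // (V.2 : Y'.Opens) ≤ q ⁻¹ᵁ (V.1 : Y.Opens)}
  refine fam_hom_ext (fun j : J => Spec (𝒮'.presheaf.obj (op (j.1.2 : Y'.Opens))))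
    (fun j : J => 𝒮'.toQCAlg.ι j.1.2.1 j.1.2.2) (fun x => ?_) (fun j => ?_)
  · obtain ⟨U, hU, hxU, -⟩ := exists_isAffineOpen_mem_and_subset
      (x := q.base (𝒮'.toQCAlg.π.base x)) (U := (⊤ : Y.Opens)) trivial
    obtain ⟨U', hU', hxU', hle⟩ :=
      exists_isAffineOpen_mem_and_subset (x := 𝒮'.toQCAlg.π.base x) (U := q ⁻¹ᵁ U) hxU
    obtain ⟨y, hy⟩ := (specCharts 𝒮'.toQCAlg).mem_range hU' hxU'
    exact ⟨⟨(⟨U, hU⟩, ⟨U', hU'⟩), hle⟩, y, hy⟩
  · obtain ⟨⟨⟨U, hU⟩, ⟨U', hU'⟩⟩, hle⟩ := j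
    change 𝒮'.toQCAlg.ι U' hU' ≫ i'' ≫ Φh = 𝒮'.toQCAlg.ι U' hU' ≫ Φc ≫ i
    have e := uh_z (z := z) (z' := z') uh huhz hU hU' hle
    let L := qLift (p' := pC') (chart' := chartC') uh
      ⟨U, hU, U', hU', hle, 1, one_pos, RelCone.restrictTop 𝒮h z U, h.deg_z U hU⟩
    let c := Spec.map (CommRingCat.ofHom (amap (GradedRingHom.id (𝒮h'.deg U' hU'))
      (uh.gradedAt U hU U' hU' hle (RelCone.restrictTop 𝒮h z U)) (RelCone.restrictTop 𝒮h' z' U') e))
    have h1 : 𝒮'.toQCAlg.ι U' hU' ≫ i'' =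
        (Spec.map (CommRingCat.ofHom (h'.awayZToBase U' hU')) ≫ c) ≫ L := by
      rw [← cancel_mono (RelProj.domQ uh pC' chartC').ι, Category.assoc, hi'', hi' U' hU']
      simp only [L, Category.assoc, qLift_ι]
      rw [RelProj.awayEmb]
      exact congrArg (Spec.map _ ≫ ·) ((congrArg (· ≫ RelProj.emb pC' chartC' U' hU')
        (amap_id_awayι one_pos _ _ e ((uh.gradedAt U hU U' hU' hle).map_mem (h.deg_z U hU))
          (h'.deg_z U' hU')).symm).trans (Category.assoc _ _ _))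
    have h2 : L ≫ Φh = _ := hΦh U hU U' hU' hle 1 one_pos _ (h.deg_z U hU)
      (RelProj.range_awayEmb_subset_domQ uh pC' chartC' U hU U' hU' hle one_pos _ (h.deg_z U hU))
    rw [reassoc_of% h1, reassoc_of% (hΦc U hU U' hU' hle), hi U hU, h2]
    simp only [c, ← Category.assoc, ← Spec.map_comp, ← CommRingCat.ofHom_comp]
    congr 3
    rw [← amap_rfl, amap_comp, ← CommRingCat.ofHom_hom (u.toQHom.appLE U U' hle),
      ← CommRingCat.ofHom_comp]
    refine congrArg CommRingCat.ofHom (Eq.trans ?_ (awayZToBase_comp_uh u h h' uh huh huhz hU hU' hle))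
    exact congrArg (h'.awayZToBase U' hU').comp (amap_congr (DFunLike.ext _ _ fun _ => rfl) _ _ _)

variable {P P' : Scheme.{u}} {p : P ⟶ Y}
  {chart : ∀ (U : Y.Opens) (hU : IsAffineOpen U),
    (((p ⁻¹ᵁ U : P.Opens) : Scheme.{u}) ≅ Proj (𝒮.deg U hU))}
  {p' : P' ⟶ Y'}
  {chart' : ∀ (U : Y'.Opens) (hU : IsAffineOpen U),
    (((p' ⁻¹ᵁ U : P'.Opens) : Scheme.{u}) ≅ Proj (𝒮'.deg U hU))}
  (hP : RelProj.IsRelProj 𝒮 p chart) (hP' : RelProj.IsRelProj 𝒮' p' chart')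
  {Φ : ((RelProj.domQ u p' chart' : P'.Opens) : Scheme.{u}) ⟶ P}
  (hΦ : RelProj.IsProjQMapOn u p chart p' chart' (RelProj.domQ u p' chart') Φ)

section infinity

variable (θ : 𝒮h.toQCAlg ⟶ 𝒮.toQCAlg) (hθ : RelProj.IsGradedHom θ) (hθι : ι ≫ θ = 𝟙 _)
  (hθz : (θ.hom.app (op ⊤)).hom z = 0)
  {jX : P ⟶ PC} (hjX : RelProj.IsProjQMap (RelProj.QGrHom.ofHom θ hθ) pC chartC p chart jX)
  (θ' : 𝒮h'.toQCAlg ⟶ 𝒮'.toQCAlg) (hθ' : RelProj.IsGradedHom θ') (hθι' : ι' ≫ θ' = 𝟙 _)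
  (hθz' : (θ'.hom.app (op ⊤)).hom z' = 0)
  {jX' : P' ⟶ PC'} (hjX' : RelProj.IsProjQMap (RelProj.QGrHom.ofHom θ' hθ') pC' chartC' p' chart' jX')

include h h' huh hθι' hθz' hjX' in
theorem awayEmb_jX' (k : ChartIdx (g := q) (𝒮 := 𝒮)) :
    RelProj.awayEmb u p' chart' k.U k.hU k.U' k.hU' k.hle k.hd k.f k.hf ≫ jX' =
      Spec.map (CommRingCat.ofHom (amap (retr h' k.U' k.hU')
        (uh.gradedAt k.U k.hU k.U' k.hU' k.hle (RelProj.gradedHomAt ι h.graded k.U k.hU k.f))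
        (u.gradedAt k.U k.hU k.U' k.hU' k.hle k.f)
        (by rw [uh_ι u h h' uh huh k.hU k.hU' k.hle, retr_ι]))) ≫
      RelProj.awayEmb uh pC' chartC' k.U k.hU k.U' k.hU' k.hle k.hd
        (RelProj.gradedHomAt ι h.graded k.U k.hU k.f) ((RelProj.gradedHomAt ι h.graded k.U k.hU).2 k.hf) := by
  rw [RelProj.awayEmb, RelProj.awayEmb, Category.assoc]
  exact qMap_chart ((ofHom_gradedAt_self θ' hθ' k.U' k.hU' le_rfl).trans
    (gradedHomAt_eq_retr h' θ' hθ' hθι' hθz' k.U' k.hU')) k.hd _ _ _ hjX'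

include h h' huh hθι' hθz' hjX' in
theorem image_domQ_subset :
    jX'.base '' ((RelProj.domQ u p' chart' : P'.Opens) : Set P') ⊆
      ((RelProj.domQ uh pC' chartC' : PC'.Opens) : Set PC') := by
  rintro _ ⟨v, hv, rfl⟩
  obtain ⟨k, x, rfl⟩ := exists_chart_of_mem_domQ (p' := p') (chart' := chart') u hv
  rw [← Scheme.Opens.range_ι (RelProj.domQ uh pC' chartC')]
  refine RelProj.range_awayEmb_subset_domQ uh pC' chartC' k.U k.hU k.U' k.hU' k.hle k.hd
    (RelProj.gradedHomAt ι h.graded k.U k.hU k.f) ((RelProj.gradedHomAt ι h.graded k.U k.hU).2 k.hf)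
    ⟨_, (congr(($(awayEmb_jX' u h h' uh huh θ' hθ' hθι' hθz' hjX' k)).base x)).symm⟩

include h h' huh huhz hΦh hΦ hθι hθz hjX hθι' hθz' hjX' in
theorem infinity_comm {T : Scheme.{u}} (d : T ⟶ ((RelProj.domQ u p' chart' : P'.Opens) : Scheme.{u}))
    (e : T ⟶ ((RelProj.domQ uh pC' chartC' : PC'.Opens) : Scheme.{u}))
    (hde : d ≫ (RelProj.domQ u p' chart').ι ≫ jX' = e ≫ (RelProj.domQ uh pC' chartC').ι) :
    e ≫ Φh = d ≫ Φ ≫ jX := by
  have hsub : Set.range ((RelProj.domQ u p' chart').ι ≫ jX').base ⊆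
      Set.range (RelProj.domQ uh pC' chartC').ι.base := by
    rintro _ ⟨v, rfl⟩
    rw [Scheme.Opens.range_ι]
    exact image_domQ_subset u h h' uh huh θ' hθ' hθι' hθz' hjX' ⟨_, v.2, rfl⟩
  let k := IsOpenImmersion.lift (RelProj.domQ uh pC' chartC').ι _ hsub
  have he : e = d ≫ k := by
    rw [← cancel_mono (RelProj.domQ uh pC' chartC').ι, Category.assoc, IsOpenImmersion.lift_fac, hde]
  rw [he, Category.assoc]
  congr 1
  refine fam_hom_ext _ (qLift (p' := p') (chart' := chart') u) (fun w => ?_) fun c => ?_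
  · obtain ⟨i, x, hx⟩ := exists_chart_of_mem_domQ (p' := p') (chart' := chart') u w.2
    exact ⟨i, x, (RelProj.domQ u p' chart').ι.isOpenEmbedding.injective
      ((congr(($(qLift_ι (p' := p') (chart' := chart') u i)).base x)).trans hx)⟩
  · have h1 : qLift (p' := p') (chart' := chart') u c ≫ k =
        Spec.map (CommRingCat.ofHom (amap (retr h' c.U' c.hU')
          (uh.gradedAt c.U c.hU c.U' c.hU' c.hle (RelProj.gradedHomAt ι h.graded c.U c.hU c.f))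
          (u.gradedAt c.U c.hU c.U' c.hU' c.hle c.f)
          (by rw [uh_ι u h h' uh huh c.hU c.hU' c.hle, retr_ι]))) ≫ qLift (p' := pC') (chart' := chartC') uh
        ⟨c.U, c.hU, c.U', c.hU', c.hle, c.d, c.hd, RelProj.gradedHomAt ι h.graded c.U c.hU c.f,
          (RelProj.gradedHomAt ι h.graded c.U c.hU).2 c.hf⟩ := by
      rw [← cancel_mono (RelProj.domQ uh pC' chartC').ι, Category.assoc, Category.assoc,
        IsOpenImmersion.lift_fac, qLift_ι_assoc, qLift_ι]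
      exact awayEmb_jX' u h h' uh huh θ' hθ' hθι' hθz' hjX' c
    have h2 := hΦh c.U c.hU c.U' c.hU' c.hle c.d c.hd (RelProj.gradedHomAt ι h.graded c.U c.hU c.f)
      ((RelProj.gradedHomAt ι h.graded c.U c.hU).2 c.hf)
      (RelProj.range_awayEmb_subset_domQ uh pC' chartC' _ _ _ _ c.hle c.hd _ _)
    have h3 : qLift (p' := p') (chart' := chart') u c ≫ Φ = _ :=
      hΦ c.U c.hU c.U' c.hU' c.hle c.d c.hd c.f c.hf
        (RelProj.range_awayEmb_subset_domQ u p' chart' _ _ _ _ c.hle c.hd _ _)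
    have h4 := qMap_chart ((ofHom_gradedAt_self θ hθ c.U c.hU le_rfl).trans
      (gradedHomAt_eq_retr h θ hθ hθι hθz c.U c.hU)) c.hd
      ((RelProj.gradedHomAt ι h.graded c.U c.hU).2 c.hf) (retr_ι h c.U c.hU c.f) c.hf hjX
    rw [reassoc_of% h1, reassoc_of% h3, h4]
    refine (congrArg (_ ≫ ·) h2).trans ?_
    rw [← Spec.map_comp_assoc, ← Spec.map_comp_assoc, ← CommRingCat.ofHom_comp,
      ← CommRingCat.ofHom_comp, ← amap_rfl, ← amap_rfl, amap_comp, amap_comp]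
    congr 3
    exact amap_congr (retr_comp_uh u h h' uh huh huhz c.hU c.hU' c.hle) _ _ _

end infinity

include h h' hC hC' huh hΦh hΦ in
theorem retraction_comm_chart
    {r : ((RelCone.pointedProjCone 𝒮 h pC chartC : PC.Opens) : Scheme.{u}) ⟶ P}
    (hr : RelProj.IsProjQMapOn (RelProj.QGrHom.ofHom ι h.graded) p chart pC chartC
      (RelCone.pointedProjCone 𝒮 h pC chartC) r)
    {r' : ((RelCone.pointedProjCone 𝒮' h' pC' chartC' : PC'.Opens) : Scheme.{u}) ⟶ P'}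
    (hr' : RelProj.IsProjQMapOn (RelProj.QGrHom.ofHom ι' h'.graded) p' chart' pC' chartC'
      (RelCone.pointedProjCone 𝒮' h' pC' chartC') r')
    (k : ChartIdx (g := q) (𝒮 := 𝒮))
    {T : Scheme.{u}} (a : T ⟶ ((RelCone.pointedProjCone 𝒮' h' pC' chartC' : PC'.Opens) : Scheme.{u}))
    (b : T ⟶ ((RelProj.domQ uh pC' chartC' : PC'.Opens) : Scheme.{u}))
    (c : T ⟶ ((RelCone.pointedProjCone 𝒮 h pC chartC : PC.Opens) : Scheme.{u}))
    (d : T ⟶ ((RelProj.domQ u p' chart' : P'.Opens) : Scheme.{u}))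
    (hab : a ≫ (RelCone.pointedProjCone 𝒮' h' pC' chartC').ι = b ≫ (RelProj.domQ uh pC' chartC').ι)
    (hbc : b ≫ Φh = c ≫ (RelCone.pointedProjCone 𝒮 h pC chartC).ι)
    (hd' : a ≫ r' = d ≫ (RelProj.domQ u p' chart').ι)
    (m : T ⟶ Spec (CommRingCat.of (HomogeneousLocalization.Away (𝒮h'.deg k.U' k.hU')
      (uh.gradedAt k.U k.hU k.U' k.hU' k.hle (RelProj.gradedHomAt ι h.graded k.U k.hU k.f)))))
    (hm : m ≫ qLift (p' := pC') (chart' := chartC') uh
      ⟨k.U, k.hU, k.U', k.hU', k.hle, k.d, k.hd, RelProj.gradedHomAt ι h.graded k.U k.hU k.f,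
        (RelProj.gradedHomAt ι h.graded k.U k.hU).2 k.hf⟩ = b) :
    c ≫ r = d ≫ Φ := by
  obtain ⟨U, hU, U', hU', hle, n, hn, f, hf⟩ := k
  dsimp only at m hm
  let fh := RelProj.gradedHomAt ι h.graded U hU f
  have hfh : fh ∈ 𝒮h.deg U hU n := (RelProj.gradedHomAt ι h.graded U hU).2 hf
  have hW : Set.range (Proj.awayι _ fh hfh hn ≫ RelProj.emb pC chartC U hU).base ⊆
      Set.range (RelCone.pointedProjCone 𝒮 h pC chartC).ι.base := by
    rw [Scheme.Opens.range_ι]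
    rintro _ ⟨x, rfl⟩
    refine (emb_mem_pointedProjCone_iff h hC _ _ _).2 ⟨n, f, hn, hf, ?_⟩
    exact (Proj.opensRange_awayι _ fh hfh hn).le ⟨x, rfl⟩
  let x' := uh.gradedAt U hU U' hU' hle fh
  have ex : RelProj.gradedHomAt ι' h'.graded U' hU' (u.gradedAt U hU U' hU' hle f) = x' :=
    (uh_ι u h h' uh huh hU hU' hle f).symm
  have hx' : x' ∈ 𝒮h'.deg U' hU' n := (uh.gradedAt U hU U' hU' hle).2 hfh
  have hW' : Set.range (Proj.awayι _ x' hx' hn ≫ RelProj.emb pC' chartC' U' hU').base ⊆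
      Set.range (RelCone.pointedProjCone 𝒮' h' pC' chartC').ι.base := by
    rw [Scheme.Opens.range_ι]
    rintro _ ⟨x, rfl⟩
    refine (emb_mem_pointedProjCone_iff h' hC' _ _ _).2 ⟨n, u.gradedAt U hU U' hU' hle f, hn,
      (u.gradedAt U hU U' hU' hle).2 hf, ?_⟩
    rw [ex]
    exact (Proj.opensRange_awayι _ x' hx' hn).le ⟨x, rfl⟩
  have hL := hΦh U hU U' hU' hle n hn fh hfh
    (RelProj.range_awayEmb_subset_domQ uh pC' chartC' _ _ _ _ hle hn _ _)
  have hc : c = m ≫ Spec.map (CommRingCat.ofHom (HomogeneousLocalization.Away.map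
      (uh.gradedAt U hU U' hU' hle) fh)) ≫ IsOpenImmersion.lift _ _ hW := by
    rw [← cancel_mono (RelCone.pointedProjCone 𝒮 h pC chartC).ι, Category.assoc,
      Category.assoc, IsOpenImmersion.lift_fac, ← hbc, ← hm, Category.assoc]
    exact congrArg (m ≫ ·) hL
  have hgr := isRetr_of_isProjQMapOn h hr U hU n hn f hf
    (IsOpenImmersion.lift _ _ hW) (IsOpenImmersion.lift_fac _ _ _)
  have ha : a = m ≫ IsOpenImmersion.lift _ _ hW' := by
    rw [← cancel_mono (RelCone.pointedProjCone 𝒮' h' pC' chartC').ι, Category.assoc,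
      IsOpenImmersion.lift_fac, hab, ← hm, Category.assoc, qLift_ι]
    rfl
  have hgr' := qMapOn_chart (ofHom_gradedAt_self ι' h'.graded U' hU' le_rfl) hn
    ((u.gradedAt U hU U' hU' hle).2 hf) ex hx' hr'
    (IsOpenImmersion.lift _ _ hW') (IsOpenImmersion.lift_fac _ _ _)
  have hdd' : d = m ≫ Spec.map (CommRingCat.ofHom (amap (RelProj.gradedHomAt ι' h'.graded U' hU')
        (u.gradedAt U hU U' hU' hle f) x' ex)) ≫
      qLift (p' := p') (chart' := chart') u ⟨U, hU, U', hU', hle, n, hn, f, hf⟩ := by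
    rw [← cancel_mono (RelProj.domQ u p' chart').ι, Category.assoc, Category.assoc,
      qLift_ι, ← hd', ha, Category.assoc, hgr']
    rfl
  have hu : qLift (p' := p') (chart' := chart') u ⟨U, hU, U', hU', hle, n, hn, f, hf⟩ ≫ Φ = _ :=
    hΦ U hU U' hU' hle n hn f hf
      (RelProj.range_awayEmb_subset_domQ u p' chart' _ _ _ _ hle hn _ _)
  simp only [hc, hdd', Category.assoc]
  refine congrArg (m ≫ ·) ?_
  refine (congrArg (_ ≫ ·) hgr).trans (Eq.trans ?_ (congrArg (_ ≫ ·) hu).symm)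
  simp only [← Spec.map_comp_assoc, ← CommRingCat.ofHom_comp]
  congr 3
  rw [← amap_rfl, ← amap_rfl, ← amap_rfl, amap_comp, amap_comp]
  exact amap_congr (DFunLike.ext _ _ fun s => uh_ι u h h' uh huh hU hU' hle s) _ _ _

include h h' hC hC' hP hP' huh hΦh hΦ in
theorem retraction_comm {r : ((RelCone.pointedProjCone 𝒮 h pC chartC : PC.Opens) : Scheme.{u}) ⟶ P}
    (hr : RelProj.IsProjQMapOn (RelProj.QGrHom.ofHom ι h.graded) p chart pC chartC
      (RelCone.pointedProjCone 𝒮 h pC chartC) r)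
    {r' : ((RelCone.pointedProjCone 𝒮' h' pC' chartC' : PC'.Opens) : Scheme.{u}) ⟶ P'}
    (hr' : RelProj.IsProjQMapOn (RelProj.QGrHom.ofHom ι' h'.graded) p' chart' pC' chartC'
      (RelCone.pointedProjCone 𝒮' h' pC' chartC') r')
    {T : Scheme.{u}} (a : T ⟶ ((RelCone.pointedProjCone 𝒮' h' pC' chartC' : PC'.Opens) : Scheme.{u}))
    (b : T ⟶ ((RelProj.domQ uh pC' chartC' : PC'.Opens) : Scheme.{u}))
    (c : T ⟶ ((RelCone.pointedProjCone 𝒮 h pC chartC : PC.Opens) : Scheme.{u}))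
    (hab : a ≫ (RelCone.pointedProjCone 𝒮' h' pC' chartC').ι = b ≫ (RelProj.domQ uh pC' chartC').ι)
    (hbc : b ≫ Φh = c ≫ (RelCone.pointedProjCone 𝒮 h pC chartC).ι) :
    Set.range (a ≫ r').base ⊆ ((RelProj.domQ u p' chart' : P'.Opens) : Set P') ∧
      ∀ d : T ⟶ ((RelProj.domQ u p' chart' : P'.Opens) : Scheme.{u}),
        a ≫ r' = d ≫ (RelProj.domQ u p' chart').ι → c ≫ r = d ≫ Φ := by
  have hloc : ∀ t : T, ∃ k : ChartIdx (g := q) (𝒮 := 𝒮),
      (RelProj.domQ uh pC' chartC').ι.base (b.base t) ∈ Set.range (RelProj.awayEmb uh pC' chartC'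
        k.U k.hU k.U' k.hU' k.hle k.hd (RelProj.gradedHomAt ι h.graded k.U k.hU k.f)
          ((RelProj.gradedHomAt ι h.graded k.U k.hU).2 k.hf)).base ∧
      r'.base (a.base t) ∈ Set.range (RelProj.awayEmb u p' chart'
        k.U k.hU k.U' k.hU' k.hle k.hd k.f k.hf).base := by
    intro t
    obtain ⟨U, hU, U', hU', hle, y, hy⟩ :=
      exists_pair (q := q) hC' ((RelProj.domQ uh pC' chartC').ι.base (b.base t))
    have hct : Φh.base (b.base t) ∈ RelCone.pointedProjCone 𝒮 h pC chartC := by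
      rw [show Φh.base (b.base t) = _ from congr(($hbc).base t)]
      exact (c.base t).2
    obtain ⟨d, f, hd, hf, hfy⟩ :=
      (map_mem_pointed_iff u h h' uh huh hU hU' hle hC hC' hΦh (b.base t) y hy.symm).1 hct
    refine ⟨⟨U, hU, U', hU', hle, d, hd, f, hf⟩, ?_, ?_⟩
    · rw [← hy]
      refine (emb_mem_range_awayEmb uh hU hU' hle hd _ _ y).2 ?_
      exact show uh.gradedAt U hU U' hU' hle _ ∉ y.asHomogeneousIdeal from
        (uh_ι u h h' uh huh hU hU' hle f).symm ▸ hfy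
    · have hwy : (RelCone.pointedProjCone 𝒮' h' pC' chartC').ι.base (a.base t) =
          (RelProj.emb pC' chartC' U' hU').base y := (congr(($hab).base t)).trans hy.symm
      obtain ⟨y₁, hy₁, he⟩ := (retr_mem_basicOpen_iff h' hC' hP'
        ((isProjQMapOn_iff_isRetr h' hC' hP' r').1 hr') hU' hd ((u.gradedAt U hU U' hU' hle).2 hf)
        (a.base t) y hwy).2 hfy
      rw [← he]
      exact (emb_mem_range_awayEmb u hU hU' hle hd f hf y₁).2 hy₁
  refine ⟨?_, fun d hd' => ?_⟩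
  · rintro _ ⟨t, rfl⟩
    obtain ⟨k, -, hk⟩ := hloc t
    rw [← Scheme.Opens.range_ι (RelProj.domQ u p' chart')]
    exact RelProj.range_awayEmb_subset_domQ u p' chart' _ _ _ _ k.hle k.hd _ _ hk
  choose k hk _ using hloc
  let L := fun t => qLift (p' := pC') (chart' := chartC') uh
    ⟨(k t).U, (k t).hU, (k t).U', (k t).hU', (k t).hle, (k t).d, (k t).hd,
      RelProj.gradedHomAt ι h.graded (k t).U (k t).hU (k t).f,
      (RelProj.gradedHomAt ι h.graded (k t).U (k t).hU).2 (k t).hf⟩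
  let O : T → T.Opens := fun t => b ⁻¹ᵁ (L t).opensRange
  refine fam_hom_ext (fun t => (O t : Scheme.{u})) (fun t => (O t).ι) (fun t => ⟨t, ⟨t, ?_⟩, rfl⟩)
    fun t => ?_
  · exact mem_range_qLift _ _ (hk t)
  have hrange : Set.range ((O t).ι ≫ b).base ⊆ Set.range (L t).base := by
    rintro _ ⟨x, rfl⟩
    exact x.2
  rw [← Category.assoc, ← Category.assoc]
  exact retraction_comm_chart u h h' uh huh hC hC' hΦh hΦ hr hr' (k t) ((O t).ι ≫ a) ((O t).ι ≫ b)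
    ((O t).ι ≫ c) ((O t).ι ≫ d) (by rw [Category.assoc, Category.assoc, hab])
    (by rw [Category.assoc, Category.assoc, hbc]) (by rw [Category.assoc, Category.assoc, hd'])
    (IsOpenImmersion.lift (L t) _ hrange) (IsOpenImmersion.lift_fac _ _ _)

end Groth.Ega2Proj.PolyCone
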