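/-
Projective morphisms are stable under base change.
-/
import Groth.Agent.Ega2Proj.GrBaseChangeGen
import Groth.Agent.S12141

set_option autoImplicit false

universe u

open CategoryTheory CategoryTheory.Limits AlgebraicGeometry Opposite TopologicalSpace

noncomputable section

namespace Groth.Ega2Proj

/-- The base change of a projective morphism, for any cartesian square. -/
theorem isProjective_of_isPullback {X Y X' Y' : Scheme.{u}} {f : X ⟶ Y} {g : Y' ⟶ Y} {g' : X' ⟶ X}
    {f' : X' ⟶ Y'} (sq : IsPullback g' f' f g) (hf : RelProj.IsProjective f) :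
    RelProj.IsProjective f' := by
  obtain ⟨𝒮, P, p, chart, e, hgen, hft, hP, hp⟩ := hf
  obtain ⟨P', p', chart', hP'⟩ := Groth.Ega2P2.exists_isRelProj (GrBC.gr g 𝒮)
  obtain ⟨⟨k, hk⟩, hpb⟩ := Groth.Agent.S12141.result g 𝒮 (GrBC.gr g 𝒮) (GrBC.qGrHom g 𝒮)
    (GrBC.isQBaseChange g 𝒮) p chart hP p' chart' hP'
  have hX : IsPullback (g' ≫ e.hom) f' p g :=
    sq.of_iso (Iso.refl _) e (Iso.refl _) (Iso.refl _) (by simp) (by simp) (by simp [hp]) (by simp)
  exact ⟨GrBC.gr g 𝒮, P', p', chart', hX.isoIsPullback P Y' (hpb k hk), GrBC.isGenDegOne g 𝒮 hgen,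
    GrBC.isFTDeg g 𝒮 hft, hP', hX.isoIsPullback_hom_snd P Y' (hpb k hk)⟩

theorem isProjective_baseChange {X Y Y' : Scheme.{u}} {f : X ⟶ Y} (hf : RelProj.IsProjective f)
    (g : Y' ⟶ Y) : RelProj.IsProjective (pullback.snd f g) :=
  isProjective_of_isPullback (IsPullback.of_hasPullback f g) hf

end Groth.Ega2Proj
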