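/-
Proj of a graded domain is integral; the structure map to Spec of degree zero on points.
-/
import Groth.Agent.Ega2Proj.MapCharts

set_option autoImplicit false
universe u
open CategoryTheory AlgebraicGeometry DirectSum

namespace Groth.Ega2Proj

variable {A σ : Type u} [CommRing A] [SetLike σ A] [AddSubgroupClass σ A] (𝒜 : ℕ → σ) [GradedRing 𝒜]

theorem exists_pos_notMem_point (x : ProjectiveSpectrum 𝒜) :
    ∃ j, 0 < j ∧ ∃ b ∈ 𝒜 j, b ∉ x.asHomogeneousIdeal := by
  by_contra! h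
  exact x.not_irrelevant_le fun z hz =>
    irrelevant_le_ideal 𝒜 (fun d hd a ha => h d hd a ha) hz

/-- The point of `Spec A₀` under a point of `Proj A` is the degree zero part of its ideal. -/
theorem mem_toSpecZero_iff (x : Proj 𝒜) (c : 𝒜 0) :
    c ∈ ((Proj.toSpecZero 𝒜).base x).asIdeal ↔
      (c : A) ∈ (show ProjectiveSpectrum 𝒜 from x).asHomogeneousIdeal := by
  obtain ⟨d, hd, b, hb, hbx⟩ := exists_pos_notMem_point 𝒜 x
  obtain ⟨w, hw⟩ : x ∈ (Proj.awayι 𝒜 b hb hd).opensRange := by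
    rw [Proj.opensRange_awayι]; exact hbx
  have hcb : (c : A) * b ∈ 𝒜 d := by
    simpa using SetLike.mul_mem_graded c.2 hb
  have e : HomogeneousLocalization.Away.isLocalizationElem hb hcb =
      HomogeneousLocalization.fromZeroRingHom 𝒜 (Submonoid.powers b) c ^ d := by
    ext
    simp only [HomogeneousLocalization.Away.isLocalizationElem, HomogeneousLocalization.Away.val_mk,
      HomogeneousLocalization.val_pow]
    change _ = Localization.mk (c : A) 1 ^ d
    rw [Localization.mk_pow, Localization.mk_eq_mk_iff, Localization.r_iff_exists]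
    exact ⟨1, by simp [mul_pow, smul_eq_mul]; ring⟩
  have h1 : (Proj.toSpecZero 𝒜).base x =
      (Spec.map (CommRingCat.ofHom (HomogeneousLocalization.fromZeroRingHom 𝒜 (Submonoid.powers b)))).base w := by
    rw [← Proj.awayι_toSpecZero 𝒜 b hb hd, ← hw]; rfl
  have h2 : x ∈ Proj.basicOpen 𝒜 ((c : A) * b) ↔
      w ∈ Proj.awayι 𝒜 b hb hd ⁻¹ᵁ Proj.basicOpen 𝒜 ((c : A) * b) := by
    rw [← hw]; rfl
  rw [Proj.awayι_preimage_basicOpen 𝒜 hb hd hcb hd, e] at h2
  have h3 : x ∈ Proj.basicOpen 𝒜 ((c : A) * b) ↔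
      (c : A) ∉ (show ProjectiveSpectrum 𝒜 from x).asHomogeneousIdeal :=
    ⟨fun h hc => h (Ideal.mul_mem_right b _ hc), fun h hm =>
      (((show ProjectiveSpectrum 𝒜 from x).isPrime.mem_or_mem hm).elim h hbx)⟩
  rw [h1]
  change HomogeneousLocalization.fromZeroRingHom 𝒜 (Submonoid.powers b) c ∈ w.asIdeal ↔ _
  rw [← w.2.pow_mem_iff_mem d hd, ← not_iff_not]
  exact h2.symm.trans h3

theorem isIntegral_proj [IsDomain A] (hne : (HomogeneousIdeal.irrelevant 𝒜).toIdeal ≠ ⊥) :
    IsIntegral (Proj 𝒜) := by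
  let η : ProjectiveSpectrum 𝒜 := ⟨⊥, Ideal.isPrime_bot (α := A), fun h => hne (le_bot_iff.1 h)⟩
  haveI : ∀ s, AlgebraicGeometry.IsReduced ((Proj.affineOpenCover 𝒜).openCover.X s) := fun s =>
    haveI := away_isReduced (𝒜 := 𝒜) (fun f _ h => h.eq_zero) s.1.2 s.2.2
    inferInstanceAs (AlgebraicGeometry.IsReduced (Spec (CommRingCat.of (HomogeneousLocalization.Away 𝒜 (s.2 : A)))))
  haveI := IsReduced.of_openCover _ (Proj.affineOpenCover 𝒜).openCover
  haveI : IrreducibleSpace (Proj 𝒜 :) :=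
    { isPreirreducible_univ := by
        have h : closure {η} = (Set.univ : Set (ProjectiveSpectrum 𝒜)) := Set.eq_univ_of_forall fun y =>
          (ProjectiveSpectrum.le_iff_mem_closure 𝒜 η y).1 (bot_le (α := HomogeneousIdeal 𝒜))
        exact h ▸ isPreirreducible_singleton.closure
      toNonempty := ⟨η⟩ }
  exact isIntegral_of_irreducibleSpace_of_isReduced (Proj 𝒜)

end Groth.Ega2Proj
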