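/-
The direct image by an affine morphism commutes with colimits of quasi-coherent modules.
-/
import Groth.Agent.QCohMod.FilteredSections
import Groth.Agent.QCohMod.Coherent

set_option autoImplicit false
universe u
open CategoryTheory CategoryTheory.Limits AlgebraicGeometry Opposite TopologicalSpace

noncomputable section

namespace Groth.Ega2Proj.PushColim

open Groth.QCohMod

variable {X S : Scheme.{u}}

theorem exists_affine_germ (N : S.Modules) (s : S) (t : (stalk s).obj N) :
    ∃ (U : S.Opens) (_ : IsAffineOpen U) (hs : s ∈ U) (a : Γ(N, U)), germ N s hs a = t := by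
  obtain ⟨V, hsV, a, rfl⟩ := exists_germ N s t
  obtain ⟨U, hU, hsU, hle⟩ := exists_isAffineOpen_mem_and_subset (U := V) (x := s) hsV
  exact ⟨U, hU, hsU, res N hle a, germ_res N _ s hsU a⟩

theorem exists_res_eq_zero (N : S.Modules) {U : S.Opens} (s : S) (hs : s ∈ U) (a : Γ(N, U))
    (h : germ N s hs a = 0) :
    ∃ (W : S.Opens) (hle : W ≤ U), IsAffineOpen W ∧ s ∈ W ∧ res N hle a = 0 := by
  obtain ⟨Z, hsZ, i, j, hZ⟩ := TopCat.Presheaf.germ_eq N.presheaf s hs hs a 0
    (h.trans (map_zero (germ N s hs)).symm)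
  obtain ⟨W, hW, hsW, hWZ⟩ := exists_isAffineOpen_mem_and_subset (U := Z) (x := s) hsZ
  refine ⟨W, (show W ≤ Z from hWZ).trans i.le, hW, hsW, ?_⟩
  rw [← res_res N i.le hWZ]
  exact (congrArg (res N hWZ) (hZ.trans (map_zero _))).trans (map_zero _)

/-- Sections over an affine open of a quasi-coherent module generated on stalks by quasi-coherent
modules. -/
theorem mem_iSup_range {ι : Type*} (M : ι → X.Modules) [∀ i, (M i).IsQuasicoherent] (N : X.Modules)
    [N.IsQuasicoherent] (φ : ∀ i, M i ⟶ N)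
    (hgen : ∀ (x : X) (t : (stalk x).obj N), t ∈ ⨆ i, AddMonoidHom.range ((stalk x).map (φ i)).hom)
    {U : X.Opens} (hU : IsAffineOpen U) (g : Γ(N, U)) :
    g ∈ ⨆ i, LinearMap.range (appₗ (φ i) U) := by
  set T := ⨆ i, LinearMap.range (appₗ (φ i) U)
  let I : Ideal Γ(X, U) := T.comap (LinearMap.toSpanSingleton _ _ g)
  suffices htop : I = ⊤ by
    have : (1 : Γ(X, U)) ∈ I := htop ▸ trivial
    simpa [I] using this
  by_contra hne
  obtain ⟨P, hP, hle⟩ := Ideal.exists_le_maximal _ hne
  let p : PrimeSpectrum Γ(X, U) := ⟨P, hP.isPrime⟩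
  have hmem : hU.fromSpec p ∈ U := by
    have h := Set.mem_range_self (f := hU.fromSpec) p
    rwa [hU.range_fromSpec] at h
  have hx : hU.primeIdealOf ⟨hU.fromSpec p, hmem⟩ = p :=
    hU.fromSpec.isOpenEmbedding.injective (hU.fromSpec_primeIdealOf _)
  set x := hU.fromSpec p
  have hgood : ∀ t : (stalk x).obj N, t ∈ ⨆ i, AddMonoidHom.range ((stalk x).map (φ i)).hom →
      ∃ a : Γ(X, U), x ∈ X.basicOpen a ∧ ∃ m ∈ T, X.presheaf.germ U x hmem a • (show N.presheaf.stalk x from t) =
        germ N x hmem m := by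
    intro t ht
    refine AddSubgroup.iSup_induction _ (C := fun t => ∃ a : Γ(X, U), x ∈ X.basicOpen a ∧ ∃ m ∈ T,
      X.presheaf.germ U x hmem a • (show N.presheaf.stalk x from t) = germ N x hmem m) ht ?_ ?_ ?_
    · rintro i _ ⟨t, rfl⟩
      obtain ⟨a, m, ha, ham⟩ := exists_smul_germ_eq (M i) hU x hmem t
      refine ⟨a, ha, (φ i).app U m, Submodule.mem_iSup_of_mem i ⟨m, rfl⟩, ?_⟩
      rw [← stalk_map_germ, ← ham]
      erw [stalk_map_germ_smul]
    · exact ⟨1, by rw [Scheme.basicOpen_one]; exact hmem, 0, zero_mem _,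
        (smul_zero _).trans (map_zero (germ N x hmem)).symm⟩
    · rintro t₁ t₂ ⟨a, ha, m, hm, e₁⟩ ⟨b, hb, n, hn, e₂⟩
      refine ⟨a * b, by rw [Scheme.basicOpen_mul]; exact ⟨ha, hb⟩, b • m + a • n,
        add_mem (Submodule.smul_mem _ _ hm) (Submodule.smul_mem _ _ hn), ?_⟩
      rw [map_add, germ_smul, germ_smul, ← e₁, ← e₂, map_mul]
      show _ • ((show N.presheaf.stalk x from t₁) + t₂) = _
      rw [smul_add, smul_smul, smul_smul, mul_comm (X.presheaf.germ U x hmem b)]
  obtain ⟨a, ha, m, hm, e⟩ := hgood (germ N x hmem g) (hgen x _)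
  have hgerm : germ N x hmem (a • g - m) = 0 := by rw [map_sub, germ_smul, e, sub_self]
  obtain ⟨b, hb, hb0⟩ := exists_smul_eq_zero_of_germ_eq_zero N hU x hmem _ hgerm
  have hmemI : b * a ∈ I := by
    rw [Submodule.mem_comap, LinearMap.toSpanSingleton_apply, mul_smul]
    rw [smul_sub, sub_eq_zero] at hb0
    rw [hb0]
    exact Submodule.smul_mem _ b hm
  have hba : x ∈ X.basicOpen (b * a) := by rw [Scheme.basicOpen_mul]; exact ⟨hb, ha⟩
  rw [mem_basicOpen_iff_notMem_primeIdealOf hU (b * a) x hmem, hx] at hba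
  exact hba (hle hmemI)

/-- The coproduct of abelian groups is generated by the summands. -/
theorem iSup_range_eq_top {ι : Type*} {G : ι → AddCommGrpCat.{u}} {c : Cofan G} (hc : IsColimit c) :
    ⨆ i, AddMonoidHom.range (c.inj i).hom = ⊤ := by
  set H := ⨆ i, AddMonoidHom.range (c.inj i).hom
  have h0 : AddCommGrpCat.ofHom (QuotientAddGroup.mk' H) = 0 := Cofan.IsColimit.hom_ext hc _ _ fun i => by
    ext a
    exact (QuotientAddGroup.eq_zero_iff _).2 (le_iSup (fun i => AddMonoidHom.range (c.inj i).hom) i ⟨a, rfl⟩)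
  refine eq_top_iff.2 fun x _ => (QuotientAddGroup.eq_zero_iff x).1 ?_
  exact congr($h0 x)

theorem iSup_range_stalk_sigma (x : X) {ι : Type u} (M : ι → X.Modules) :
    ⨆ i, AddMonoidHom.range ((stalk x).map (Sigma.ι M i)).hom = ⊤ :=
  iSup_range_eq_top (c := Cofan.mk _ fun i => (stalk x).map (Sigma.ι M i))
    (isColimitCofanMkObjOfIsColimit (stalk x) M _ (coproductIsCoproduct M))

variable (f : X ⟶ S) [IsAffineHom f]

/-- The direct image by an affine morphism commutes with coproducts of quasi-coherent modules. -/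
theorem isIso_sigmaComparison {ι : Type u} (F : ι → X.Modules) [∀ i, (F i).IsQuasicoherent] :
    IsIso (sigmaComparison (Scheme.Modules.pushforward f) F) := by
  classical
  set P := Scheme.Modules.pushforward f
  set φ := sigmaComparison P F
  refine isIso_of_stalk φ fun s => (ConcreteCategory.isIso_iff_bijective _).2 ⟨?_, fun t => ?_⟩
  · refine (injective_iff_map_eq_zero ((stalk s).map φ).hom).2 fun y hy => ?_
    let δ : ∀ i, ∐ F ⟶ F i := fun i => Sigma.desc fun j => if h : j = i then eqToHom (congrArg F h) else 0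
    have hδ : ∀ i, Sigma.ι F i ≫ δ i = 𝟙 _ := fun i => by simp [δ]
    have hδ' : ∀ i j, j ≠ i → Sigma.ι F j ≫ δ i = 0 := fun i j h => by simp [δ, h]
    let q : ∀ i, ∐ (fun i : ι => P.obj (F i)) ⟶ P.obj (F i) := fun i => φ ≫ P.map (δ i)
    have hι : ∀ (_ j : ι), Sigma.ι (fun i : ι => P.obj (F i)) j ≫ φ = P.map (Sigma.ι F j) :=
      fun _ j => ι_comp_sigmaComparison P F j
    have hy' : ∀ i, (stalk s).map (q i) y = 0 := fun i => by
      rw [Functor.map_comp, CategoryTheory.comp_apply]
      exact (congrArg _ hy).trans (map_zero _)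
    have hrep : ∀ z : (stalk s).obj (∐ fun i : ι => P.obj (F i)), ∃ I : Finset ι, ∀ J : Finset ι, I ⊆ J →
        z = ∑ i ∈ J, (stalk s).map (Sigma.ι (fun i : ι => P.obj (F i)) i) ((stalk s).map (q i) z) := by
      intro z
      have hz : z ∈ ⨆ i, AddMonoidHom.range ((stalk s).map (Sigma.ι (fun i : ι => P.obj (F i)) i)).hom := by
        rw [iSup_range_stalk_sigma]; trivial
      rw [AddSubgroup.iSup_eq_closure] at hz
      induction hz using AddSubgroup.closure_induction with
      | mem z hz =>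
        obtain ⟨i, a, rfl⟩ := Set.mem_iUnion.1 hz
        refine ⟨{i}, fun J hJ => ?_⟩
        rw [Finset.sum_eq_single_of_mem i (hJ (Finset.mem_singleton_self i))]
        · change (stalk s).map _ a = (stalk s).map _ ((stalk s).map (q i) ((stalk s).map _ a))
          rw [← CategoryTheory.comp_apply ((stalk s).map _) ((stalk s).map (q i)), ← Functor.map_comp,
            show Sigma.ι (fun i : ι => P.obj (F i)) i ≫ q i = 𝟙 _ by
              rw [← Category.assoc, hι i i, ← P.map_comp, hδ, P.map_id], CategoryTheory.Functor.map_id]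
          rfl
        · intro j _ hj
          change (stalk s).map _ ((stalk s).map (q j) ((stalk s).map _ a)) = 0
          rw [← CategoryTheory.comp_apply ((stalk s).map _) ((stalk s).map (q j)), ← Functor.map_comp,
            show Sigma.ι (fun i : ι => P.obj (F i)) i ≫ q j = 0 by
              rw [← Category.assoc, hι i i, ← P.map_comp, hδ' j i (Ne.symm hj), Functor.map_zero],
            Functor.map_zero]
          exact map_zero _
      | zero => exact ⟨∅, fun J _ => by simp only [map_zero, Finset.sum_const_zero]⟩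
      | add a b _ _ ha hb =>
        obtain ⟨I, hI⟩ := ha
        obtain ⟨I', hI'⟩ := hb
        refine ⟨I ∪ I', fun J hJ => ?_⟩
        simp only [map_add, Finset.sum_add_distrib, ← hI J (Finset.union_subset_left hJ),
          ← hI' J (Finset.union_subset_right hJ)]
      | neg a _ ha =>
        obtain ⟨I, hI⟩ := ha
        exact ⟨I, fun J hJ => by simp only [map_neg, Finset.sum_neg_distrib, ← hI J hJ]⟩
    obtain ⟨I, hI⟩ := hrep y
    rw [hI I subset_rfl]
    exact Finset.sum_eq_zero fun i _ => by rw [hy' i, map_zero]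
  · obtain ⟨U, hU, hs, g, rfl⟩ := exists_affine_germ (P.obj (∐ F)) s t
    let g' : Γ(∐ F, f ⁻¹ᵁ U) := g
    have hg : g' ∈ ⨆ i, LinearMap.range (appₗ (Sigma.ι F i) (f ⁻¹ᵁ U)) :=
      mem_iSup_range F (∐ F) (Sigma.ι F) (fun x t => by rw [iSup_range_stalk_sigma]; trivial)
        (hU.preimage f) g'
    refine Submodule.iSup_induction _ (motive := fun g'' : Γ(∐ F, f ⁻¹ᵁ U) => ∃ y, (stalk s).map φ y =
      germ (P.obj (∐ F)) s hs (show Γ(P.obj (∐ F), U) from g'')) hg ?_ ?_ ?_
    · rintro i _ ⟨a, rfl⟩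
      refine ⟨(stalk s).map (Sigma.ι (fun i : ι => P.obj (F i)) i) (germ (P.obj (F i)) s hs
        (show Γ(P.obj (F i), U) from a)), ?_⟩
      rw [← CategoryTheory.comp_apply, ← Functor.map_comp, ι_comp_sigmaComparison, stalk_map_germ]
      rfl
    · exact ⟨0, (map_zero _).trans (map_zero (germ (P.obj (∐ F)) s hs)).symm⟩
    · rintro a b ⟨y, hy⟩ ⟨z, hz⟩
      exact ⟨y + z, by rw [map_add, hy, hz]; exact (map_add (germ (P.obj (∐ F)) s hs) _ _).symm⟩

/-- The direct image by an affine morphism commutes with filtered colimits of quasi-coherent modules. -/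
theorem preservesColimit_filtered {J : Type u} [SmallCategory J] [IsFiltered J] (D : J ⥤ X.Modules)
    [∀ j, (D.obj j).IsQuasicoherent] : PreservesColimit D (Scheme.Modules.pushforward f) := by
  set P := Scheme.Modules.pushforward f
  let c := colimit.cocone D
  have hc : IsColimit c := colimit.isColimit D
  haveI : c.pt.IsQuasicoherent := isQCoh_of_isColimit D _ hc
  suffices IsIso (colimit.post D P) from preservesColimit_of_isIso_post _ _
  refine isIso_of_stalk _ fun s => (ConcreteCategory.isIso_iff_bijective _).2 ⟨?_, fun t => ?_⟩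
  · refine (injective_iff_map_eq_zero ((stalk s).map (colimit.post D P)).hom).2 fun y hy => ?_
    obtain ⟨j, t, rfl⟩ := Concrete.isColimit_exists_rep _
      (isColimitOfPreserves (stalk s) (colimit.isColimit (D ⋙ P))) y
    obtain ⟨U, hU, hs, a, rfl⟩ := exists_affine_germ (P.obj (D.obj j)) s t
    change (stalk s).map (colimit.post D P) ((stalk s).map (colimit.ι (D ⋙ P) j) _) = 0 at hy
    rw [← CategoryTheory.comp_apply, ← Functor.map_comp, colimit.ι_post] at hy
    erw [stalk_map_germ] at hy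
    obtain ⟨W, hle, hW, hsW, h0⟩ := exists_res_eq_zero _ s hs _ hy
    rw [res_app] at h0
    obtain ⟨k, u, hu⟩ := exists_map_eq_zero hc (hW.preimage f).isCompact
      (i := j) (show Γ(D.obj j, f ⁻¹ᵁ W) from res (P.obj (D.obj j)) hle a) h0
    change (stalk s).map (colimit.ι (D ⋙ P) j) _ = 0
    rw [← colimit.w (D ⋙ P) u, Functor.map_comp, CategoryTheory.comp_apply,
      ← germ_res (P.obj (D.obj j)) hle s hsW a]
    erw [stalk_map_germ]
    rw [show ((D ⋙ P).map u).app W (res (P.obj (D.obj j)) hle a) = 0 from hu]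
    erw [map_zero, map_zero]
  · obtain ⟨U, hU, hs, g, rfl⟩ := exists_affine_germ (P.obj (colimit D)) s t
    obtain ⟨j, d, hd⟩ := exists_app_eq_affine hc (hU.preimage f) (show Γ(c.pt, f ⁻¹ᵁ U) from g)
    refine ⟨(stalk s).map (colimit.ι (D ⋙ P) j) (germ (P.obj (D.obj j)) s hs (show Γ(P.obj (D.obj j), U) from d)), ?_⟩
    rw [← CategoryTheory.comp_apply, ← Functor.map_comp, colimit.ι_post]
    erw [stalk_map_germ]
    exact congrArg (germ (P.obj (colimit D)) s hs) hd

end Groth.Ega2Proj.PushColim
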