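import Groth.Agent.CohBase.IdealOfClosed
import Mathlib.AlgebraicGeometry.QuasiAffine
import Mathlib.AlgebraicGeometry.Morphisms.IsIso
import Mathlib.RingTheory.Ideal.MinimalPrime.Basic
import Mathlib.RingTheory.Spectrum.Prime.Topology

/-!
# An affineness criterion by extension of sections from closed subsets
-/

universe u

open CategoryTheory Limits AlgebraicGeometry TopologicalSpace Opposite

namespace Groth.Ega2Proj

variable {D : Scheme.{u}}

/-- Every closed subset carries a closed subscheme whose functions all extend. -/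
def ExtendsFromClosed (D : Scheme.{u}) : Prop :=
  ∀ Z : Closeds D, ∃ (T : Scheme.{u}) (i : T ⟶ D) (_ : IsClosedImmersion i),
    Set.range i = (Z : Set D) ∧ Function.Surjective i.appTop

theorem exists_separating (H : ExtendsFromClosed D) (Z : Closeds D) (x : D)
    (hx : IsClosed ({x} : Set D)) (hxZ : x ∉ Z) :
    ∃ f : Γ(D, ⊤), x ∈ D.basicOpen f ∧ Disjoint (D.basicOpen f : Set D) Z := by
  obtain ⟨T, i, _, hrange, hsurj⟩ := H (Z ⊔ ⟨{x}, hx⟩)
  let A : T.Opens := i ⁻¹ᵁ ⟨(Z : Set D)ᶜ, Z.isClosed.isOpen_compl⟩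
  let B : T.Opens := i ⁻¹ᵁ ⟨{x}ᶜ, hx.isOpen_compl⟩
  have hdisj : A ⊓ B = ⊥ := by
    ext t
    simp only [Opens.coe_inf, Set.mem_inter_iff, Opens.coe_bot, Set.mem_empty_iff_false,
      iff_false, not_and]
    intro hA hB
    have : i t ∈ ((Z ⊔ ⟨{x}, hx⟩ : Closeds D) : Set D) := hrange ▸ Set.mem_range_self t
    rcases this with h' | h'
    · exact hA h'
    · exact hB h'
  have hcov : (⊤ : T.Opens) ≤ A ⊔ B := by
    intro t _
    by_cases h' : i t ∈ (Z : Set D)
    · exact Or.inr fun h'' => hxZ (h'' ▸ h')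
    · exact Or.inl h'
  obtain ⟨e, heA, heB⟩ := QCohMod.exists_glue₂ (Coh.structureModule T) (le_top : A ≤ ⊤)
    (le_top : B ≤ ⊤) hcov (1 : Γ(T, A)) (0 : Γ(T, B))
    ((QCohMod.subsingleton_bot _ hdisj).elim _ _)
  obtain ⟨f, hf⟩ := hsurj e
  have hpre : i ⁻¹ᵁ D.basicOpen f = T.basicOpen (show Γ(T, ⊤) from e) := by
    rw [← hf]
    exact Scheme.preimage_basicOpen_top i f
  refine ⟨f, ?_, Set.disjoint_left.mpr fun y hy hyZ => ?_⟩
  · obtain ⟨t, ht⟩ : x ∈ Set.range i := hrange ▸ Or.inr rfl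
    have htA : t ∈ A := fun h' => hxZ (by rwa [ht] at h')
    have : t ∈ T.basicOpen (show Γ(T, ⊤) from e) ⊓ A := by
      rw [inf_comm, ← T.basicOpen_res (show Γ(T, ⊤) from e) (homOfLE (le_top : A ≤ ⊤)).op]
      rw [show T.presheaf.map (homOfLE (le_top : A ≤ ⊤)).op (show Γ(T, ⊤) from e) = 1 from heA,
        Scheme.basicOpen_of_isUnit _ isUnit_one]
      exact htA
    rw [← hpre] at this
    rw [← ht]
    exact this.1
  · obtain ⟨t, rfl⟩ : y ∈ Set.range i := hrange ▸ Or.inl hyZ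
    have htB : t ∈ B := fun h' => hxZ (h' ▸ hyZ)
    have : t ∈ B ⊓ T.basicOpen (show Γ(T, ⊤) from e) := ⟨htB, hpre ▸ hy⟩
    rw [← T.basicOpen_res (show Γ(T, ⊤) from e) (homOfLE (le_top : B ≤ ⊤)).op,
      show T.presheaf.map (homOfLE (le_top : B ≤ ⊤)).op (show Γ(T, ⊤) from e) = 0 from heB,
      Scheme.basicOpen_zero] at this
    exact this

theorem isQuasiAffine_of_extendsFromClosed [CompactSpace D] (H : ExtendsFromClosed D) :
    D.IsQuasiAffine := by
  refine .of_forall_exists_mem_basicOpen _ fun y => ?_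
  obtain ⟨x, hxy, hxc⟩ := (isClosed_closure (s := {y})).exists_closed_singleton
    ⟨y, subset_closure rfl⟩
  obtain ⟨_, ⟨O, hO, rfl⟩, hxO, -⟩ :=
    D.isBasis_affineOpens.exists_subset_of_mem_open (Set.mem_univ x) isOpen_univ
  obtain ⟨f, hxf, hf⟩ := exists_separating H ⟨(O : Set D)ᶜ, O.2.isClosed_compl⟩ x hxc
    (fun h => h hxO)
  refine ⟨f, ?_, (specializes_iff_mem_closure.mpr hxy).mem_open (D.basicOpen f).2 hxf⟩
  have hle : D.basicOpen f ≤ O := fun z hz => by
    by_contra h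
    exact Set.disjoint_left.mp hf hz h
  have : D.basicOpen (D.presheaf.map (homOfLE (le_top : O ≤ ⊤)).op f) = D.basicOpen f := by
    rw [Scheme.basicOpen_res, inf_eq_right.mpr hle]
  exact this ▸ hO.basicOpen _

lemma mem_basicOpen_iff_notMem (x : D) (r : Γ(D, ⊤)) :
    x ∈ D.basicOpen r ↔ r ∉ (D.toSpecΓ x).asIdeal := by
  rw [← D.toSpecΓ_preimage_basicOpen r]
  rfl

/-- An element outside a prime `q` killing all points of a quasi-compact open inside a closed
subset missing the generalizations of `q`. -/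
lemma exists_notMem_forall_mem {B : Type*} [CommRing B] (t : Finset B) (J q : Ideal B)
    [q.IsPrime]
    (hJ : ∀ z : Ideal B, z.IsPrime → J ≤ z → z ≤ q → ∀ g ∈ t, g ∈ z) :
    ∃ s ∉ q, ∀ z : Ideal B, z.IsPrime → J ≤ z → (∃ g ∈ t, g ∉ z) → s ∈ z := by
  classical
  have : ∀ g ∈ t, ∃ s ∉ q, ∃ n : ℕ, s * g ^ n ∈ J := by
    intro g hg
    by_contra! hne
    obtain ⟨z, hz, hJz, hzd⟩ := Ideal.exists_le_prime_disjoint (I := J)
      (q.primeCompl ⊔ Submonoid.powers g) (Set.disjoint_right.mpr fun x hx => by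
        obtain ⟨s, hs, _, ⟨n, rfl⟩, rfl⟩ := Submonoid.mem_sup.mp hx
        exact hne s hs n)
    refine Set.disjoint_left.mp hzd (hJ z hz hJz (fun x hx => ?_) g hg)
      (Submonoid.mem_sup_right (Submonoid.mem_powers g))
    by_contra hxq
    exact Set.disjoint_left.mp hzd hx (Submonoid.mem_sup_left hxq)
  choose! s hs n hn using this
  refine ⟨∏ g ∈ t, s g, fun h => ?_, fun z hz hJz ⟨g, hg, hgz⟩ => ?_⟩
  · obtain ⟨g, hg, hgq⟩ := (‹q.IsPrime›.prod_mem_iff).mp h
    exact hs g hg hgq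
  · refine hz.prod_mem_iff.mpr ⟨g, hg, ?_⟩
    exact (hz.mem_or_mem (hJz (hn g hg))).resolve_right fun h => hgz (hz.mem_of_pow_mem _ h)

/-- In a chain of primes strictly below a finitely generated ideal's minimal prime there is a
maximal one. -/
lemma exists_maximal_prime {B : Type*} [CommRing B] (t : Finset B) (q : Ideal B)
    (hne : ∃ p : Ideal B, p.IsPrime ∧ p ≤ q ∧ ∃ g ∈ t, g ∉ p) :
    ∃ p : Ideal B, p.IsPrime ∧ p ≤ q ∧ (∃ g ∈ t, g ∉ p) ∧
      ∀ z : Ideal B, z.IsPrime → p ≤ z → z ≤ q → (∃ g ∈ t, g ∉ z) → z ≤ p := by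
  classical
  let S : Set (Ideal B) := {p | p.IsPrime ∧ p ≤ q ∧ ∃ g ∈ t, g ∉ p}
  obtain ⟨m, hm⟩ := zorn_le₀ S fun c hcS hc => by
    rcases c.eq_empty_or_nonempty with rfl | hcne
    · obtain ⟨p, hp⟩ := hne
      exact ⟨p, hp, by simp⟩
    have mem : ∀ x, x ∈ sSup c ↔ ∃ p ∈ c, x ∈ p := fun x =>
      Submodule.mem_sSup_of_directed hcne hc.directedOn
    refine ⟨sSup c, ⟨⟨fun htop => ?_, fun {a b} hab => ?_⟩, sSup_le fun p hp => (hcS hp).2.1,
      ?_⟩, fun p hp => le_sSup hp⟩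
    · obtain ⟨p, hp, h1⟩ := (mem 1).mp (htop ▸ Submodule.mem_top)
      exact (hcS hp).1.ne_top (p.eq_top_iff_one.mpr h1)
    · obtain ⟨p, hp, h1⟩ := (mem _).mp hab
      exact ((hcS hp).1.mem_or_mem h1).imp (fun h => (mem a).mpr ⟨p, hp, h⟩)
        (fun h => (mem b).mpr ⟨p, hp, h⟩)
    · by_contra! hall
      have : ∀ g ∈ t, ∃ p ∈ c, g ∈ p := fun g hg => (mem g).mp (hall g hg)
      choose! P hP hgP using this
      obtain ⟨p0, hp0⟩ := hcne
      haveI : Nonempty c := ⟨⟨p0, hp0⟩⟩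
      obtain ⟨p, hp⟩ := hc.directed.finset_le (t.attach.image fun g : t => (⟨P g, hP g g.2⟩ : c))
      obtain ⟨g, hg, hgp⟩ := (hcS p.2).2.2
      exact hgp (hp ⟨P g, hP g hg⟩ (Finset.mem_image.mpr ⟨⟨g, hg⟩, Finset.mem_attach _ _, rfl⟩)
        (hgP g hg))
  exact ⟨m, hm.1.1, hm.1.2.1, hm.1.2.2, fun z hz hmz hzq hzg => hm.2 ⟨hz, hzq, hzg⟩ hmz⟩

/-- A quasi-compact scheme on which functions extend from closed subsets is affine. -/
theorem isAffine_of_extendsFromClosed [CompactSpace D] (H : ExtendsFromClosed D) :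
    IsAffine D := by
  have := isQuasiAffine_of_extendsFromClosed H
  set j := D.toSpecΓ with hj
  obtain ⟨t, ht⟩ := PrimeSpectrum.isCompact_isOpen_iff.mp
    (⟨isCompact_range j.continuous, j.isOpenEmbedding.isOpen_range⟩ :
      IsCompact (Set.range j) ∧ IsOpen (Set.range j))
  have hmem : ∀ z : PrimeSpectrum Γ(D, ⊤), z ∈ Set.range j ↔ ∃ g ∈ t, g ∉ z.asIdeal := by
    intro z
    have h : z ∈ Set.range j ↔ z ∈ (PrimeSpectrum.zeroLocus (t : Set Γ(D, ⊤)))ᶜ :=
      (Set.ext_iff.mp ht z).symm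
    rw [h, Set.mem_compl_iff, PrimeSpectrum.mem_zeroLocus, Set.not_subset]
    rfl
  suffices hs : Function.Surjective j by
    have : Surjective j := ⟨hs⟩
    exact ⟨(isIso_iff_isOpenImmersion_and_surjective j).mpr ⟨inferInstance, inferInstance⟩⟩
  intro q₀
  by_contra hq₀
  have hIq₀ : Ideal.span (t : Set Γ(D, ⊤)) ≤ q₀.asIdeal := Ideal.span_le.mpr fun g hg => by
    by_contra hgq
    exact hq₀ ((hmem q₀).mpr ⟨g, hg, hgq⟩)
  haveI := q₀.isPrime
  obtain ⟨q, ⟨⟨hqp, hIq⟩, hqmin⟩, -⟩ := Ideal.exists_minimalPrimes_le hIq₀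
  have hne : ∃ p : Ideal Γ(D, ⊤), p.IsPrime ∧ p ≤ q ∧ ∃ g ∈ t, g ∉ p := by
    by_contra! hno
    obtain ⟨s, hsq, hs⟩ := exists_notMem_forall_mem t ⊥ q fun z hz _ hzq g hg => hno z hz hzq g hg
    have : IsNilpotent s := by
      rw [Scheme.isNilpotent_iff_basicOpen_eq_bot, eq_bot_iff]
      intro x hx
      exact ((mem_basicOpen_iff_notMem x s).mp hx
        (hs _ (j x).isPrime bot_le ((hmem _).mp ⟨x, rfl⟩))).elim
    obtain ⟨k, hk⟩ := this
    exact hsq (hqp.mem_of_pow_mem k (hk ▸ q.zero_mem))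
  obtain ⟨p, hp, hpq, hpt, hmax⟩ := exists_maximal_prime t q hne
  obtain ⟨a, haq, hap⟩ : ∃ a ∈ q, a ∉ p := by
    by_contra! hle
    obtain ⟨g, hg, hgp⟩ := hpt
    exact hgp (hle g (hIq (Ideal.subset_span hg)))
  obtain ⟨s, hsq, hs⟩ := exists_notMem_forall_mem t (p ⊔ Ideal.span {a}) q
    fun z hz hJz hzq => by
      by_contra! hzt
      exact hap (hmax z hz (le_sup_left.trans hJz) hzq hzt
        (hJz (Ideal.mem_sup_right (Ideal.subset_span rfl))))
  obtain ⟨x₀, hx₀⟩ := (hmem ⟨p, hp⟩).mpr hpt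
  obtain ⟨T, i, _, hrange, hsurj⟩ := H ⟨closure {x₀}, isClosed_closure⟩
  have := QuasiCompact.compactSpace_of_compactSpace i
  have := Scheme.IsQuasiAffine.of_isImmersion (Y := D) i
  have hle : T.basicOpen (i.appTop s) ≤ T.basicOpen (i.appTop a) := by
    rw [← Scheme.preimage_basicOpen_top, ← Scheme.preimage_basicOpen_top]
    intro y hy
    have h1 : x₀ ⤳ i y := specializes_iff_mem_closure.mpr
      (show i y ∈ closure {x₀} from (Set.ext_iff.mp hrange (i y)).mp (Set.mem_range_self y))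
    have h2 : p ≤ (j (i y)).asIdeal := by
      have := (PrimeSpectrum.le_iff_specializes _ _).mpr (h1.map j.continuous)
      rw [hx₀] at this
      exact this
    refine (mem_basicOpen_iff_notMem (i y) a).mpr fun ha => ?_
    exact (mem_basicOpen_iff_notMem (i y) s).mp hy (hs _ (j (i y)).isPrime
      (sup_le h2 ((Ideal.span_singleton_le_iff_mem _).mpr ha)) ((hmem _).mp ⟨i y, rfl⟩))
  have hloc := isLocalization_basicOpen_of_qcqs (X := T) (U := ⊤) isCompact_univ
    isQuasiSeparated_univ (i.appTop s)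
  have hu : IsUnit (algebraMap Γ(T, ⊤) Γ(T, T.basicOpen (i.appTop s)) (i.appTop a)) := by
    change IsUnit (T.presheaf.map (homOfLE (le_top : T.basicOpen (i.appTop s) ≤ ⊤)).op (i.appTop a))
    rw [← homOfLE_comp hle le_top, op_comp, Functor.map_comp, CommRingCat.comp_apply]
    exact (T.toRingedSpace.isUnit_res_basicOpen (i.appTop a)).map
      (T.presheaf.map (homOfLE hle).op).hom
  obtain ⟨w, hw⟩ := hu.exists_right_inv
  obtain ⟨⟨b', _, M, rfl⟩, hb'⟩ := IsLocalization.surj (Submonoid.powers (i.appTop s)) w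
  have heq : algebraMap Γ(T, ⊤) Γ(T, T.basicOpen (i.appTop s)) (i.appTop a * b') =
      algebraMap Γ(T, ⊤) Γ(T, T.basicOpen (i.appTop s)) (i.appTop s ^ M) := by
    rw [map_mul, ← hb', ← mul_assoc, hw, one_mul]
  obtain ⟨⟨_, N, rfl⟩, hN⟩ := IsLocalization.exists_of_eq (M := Submonoid.powers (i.appTop s)) heq
  obtain ⟨b, rfl⟩ := hsurj b'
  have hr : i.appTop (s ^ N * (a * b) - s ^ (N + M)) = 0 := by
    simpa [pow_add, sub_eq_zero] using hN
  have hrp : s ^ N * (a * b) - s ^ (N + M) ∈ p := by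
    by_contra hr'
    obtain ⟨y₀, hy₀⟩ := (Set.ext_iff.mp hrange x₀).mpr (subset_closure rfl)
    have hy : i y₀ ∈ D.basicOpen (s ^ N * (a * b) - s ^ (N + M)) := by
      rw [mem_basicOpen_iff_notMem, hy₀, hx₀]
      exact hr'
    have : y₀ ∈ T.basicOpen (i.appTop (s ^ N * (a * b) - s ^ (N + M))) := by
      rw [← Scheme.preimage_basicOpen_top]; exact hy
    rw [hr, Scheme.basicOpen_zero] at this
    exact this
  refine hsq (hqp.mem_of_pow_mem (N + M) ?_)
  have := q.sub_mem (q.mul_mem_left (s ^ N) (q.mul_mem_right b haq)) (hpq hrp)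
  simpa using this

end Groth.Ega2Proj

namespace Groth.Ega2Proj

variable {X : Scheme.{u}}

/-- Closed subsets of an open subscheme, through the closed subschemes of the ambient scheme. -/
theorem extendsFromClosed_opens (D : X.Opens)
    (h : ∀ I : X.IdealSheafData, Function.Surjective (I.subschemeι.app D)) :
    ExtendsFromClosed D.toScheme := by
  intro Z
  let W : Closeds X := ⟨closure (D.ι '' (Z : Set D)), isClosed_closure⟩
  let I := Scheme.IdealSheafData.vanishingIdeal W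
  haveI : IsClosedImmersion (I.subschemeι ∣_ D) :=
    IsZariskiLocalAtTarget.restrict (P := @IsClosedImmersion) inferInstance D
  refine ⟨_, I.subschemeι ∣_ D, inferInstance, ?_, ?_⟩
  · ext y
    rw [show Set.range (I.subschemeι ∣_ D) = D.ι ⁻¹' Set.range I.subschemeι from ?_,
      CohBase.range_reduced]
    · refine ⟨fun hy => ?_, fun hy => subset_closure ⟨y, hy, rfl⟩⟩
      have : y ∈ closure (Z : Set D) := by
        rw [D.ι.isOpenEmbedding.isInducing.closure_eq_preimage_closure_image]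
        exact hy
      rwa [Z.isClosed.closure_eq] at this
    · ext z
      constructor
      · rintro ⟨t, rfl⟩
        exact ⟨(I.subschemeι ⁻¹ᵁ D).ι t, congr($((morphismRestrict_ι I.subschemeι D).symm) t)⟩
      · rintro ⟨t, ht⟩
        refine ⟨⟨t, show I.subschemeι t ∈ D from ht ▸ z.2⟩, D.ι.isOpenEmbedding.injective ?_⟩
        exact (congr($(morphismRestrict_ι I.subschemeι D) _)).trans ht
  · have h' : Function.Surjective (I.subschemeι.app (D.ι ''ᵁ ⊤)) := by
      rw [D.ι_image_top]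
      exact h I
    rw [show (I.subschemeι ∣_ D).appTop = (I.subschemeι ∣_ D).app ⊤ from rfl, morphismRestrict_app]
    intro t
    obtain ⟨u, hu⟩ := (ConcreteCategory.bijective_of_isIso (I.subscheme.presheaf.map
      (eqToHom (image_morphismRestrict_preimage I.subschemeι D ⊤)).op)).2 t
    obtain ⟨r, hr⟩ := h' u
    exact ⟨r, (congrArg (I.subscheme.presheaf.map
      (eqToHom (image_morphismRestrict_preimage I.subschemeι D ⊤)).op).hom hr).trans hu⟩

end Groth.Ega2Proj
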