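import Mathlib.LinearAlgebra.Charpoly.ToMatrix
import Mathlib.LinearAlgebra.Matrix.Charpoly.Coeff
import Mathlib.RingTheory.Polynomial.IsIntegral
import Mathlib.RingTheory.IntegralClosure.IsIntegralClosure.Basic
import Mathlib.RingTheory.TensorProduct.Finite

/-!
# The algebra generated by the symmetric functions of the endomorphisms of a finite module
-/

universe u

open Polynomial TensorProduct

namespace Groth.Ega2Proj

variable {R : Type*} [CommRing R] {n : Type*} [Fintype n] [DecidableEq n]

/-- If `p M = 0` then the characteristic polynomial of `M` divides a power of `p`. -/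
theorem charpoly_dvd_pow_card (M : Matrix n n R) (p : R[X]) (h : aeval M p = 0) :
    M.charpoly ∣ p ^ Fintype.card n := by
  let a : Matrix n n R[X] := Matrix.scalar n X
  let b : Matrix n n R[X] := M.map C
  have hab : Commute a b := Matrix.scalar_commute X (fun r => Commute.all X r) b
  have hb : aeval b p = 0 := by
    have := aeval_algHom_apply ((Algebra.ofId R R[X]).mapMatrix : Matrix n n R →ₐ[R] Matrix n n R[X]) M p
    rw [h, map_zero] at this
    exact this
  have ha : aeval a p = Matrix.scalar n p := by
    have := aeval_algHom_apply ((Algebra.ofId R[X] (Matrix n n R[X])).restrictScalars R) X p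
    rw [aeval_X_left_apply] at this
    exact this
  obtain ⟨Q, hQ⟩ : ∃ Q, aeval a p - aeval b p = (a - b) * Q := by
    clear ha hb h
    induction p using Polynomial.induction_on' with
    | add p q hp hq =>
      obtain ⟨P, hP⟩ := hp
      obtain ⟨Q, hQ⟩ := hq
      exact ⟨P + Q, by rw [map_add, map_add, add_sub_add_comm, hP, hQ, mul_add]⟩
    | monomial k r =>
      obtain ⟨Q, hQ⟩ : a - b ∣ a ^ k - b ^ k := ⟨_, (hab.mul_geom_sum₂ k).symm⟩
      exact ⟨r • Q, by simp only [aeval_monomial, ← Algebra.smul_def, ← smul_sub, hQ, mul_smul_comm]⟩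
  rw [hb, sub_zero, ha] at hQ
  have hchar : M.charpoly = (a - b).det := rfl
  refine ⟨Q.det, ?_⟩
  rw [hchar, ← Matrix.det_mul, ← hQ]
  simp [Matrix.scalar_apply, Matrix.det_diagonal]

theorem fg_adjoin_charpoly_coeffs {A : Type*} [CommRing A] [IsNoetherianRing A] (K : Type*) [CommRing K]
    [Algebra A K] [Nontrivial K] (E : Type*) [AddCommGroup E] [Module A E] [Module.Finite A E]
    [Module.Free K (K ⊗[A] E)] :
    (Algebra.adjoin A {c : K | ∃ (v : E →ₗ[A] E) (j : ℕ),
        c = ((v.baseChange K).charpoly).coeff j}).toSubmodule.FG := by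
  classical
  -- generators of the module and of its endomorphisms
  obtain ⟨N, e, he⟩ := Module.Finite.exists_fin (R := A) (M := E)
  choose Nm hNm using fun (v : E →ₗ[A] E) (k : Fin N) =>
    (Submodule.mem_span_range_iff_exists_fun A).mp (he.ge (Submodule.mem_top (x := v (e k))))
  haveI : Module.Finite A (E →ₗ[A] E) := by
    haveI : IsNoetherian A (Fin N → E) := isNoetherian_pi
    let ev : (E →ₗ[A] E) →ₗ[A] (Fin N → E) :=
      { toFun := fun v k => v (e k), map_add' := fun _ _ => rfl, map_smul' := fun _ _ => rfl }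
    exact Module.Finite.of_injective ev fun v w h => LinearMap.ext_on_range he (congrFun h)
  obtain ⟨m, v, hv⟩ := Module.Finite.exists_fin (R := A) (M := E →ₗ[A] E)
  let b := Module.Free.chooseBasis K (K ⊗[A] E)
  let ι := Module.Free.ChooseBasisIndex K (K ⊗[A] E)
  let ψ : (E →ₗ[A] E) →ₗ[A] Matrix ι ι K :=
    ((LinearMap.toMatrix b b).toLinearMap.restrictScalars A) ∘ₗ
      (Module.End.baseChangeHom A K E).toLinearMap
  have hψ : ∀ w : E →ₗ[A] E, (w.baseChange K).charpoly = (ψ w).charpoly := fun w =>
    (LinearMap.charpoly_toMatrix (w.baseChange K) b).symm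
  let x : Fin N → K ⊗[A] E := fun k => (1 : K) ⊗ₜ e k
  have hx : Submodule.span K (Set.range x) = ⊤ := by
    rw [show x = TensorProduct.mk A K E 1 ∘ e from rfl, Set.range_comp, ← Submodule.baseChange_span, he,
      Submodule.baseChange_top]
  choose Qf hQf using fun i => (Submodule.mem_span_range_iff_exists_fun K).mp (hx.ge (Submodule.mem_top (x := b i)))
  let P : Matrix ι (Fin N) K := b.toMatrix x
  let Q : Matrix (Fin N) ι K := fun k i => Qf i k
  have hPQ : P * Q = 1 := by
    ext i j
    have hj := congrArg (fun y => b.repr y i) (hQf j)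
    simp only [map_sum, map_smul, Finsupp.coe_finsetSum, Finset.sum_apply, Finsupp.smul_apply,
      Module.Basis.repr_self, smul_eq_mul] at hj
    rw [Matrix.mul_apply, Matrix.one_apply]
    simp only [P, Q, Module.Basis.toMatrix_apply]
    rw [Finset.sum_congr rfl fun k _ => mul_comm _ _, hj, Finsupp.single_apply]
    simp [eq_comm]
  let Nmat : Fin m → Matrix (Fin N) (Fin N) A := fun i l k => Nm (v i) k l
  have hcomm : ∀ i, ψ (v i) * P = P * (Nmat i).map (algebraMap A K) := by
    intro i
    ext r k
    have h1 : ψ (v i) * P = fun r k => b.repr ((v i).baseChange K (x k)) r := by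
      ext r k
      have := congrFun (LinearMap.toMatrix_mulVec_repr b b ((v i).baseChange K) (x k)) r
      exact this
    rw [h1, Matrix.mul_apply]
    have h2 : (v i).baseChange K (x k) = ∑ l, algebraMap A K (Nm (v i) k l) • x l := by
      simp only [x, LinearMap.baseChange_tmul]
      rw [← hNm (v i) k, TensorProduct.tmul_sum]
      simp [algebraMap_smul]
    beta_reduce
    rw [h2, map_sum, Finsupp.finsetSum_apply]
    refine Finset.sum_congr rfl fun l _ => ?_
    rw [map_smul, Finsupp.smul_apply, smul_eq_mul, mul_comm]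
    rfl
  -- the generic endomorphism
  let S := MvPolynomial (Fin m) A
  let T := MvPolynomial (Fin m) K
  letI : Algebra S T := MvPolynomial.algebraMvPolynomial
  let Mgen : Matrix ι ι T := ∑ i, (MvPolynomial.X i : T) • (ψ (v i)).map MvPolynomial.C
  let Ngen : Matrix (Fin N) (Fin N) S := ∑ i, (MvPolynomial.X i : S) • (Nmat i).map MvPolynomial.C
  let Pg : Matrix ι (Fin N) T := P.map MvPolynomial.C
  let Qg : Matrix (Fin N) ι T := Q.map MvPolynomial.C
  have hPQg : Pg * Qg = 1 := by
    rw [← Matrix.map_mul, hPQ, Matrix.map_one _ (map_zero _) (map_one _)]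
  have hMP : Mgen * Pg = Pg * Ngen.map (algebraMap S T) := by
    have hN : Ngen.map (algebraMap S T) = ∑ i, (MvPolynomial.X i : T) •
        ((Nmat i).map (algebraMap A K)).map MvPolynomial.C := by
      ext l k
      simp only [Ngen, S, T, Matrix.map_apply, Matrix.sum_apply, map_sum, Matrix.smul_apply, smul_eq_mul, map_mul]
      congr 1
      refine Finset.sum_congr rfl fun i _ => ?_
      congr 1
      · exact MvPolynomial.map_X _ _
      · exact MvPolynomial.map_C _ _
    simp only [hN, Mgen, Matrix.sum_mul, Matrix.mul_sum]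
    refine Finset.sum_congr rfl fun i _ => ?_
    rw [Matrix.smul_mul, Matrix.mul_smul, ← Matrix.map_mul, ← Matrix.map_mul, hcomm i]
  have hpow : ∀ k : ℕ, Mgen ^ k * Pg = Pg * (Ngen.map (algebraMap S T)) ^ k := by
    intro k
    induction k with
    | zero => simp
    | succ k ih => rw [pow_succ, Matrix.mul_assoc, hMP, ← Matrix.mul_assoc, ih, Matrix.mul_assoc, ← pow_succ]
  have haev : aeval Mgen (Ngen.charpoly.map (algebraMap S T)) * Pg = 0 := by
    have h0 : aeval (Ngen.map (algebraMap S T)) (Ngen.charpoly.map (algebraMap S T)) = 0 := by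
      rw [← Matrix.charpoly_map]; exact Matrix.aeval_self_charpoly _
    rw [← Matrix.mul_zero Pg, ← h0]
    simp only [aeval_eq_sum_range, Matrix.sum_mul, Matrix.mul_sum, Matrix.smul_mul, Matrix.mul_smul, hpow]
  have haev' : aeval Mgen (Ngen.charpoly.map (algebraMap S T)) = 0 := by
    have := congrArg (· * Qg) haev
    simpa [Matrix.mul_assoc, hPQg] using this
  have hint : ∀ (j : ℕ) (α : Fin m →₀ ℕ), IsIntegral A ((Mgen.charpoly.coeff j).coeff α) := by
    intro j α
    refine MvPolynomial.isIntegral_iff_isIntegral_coeff.mp ?_ α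
    refine Polynomial.isIntegral_coeff_of_dvd (Ngen.charpoly ^ Fintype.card ι) Mgen.charpoly
      ((Matrix.charpoly_monic _).pow _) (Matrix.charpoly_monic _) ?_ j
    rw [Polynomial.map_pow]
    exact charpoly_dvd_pow_card _ _ haev'
  -- the finitely generated integral algebra containing all coefficients
  let F : Finset K := (Finset.range (Fintype.card ι + 1)).biUnion fun j =>
    (Mgen.charpoly.coeff j).support.image fun α => (Mgen.charpoly.coeff j).coeff α
  have hF : (Algebra.adjoin A (F : Set K)).toSubmodule.FG := by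
    refine fg_adjoin_of_finite F.finite_toSet fun c hc => ?_
    simp only [F, Finset.mem_coe, Finset.mem_biUnion, Finset.mem_image] at hc
    obtain ⟨j, -, α, -, rfl⟩ := hc
    exact hint j α
  haveI : IsNoetherian A (Algebra.adjoin A (F : Set K)).toSubmodule := isNoetherian_of_fg_of_noetherian _ hF
  refine Submodule.FG.of_le_of_isNoetherian (T := (Algebra.adjoin A (F : Set K)).toSubmodule) ?_
  refine Subalgebra.toSubmodule.monotone ?_
  refine Algebra.adjoin_le ?_
  rintro _ ⟨w, j, rfl⟩
  obtain ⟨a, rfl⟩ := (Submodule.mem_span_range_iff_exists_fun A).mp (hv.ge (Submodule.mem_top (x := w)))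
  rw [hψ]
  let ev : T →+* K := MvPolynomial.eval fun i => algebraMap A K (a i)
  have hev : ψ (∑ i, a i • v i) = Mgen.map ev := by
    ext r s
    simp only [map_sum, map_smul, Mgen, ev, Matrix.map_apply, Matrix.sum_apply, Matrix.smul_apply, smul_eq_mul,
      map_mul, MvPolynomial.eval_X, MvPolynomial.eval_C]
    refine Finset.sum_congr rfl fun i _ => ?_
    rw [Algebra.smul_def]
    exact congrArg₂ (· * ·) (MvPolynomial.eval_X (f := fun i => algebraMap A K (a i)) i).symm
      (MvPolynomial.eval_C _).symm
  rw [hev, Matrix.charpoly_map, Polynomial.coeff_map]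
  change MvPolynomial.eval _ _ ∈ Algebra.adjoin A (F : Set K)
  rw [MvPolynomial.eval_eq]
  refine Subalgebra.sum_mem _ fun α hα => Subalgebra.mul_mem _ ?_ ?_
  · by_cases hj : j ≤ Fintype.card ι
    · exact Algebra.subset_adjoin (Finset.mem_biUnion.mpr ⟨j, Finset.mem_range.mpr (by omega),
        Finset.mem_image_of_mem _ hα⟩)
    · rw [Polynomial.coeff_eq_zero_of_natDegree_lt (by
        rw [Matrix.charpoly_natDegree_eq_dim]; omega), MvPolynomial.coeff_zero]
      exact zero_mem _
  · exact Subalgebra.prod_mem _ fun i _ => Subalgebra.pow_mem _ (Subalgebra.algebraMap_mem _ _) _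

end Groth.Ega2Proj
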