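import Groth.Agent.Ega2Proj.TwistSheaf
import Groth.Agent.Ega2Proj.Veronese
import Groth.Agent.QCohMod.FTCriterion

/-!
# Finite type of `M~` under (TF)
-/

universe u

open CategoryTheory AlgebraicGeometry Opposite TopologicalSpace DirectSum

namespace Groth.Ega2Proj

variable {R A : Type u} [CommRing R] [CommRing A] [Algebra R A] {𝒜 : ℕ → Submodule R A}
  [GradedAlgebra 𝒜] {M : Type u} [AddCommGroup M] [Module R M] [Module A M]
  {ℳ : ℕ → Submodule R M} [DirectSum.Decomposition ℳ] [SetLike.GradedSMul 𝒜 ℳ]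

variable {d : ℕ} {f : A}

theorem mem_basicOpen_notMem_pow {x : ProjectiveSpectrum 𝒜} (hx : x ∈ Proj.basicOpen 𝒜 f) (k : ℕ) :
    f ^ k ∉ x.asHomogeneousIdeal :=
  fun h => hx (x.isPrime.mem_of_pow_mem k h)

/-- `z ↦ z_{kd} / f ^ k`. -/
noncomputable def fracHom (hf : f ∈ 𝒜 d) (k : ℕ) :
    M →+ Γ(GrTilde.tilde 𝒜 ℳ 0, Proj.basicOpen 𝒜 f) :=
  AddMonoidHom.mk'
    (fun z => Tilde.fracSect 𝒜 ℳ 0 (Proj.basicOpen 𝒜 f) (i := k * d) (decompose ℳ z (k * d) : M)
      (SetLike.coe_mem _) (f ^ k) (j := k * d) (by simpa using SetLike.pow_mem_graded k hf)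
      (fun x => mem_basicOpen_notMem_pow x.2 k) (Or.inl (by simp)))
    fun a b => Tilde.tval_ext fun x hx => by
      change (LocalizedModule.mk _ _ : GrTilde.LocMod 𝒜 (M := M) x) = LocalizedModule.mk _ _ + LocalizedModule.mk _ _
      rw [LocalizedModule.mk_add_mk, decompose_add, DirectSum.add_apply, Submodule.coe_add]
      refine LocalizedModule.mk_eq.mpr ⟨1, ?_⟩
      simp only [one_smul, Submonoid.smul_def, Submonoid.coe_mul, mul_smul, smul_add]

@[simp] theorem tval_fracHom (hf : f ∈ 𝒜 d) (k : ℕ) (z : M) (x : ProjectiveSpectrum 𝒜)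
    (hx : x ∈ Proj.basicOpen 𝒜 f) :
    Tilde.tval (fracHom (ℳ := ℳ) hf k z) x hx =
      LocalizedModule.mk (decompose ℳ z (k * d) : M) ⟨f ^ k, mem_basicOpen_notMem_pow hx k⟩ := rfl

/-- Every section over `D₊(f)` is some `fracHom hf k z`. -/
theorem exists_eq_fracHom (hd : 0 < d) (hf : f ∈ 𝒜 d)
    (s : Γ(GrTilde.tilde 𝒜 ℳ 0, Proj.basicOpen 𝒜 f)) :
    ∃ (k : ℕ) (m : M), m ∈ ℳ (k * d) ∧ s = fracHom hf k m := by
  obtain ⟨k, i, m, hi, hm⟩ := Tilde.exists_frac 𝒜 ℳ 0 hd hf s
  obtain rfl : i = k * d := by exact_mod_cast hi.trans (add_zero _)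
  refine ⟨k, m.1, m.2, Tilde.tval_ext fun x hx => ?_⟩
  rw [tval_fracHom, decompose_of_mem_same ℳ m.2]
  exact hm ⟨x, hx⟩

/-- `M~` is of finite type under (TF). -/
theorem isFT_tilde (hfg : (HomogeneousIdeal.irrelevant 𝒜).toIdeal.FG)
    (hTF : ∃ n : ℕ, (Submodule.span A (⋃ k ∈ Set.Ici n, (ℳ k : Set M))).FG) :
    CohB1.IsFT (GrTilde.tilde 𝒜 ℳ 0) := by
  classical
  haveI := Tilde.isQuasicoherent 𝒜 ℳ 0
  haveI := (irrelevant_fg_iff_finiteType 𝒜).mp hfg
  obtain ⟨N, e, dg, he, hpos, htop⟩ := exists_indexed_generators 𝒜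
  obtain ⟨n₀, hn₀⟩ := hTF
  obtain ⟨T, hTsub, hTspan⟩ := (Submodule.fg_span_iff_fg_span_finset_subset _).mp hn₀
  choose deg hdeg using fun w : T => Set.mem_iUnion₂.mp (hTsub w.2)
  refine QCohMod.isFT_of_affine_cover _ fun x => ?_
  obtain ⟨d, f, hd, hf, hfx⟩ := exists_pos_notMem 𝒜 x
  refine ⟨Proj.basicOpen 𝒜 f, Proj.isAffineOpen_basicOpen 𝒜 f hf hd, hfx, ?_⟩
  let sec : (Fin N → Fin d) × T → Γ(GrTilde.tilde 𝒜 ℳ 0, Proj.basicOpen 𝒜 f) := fun p =>
    fracHom hf (((∑ i, (p.1 i : ℕ) * dg i) + deg p.2) / d) ((∏ i, e i ^ (p.1 i : ℕ)) • (p.2 : M))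
  refine ⟨⟨Finset.univ.image sec, eq_top_iff.mpr fun s _ => ?_⟩⟩
  rw [Finset.coe_image, Finset.coe_univ, Set.image_univ]
  set Sp : Submodule Γ(Proj 𝒜, Proj.basicOpen 𝒜 f) Γ(GrTilde.tilde 𝒜 ℳ 0, Proj.basicOpen 𝒜 f) :=
    Submodule.span _ (Set.range sec)
  -- every element of the span of `T` gives a combination of the generators
  have key : ∀ z ∈ Submodule.span A (T : Set M), ∀ (c : A) (k : ℕ), fracHom hf k (c • z) ∈ Sp := by
    intro z hz
    induction hz using Submodule.span_induction with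
    | zero => intro c k; rw [smul_zero, map_zero]; exact zero_mem _
    | add a b _ _ ha hb => intro c k; rw [smul_add, map_add]; exact add_mem (ha c k) (hb c k)
    | smul a y _ hy => intro c k; rw [smul_smul]; exact hy _ k
    | mem w hw =>
      intro c k
      obtain ⟨-, hwd⟩ := hdeg ⟨w, hw⟩
      set ew := deg ⟨w, hw⟩ with hew
      replace hwd : w ∈ ℳ ew := hwd
      -- reduce to homogeneous `c`
      induction c using DirectSum.Decomposition.inductionOn 𝒜 with
      | zero => rw [zero_smul, map_zero]; exact zero_mem _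
      | add a b ha hb => rw [add_smul, map_add]; exact add_mem ha hb
      | homogeneous a =>
        rename_i j
        by_cases hj : j + ew = k * d
        swap
        · have : fracHom (ℳ := ℳ) hf k ((a : A) • w) = 0 := Tilde.tval_ext fun y hy => by
            rw [tval_fracHom, decompose_of_mem_ne ℳ (Tilde.smul_mem 𝒜 ℳ a.2 hwd rfl) hj,
              LocalizedModule.zero_mk, Tilde.tval_zero]
          rw [this]
          exact zero_mem _
        -- reduce to monomials
        let S : AddSubmonoid A :=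
          Sp.toAddSubmonoid.comap ((fracHom (ℳ := ℳ) hf k).comp ((smulAddHom A M).flip w))
        refine mem_of_monomials 𝒜 he htop a.2 S fun c₀ α hc₀ hα => ?_
        change fracHom hf k ((c₀ * ∏ i, e i ^ α i) • w) ∈ Sp
        let r : Fin N → Fin d := fun i => ⟨α i % d, Nat.mod_lt _ hd⟩
        set Q := ∑ i, α i / d * dg i with hQ
        set J := (∑ i, (r i : ℕ) * dg i) + ew with hJ
        have hsplit : Q * d + J = k * d := by
          have h1 : ∑ i, α i * dg i = Q * d + ∑ i, (r i : ℕ) * dg i := by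
            rw [hQ, Finset.sum_mul, ← Finset.sum_add_distrib]
            refine Finset.sum_congr rfl fun i _ => ?_
            conv_lhs => rw [← Nat.div_add_mod (α i) d]
            simp only [r]; ring
          omega
        obtain ⟨j', hj'⟩ : d ∣ J :=
          (Nat.dvd_add_right (Dvd.intro_left Q rfl)).mp (hsplit ▸ Dvd.intro_left k rfl)
        have hJd : J / d = j' := by rw [hj', Nat.mul_div_cancel_left _ hd]
        have hk : Q + j' = k := by
          rw [hj', mul_comm d j', ← add_mul] at hsplit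
          exact Nat.eq_of_mul_eq_mul_right hd hsplit
        -- the coefficient
        have hb : c₀ * ∏ i, e i ^ (d * (α i / d)) ∈ 𝒜 (Q * d) := by
          have h1 := SetLike.mul_mem_graded (A := 𝒜) hc₀ (prod_pow_mem_deg 𝒜 he fun i => d * (α i / d))
          rwa [zero_add, show ∑ i, d * (α i / d) * dg i = Q * d by
            rw [hQ, Finset.sum_mul]; exact Finset.sum_congr rfl fun i _ => by ring] at h1
        have hfQ : f ^ Q ∈ 𝒜 (Q * d) := by simpa using SetLike.pow_mem_graded Q hf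
        obtain ⟨φ, hφ⟩ := exists_fun_eq_wval (fracGen (n := 0) hb hfQ (by simp)
          (Proj.basicOpen 𝒜 f) fun y hy => mem_basicOpen_notMem_pow hy Q)
        have hmem : φ • sec (r, ⟨w, hw⟩) ∈ Sp := Sp.smul_mem _ (Submodule.subset_span ⟨_, rfl⟩)
        have heq : fracHom hf k ((c₀ * ∏ i, e i ^ α i) • w) = φ • sec (r, ⟨w, hw⟩) := by
          refine Tilde.tval_ext fun y hy => ?_
          have hr : (∏ i, e i ^ (r i : ℕ)) • w ∈ ℳ (j' * d) :=
            Tilde.smul_mem 𝒜 ℳ (prod_pow_mem_deg 𝒜 he _) hwd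
              (show (∑ i, (r i : ℕ) * dg i) + ew = j' * d by rw [← hJ, hj', mul_comm])
          have hbig : c₀ * ∏ i, e i ^ α i =
              (c₀ * ∏ i, e i ^ (d * (α i / d))) * ∏ i, e i ^ (r i : ℕ) := by
            rw [mul_assoc, ← Finset.prod_mul_distrib]
            congr 1
            exact Finset.prod_congr rfl fun i _ => by
              rw [← pow_add]; simp only [r]; rw [Nat.div_add_mod]
          rw [Tilde.tval_smul, hφ y hy, wval_fracGen, tval_fracHom]
          simp only [sec]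
          rw [← hew, ← hJ, hJd, tval_fracHom, decompose_of_mem_same ℳ hr,
            LocalizedModule.mk_smul_mk, hbig, mul_smul,
            decompose_of_mem_same ℳ (Tilde.smul_mem 𝒜 ℳ hb hr (by rw [← add_mul, hk]))]
          refine LocalizedModule.mk_eq.mpr ⟨1, ?_⟩
          simp only [one_smul, Submonoid.smul_def, Submonoid.coe_mul, ← pow_add, hk]
        exact heq ▸ hmem
  obtain ⟨k, m, hm, rfl⟩ := exists_eq_fracHom hd hf s
  have hm' : f ^ n₀ • m ∈ ℳ ((n₀ + k) * d) :=
    Tilde.smul_mem 𝒜 ℳ (by simpa using SetLike.pow_mem_graded n₀ hf) hm (by ring)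
  have hmT : f ^ n₀ • m ∈ Submodule.span A (T : Set M) := by
    rw [← hTspan]
    exact Submodule.subset_span (Set.mem_iUnion₂.mpr
      ⟨_, (Nat.le_add_right n₀ k).trans (Nat.le_mul_of_pos_right _ hd), hm'⟩)
  have h1 := key _ hmT 1 (n₀ + k)
  rw [one_smul] at h1
  convert h1 using 1
  refine Tilde.tval_ext fun y hy => ?_
  rw [tval_fracHom, tval_fracHom, decompose_of_mem_same ℳ hm, decompose_of_mem_same ℳ hm']
  refine LocalizedModule.mk_eq.mpr ⟨1, ?_⟩
  simp only [one_smul, Submonoid.smul_def, smul_smul, pow_add, mul_comm]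

end Groth.Ega2Proj
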