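import Groth.Prelude.Def_GrMod2
import Groth.Agent.Ega2Proj.GradedBasic

/-!
# Sections of `M(n)~` on basic opens of `Proj`

For a graded module `M` and `f` homogeneous of positive degree: a fraction that vanishes on `D₊(f)` is
killed by a power of `f`, and every section over `D₊(f)` is one fraction `m / f ^ k`.
-/

universe u

open CategoryTheory AlgebraicGeometry Opposite TopologicalSpace DirectSum

namespace Groth.Ega2Proj.Tilde

variable {R A : Type u} [CommRing R] [CommRing A] [Algebra R A] (𝒜 : ℕ → Submodule R A)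
  [GradedAlgebra 𝒜] {M : Type u} [AddCommGroup M] [Module R M] [Module A M]
  (ℳ : ℕ → Submodule R M) [DirectSum.Decomposition ℳ] [SetLike.GradedSMul 𝒜 ℳ]

omit [DirectSum.Decomposition ℳ] in
theorem smul_mem {a : A} {m : M} {e i k : ℕ} (ha : a ∈ 𝒜 e) (hm : m ∈ ℳ i) (hk : e + i = k) :
    a • m ∈ ℳ k :=
  hk ▸ SetLike.GradedSMul.smul_mem ha hm

/-- Components of `g • x` for homogeneous `g`. -/
theorem decompose_smul_of_mem_left {e : ℕ} {g : A} (hg : g ∈ 𝒜 e) (x : M) (k : ℕ) :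
    (decompose ℳ (g • x) (e + k) : M) = g • (decompose ℳ x k : M) := by
  induction x using DirectSum.Decomposition.inductionOn ℳ with
  | zero => simp
  | homogeneous m =>
    rename_i i
    by_cases h : i = k
    · subst h
      rw [decompose_of_mem_same ℳ m.2,
        decompose_of_mem_same ℳ (smul_mem 𝒜 ℳ hg m.2 rfl)]
    · rw [decompose_of_mem_ne ℳ m.2 h, smul_zero,
        decompose_of_mem_ne ℳ (smul_mem 𝒜 ℳ hg m.2 rfl)]
      exact fun hc => h (Nat.add_left_cancel hc)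
  | add x y hx hy => simp [smul_add, hx, hy]

/-- Components of `c • m` for homogeneous `m`. -/
theorem decompose_smul_of_mem_right {i : ℕ} {m : M} (hm : m ∈ ℳ i) (c : A) (j : ℕ) :
    (decompose ℳ (c • m) (j + i) : M) = (decompose 𝒜 c j : A) • m := by
  induction c using DirectSum.Decomposition.inductionOn 𝒜 with
  | zero => simp
  | homogeneous a =>
    rename_i k
    by_cases h : k = j
    · subst h
      rw [decompose_of_mem_same 𝒜 a.2,
        decompose_of_mem_same ℳ (smul_mem 𝒜 ℳ a.2 hm rfl)]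
    · rw [decompose_of_mem_ne 𝒜 a.2 h, zero_smul,
        decompose_of_mem_ne ℳ (smul_mem 𝒜 ℳ a.2 hm rfl)]
      exact fun hc => h (Nat.add_right_cancel hc)
  | add x y hx hy => simp [add_smul, hx, hy]

/-- The annihilator of a homogeneous element is a homogeneous ideal. -/
theorem ker_toSpanSingleton_isHomogeneous {i : ℕ} {m : M} (hm : m ∈ ℳ i) :
    Ideal.IsHomogeneous 𝒜 (LinearMap.ker (LinearMap.toSpanSingleton A M m)) := by
  intro j c hc
  rw [LinearMap.mem_ker, LinearMap.toSpanSingleton_apply] at hc ⊢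
  rw [← decompose_smul_of_mem_right 𝒜 ℳ hm c j, hc]
  simp

omit [Module R M] in
theorem mk_eq_zero_iff {x : ProjectiveSpectrum 𝒜} {m : M}
    {s : x.asHomogeneousIdeal.toIdeal.primeCompl} :
    (LocalizedModule.mk m s : GrTilde.LocMod 𝒜 (M := M) x) = 0 ↔
      ∃ u : A, u ∉ x.asHomogeneousIdeal ∧ u • m = 0 := by
  rw [← LocalizedModule.zero_mk s, LocalizedModule.mk_eq]
  constructor
  · rintro ⟨u, hu⟩
    refine ⟨u * s, x.asHomogeneousIdeal.toIdeal.primeCompl.mul_mem u.2 s.2, ?_⟩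
    simpa [Submonoid.smul_def, mul_smul] using hu
  · rintro ⟨u, hu, hum⟩
    exact ⟨⟨u, hu⟩, by simp [Submonoid.smul_def, smul_comm u (s : A), hum]⟩

/-- A homogeneous element whose fractions vanish on all of `D₊(f)` is killed by a power of `f`. -/
theorem exists_pow_smul_eq_zero {d : ℕ} (hd : 0 < d) {f : A} (hf : f ∈ 𝒜 d) {i : ℕ} {m : M}
    (hm : m ∈ ℳ i)
    (h : ∀ x : ProjectiveSpectrum 𝒜, f ∉ x.asHomogeneousIdeal →
      ∃ u : A, u ∉ x.asHomogeneousIdeal ∧ u • m = 0) :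
    ∃ N : ℕ, f ^ N • m = 0 := by
  by_contra hN
  push Not at hN
  obtain ⟨x, hx, hfx⟩ := exists_point_of_notMem_radical 𝒜 hd hf
    (ker_toSpanSingleton_isHomogeneous 𝒜 ℳ hm) (fun ⟨N, hmem⟩ => hN N (by simpa using hmem))
  obtain ⟨u, hu, hum⟩ := h x hfx
  exact hu (hx (by simpa using hum))

/-- Two fractions that agree where both are defined satisfy the cross relation up to a power of the
product of the denominators. -/
theorem exists_pow_smul_sub_eq_zero {e e' i i' : ℕ} (he : 0 < e) {g g' : A} (hg : g ∈ 𝒜 e)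
    (hg' : g' ∈ 𝒜 e') {m m' : M} (hm : m ∈ ℳ i) (hm' : m' ∈ ℳ i') (hi : e' + i = e + i')
    (h : ∀ (x : ProjectiveSpectrum 𝒜) (hx : g ∉ x.asHomogeneousIdeal)
      (hx' : g' ∉ x.asHomogeneousIdeal),
      (LocalizedModule.mk m ⟨g, hx⟩ : GrTilde.LocMod 𝒜 (M := M) x) =
        LocalizedModule.mk m' ⟨g', hx'⟩) :
    ∃ N : ℕ, (g * g') ^ N • (g' • m - g • m') = 0 := by
  refine exists_pow_smul_eq_zero 𝒜 ℳ (Nat.add_pos_left he e') (SetLike.mul_mem_graded hg hg')
    (sub_mem (smul_mem 𝒜 ℳ hg' hm rfl) (smul_mem 𝒜 ℳ hg hm' hi.symm)) fun x hx => ?_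
  obtain ⟨u, hu⟩ := LocalizedModule.mk_eq.mp
    (h x (fun h => hx (x.asHomogeneousIdeal.toIdeal.mul_mem_right _ h))
      (fun h => hx (x.asHomogeneousIdeal.toIdeal.mul_mem_left _ h)))
  exact ⟨u, u.2, by simpa [Submonoid.smul_def, smul_sub, sub_eq_zero] using hu⟩

omit [DirectSum.Decomposition ℳ] in
/-- Near each point a section is one fraction on a basic open inside the given one, with a
denominator of positive degree. -/
theorem exists_local_frac (n : ℤ) {d : ℕ} (hd : 0 < d) {f : A} (hf : f ∈ 𝒜 d)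
    (s : GrTilde.sect 𝒜 ℳ n (op (ProjectiveSpectrum.basicOpen 𝒜 f)))
    (x : ProjectiveSpectrum.basicOpen 𝒜 f) :
    ∃ (e i : ℕ) (g : A) (m : M), 0 < e ∧ g ∈ 𝒜 e ∧ m ∈ ℳ i ∧ (i : ℤ) = e + n ∧
      g ∉ x.1.asHomogeneousIdeal ∧
      ∀ (y : ProjectiveSpectrum 𝒜) (hy : g ∉ y.asHomogeneousIdeal),
        ∃ hyf : y ∈ ProjectiveSpectrum.basicOpen 𝒜 f,
          (s.1 ⟨y, hyf⟩).1 = LocalizedModule.mk m ⟨g, hy⟩ := by
  classical
  obtain ⟨V, hxV, ι, i, j, ⟨a, ha⟩, ⟨t, ht⟩, hnin, hdeg, hval⟩ := s.2 x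
  replace hdeg : (i : ℤ) = j + n ∨ a = 0 := hdeg
  obtain ⟨_, ⟨g₀, rfl⟩, hxg₀, hg₀V⟩ :=
    (ProjectiveSpectrum.isTopologicalBasis_basic_opens 𝒜).exists_subset_of_mem_open hxV V.2
  -- a homogeneous component of the denominator of the basic open
  obtain ⟨k, hk⟩ : ∃ k, (decompose 𝒜 g₀ k : A) ∉ x.1.asHomogeneousIdeal := by
    by_contra hc
    push Not at hc
    refine hxg₀ (?_ : g₀ ∈ x.1.asHomogeneousIdeal.toIdeal)
    rw [← sum_support_decompose 𝒜 g₀]
    exact Ideal.sum_mem _ fun k _ => hc k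
  set h := (decompose 𝒜 g₀ k : A)
  have hh : h ∈ 𝒜 k := SetLike.coe_mem _
  have hmem : ∀ (y : ProjectiveSpectrum 𝒜), f * h ∉ y.asHomogeneousIdeal → y ∈ V := fun y hy => by
    refine hg₀V fun hg₀ => hy ?_
    exact y.asHomogeneousIdeal.toIdeal.mul_mem_left _
      (y.asHomogeneousIdeal.isHomogeneous k hg₀)
  -- raise the power of `f` until the degree of the numerator is nonnegative
  obtain ⟨L, hL, hL'⟩ : ∃ L : ℕ, 0 < L ∧ 0 ≤ ((L * (d + k) + j : ℕ) : ℤ) + n :=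
    ⟨n.natAbs + 1, Nat.succ_pos _, by
      have : n.natAbs + 1 ≤ (n.natAbs + 1) * (d + k) := Nat.le_mul_of_pos_right _ (by omega)
      omega⟩
  set c := (f * h) ^ L
  have hc : c ∈ 𝒜 (L * (d + k)) := by
    simpa using SetLike.pow_mem_graded L (SetLike.mul_mem_graded hf hh)
  have hcy : ∀ (y : ProjectiveSpectrum 𝒜), c * t ∉ y.asHomogeneousIdeal →
      f * h ∉ y.asHomogeneousIdeal := fun y hy h' => hy
    (y.asHomogeneousIdeal.toIdeal.mul_mem_right _
      (y.asHomogeneousIdeal.toIdeal.pow_mem_of_mem h' L hL))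
  refine ⟨L * (d + k) + j, (((L * (d + k) + j : ℕ) : ℤ) + n).toNat, c * t, c • a, ?_,
    SetLike.mul_mem_graded hc ht, ?_, Int.toNat_of_nonneg hL', ?_, fun y hy => ?_⟩
  · have : 0 < L * (d + k) := Nat.mul_pos hL (by omega)
    omega
  · rcases hdeg with h' | h'
    · exact smul_mem 𝒜 ℳ hc ha (by omega)
    · rw [h', smul_zero]; exact zero_mem _
  · refine x.1.asHomogeneousIdeal.toIdeal.primeCompl.mul_mem
      (pow_mem (x.1.asHomogeneousIdeal.toIdeal.primeCompl.mul_mem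
        (show f ∈ x.1.asHomogeneousIdeal.toIdeal.primeCompl from x.2) hk) L) (hnin ⟨x.1, hxV⟩)
  · have hyV := hmem y (hcy y hy)
    refine ⟨(ι ⟨y, hyV⟩).2, (hval ⟨y, hyV⟩).trans ?_⟩
    refine LocalizedModule.mk_eq.mpr ⟨1, ?_⟩
    simp only [one_smul, Submonoid.smul_def]
    rw [smul_smul, mul_comm c t]

/-- Every section of `M(n)~` over `D₊(f)` is one fraction `m / f ^ k`. -/
theorem exists_frac (n : ℤ) {d : ℕ} (hd : 0 < d) {f : A} (hf : f ∈ 𝒜 d)
    (s : GrTilde.sect 𝒜 ℳ n (op (ProjectiveSpectrum.basicOpen 𝒜 f))) :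
    ∃ (k i : ℕ) (m : ℳ i), (i : ℤ) = k * d + n ∧
      ∀ x : ProjectiveSpectrum.basicOpen 𝒜 f,
        (s.1 x).1 =
          (LocalizedModule.mk m.1 ⟨f ^ k, fun h => (ProjectiveSpectrum.mem_basicOpen 𝒜 f x.1).mp x.2
            (x.1.isPrime.mem_of_pow_mem k h)⟩ : GrTilde.LocMod 𝒜 (M := M) x.1) := by
  classical
  -- the denominators of all local fractions
  let G : Set A := {g | ∃ (e i : ℕ) (m : M), 0 < e ∧ g ∈ 𝒜 e ∧ m ∈ ℳ i ∧ (i : ℤ) = e + n ∧
    ∀ (y : ProjectiveSpectrum 𝒜) (hy : g ∉ y.asHomogeneousIdeal),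
      ∃ hyf : y ∈ ProjectiveSpectrum.basicOpen 𝒜 f,
        (s.1 ⟨y, hyf⟩).1 = LocalizedModule.mk m ⟨g, hy⟩}
  have hG : f ∈ (Ideal.span G).radical := by
    refine (mem_radical_iff_forall_point 𝒜 (HomogeneousIdeal.mem_irrelevant_of_mem 𝒜 hd hf)
      (Ideal.homogeneous_span 𝒜 _ fun g hg => ⟨_, hg.choose_spec.choose_spec.choose_spec.2.1⟩)).mpr fun x hx => ?_
    by_contra hxf
    obtain ⟨e, i, g, m, he, hg, hm, hi, hgx, hs⟩ := exists_local_frac 𝒜 ℳ n hd hf s ⟨x, hxf⟩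
    exact hgx (hx (Ideal.subset_span ⟨e, i, m, he, hg, hm, hi, hs⟩))
  obtain ⟨N₀, hN₀⟩ := hG
  obtain ⟨F, hFG, hfF⟩ := Submodule.mem_span_finite_of_mem_span hN₀
  choose e i m he hg hm hi hs using fun g : {g // g ∈ F} => hFG g.2
  -- cross relations
  have hpair : ∀ p q : {g // g ∈ F},
      ∃ N : ℕ, ((p : A) * q) ^ N • ((q : A) • m p - (p : A) • m q) = 0 := fun p q => by
    refine exists_pow_smul_sub_eq_zero 𝒜 ℳ (he p) (hg p) (hg q) (hm p) (hm q) ?_ fun x hx hx' => ?_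
    · have := hi p; have := hi q; omega
    · obtain ⟨_, h₁⟩ := hs p x hx
      obtain ⟨_, h₂⟩ := hs q x hx'
      exact h₁.symm.trans h₂
  choose Np hNp using hpair
  obtain ⟨K, hK⟩ : ∃ K, ∀ p q, Np p q ≤ K :=
    ⟨(Finset.univ : Finset ({g // g ∈ F} × {g // g ∈ F})).sup fun r => Np r.1 r.2, fun p q =>
      Finset.le_sup (f := fun r : {g // g ∈ F} × {g // g ∈ F} => Np r.1 r.2)
        (Finset.mem_univ (p, q))⟩
  let g' : {g // g ∈ F} → A := fun p => (p : A) ^ (K + 1)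
  let m' : {g // g ∈ F} → M := fun p => (p : A) ^ K • m p
  have hcross : ∀ p q, g' q • m' p = g' p • m' q := fun p q => by
    have h₀ : ((p : A) * q) ^ K • ((q : A) • m p - (p : A) • m q) = 0 := by
      rw [← Nat.sub_add_cancel (hK p q), pow_add, mul_smul, hNp, smul_zero]
    rw [smul_sub, sub_eq_zero, smul_smul, smul_smul] at h₀
    simp only [g', m', smul_smul]
    calc ((q : A) ^ (K + 1) * (p : A) ^ K) • m p = (((p : A) * q) ^ K * q) • m p := by ring_nf
      _ = (((p : A) * q) ^ K * p) • m q := h₀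
      _ = ((p : A) ^ (K + 1) * (q : A) ^ K) • m q := by ring_nf
  -- a power of `f` in the ideal of the new denominators
  have hfrad : f ∈ (Ideal.span (Set.range g')).radical := by
    rw [← Ideal.radical_idem]
    refine ⟨N₀, ?_⟩
    refine (Ideal.span_le.mpr ?_) hfF
    intro a ha
    exact ⟨K + 1, Ideal.subset_span ⟨⟨a, ha⟩, rfl⟩⟩
  obtain ⟨N₁, hN₁⟩ := hfrad
  set N := N₁ + n.natAbs with hN
  have hfN : f ^ N ∈ Ideal.span (Set.range g') := by
    rw [hN, pow_add]; exact Ideal.mul_mem_right _ _ hN₁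
  obtain ⟨c, hc⟩ := (Submodule.mem_span_range_iff_exists_fun A).mp hfN
  simp only [smul_eq_mul] at hc
  have hnum : ∀ q, g' q • (∑ p, c p • m' p) = f ^ N • m' q := fun q => by
    rw [Finset.smul_sum, ← hc, Finset.sum_smul]
    refine Finset.sum_congr rfl fun p _ => ?_
    rw [smul_comm, hcross p q, smul_smul]
  obtain ⟨i₀, hi₀⟩ : ∃ i₀ : ℕ, (i₀ : ℤ) = (N : ℤ) * d + n := by
    refine ⟨((N : ℤ) * d + n).toNat, Int.toNat_of_nonneg ?_⟩
    have : N ≤ N * d := Nat.le_mul_of_pos_right _ hd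
    have : (N : ℤ) ≤ (N : ℤ) * d := by exact_mod_cast this
    omega
  refine ⟨N, i₀, ⟨(decompose ℳ (∑ p, c p • m' p) i₀ : M), SetLike.coe_mem _⟩, hi₀, fun x => ?_⟩
  -- some denominator does not vanish at `x`
  obtain ⟨q, hq⟩ : ∃ q : {g // g ∈ F}, (q : A) ∉ x.1.asHomogeneousIdeal := by
    by_contra hc'
    push Not at hc'
    exact (ProjectiveSpectrum.mem_basicOpen 𝒜 f x.1).mp x.2 (x.1.isPrime.mem_of_pow_mem N₀
      ((Ideal.span_le.mpr fun a ha => hc' ⟨a, ha⟩) hfF))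
  obtain ⟨_, hsx⟩ := hs q x.1 hq
  refine hsx.trans ?_
  have hq' : g' q • (decompose ℳ (∑ p, c p • m' p) i₀ : M) = f ^ N • m' q := by
    have hgq : g' q ∈ 𝒜 ((K + 1) * e q) := by
      simpa using SetLike.pow_mem_graded (K + 1) (hg q)
    rw [← decompose_smul_of_mem_left 𝒜 ℳ hgq _ i₀, hnum q]
    refine decompose_of_mem_same ℳ (smul_mem 𝒜 ℳ (e := N * d) (i := K * e q + i q)
      (by simpa using SetLike.pow_mem_graded N hf)
      (smul_mem 𝒜 ℳ (by simpa using SetLike.pow_mem_graded K (hg q)) (hm q) rfl) ?_)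
    have := hi q
    zify
    linarith
  refine LocalizedModule.mk_eq.mpr
    ⟨⟨(q : A) ^ K, fun h => hq (x.1.isPrime.mem_of_pow_mem K h)⟩, ?_⟩
  simp only [Submonoid.smul_def]
  rw [smul_smul, smul_smul, ← pow_succ]
  exact (mul_smul _ _ _).trans ((smul_comm _ _ _).trans hq'.symm)

end Groth.Ega2Proj.Tilde
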