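import Groth.Agent.Ega2Proj.TildeSections
import Groth.Agent.Ega2Proj.Generators

/-!
# Values, germs and vanishing of `M(n)~`
-/

universe u

open CategoryTheory AlgebraicGeometry Opposite TopologicalSpace DirectSum Limits

namespace Groth.Ega2Proj.Tilde

variable {R A : Type u} [CommRing R] [CommRing A] [Algebra R A] (𝒜 : ℕ → Submodule R A)
  [GradedAlgebra 𝒜] {M : Type u} [AddCommGroup M] [Module R M] [Module A M]
  (ℳ : ℕ → Submodule R M)

/-- A fraction of the right degree is a value of `M(n)~`. -/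
theorem mk_mem_tildeAt (n : ℤ) {x : ProjectiveSpectrum 𝒜} {i j : ℕ} {m : M} (hm : m ∈ ℳ i)
    {s : A} (hs : s ∈ 𝒜 j) (hsx : s ∉ x.asHomogeneousIdeal)
    (hdeg : (i : ℤ) = j + n ∨ m = 0) :
    (LocalizedModule.mk m ⟨s, hsx⟩ : GrTilde.LocMod 𝒜 (M := M) x) ∈ GrTilde.tildeAt 𝒜 ℳ n x := by
  rcases hdeg with h | h
  · exact Submodule.subset_span ⟨i, j, ⟨m, hm⟩, ⟨s, hs⟩, hsx, h, rfl⟩
  · rw [h, LocalizedModule.zero_mk]; exact zero_mem _

variable [SetLike.GradedSMul 𝒜 ℳ]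

/-- Every value of `M(n)~` is a single fraction. -/
theorem exists_frac_of_mem_tildeAt (n : ℤ) {x : ProjectiveSpectrum 𝒜}
    {q : GrTilde.LocMod 𝒜 (M := M) x} (hq : q ∈ GrTilde.tildeAt 𝒜 ℳ n x) :
    ∃ (i j : ℕ) (m : M) (s : A) (hs : s ∉ x.asHomogeneousIdeal), m ∈ ℳ i ∧ s ∈ 𝒜 j ∧
      ((i : ℤ) = j + n ∨ m = 0) ∧ q = LocalizedModule.mk m ⟨s, hs⟩ := by
  induction hq using Submodule.span_induction with
  | mem q hq =>
    obtain ⟨i, j, m, s, hs, hdeg, rfl⟩ := hq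
    exact ⟨i, j, m, s, hs, m.2, s.2, Or.inl hdeg, rfl⟩
  | zero =>
    exact ⟨0, 0, 0, 1, fun h => x.isPrime.ne_top ((Ideal.eq_top_iff_one _).mpr h), zero_mem _,
      SetLike.GradedOne.one_mem, Or.inr rfl, (LocalizedModule.zero_mk _).symm⟩
  | add q q' _ _ hq hq' =>
    obtain ⟨i, j, a, s, hs, ha, hsj, hd, rfl⟩ := hq
    obtain ⟨i', j', b, t, ht, hb, htj, hd', rfl⟩ := hq'
    rcases hd with hd | rfl
    · rcases hd' with hd' | rfl
      · refine ⟨j + i', j + j', t • a + s • b, s * t,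
          x.asHomogeneousIdeal.toIdeal.primeCompl.mul_mem hs ht,
          add_mem (smul_mem 𝒜 ℳ htj ha (by omega)) (smul_mem 𝒜 ℳ hsj hb rfl),
          SetLike.mul_mem_graded hsj htj, Or.inl (by push_cast; omega), ?_⟩
        rw [LocalizedModule.mk_add_mk]
        rfl
      · exact ⟨i, j, a, s, hs, ha, hsj, Or.inl hd, by simp⟩
    · exact ⟨i', j', b, t, ht, hb, htj, hd', by simp⟩
  | smul c q _ hq =>
    obtain ⟨i, j, a, s, hs, ha, hsj, hd, rfl⟩ := hq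
    obtain ⟨⟨k, ⟨r, hr⟩, ⟨t, ht⟩, htx⟩, rfl⟩ := HomogeneousLocalization.mk_surjective c
    refine ⟨k + i, k + j, r • a, t * s, x.asHomogeneousIdeal.toIdeal.primeCompl.mul_mem htx hs,
      smul_mem 𝒜 ℳ hr ha rfl, SetLike.mul_mem_graded ht hsj,
      hd.imp (fun h => by push_cast; omega) (fun h => by rw [h, smul_zero]), ?_⟩
    rw [GrTilde.a0_smul_def, HomogeneousLocalization.val_mk, LocalizedModule.mk_smul_mk]
    rfl

/-- The section given by one fraction. -/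
def fracSect (n : ℤ) (U : Opens (ProjectiveSpectrum.top 𝒜)) {i j : ℕ} (m : M) (hm : m ∈ ℳ i)
    (s : A) (hs : s ∈ 𝒜 j) (hU : ∀ x : U, s ∉ x.1.asHomogeneousIdeal)
    (hdeg : (i : ℤ) = j + n ∨ m = 0) : GrTilde.sect 𝒜 ℳ n (op U) :=
  ⟨fun x => ⟨LocalizedModule.mk m ⟨s, hU x⟩, mk_mem_tildeAt 𝒜 ℳ n hm hs (hU x) hdeg⟩,
    fun x => ⟨U, x.2, 𝟙 U, i, j, ⟨m, hm⟩, ⟨s, hs⟩, hU, hdeg, fun _ => rfl⟩⟩

@[simp] theorem fracSect_apply (n : ℤ) (U : Opens (ProjectiveSpectrum.top 𝒜)) {i j : ℕ} (m : M)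
    (hm : m ∈ ℳ i) (s : A) (hs : s ∈ 𝒜 j) (hU : ∀ x : U, s ∉ x.1.asHomogeneousIdeal)
    (hdeg : (i : ℤ) = j + n ∨ m = 0) (x : U) :
    ((fracSect 𝒜 ℳ n U m hm s hs hU hdeg).1 x).1 = LocalizedModule.mk m ⟨s, hU x⟩ := rfl

theorem sect_ext (n : ℤ) {U : Opens (ProjectiveSpectrum.top 𝒜)}
    {s t : GrTilde.sect 𝒜 ℳ n (op U)} (h : ∀ x : U, (s.1 x).1 = (t.1 x).1) : s = t :=
  Subtype.ext (funext fun x => Subtype.ext (h x))

/-- The stalk of `M(n)~` is the module of degree-`n` fractions. -/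
theorem stalkToFiber_bijective (n : ℤ) (p : ProjectiveSpectrum.top 𝒜) :
    Function.Bijective (TopCat.stalkToFiber (GrTilde.isLocFrac 𝒜 ℳ n) p) := by
  constructor
  · refine TopCat.stalkToFiber_injective _ _ fun U V fU hU fV hV e => ?_
    obtain ⟨U', hxU, iU, i, j, m, s, hs, -, hval⟩ := hU ⟨p, U.2⟩
    obtain ⟨V', hxV, iV, i', j', m', s', hs', -, hval'⟩ := hV ⟨p, V.2⟩
    have h₀ : (LocalizedModule.mk m.1 ⟨s.1, hs ⟨p, hxU⟩⟩ : GrTilde.LocMod 𝒜 (M := M) p) =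
        LocalizedModule.mk m'.1 ⟨s'.1, hs' ⟨p, hxV⟩⟩ :=
      ((hval ⟨p, hxU⟩).symm.trans (congrArg Subtype.val e)).trans (hval' ⟨p, hxV⟩)
    obtain ⟨u, hu⟩ := LocalizedModule.mk_eq.mp h₀
    let W : OpenNhds (X := ProjectiveSpectrum.top 𝒜) p :=
      ⟨U' ⊓ V' ⊓ ProjectiveSpectrum.basicOpen 𝒜 (u : A), ⟨⟨hxU, hxV⟩, u.2⟩⟩
    refine ⟨W, homOfLE (fun y hy => iU.le hy.1.1), homOfLE (fun y hy => iV.le hy.1.2), fun w => ?_⟩
    refine Subtype.ext ((hval ⟨w.1, w.2.1.1⟩).trans (Eq.trans ?_ (hval' ⟨w.1, w.2.1.2⟩).symm))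
    exact LocalizedModule.mk_eq.mpr ⟨⟨u.1, w.2.2⟩, hu⟩
  · refine TopCat.stalkToFiber_surjective _ _ fun t => ?_
    obtain ⟨i, j, m, s, hs, hm, hsj, hdeg, ht⟩ := exists_frac_of_mem_tildeAt 𝒜 ℳ n t.2
    let f := fracSect 𝒜 ℳ n (ProjectiveSpectrum.basicOpen 𝒜 s) m hm s hsj (fun x => x.2) hdeg
    exact ⟨⟨ProjectiveSpectrum.basicOpen 𝒜 s, hs⟩, f.1, f.2, Subtype.ext ht.symm⟩

/-- `M(n)~` is zero iff all its sections vanish. -/
theorem isZero_iff (n : ℤ) :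
    IsZero (GrTilde.tilde 𝒜 ℳ n) ↔
      ∀ (U : Opens (ProjectiveSpectrum.top 𝒜)) (s : GrTilde.sect 𝒜 ℳ n (op U)), s = 0 := by
  constructor
  · intro h U s
    have := (IsZero.iff_id_eq_zero _).mp h
    exact congr(($this).app U s)
  · intro h
    refine (IsZero.iff_id_eq_zero _).mpr (Scheme.Modules.hom_ext _ _ fun U => ?_)
    ext s
    exact h U s

/-- `M~ = 0` when every homogeneous element of positive degree acts locally nilpotently. -/
theorem isZero_of_torsion (n : ℤ)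
    (h : ∀ (z : M) (d : ℕ) (f : A), 0 < d → f ∈ 𝒜 d → ∃ k : ℕ, f ^ k • z = 0) :
    IsZero (GrTilde.tilde 𝒜 ℳ n) := by
  refine (isZero_iff 𝒜 ℳ n).mpr fun U s => sect_ext 𝒜 ℳ n fun x => ?_
  obtain ⟨i, j, m, t, ht, -, -, -, hq⟩ := exists_frac_of_mem_tildeAt 𝒜 ℳ n (s.1 x).2
  obtain ⟨d, g, hd, hg, hgx⟩ : ∃ (d : ℕ) (g : A), 0 < d ∧ g ∈ 𝒜 d ∧ g ∉ x.1.asHomogeneousIdeal := by
    by_contra hc
    push Not at hc
    exact x.1.not_irrelevant_le (irrelevant_le_ideal 𝒜 fun d hd a ha => hc d a hd ha)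
  obtain ⟨k, hk⟩ := h m d g hd hg
  rw [hq]
  exact (mk_eq_zero_iff 𝒜).mpr ⟨g ^ k, fun hmem => hgx (x.1.isPrime.mem_of_pow_mem k hmem), hk⟩

variable [DirectSum.Decomposition ℳ]

/-- Degree-one elements act nilpotently on a module with `M~ = 0`. -/
theorem pow_smul_eq_zero_of_isZero (h : IsZero (GrTilde.tilde 𝒜 ℳ 0)) {g : A} (hg : g ∈ 𝒜 1)
    (z : M) : ∃ k : ℕ, g ^ k • z = 0 := by
  induction z using DirectSum.Decomposition.inductionOn ℳ with
  | zero => exact ⟨0, smul_zero _⟩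
  | homogeneous m =>
    rename_i i
    refine exists_pow_smul_eq_zero 𝒜 ℳ one_pos hg m.2 fun x hx => ?_
    have hgi : g ^ i ∈ 𝒜 i := by simpa using SetLike.pow_mem_graded i hg
    let U := ProjectiveSpectrum.basicOpen 𝒜 g
    let s := fracSect 𝒜 ℳ 0 U m.1 m.2 (g ^ i) hgi
      (fun y hmem => y.2 (y.1.isPrime.mem_of_pow_mem i hmem)) (Or.inl (by simp))
    have hs : (s.1 ⟨x, hx⟩).1 = 0 := by
      rw [(isZero_iff 𝒜 ℳ 0).mp h U s]; rfl
    exact (mk_eq_zero_iff 𝒜).mp hs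
  | add x y hx hy =>
    obtain ⟨k, hk⟩ := hx
    obtain ⟨l, hl⟩ := hy
    refine ⟨k + l, ?_⟩
    rw [smul_add, pow_add, mul_smul, smul_comm, mul_smul, hk, hl]
    simp

/-- If `S₊` is generated in degree one and `M~ = 0`, every element of `S₊` acts locally
nilpotently. -/
theorem exists_pow_smul_eq_zero_of_isZero
    (hgen : (HomogeneousIdeal.irrelevant 𝒜).toIdeal = Ideal.span (𝒜 1 : Set A))
    (h : IsZero (GrTilde.tilde 𝒜 ℳ 0)) (z : M) {f : A}
    (hf : f ∈ (HomogeneousIdeal.irrelevant 𝒜).toIdeal) : ∃ k : ℕ, f ^ k • z = 0 := by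
  have hle : Ideal.span (𝒜 1 : Set A) ≤
      Ideal.radical (LinearMap.ker (LinearMap.toSpanSingleton A M z)) :=
    Ideal.span_le.mpr fun g hg =>
      (pow_smul_eq_zero_of_isZero 𝒜 ℳ h hg z).imp fun k hk => by simpa using hk
  obtain ⟨k, hk⟩ := hle (hgen ▸ hf)
  exact ⟨k, by simpa using hk⟩

/-- A module whose high degrees vanish has zero associated sheaf. -/
theorem isZero_of_eventually_bot (n : ℤ) (h : ∃ K : ℕ, ∀ k : ℕ, K ≤ k → ℳ k = ⊥) :
    IsZero (GrTilde.tilde 𝒜 ℳ n) := by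
  obtain ⟨K, hK⟩ := h
  refine isZero_of_torsion 𝒜 ℳ n fun z d f hd hf => ⟨K, ?_⟩
  induction z using DirectSum.Decomposition.inductionOn ℳ with
  | zero => exact smul_zero _
  | homogeneous m =>
    rename_i i
    have : f ^ K • (m : M) ∈ ℳ (K * d + i) :=
      smul_mem 𝒜 ℳ (by simpa using SetLike.pow_mem_graded K hf) m.2 rfl
    rw [hK _ ((Nat.le_mul_of_pos_right K hd).trans (Nat.le_add_right _ _))] at this
    exact (Submodule.mem_bot R).mp this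
  | add x y hx hy => rw [smul_add, hx, hy, add_zero]

/-- Conversely, under (TF) a module with zero associated sheaf vanishes in high degree. -/
theorem eventually_bot_of_isZero (hfg : (HomogeneousIdeal.irrelevant 𝒜).toIdeal.FG)
    (hgen : (HomogeneousIdeal.irrelevant 𝒜).toIdeal = Ideal.span (𝒜 1 : Set A))
    (hTF : ∃ n : ℕ, (Submodule.span A (⋃ k ∈ Set.Ici n, (ℳ k : Set M))).FG)
    (h : IsZero (GrTilde.tilde 𝒜 ℳ 0)) : ∃ K : ℕ, ∀ k : ℕ, K ≤ k → ℳ k = ⊥ := by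
  classical
  obtain ⟨n, hn⟩ := hTF
  obtain ⟨T, hTsub, hTfin, hTspan⟩ : ∃ T : Set M, T ⊆ (⋃ k ∈ Set.Ici n, (ℳ k : Set M)) ∧ T.Finite ∧
      Submodule.span A T = Submodule.span A (⋃ k ∈ Set.Ici n, (ℳ k : Set M)) := by
    obtain ⟨T, hT, hspan⟩ := (Submodule.fg_span_iff_fg_span_finset_subset _).mp hn
    exact ⟨T, hT, T.finite_toSet, hspan.symm⟩
  -- one power of `S₊` kills all the generators
  obtain ⟨P, hP⟩ := Ideal.exists_pow_le_of_le_radical_of_fg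
    (I := (HomogeneousIdeal.irrelevant 𝒜).toIdeal) (J := (Submodule.span A T).annihilator) (by
      intro f hf
      choose k hk using fun w : hTfin.toFinset =>
        exists_pow_smul_eq_zero_of_isZero 𝒜 ℳ hgen h (w : M) hf
      refine ⟨Finset.univ.sup k, (Submodule.mem_annihilator_span _ _).mpr fun w => ?_⟩
      rw [← Nat.sub_add_cancel (Finset.le_sup (f := k)
        (Finset.mem_univ (⟨w.1, hTfin.mem_toFinset.mpr w.2⟩ : hTfin.toFinset))), pow_add, mul_smul,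
        hk]
      exact smul_zero _) hfg
  obtain ⟨D, hD, hDmem⟩ := exists_bound_mem_irrelevant_pow 𝒜 hfg
  choose deg hdeg using fun w : hTfin.toFinset => Set.mem_iUnion₂.mp
    (hTsub (hTfin.mem_toFinset.mp w.2))
  refine ⟨max n (P * D + Finset.univ.sup deg), fun k hk => eq_bot_iff.mpr fun z hz => ?_⟩
  have hzT : z ∈ Submodule.span A T := hTspan ▸ Submodule.subset_span
    (Set.mem_iUnion₂.mpr ⟨k, (le_max_left _ _).trans hk, hz⟩)
  rw [Submodule.mem_bot, ← decompose_of_mem_same ℳ hz]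
  have key : ∀ y ∈ Submodule.span A T, ∀ c : A, (decompose ℳ (c • y) k : M) = 0 := fun y hy => by
    induction hy using Submodule.span_induction with
    | mem w hw =>
      intro c
      obtain ⟨_, hwd⟩ := hdeg ⟨w, hTfin.mem_toFinset.mpr hw⟩
      set e := deg ⟨w, hTfin.mem_toFinset.mpr hw⟩
      have he : e ≤ Finset.univ.sup deg := Finset.le_sup (Finset.mem_univ _)
      obtain ⟨j, rfl⟩ : ∃ j, k = j + e := ⟨k - e, by omega⟩
      rw [decompose_smul_of_mem_right 𝒜 ℳ hwd]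
      exact Submodule.mem_annihilator.mp (hP (hDmem P j (by omega) _ (SetLike.coe_mem _))) w
        (Submodule.subset_span hw)
    | zero => intro c; simp
    | add a b _ _ ha hb => intro c; simp [smul_add, ha c, hb c]
    | smul a y _ hy => intro c; rw [smul_smul]; exact hy _
  simpa using key z hzT 1

end Groth.Ega2Proj.Tilde
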