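import Groth.Agent.Ega2Proj.TwistSheaf
import Groth.Agent.PicAux.Pullback
import Mathlib.AlgebraicGeometry.ProjectiveSpectrum.Functor

/-!
# The map `ν : Φ^* O(n) ⟶ O(n)` attached to a graded ring homomorphism
-/

universe u

open CategoryTheory AlgebraicGeometry Opposite TopologicalSpace DirectSum
open Groth.PicAux

namespace Groth.Ega2Proj

variable {R R' A B : Type u} [CommRing R] [CommRing A] [Algebra R A] {𝒜 : ℕ → Submodule R A}
  [GradedAlgebra 𝒜] [CommRing R'] [CommRing B] [Algebra R' B] {ℬ : ℕ → Submodule R' B}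
  [GradedAlgebra ℬ] (ψ : 𝒜 →+*ᵍ ℬ)

variable {x : ProjectiveSpectrum 𝒜} {y : ProjectiveSpectrum ℬ}
  (hxy : x.asHomogeneousIdeal.toIdeal = y.asHomogeneousIdeal.toIdeal.comap (ψ : A →+* B))

/-- The map of local rings. -/
noncomputable def locMap : Twist.Loc 𝒜 x →+* Twist.Loc ℬ y :=
  Localization.localRingHom x.asHomogeneousIdeal.toIdeal y.asHomogeneousIdeal.toIdeal (ψ : A →+* B) hxy

include hxy in
theorem notMem_of_comap {h : A} (hh : h ∉ x.asHomogeneousIdeal) :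
    ψ h ∉ y.asHomogeneousIdeal := fun hc => hh (hxy.ge hc)

theorem locMap_lfrac (g : A) {h : A} (hh : h ∉ x.asHomogeneousIdeal) :
    locMap ψ hxy (lfrac 𝒜 x g hh) = lfrac ℬ y (ψ g) (notMem_of_comap ψ hxy hh) := by
  rw [locMap, lfrac, Localization.mk_eq_mk', Localization.localRingHom_mk', lfrac,
    Localization.mk_eq_mk']
  rfl

theorem locMap_mem {n : ℤ} {q : Twist.Loc 𝒜 x} (hq : q ∈ Twist.twistAt 𝒜 n x) :
    locMap ψ hxy q ∈ Twist.twistAt ℬ n y := by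
  obtain ⟨i, j, a, b, hb, ha, hbj, hdeg, rfl⟩ := exists_lfrac_of_mem_twistAt hq
  rw [locMap_lfrac]
  exact Tilde.mk_mem_tildeAt ℬ ℬ n (ψ.2 ha) (ψ.2 hbj) _
    (hdeg.imp id fun h => by subst h; exact map_zero ψ)

variable (hψ : HomogeneousIdeal.irrelevant ℬ ≤ (HomogeneousIdeal.irrelevant 𝒜).map ψ)

/-- The image point. -/
noncomputable abbrev imgPt (y : ProjectiveSpectrum ℬ) : ProjectiveSpectrum 𝒜 :=
  ProjectiveSpectrum.comap ψ hψ y

/-- The functions of `Proj.map`. -/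
theorem map_app_val {U : (Proj 𝒜).Opens} (r : Γ(Proj 𝒜, U)) (y : ProjectiveSpectrum ℬ)
    (hy : y ∈ Proj.map ψ hψ ⁻¹ᵁ U) :
    (((Proj.map ψ hψ).app U r).1 ⟨y, hy⟩).val =
      locMap ψ (x := imgPt ψ hψ y) rfl (r.1 ⟨imgPt ψ hψ y, hy⟩).val :=
  HomogeneousLocalization.val_localRingHom _

/-- Sections of `O(n)` map to sections of `O(n)`. -/
noncomputable def nuFun (n : ℤ) (U : (Proj 𝒜).Opens) (s : Γ(Twist.twist 𝒜 n, U)) :
    Γ(Twist.twist ℬ n, Proj.map ψ hψ ⁻¹ᵁ U) :=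
  (⟨fun y => ⟨locMap ψ (x := imgPt ψ hψ y.1) rfl (wval s _ y.2),
      locMap_mem ψ _ (s.1 ⟨_, y.2⟩).2⟩,
    fun y => by
      obtain ⟨V, hV, ι, i, j, ⟨a, ha⟩, ⟨b, hb⟩, hnin, hdeg, hval⟩ := s.2 ⟨imgPt ψ hψ y.1, y.2⟩
      refine ⟨Proj.map ψ hψ ⁻¹ᵁ V, hV, homOfLE fun z hz => ι.le hz, i, j, ⟨ψ a, ψ.2 ha⟩,
        ⟨ψ b, ψ.2 hb⟩, fun z => notMem_of_comap ψ (x := imgPt ψ hψ z.1) rfl (hnin ⟨_, z.2⟩),
        Or.imp id (fun h => by change ψ a = 0; rw [show a = 0 from h, map_zero]) hdeg, fun z => ?_⟩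
      refine Eq.trans ?_ (locMap_lfrac ψ (x := imgPt ψ hψ z.1) rfl a (hnin ⟨_, z.2⟩))
      exact congrArg (locMap ψ (x := imgPt ψ hψ z.1) rfl) (hval ⟨imgPt ψ hψ z.1, z.2⟩)⟩ :
    GrTilde.sect ℬ ℬ n (op (Proj.map ψ hψ ⁻¹ᵁ U)))

theorem wval_nuFun (n : ℤ) (U : (Proj 𝒜).Opens) (s : Γ(Twist.twist 𝒜 n, U))
    (y : ProjectiveSpectrum ℬ) (hy : y ∈ Proj.map ψ hψ ⁻¹ᵁ U) :
    wval (nuFun ψ hψ n U s) y hy =
      locMap ψ (x := imgPt ψ hψ y) rfl (wval s (imgPt ψ hψ y) hy) := rfl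

theorem exists_nu (n : ℤ) :
    ∃ ν : Twist.twist 𝒜 n ⟶ (Scheme.Modules.pushforward (Proj.map ψ hψ)).obj (Twist.twist ℬ n),
      ∀ (U : (Proj 𝒜).Opens) (s : Γ(Twist.twist 𝒜 n, U)), ν.app U s = nuFun ψ hψ n U s := by
  let g (U : (Proj 𝒜).Opens) : Γ(Twist.twist 𝒜 n, U) →+ Γ(Twist.twist ℬ n, Proj.map ψ hψ ⁻¹ᵁ U) :=
    AddMonoidHom.mk' (nuFun ψ hψ n U) fun a b => wval_ext fun y hy => map_add _ _ _
  let η : (Twist.twist 𝒜 n).presheaf ⟶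
      ((Scheme.Modules.pushforward (Proj.map ψ hψ)).obj (Twist.twist ℬ n)).presheaf :=
    { app := fun U => AddCommGrpCat.ofHom (g U.unop)
      naturality := fun _ _ _ => rfl }
  refine ⟨⟨PresheafOfModules.homMk η ?_⟩, fun U s => rfl⟩
  intro U r s
  have key : ∀ (r : Γ(Proj 𝒜, U.unop)) (s : Γ(Twist.twist 𝒜 n, U.unop)),
      nuFun ψ hψ n U.unop (r • s) = (Proj.map ψ hψ).app U.unop r • nuFun ψ hψ n U.unop s :=
    fun r s => wval_ext fun y hy => by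
      refine Eq.trans ?_ (wval_smul ((Proj.map ψ hψ).app U.unop r) (nuFun ψ hψ n U.unop s) y hy).symm
      refine (congrArg (locMap ψ (x := imgPt ψ hψ y) rfl) (wval_smul r s _ hy)).trans ?_
      refine (map_mul _ _ _).trans ?_
      rw [map_app_val ψ hψ r y hy]
      rfl
  exact key r s

/-- The canonical map `Φ^* O(n) ⟶ O(n)`. -/
noncomputable def mu (n : ℤ) :
    (Scheme.Modules.pullback (Proj.map ψ hψ)).obj (Twist.twist 𝒜 n) ⟶ Twist.twist ℬ n :=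
  ((Scheme.Modules.pullbackPushforwardAdjunction (Proj.map ψ hψ)).homEquiv _ _).symm
    (exists_nu ψ hψ n).choose

theorem mu_pullSec (n : ℤ) (U : (Proj 𝒜).Opens) (s : Γ(Twist.twist 𝒜 n, U)) :
    (mu ψ hψ n).app _ (pullSec (Proj.map ψ hψ) _ s) = nuFun ψ hψ n U s := by
  rw [← (exists_nu ψ hψ n).choose_spec U s]
  have h := ((Scheme.Modules.pullbackPushforwardAdjunction (Proj.map ψ hψ)).homEquiv_unit
    (X := Twist.twist 𝒜 n) (Y := Twist.twist ℬ n) (f := mu ψ hψ n))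
  rw [mu, Equiv.apply_symm_apply] at h
  exact congr(($h).app U s).symm

end Groth.Ega2Proj
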