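/-
Valuative criteria of properness using only valuation rings of the function field (EGA II 7.3.10).
-/
import Groth.Agent.Ega2Proj.CompositeValuation

set_option autoImplicit false
universe u
open CategoryTheory CategoryTheory.Limits AlgebraicGeometry IsLocalRing

namespace Groth.Ega2Proj

variable {X Y : Scheme.{u}} [IsIntegral X]

set_option maxHeartbeats 1000000 in
/-- Every valuation subring of the function field dominating a point of the base dominates a point
of `X` implies that `f` is universally closed. -/
theorem universallyClosed_of_valuationSubrings [X.IsSeparated] [Y.IsSeparated] (f : X ⟶ Y)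
    [QuasiCompact f]
    (h : ∀ (R : ValuationSubring X.functionField), R ≠ ⊤ →
      ∀ (y : Y) (hy : f.base (genericPoint X) ⤳ y),
        ((∀ a : Y.presheaf.stalk y, (Y.presheaf.stalkSpecializes hy ≫ f.stalkMap (genericPoint X)).hom a ∈ R) ∧
          ∀ a ∈ maximalIdeal (Y.presheaf.stalk y),
            R.valuation ((Y.presheaf.stalkSpecializes hy ≫ f.stalkMap (genericPoint X)).hom a) < 1) →
        ∃ x : X, (∀ a : X.presheaf.stalk x, algebraMap (X.presheaf.stalk x) X.functionField a ∈ R) ∧
          ∀ a ∈ maximalIdeal (X.presheaf.stalk x), R.valuation (algebraMap (X.presheaf.stalk x) X.functionField a) < 1) :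
    UniversallyClosed f := by
  classical
  refine UniversallyClosed.of_valuativeCriterion f fun S => ?_
  let u := S.i₁.base (closedPoint S.K)
  let y0 := S.i₂.base (closedPoint S.R)
  let β : X.presheaf.stalk u ⟶ CommRingCat.of S.K := Scheme.stalkClosedPointTo S.i₁
  let τ : Y.presheaf.stalk y0 ⟶ CommRingCat.of S.R := Scheme.stalkClosedPointTo S.i₂
  have hgen : S.i₂.base ((Spec.map (CommRingCat.ofHom (algebraMap S.R S.K))).base (closedPoint S.K)) = f.base u :=
    congrArg (fun m : Spec (CommRingCat.of S.K) ⟶ Y => m.base (closedPoint S.K)) S.commSq.w.symm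
  have hu0 : f.base u ⤳ y0 := by
    rw [← hgen]; exact (specializes_closedPoint (R := S.R) _).map S.i₂.base.hom.continuous
  have hξu : genericPoint X ⤳ u := (genericPoint_spec X).specializes trivial
  have hy : f.base (genericPoint X) ⤳ y0 := (hξu.map f.base.hom.continuous).trans hu0
  -- compatibility
  let m : Y.presheaf.stalk y0 ⟶ X.presheaf.stalk u := Y.presheaf.stalkSpecializes hu0 ≫ f.stalkMap u
  have hcompat : m ≫ β = τ ≫ CommRingCat.ofHom (algebraMap S.R S.K) := by
    apply Spec.map_injective
    rw [← cancel_mono (Y.fromSpecStalk y0), Spec.map_comp, Spec.map_comp, Category.assoc,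
      Category.assoc, Spec.map_comp, Category.assoc, Scheme.SpecMap_stalkSpecializes_fromSpecStalk,
      Scheme.SpecMap_stalkMap_fromSpecStalk, ← Category.assoc (Spec.map β)]
    rw [Scheme.Spec_stalkClosedPointTo_fromSpecStalk, Scheme.Spec_stalkClosedPointTo_fromSpecStalk]
    exact S.commSq.w
  -- a valuation ring of the function field dominating `u`
  obtain ⟨B, hB, hBloc⟩ := IsLocalRing.exists_factor_valuationRing
    (algebraMap (X.presheaf.stalk u) X.functionField)
  let β₁ : X.presheaf.stalk u →+* B :=
    (algebraMap (X.presheaf.stalk u) X.functionField).codRestrict B.toSubring hB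
  haveI : IsLocalHom β₁ := hBloc
  haveI : IsLocalHom β.hom := inferInstance
  let εL : ResidueField (X.presheaf.stalk u) →+* ResidueField B := ResidueField.map β₁
  let εK : ResidueField (X.presheaf.stalk u) →+* S.K := ResidueField.lift β.hom
  let A : ValuationSubring S.K := ValuationSubring.ofSubring (algebraMap S.R S.K).range fun z => by
    rcases ValuationRing.isInteger_or_isInteger S.R z with hz | hz
    · exact Or.inl hz
    · exact Or.inr hz
  let A₀ : ValuationSubring (ResidueField (X.presheaf.stalk u)) := A.comap εK
  have hm : ∀ a, εK (residue _ (m.hom a)) = algebraMap S.R S.K (τ.hom a) := fun a => by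
    rw [ResidueField.lift_residue_apply]
    exact congrArg (fun q => CommRingCat.Hom.hom q a) hcompat
  by_cases htop : A₀ = ⊤
  · -- the closed point of the ring maps to `u`
    have hmem : ∀ a, β.hom a ∈ (algebraMap S.R S.K).range := fun a => by
      have : residue _ a ∈ A₀ := htop ▸ ValuationSubring.mem_top _
      have h2 : εK (residue _ a) ∈ (algebraMap S.R S.K).range := this
      rwa [ResidueField.lift_residue_apply] at h2
    choose t ht using hmem
    have hinj := IsFractionRing.injective S.R S.K
    let θ : X.presheaf.stalk u →+* S.R :=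
      { toFun := t
        map_one' := hinj (by rw [ht, map_one, map_one])
        map_mul' := fun a b => hinj (by rw [ht, map_mul, map_mul, ht, ht])
        map_zero' := hinj (by rw [ht, map_zero, map_zero])
        map_add' := fun a b => hinj (by rw [ht, map_add, map_add, ht, ht]) }
    let l : Spec (CommRingCat.of S.R) ⟶ X := Spec.map (CommRingCat.ofHom θ) ≫ X.fromSpecStalk u
    have h1 : Spec.map (CommRingCat.ofHom (algebraMap S.R S.K)) ≫ l = S.i₁ := by
      rw [← Category.assoc, ← Spec.map_comp]
      refine Eq.trans ?_ (Scheme.Spec_stalkClosedPointTo_fromSpecStalk S.i₁)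
      congr 2
      ext a; exact ht a
    refine ⟨⟨⟨l, h1, ?_⟩⟩⟩
    haveI : IsSeparated (terminal.from Y) := Scheme.IsSeparated.isSeparated_terminal_from
    have hsub := IsSeparated.valuativeCriterion (terminal.from Y)
      ⟨S.R, S.K, S.i₁ ≫ f, terminal.from _, ⟨terminal.hom_ext _ _⟩⟩
    exact congrArg CommSq.LiftStruct.l (hsub.elim
      ⟨l ≫ f, by rw [← Category.assoc]; exact congrArg (· ≫ f) h1, terminal.hom_ext _ _⟩
      ⟨S.i₂, S.commSq.w.symm, terminal.hom_ext _ _⟩)
  · obtain ⟨C, hC⟩ := exists_valuationSubring_comap_eq εL A₀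
    have hCtop : C ≠ ⊤ := by
      rintro rfl
      exact htop (hC ▸ SetLike.ext fun z =>
        ⟨fun _ => ValuationSubring.mem_top _, fun _ => (ValuationSubring.mem_comap).mpr (ValuationSubring.mem_top _)⟩)
    have hC' : ∀ z, z ∈ A₀ → εL z ∈ C := fun z hz => by
      rw [← hC] at hz; exact hz
    have himg : ∀ a, (Y.presheaf.stalkSpecializes hy ≫ f.stalkMap (genericPoint X)).hom a =
        algebraMap (X.presheaf.stalk u) X.functionField (m.hom a) := by
      intro a
      have e : Y.presheaf.stalkSpecializes hy ≫ f.stalkMap (genericPoint X) =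
          m ≫ X.presheaf.stalkSpecializes hξu := by
        rw [Category.assoc, ← Scheme.Hom.stalkSpecializes_stalkMap,
          TopCat.Presheaf.stalkSpecializes_comp_assoc]
      exact congrArg (fun q => CommRingCat.Hom.hom q a) e
    have hA₀ : ∀ a, residue _ (m.hom a) ∈ A₀ := fun a => by
      change εK (residue _ (m.hom a)) ∈ A
      rw [hm]; exact ⟨_, rfl⟩
    obtain ⟨x, hx1, hx2⟩ := h (composite B C) (composite_ne_top B C hCtop) y0 hy ⟨fun a => by
      rw [himg]
      exact (mem_composite_iff B C _).mpr ⟨hB _, hC' _ (hA₀ a)⟩, fun a ha => by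
      rw [himg, composite_valuation_lt_one_iff B C _ (hB _) (hC' _ (hA₀ a))]
      refine (ValuationSubring.valuation_lt_one_iff C ⟨_, hC' _ (hA₀ a)⟩).mp ?_
      rw [mem_maximalIdeal]
      intro hu'
      obtain ⟨⟨c, hc⟩, hac⟩ := hu'.exists_right_inv
      have hac' : εL (residue _ (m.hom a)) * c = 1 := congrArg Subtype.val hac
      have hne : residue _ (m.hom a) ≠ 0 := fun h0 => by
        rw [h0, map_zero, zero_mul] at hac'; exact zero_ne_one hac'
      have hinv : (residue _ (m.hom a))⁻¹ ∈ A₀ := by
        rw [← hC]
        change εL (residue _ (m.hom a))⁻¹ ∈ C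
        rw [map_inv₀, ← eq_inv_of_mul_eq_one_right hac']
        exact hc
      obtain ⟨b, hb⟩ : εK ((residue _ (m.hom a))⁻¹) ∈ (algebraMap S.R S.K).range := hinv
      have hub : τ.hom a * b = 1 := IsFractionRing.injective S.R S.K (by
        rw [map_mul, ← hm, hb, ← map_mul, mul_inv_cancel₀ hne, map_one, map_one])
      haveI : IsLocalHom τ.hom := inferInstance
      exact (mem_maximalIdeal a).mp ha (this.map_nonunit a (IsUnit.of_mul_eq_one b hub))⟩
    -- the point `x` is a specialization of `u`
    have hx1B : ∀ a, algebraMap (X.presheaf.stalk x) X.functionField a ∈ B := fun a =>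
      ((mem_composite_iff B C _).mp (hx1 a)).1
    let β₂ : X.presheaf.stalk x →+* B :=
      (algebraMap (X.presheaf.stalk x) X.functionField).codRestrict B.toSubring hx1B
    have hmor : Spec.map (CommRingCat.ofHom β₁) ≫ X.fromSpecStalk u =
        Spec.map (CommRingCat.ofHom β₂) ≫ X.fromSpecStalk x := by
      have e1 : ∀ (z : X) (γ : X.presheaf.stalk z →+* B),
          (algebraMap B X.functionField).comp γ = algebraMap (X.presheaf.stalk z) X.functionField →
          Spec.map (CommRingCat.ofHom (algebraMap B X.functionField)) ≫ Spec.map (CommRingCat.ofHom γ) ≫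
            X.fromSpecStalk z = X.fromSpecStalk (genericPoint X) := by
        intro z γ hγ
        rw [← Category.assoc, ← Spec.map_comp, ← CommRingCat.ofHom_comp, hγ,
          ← Scheme.SpecMap_stalkSpecializes_fromSpecStalk ((genericPoint_spec X).specializes trivial : genericPoint X ⤳ z)]
        rfl
      haveI : IsSeparated (terminal.from X) := Scheme.IsSeparated.isSeparated_terminal_from
      have hsub := IsSeparated.valuativeCriterion (terminal.from X)
        ⟨B, X.functionField, X.fromSpecStalk (genericPoint X), terminal.from _, ⟨terminal.hom_ext _ _⟩⟩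
      exact congrArg CommSq.LiftStruct.l (hsub.elim
        ⟨_, e1 u β₁ rfl, terminal.hom_ext _ _⟩ ⟨_, e1 x β₂ rfl, terminal.hom_ext _ _⟩)
    have hux : u ⤳ x := by
      have hc1 : (Spec.map (CommRingCat.ofHom β₁) ≫ X.fromSpecStalk u).base (closedPoint B) = u :=
        (congrArg (fun z => (X.fromSpecStalk u).base z) (IsLocalRing.comap_closedPoint β₁)).trans
          Scheme.fromSpecStalk_closedPoint
      rw [hmor] at hc1
      have := (specializes_closedPoint ((Spec.map (CommRingCat.ofHom β₂)).base (closedPoint B))).map
        (X.fromSpecStalk x).base.hom.continuous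
      rw [show (X.fromSpecStalk x).base (closedPoint (X.presheaf.stalk x)) = x from
        Scheme.fromSpecStalk_closedPoint] at this
      exact hc1 ▸ this
    have hβ : X.presheaf.stalkSpecializes hux ≫ CommRingCat.ofHom β₁ = CommRingCat.ofHom β₂ := by
      apply Spec.map_injective
      rw [← cancel_mono (X.fromSpecStalk x)]
      exact ((congrArg (· ≫ X.fromSpecStalk x) (Spec.map_comp _ _)).trans
        ((Category.assoc _ _ _).trans
          (congrArg _ (Scheme.SpecMap_stalkSpecializes_fromSpecStalk hux)))).trans hmor
    let γ : X.presheaf.stalk x →+* ResidueField (X.presheaf.stalk u) :=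
      (residue _).comp (X.presheaf.stalkSpecializes hux).hom
    have hγ : ∀ a, εL (γ a) = residue B (β₂ a) := fun a => by
      rw [RingHom.comp_apply, ResidueField.map_residue]
      exact congrArg (residue B) (congrArg (fun q => CommRingCat.Hom.hom q a) hβ)
    have hmem : ∀ a, (β.hom.comp (X.presheaf.stalkSpecializes hux).hom) a ∈ (algebraMap S.R S.K).range := by
      intro a
      have : γ a ∈ A₀ := by
        rw [← hC]
        change εL (γ a) ∈ C
        rw [hγ]
        exact ((mem_composite_iff B C _).mp (hx1 a)).2
      have h2 : εK (γ a) ∈ (algebraMap S.R S.K).range := this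
      rwa [RingHom.comp_apply, ResidueField.lift_residue_apply] at h2
    choose t ht using hmem
    have hinj := IsFractionRing.injective S.R S.K
    let θ : X.presheaf.stalk x →+* S.R :=
      { toFun := t
        map_one' := hinj (by rw [ht, map_one, map_one])
        map_mul' := fun a b => hinj (by rw [ht, map_mul, map_mul, ht, ht])
        map_zero' := hinj (by rw [ht, map_zero, map_zero])
        map_add' := fun a b => hinj (by rw [ht, map_add, map_add, ht, ht]) }
    let l : Spec (CommRingCat.of S.R) ⟶ X := Spec.map (CommRingCat.ofHom θ) ≫ X.fromSpecStalk x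
    have h1 : Spec.map (CommRingCat.ofHom (algebraMap S.R S.K)) ≫ l = S.i₁ := by
      rw [← Category.assoc, ← Spec.map_comp]
      refine Eq.trans ?_ (Scheme.Spec_stalkClosedPointTo_fromSpecStalk S.i₁)
      rw [← Scheme.SpecMap_stalkSpecializes_fromSpecStalk hux, ← Category.assoc, ← Spec.map_comp]
      congr 2
      ext a; exact ht a
    refine ⟨⟨⟨l, h1, ?_⟩⟩⟩
    haveI : IsSeparated (terminal.from Y) := Scheme.IsSeparated.isSeparated_terminal_from
    have hsub := IsSeparated.valuativeCriterion (terminal.from Y)
      ⟨S.R, S.K, S.i₁ ≫ f, terminal.from _, ⟨terminal.hom_ext _ _⟩⟩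
    exact congrArg CommSq.LiftStruct.l (hsub.elim
      ⟨l ≫ f, by rw [← Category.assoc]; exact congrArg (· ≫ f) h1, terminal.hom_ext _ _⟩
      ⟨S.i₂, S.commSq.w.symm, terminal.hom_ext _ _⟩)

end Groth.Ega2Proj
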