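import Groth.Agent.Ega2Proj.ConeMaps
import Mathlib.AlgebraicGeometry.Morphisms.IsIso

/-!
# `Proj` of a Veronese subring
-/

universe u

open CategoryTheory CategoryTheory.Limits AlgebraicGeometry TopologicalSpace Opposite

namespace Groth.Ega2Proj

variable {R A : Type u} [CommRing R] [CommRing A] [Algebra R A] (𝒜 : ℕ → Submodule R A)
  [GradedAlgebra 𝒜] {B : Type u} [CommRing B] [Algebra R B] (ℬ : ℕ → Submodule R B)
  [GradedAlgebra ℬ] {d : ℕ} (φ : B →ₐ[R] A) (hφ : Function.Injective φ)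
  (hdeg : ∀ n : ℕ, Submodule.map φ.toLinearMap (ℬ n) = 𝒜 (n * d))

include hdeg in
theorem veronese_mem {n : ℕ} {b : B} (hb : b ∈ ℬ n) : φ b ∈ 𝒜 (n * d) :=
  (hdeg n).le (Submodule.mem_map_of_mem hb)

theorem val_mk_mul_pow' {S : Type u} [CommRing S] [Algebra R S] (𝒮 : ℕ → Submodule R S)
    [GradedAlgebra 𝒮] {m n : ℕ} {g a : S} (hg : g ∈ 𝒮 m) (ha : a ∈ 𝒮 (n • m)) :
    (HomogeneousLocalization.Away.mk 𝒮 hg n a ha).val * algebraMap S (Localization.Away g) g ^ n =
      algebraMap S (Localization.Away g) a := by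
  rw [← map_pow, HomogeneousLocalization.Away.val_mk, Localization.mk_eq_mk']
  exact IsLocalization.mk'_spec _ _ _

include hdeg in
theorem awayMap_val_mk {n k : ℕ} {g b : B} (hg : g ∈ ℬ n) (hb : b ∈ ℬ (k • n)) :
    Localization.awayMap φ.toRingHom g (HomogeneousLocalization.Away.mk ℬ hg k b hb).val =
      (HomogeneousLocalization.Away.mk 𝒜 (veronese_mem 𝒜 ℬ φ hdeg hg) k (φ b)
        (by have := veronese_mem 𝒜 ℬ φ hdeg hb
            rwa [smul_eq_mul, mul_assoc, ← smul_eq_mul k] at this)).val := by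
  have hu : IsUnit (algebraMap A (Localization.Away (φ g)) (φ g) ^ k) :=
    (IsLocalization.Away.algebraMap_isUnit (φ g)).pow k
  have halg : ∀ x : B, Localization.awayMap φ.toRingHom g (algebraMap B _ x) =
      algebraMap A (Localization.Away (φ g)) (φ x) := fun x => IsLocalization.map_eq _ x
  apply hu.mul_left_injective
  simp only
  erw [val_mk_mul_pow' 𝒜]
  rw [← halg, ← map_pow]
  erw [← map_mul, val_mk_mul_pow' ℬ]
  rw [halg]

theorem awayMap_injective {S T : Type u} [CommRing S] [CommRing T] (ψ : S →+* T)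
    (hψ : Function.Injective ψ) (g : S) : Function.Injective (Localization.awayMap ψ g) := by
  refine (injective_iff_map_eq_zero _).mpr fun z hz => ?_
  obtain ⟨b, ⟨_, k, rfl⟩, rfl⟩ := IsLocalization.exists_mk'_eq (Submonoid.powers g) z
  have h1 : algebraMap T (Localization.Away (ψ g)) (ψ b) = 0 := by
    have := congrArg (Localization.awayMap ψ g)
      (IsLocalization.mk'_spec (Localization.Away g) b (⟨_, k, rfl⟩ : Submonoid.powers g))
    rw [map_mul, hz, zero_mul] at this
    exact (IsLocalization.map_eq _ b).symm.trans this.symm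
  obtain ⟨⟨_, j, rfl⟩, hj⟩ :=
    (IsLocalization.map_eq_zero_iff (Submonoid.powers (ψ g)) _ _).mp h1
  refine IsLocalization.mk'_eq_zero_iff b _ |>.mpr ⟨⟨_, j, rfl⟩, hψ ?_⟩
  rw [map_mul, map_pow, map_zero]
  exact hj

set_option maxHeartbeats 1000000 in
include hφ hdeg in
theorem exists_theta {n : ℕ} {g : B} (hg : g ∈ ℬ n) :
    ∃ θ : HomogeneousLocalization.Away ℬ g →+* HomogeneousLocalization.Away 𝒜 (φ g),
      (algebraMap (HomogeneousLocalization.Away 𝒜 (φ g)) (Localization.Away (φ g))).comp θ =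
          (Localization.awayMap φ.toRingHom g).comp
            (algebraMap (HomogeneousLocalization.Away ℬ g) (Localization.Away g)) ∧
        Function.Bijective θ := by
  let G : HomogeneousLocalization.Away ℬ g →+* Localization.Away (φ g) :=
    (Localization.awayMap φ.toRingHom g).comp
      (algebraMap (HomogeneousLocalization.Away ℬ g) (Localization.Away g))
  have hG : ∀ z, ∃ y : HomogeneousLocalization.Away 𝒜 (φ g), y.val = G z := by
    intro z
    obtain ⟨k, b, hb, rfl⟩ := HomogeneousLocalization.Away.mk_surjective ℬ hg z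
    exact ⟨_, (awayMap_val_mk 𝒜 ℬ φ hdeg hg hb).symm⟩
  choose t ht using hG
  have hinj := HomogeneousLocalization.val_injective (𝒜 := 𝒜) (Submonoid.powers (φ g))
  let θ : HomogeneousLocalization.Away ℬ g →+* HomogeneousLocalization.Away 𝒜 (φ g) :=
    { toFun := t
      map_one' := hinj (by rw [ht, map_one, HomogeneousLocalization.val_one])
      map_mul' := fun a b => hinj (by rw [ht, map_mul, HomogeneousLocalization.val_mul, ht, ht])
      map_zero' := hinj (by rw [ht, map_zero, HomogeneousLocalization.val_zero])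
      map_add' := fun a b => hinj (by rw [ht, map_add, HomogeneousLocalization.val_add, ht, ht]) }
  refine ⟨θ, RingHom.ext fun z => ht z, fun a b hab => ?_, fun y => ?_⟩
  · have hab' : t a = t b := hab
    exact HomogeneousLocalization.val_injective _ (awayMap_injective φ.toRingHom hφ g
      ((ht a).symm.trans ((congrArg HomogeneousLocalization.val hab').trans (ht b))))
  · obtain ⟨k, a, ha, rfl⟩ :=
      HomogeneousLocalization.Away.mk_surjective 𝒜 (veronese_mem 𝒜 ℬ φ hdeg hg) y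
    obtain ⟨b, hb, rfl⟩ : a ∈ Submodule.map φ.toLinearMap (ℬ (k • n)) := by
      rw [hdeg, smul_eq_mul, mul_assoc, ← smul_eq_mul k]; exact ha
    refine ⟨HomogeneousLocalization.Away.mk ℬ hg k b hb, hinj ?_⟩
    change (t _).val = _
    rw [ht]
    exact awayMap_val_mk 𝒜 ℬ φ hdeg hg hb

set_option maxHeartbeats 1000000 in
include hφ hdeg in
theorem exists_theta' {n : ℕ} {g : B} (hg : g ∈ ℬ n) :
    ∃! θ : HomogeneousLocalization.Away ℬ g →+* HomogeneousLocalization.Away 𝒜 (φ g),
      (algebraMap (HomogeneousLocalization.Away 𝒜 (φ g)) (Localization.Away (φ g))).comp θ =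
          (Localization.awayMap φ.toRingHom g).comp
            (algebraMap (HomogeneousLocalization.Away ℬ g) (Localization.Away g)) := by
  obtain ⟨θ, hθ, -⟩ := exists_theta 𝒜 ℬ φ hφ hdeg hg
  exact ⟨θ, hθ, fun θ' h' => RingHom.ext fun z =>
    HomogeneousLocalization.val_injective _ (DFunLike.congr_fun (h'.trans hθ.symm) z)⟩

include hφ hdeg in
theorem exists_veronese_map (hd : 0 < d) :
    ∃ e : Proj 𝒜 ⟶ Proj ℬ,
      ∀ (n : ℕ) (g : B) (hn : 0 < n) (hg : g ∈ ℬ n)
        (θ : HomogeneousLocalization.Away ℬ g →+* HomogeneousLocalization.Away 𝒜 (φ g)),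
        (algebraMap (HomogeneousLocalization.Away 𝒜 (φ g)) (Localization.Away (φ g))).comp θ =
          (Localization.awayMap φ.toRingHom g).comp
            (algebraMap (HomogeneousLocalization.Away ℬ g) (Localization.Away g)) →
        Proj.awayι 𝒜 (φ g) (veronese_mem 𝒜 ℬ φ hdeg hg) (Nat.mul_pos hn hd) ≫ e =
          Spec.map (CommRingCat.ofHom θ) ≫ Proj.awayι ℬ g hg hn := by
  classical
  choose θ hθ using fun i : PosHom ℬ => (exists_theta 𝒜 ℬ φ hφ hdeg i.2.2)
  let c := fun i : PosHom ℬ =>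
    Proj.awayι 𝒜 (φ i.1.2) (veronese_mem 𝒜 ℬ φ hdeg i.2.2) (Nat.mul_pos i.2.1 hd)
  obtain ⟨e, he, -⟩ := existsUnique_of_charts c (fun x => by
      obtain ⟨m, f, hm, hf, hfx⟩ := exists_mem_basicOpen 𝒜 x
      obtain ⟨g, hg, hgf⟩ : f ^ d ∈ Submodule.map φ.toLinearMap (ℬ m) := by
        rw [hdeg, mul_comm]
        exact SetLike.pow_mem_graded d hf
      refine ⟨⟨(m, g), hm, hg⟩, ?_⟩
      rw [← Scheme.Hom.coe_opensRange, SetLike.mem_coe, Proj.opensRange_awayι, Proj.mem_basicOpen]
      change φ g ∉ x.asHomogeneousIdeal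
      rw [show φ g = f ^ d from hgf]
      exact fun h => hfx (x.isPrime.mem_of_pow_mem d h))
    (fun i => Spec.map (CommRingCat.ofHom (θ i)) ≫ Proj.awayι ℬ i.1.2 i.2.2 i.2.1) (fun i j => by
      have hi := (hθ i).1
      have hj := (hθ j).1
      obtain ⟨⟨n, g⟩, hn, hg⟩ := i
      obtain ⟨⟨m, h⟩, hm, hh⟩ := j
      dsimp only at hn hg hm hh hi hj ⊢
      have hgh : g * h ∈ ℬ (n + m) := SetLike.mul_mem_graded hg hh
      let k : PosHom ℬ := ⟨(n + m, g * h), by omega, hgh⟩
      have hk := (hθ k).1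
      let θi := θ ⟨(n, g), hn, hg⟩
      let θj := θ ⟨(m, h), hm, hh⟩
      have sq : ∀ {a b : ℕ} {u v x : B} (hu : u ∈ ℬ a) (hv : v ∈ ℬ b) (hx : x = u * v)
          (θu : HomogeneousLocalization.Away ℬ u →+* HomogeneousLocalization.Away 𝒜 (φ u))
          (θx : HomogeneousLocalization.Away ℬ x →+* HomogeneousLocalization.Away 𝒜 (φ x)),
          (algebraMap (HomogeneousLocalization.Away 𝒜 (φ u)) (Localization.Away (φ u))).comp θu =
            (Localization.awayMap φ.toRingHom u).comp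
              (algebraMap (HomogeneousLocalization.Away ℬ u) (Localization.Away u)) →
          (algebraMap (HomogeneousLocalization.Away 𝒜 (φ x)) (Localization.Away (φ x))).comp θx =
            (Localization.awayMap φ.toRingHom x).comp
              (algebraMap (HomogeneousLocalization.Away ℬ x) (Localization.Away x)) →
          (HomogeneousLocalization.awayMap 𝒜 (veronese_mem 𝒜 ℬ φ hdeg hv)
              ((congrArg φ hx).trans (map_mul φ u v))).comp θu =
            θx.comp (HomogeneousLocalization.awayMap ℬ hv hx) := by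
        intro a b u v x hu hv hx θu θx hθu hθx
        refine RingHom.ext fun z => ?_
        obtain ⟨l, y, hy, rfl⟩ := HomogeneousLocalization.Away.mk_surjective ℬ hu z
        have e1 : θu (HomogeneousLocalization.Away.mk ℬ hu l y hy) = _ :=
          HomogeneousLocalization.val_injective _
            ((DFunLike.congr_fun hθu _).trans (awayMap_val_mk 𝒜 ℬ φ hdeg hu hy))
        rw [RingHom.comp_apply, RingHom.comp_apply, e1, HomogeneousLocalization.awayMap_mk,
          HomogeneousLocalization.awayMap_mk]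
        refine HomogeneousLocalization.val_injective _ ?_
        refine Eq.trans ?_ (DFunLike.congr_fun hθx _).symm
        refine Eq.trans ?_ (awayMap_val_mk 𝒜 ℬ φ hdeg (n := a + b)
          (hx ▸ SetLike.mul_mem_graded hu hv) _).symm
        simp only [HomogeneousLocalization.Away.val_mk, map_mul, map_pow]
      refine ⟨_, Spec.map (CommRingCat.ofHom (HomogeneousLocalization.awayMap 𝒜
          (veronese_mem 𝒜 ℬ φ hdeg hh) (map_mul φ g h))),
        Spec.map (CommRingCat.ofHom (HomogeneousLocalization.awayMap 𝒜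
          (veronese_mem 𝒜 ℬ φ hdeg hg) ((map_mul φ g h).trans (mul_comm _ _)))), ?_, ?_, ?_, ?_⟩
      · have : IsOpenImmersion (Spec.map (CommRingCat.ofHom (HomogeneousLocalization.awayMap 𝒜
            (veronese_mem 𝒜 ℬ φ hdeg hg) ((map_mul φ g h).trans (mul_comm _ _)))) ≫
            Proj.awayι 𝒜 (φ h) (veronese_mem 𝒜 ℬ φ hdeg hh) (Nat.mul_pos hm hd)) := by
          rw [Proj.SpecMap_awayMap_awayι]; infer_instance
        exact IsOpenImmersion.of_comp _ (Proj.awayι 𝒜 (φ h) (veronese_mem 𝒜 ℬ φ hdeg hh) (Nat.mul_pos hm hd))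
      · dsimp only [c]
        rw [Proj.SpecMap_awayMap_awayι, Proj.SpecMap_awayMap_awayι]
        rfl
      · rw [← Spec.map_comp_assoc, ← Spec.map_comp_assoc, ← CommRingCat.ofHom_comp,
          ← CommRingCat.ofHom_comp, sq hg hh rfl θi (θ k) hi hk,
          sq hh hg (mul_comm g h) θj (θ k) hj hk, CommRingCat.ofHom_comp, CommRingCat.ofHom_comp,
          Spec.map_comp_assoc, Spec.map_comp_assoc, Proj.SpecMap_awayMap_awayι,
          Proj.SpecMap_awayMap_awayι]
        rfl
      · dsimp only [c]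
        rw [Proj.SpecMap_awayMap_awayι, ← Scheme.Hom.coe_opensRange, ← Scheme.Hom.coe_opensRange,
          ← Scheme.Hom.coe_opensRange, Proj.opensRange_awayι, Proj.opensRange_awayι,
          Proj.opensRange_awayι, map_mul, Proj.basicOpen_mul]
        exact subset_of_eq (Opens.coe_inf _ _).symm)
  refine ⟨e, fun n g hn hg θ' hθ' => ?_⟩
  have := he ⟨(n, g), hn, hg⟩
  rw [(exists_theta' 𝒜 ℬ φ hφ hdeg hg).unique hθ' (hθ ⟨(n, g), hn, hg⟩).1]
  exact this

section

variable (hd : 0 < d) (e : Proj 𝒜 ⟶ Proj ℬ)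
  (he : ∀ (n : ℕ) (g : B) (hn : 0 < n) (hg : g ∈ ℬ n)
        (θ : HomogeneousLocalization.Away ℬ g →+* HomogeneousLocalization.Away 𝒜 (φ g)),
        (algebraMap (HomogeneousLocalization.Away 𝒜 (φ g)) (Localization.Away (φ g))).comp θ =
          (Localization.awayMap φ.toRingHom g).comp
            (algebraMap (HomogeneousLocalization.Away ℬ g) (Localization.Away g)) →
        Proj.awayι 𝒜 (φ g) (veronese_mem 𝒜 ℬ φ hdeg hg) (Nat.mul_pos hn hd) ≫ e =
          Spec.map (CommRingCat.ofHom θ) ≫ Proj.awayι ℬ g hg hn)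

include hφ he

theorem veronese_notMem_iff_pos (p : Proj 𝒜) {m : ℕ} {b : B} (hm : 0 < m) (hb : b ∈ ℬ m) :
    b ∉ (e.base p).asHomogeneousIdeal ↔ φ b ∉ p.asHomogeneousIdeal := by
  obtain ⟨l, f, hl, hf, hfp⟩ := exists_mem_basicOpen 𝒜 p
  obtain ⟨g, hg, hgf⟩ : f ^ d ∈ Submodule.map φ.toLinearMap (ℬ l) := by
    rw [hdeg, mul_comm]
    exact SetLike.pow_mem_graded d hf
  have hgp : p ∈ (Proj.awayι 𝒜 (φ g) (veronese_mem 𝒜 ℬ φ hdeg hg) (Nat.mul_pos hl hd)).opensRange := by
    rw [Proj.opensRange_awayι, Proj.mem_basicOpen, show φ g = f ^ d from hgf]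
    exact fun h => hfp (p.isPrime.mem_of_pow_mem d h)
  obtain ⟨y, rfl⟩ := hgp
  obtain ⟨θ, hθ, -⟩ := exists_theta 𝒜 ℬ φ hφ hdeg hg
  rw [← Proj.mem_basicOpen, ← Proj.mem_basicOpen]
  change (Proj.awayι 𝒜 (φ g) _ (Nat.mul_pos hl hd) ≫ e).base y ∈ Proj.basicOpen ℬ b ↔
    y ∈ Proj.awayι 𝒜 (φ g) _ (Nat.mul_pos hl hd) ⁻¹ᵁ Proj.basicOpen 𝒜 (φ b)
  rw [he l g hl hg θ hθ, Proj.awayι_preimage_basicOpen 𝒜 (veronese_mem 𝒜 ℬ φ hdeg hg)
    (Nat.mul_pos hl hd) (veronese_mem 𝒜 ℬ φ hdeg hb) (Nat.mul_pos hm hd)]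
  change (Spec.map (CommRingCat.ofHom θ)).base y ∈ Proj.awayι ℬ g hg hl ⁻¹ᵁ Proj.basicOpen ℬ b ↔ _
  rw [Proj.awayι_preimage_basicOpen ℬ hg hl hb hm]
  change θ (HomogeneousLocalization.Away.isLocalizationElem hg hb) ∉ y.asIdeal ↔
    HomogeneousLocalization.Away.isLocalizationElem (veronese_mem 𝒜 ℬ φ hdeg hg)
      (veronese_mem 𝒜 ℬ φ hdeg hb) ∉ y.asIdeal
  have key : HomogeneousLocalization.Away.isLocalizationElem (veronese_mem 𝒜 ℬ φ hdeg hg)
      (veronese_mem 𝒜 ℬ φ hdeg hb) =
        θ (HomogeneousLocalization.Away.isLocalizationElem hg hb) ^ d := by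
    refine HomogeneousLocalization.val_injective _ ?_
    have hu : IsUnit (algebraMap A (Localization.Away (φ g)) (φ g) ^ (m * d)) :=
      (IsLocalization.Away.algebraMap_isUnit (φ g)).pow _
    apply hu.mul_left_injective
    simp only [HomogeneousLocalization.val_pow, HomogeneousLocalization.Away.isLocalizationElem]
    erw [val_mk_mul_pow' 𝒜]
    rw [show (θ (HomogeneousLocalization.Away.mk ℬ hg m (b ^ l) (by
        simpa [smul_eq_mul, mul_comm] using SetLike.pow_mem_graded l hb))).val = _ from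
      (DFunLike.congr_fun hθ _).trans (awayMap_val_mk 𝒜 ℬ φ hdeg hg _),
      pow_mul (algebraMap A (Localization.Away (φ g)) (φ g)) m d, ← mul_pow]
    erw [val_mk_mul_pow' 𝒜]
    simp only [map_pow, ← pow_mul]
  rw [key]
  exact not_congr ⟨fun h => Ideal.pow_mem_of_mem _ h d hd, fun h => y.isPrime.mem_of_pow_mem d h⟩

theorem veronese_base (p : Proj 𝒜) :
    (e.base p).asHomogeneousIdeal.toIdeal = Ideal.comap φ p.asHomogeneousIdeal.toIdeal := by
  classical
  have key : ∀ n, ∀ a ∈ ℬ n, (a ∈ (e.base p).asHomogeneousIdeal.toIdeal ↔ φ a ∈ p.asHomogeneousIdeal.toIdeal) := by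
    intro n a ha
    obtain ⟨m, g, hm, hg, hgp⟩ := exists_mem_basicOpen ℬ (e.base p)
    have hgp' : φ g ∉ p.asHomogeneousIdeal.toIdeal :=
      (veronese_notMem_iff_pos 𝒜 ℬ φ hφ hdeg hd e he p hm hg).mp hgp
    have h : a * g ∈ (e.base p).asHomogeneousIdeal.toIdeal ↔ φ (a * g) ∈ p.asHomogeneousIdeal.toIdeal :=
      not_iff_not.mp (veronese_notMem_iff_pos 𝒜 ℬ φ hφ hdeg hd e he p (show 0 < n + m by omega)
        (SetLike.mul_mem_graded ha hg))
    rw [map_mul] at h
    exact ⟨fun h' => (p.isPrime.mem_or_mem (h.mp (Ideal.mul_mem_right _ _ h'))).resolve_right hgp',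
      fun h' => ((e.base p).isPrime.mem_or_mem (h.mpr (Ideal.mul_mem_right _ _ h'))).resolve_right hgp⟩
  refine le_antisymm (fun a ha => ?_) (fun a ha => ?_)
  · rw [Ideal.mem_comap, ← DirectSum.sum_support_decompose ℬ a, map_sum]
    exact Ideal.sum_mem _ fun n _ => (key n _ (SetLike.coe_mem _)).mp
      ((e.base p).asHomogeneousIdeal.isHomogeneous n ha)
  · rw [← DirectSum.sum_support_decompose ℬ a]
    refine Ideal.sum_mem _ fun n _ => (key n _ (SetLike.coe_mem _)).mpr ?_
    have hcomp : ((DirectSum.decompose 𝒜 (φ a) (n * d) : A)) = φ (DirectSum.decompose ℬ a n) := by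
      conv_lhs => rw [← DirectSum.sum_support_decompose ℬ a, map_sum, DirectSum.decompose_sum,
        DFinsupp.finset_sum_apply, AddSubmonoidClass.coe_finsetSum]
      rw [Finset.sum_eq_single n]
      · exact DirectSum.decompose_of_mem_same 𝒜 (veronese_mem 𝒜 ℬ φ hdeg (SetLike.coe_mem _))
      · exact fun j _ hj => DirectSum.decompose_of_mem_ne 𝒜
          (veronese_mem 𝒜 ℬ φ hdeg (SetLike.coe_mem _))
          (fun h => hj (Nat.eq_of_mul_eq_mul_right hd h))
      · intro hn
        rw [DFinsupp.notMem_support_iff.mp hn]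
        simp
    rw [← hcomp]
    exact p.asHomogeneousIdeal.isHomogeneous (n * d) ha

theorem veronese_isIso : IsIso e := by
  let 𝒰 := (Proj.affineOpenCover ℬ).openCover
  refine IsZariskiLocalAtTarget.of_openCover (P := MorphismProperty.isomorphisms Scheme.{u}) 𝒰 fun s => ?_
  suffices key : ∀ (n : ℕ) (hn : 0 < n) (g : B) (hg : g ∈ ℬ n),
      IsIso (pullback.snd e (Proj.awayι ℬ g hg hn)) from key _ s.1.2 _ s.2.2
  intro n hn g hg
  obtain ⟨θ, hθ, hbij⟩ := exists_theta 𝒜 ℬ φ hφ hdeg hg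
  have h1 : IsPullback (Proj.awayι 𝒜 (φ g) (veronese_mem 𝒜 ℬ φ hdeg hg) (Nat.mul_pos hn hd))
      (Spec.map (CommRingCat.ofHom θ)) e (Proj.awayι ℬ g hg hn) := by
    refine (IsOpenImmersion.isPullback _ _ _ _ (he n g hn hg θ hθ) ?_).flip
    rw [Proj.opensRange_awayι, Proj.opensRange_awayι]
    ext p
    exact veronese_notMem_iff_pos 𝒜 ℬ φ hφ hdeg hd e he p hn hg
  haveI : IsIso (CommRingCat.ofHom θ) := (ConcreteCategory.isIso_iff_bijective _).mpr hbij
  rw [← h1.isoPullback_inv_snd]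
  infer_instance

end

end Groth.Ega2Proj
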