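/-
`L^n ⊗ L'` is very ample for large `n` (EGA II 4.5.11 with 4.4).
-/
import Groth.Agent.Chow.VeryAmplePn
import Groth.Agent.Ega2Proj.TwistExtend

set_option autoImplicit false
universe u
open CategoryTheory CategoryTheory.Limits AlgebraicGeometry TopologicalSpace Opposite

set_option backward.isDefEq.respectTransparency.types false

namespace Groth.Ega2Proj

open Groth.PicAux Groth.PropsBasic.Ample

variable {X Y : Scheme.{u}}

theorem exists_isRelVeryAmplePn_tensor (q : X ⟶ Y) [QuasiCompact q] [LocallyOfFiniteType q]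
    {L L' : X.Modules} (hA : CohB1.IsAmple L) (hL' : PicF.IsInvertible L') :
    ∃ n₀ : ℕ, ∀ n, n₀ ≤ n →
      RelAmple.IsRelVeryAmplePn q (CohB1.tensorMod (CohB1.tensorPow L n) L') := by
  classical
  haveI : CompactSpace X := hA.2.1
  have := isQCoh_of_isInvertible hL'
  obtain ⟨j₀, hj₀⟩ := exists_spans_twist hA L' (isFT_of_isInvertible hL')
  let M := CohB1.tensorMod L' (CohB1.tensorPow L j₀)
  have hM : PicF.IsInvertible M := isInvertible_tensorMod hL' (isInvertible_tensorPow hA.1 j₀)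
  choose T hT using fun x : X => (hj₀ j₀ le_rfl).exists_mem_gloc hM x
  choose B hB hxB _ using fun x : X =>
    exists_isAffineOpen_mem_and_subset (x := q x) (U := (⊤ : Y.Opens)) trivial
  choose W hWaff hxW hWO hWsec using fun x : X =>
    Groth.Chow.exists_uniform_sections_le hA x (q ⁻¹ᵁ B x ⊓ gloc (T x)) ⟨hxB x, hT x⟩
  have hWB : ∀ x, W x ≤ q ⁻¹ᵁ B x := fun x => (hWO x).trans inf_le_left
  obtain ⟨t, ht⟩ := isCompact_univ.elim_finite_subcover (fun x => (W x : Set X))
    (fun x => (W x).isOpen) (fun x _ => Set.mem_iUnion.2 ⟨x, hxW x⟩)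
  have hft : ∀ x : X, ∃ G : Finset Γ(X, W x),
      Subring.closure (Set.range (q.appLE (B x) (W x) (hWB x)) ∪ ↑G) = ⊤ := by
    intro x
    have hft := q.finiteType_appLE (hB x) (hWaff x) (hWB x)
    letI : Algebra Γ(Y, B x) Γ(X, W x) := (q.appLE (B x) (W x) (hWB x)).hom.toAlgebra
    haveI : Algebra.FiniteType Γ(Y, B x) Γ(X, W x) := hft
    obtain ⟨G, hG⟩ := Algebra.FiniteType.out (R := Γ(Y, B x)) (A := Γ(X, W x))
    refine ⟨G, ?_⟩
    have h2 := congrArg Subalgebra.toSubring hG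
    rw [Algebra.adjoin_eq_ring_closure, Algebra.top_toSubring] at h2
    exact h2
  choose G hG using hft
  choose n₁ hn₁ using fun x => hWsec x (G x)
  refine ⟨t.sup n₁ + j₀, fun n hn => ?_⟩
  obtain ⟨m, rfl⟩ : ∃ m, n = m + j₀ := ⟨n - j₀, by omega⟩
  choose σ hσ b hb using fun x : t => hn₁ x m ((Finset.le_sup x.2).trans (by omega))
  obtain ⟨a⟩ : Nonempty (CohB1.tensorMod (CohB1.tensorPow L m) M ≅
      CohB1.tensorMod (CohB1.tensorPow L (m + j₀)) L') :=
    ⟨PicGrp.tensorModIso (Iso.refl _) (exists_braiding _ _).choose ≪≫ (exists_associator _ _ _).choose.symm ≪≫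
      PicGrp.tensorModIso (tensorPow_add L m j₀).some.symm (Iso.refl _)⟩
  have hLm := isInvertible_tensorPow hA.1 m
  let prod : Γ(CohB1.tensorPow L m, ⊤) → X → Γ(CohB1.tensorMod (CohB1.tensorPow L (m + j₀)) L', ⊤) :=
    fun σ x => a.hom.app ⊤ (tmulSec σ (T x))
  let ι' := (t : Type u) ⊕ (Σ x : t, (G x : Type u))
  let v : ι' → Γ(CohB1.tensorMod (CohB1.tensorPow L (m + j₀)) L', ⊤) :=
    Sum.elim (fun x => prod (σ x) x.1) fun p => prod (b p.1 p.2.1 p.2.2) p.1.1
  let s : Fin (Fintype.card ι' + 1) → Γ(CohB1.tensorMod (CohB1.tensorPow L (m + j₀)) L', ⊤) :=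
    Fin.cases 0 fun j => v ((Fintype.equivFin ι').symm j)
  have hs : ∀ k, s (Fintype.equivFin ι' k).succ = v k := fun k => by simp [s]
  refine Groth.Chow.isRelVeryAmplePn_of_localCharts q s (fun x : t => (Fintype.equivFin ι' (Sum.inl x)).succ)
    (fun x => W x) (fun x => B x) (fun x => hB x) (fun x => hWB x) (fun x => ?_) (fun x => hWaff x) (fun y => ?_) fun x => ?_
  · rw [hs]
    change gloc (a.hom.app ⊤ (tmulSec (σ x) (T x.1))) = _
    rw [gloc_map a.hom, gloc_tmulSec hLm hM, hσ x, inf_eq_left]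
    exact (hWO x.1).trans inf_le_right
  · obtain ⟨x, hx⟩ := Set.mem_iUnion₂.1 (ht (Set.mem_univ y))
    exact ⟨⟨x, hx.1⟩, hx.2⟩
  · refine top_le_iff.mp ((hG x).ge.trans (Subring.closure_mono ?_))
    refine Set.union_subset_union le_rfl fun g hg => ?_
    refine ⟨(Fintype.equivFin ι' (Sum.inr ⟨x, g, hg⟩)).succ, ?_⟩
    rw [hs, hs]
    change Groth.PicAux.res _ le_top (a.hom.app ⊤ (tmulSec (b x g hg) (T x.1))) =
      g • Groth.PicAux.res _ le_top (a.hom.app ⊤ (tmulSec (σ x) (T x.1)))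
    rw [← app_res, ← app_res, res_tmulSec, res_tmulSec, hb x g hg, tmulSec_smul_left,
      Scheme.Modules.Hom.app_smul]

end Groth.Ega2Proj
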